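import Cfsg.Agent.H3.BT
import Cfsg.Agent.Blk.Two
import Cfsg.Agent.S0945

/-! Brauer's theorem on groups with a homocyclic Sylow 2-subgroup of rank two. -/

set_option autoImplicit false
set_option linter.unusedSectionVars false

namespace Cfsg.Agent.H3

open Cfsg Finset Subgroup MulAction Cfsg.Agent.PLoc Cfsg.Agent.Inv Cfsg.Agent.Char
  Cfsg.Agent.Blk
open scoped ComplexConjugate

universe u

theorem sunflower {α : Type*} [DecidableEq α] (F : Finset (Finset α)) (h3 : ∀ T ∈ F, T.card = 3)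
    (h2 : ∀ T ∈ F, ∀ T' ∈ F, T ≠ T' → (T ∩ T').card = 2) (h5 : 4 < F.card) :
    ∃ D : Finset α, D.card = 2 ∧ ∀ T ∈ F, D ⊆ T := by
  obtain ⟨T₁, h1, T₂, h1', hne⟩ := one_lt_card.1 (show 1 < F.card by omega)
  refine ⟨T₁ ∩ T₂, h2 _ h1 _ h1' hne, ?_⟩
  by_contra hc
  push Not at hc
  obtain ⟨T₃, h1'', hn⟩ := hc
  have hD := h2 _ h1 _ h1' hne
  have hU : (T₁ ∪ T₂).card = 4 := by
    have := card_union_add_card_inter T₁ T₂
    rw [h3 _ h1, h3 _ h1'] at this
    omega
  have lt : ∀ T, ¬ T₁ ∩ T₂ ⊆ T → (T ∩ (T₁ ∩ T₂)).card ≤ 1 := fun T hT => by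
    have := card_lt_card (Finset.ssubset_iff_subset_ne.2 ⟨inter_subset_right (s₁ := T), fun e =>
      hT (Finset.inter_eq_right.1 e)⟩)
    omega
  have key : ∀ T ∈ F, ∀ A B, A ∪ B ⊆ T₁ ∪ T₂ → (T ∩ A).card = 2 → (T ∩ B).card = 2 →
      (T ∩ (A ∩ B)).card ≤ 1 → T ⊆ T₁ ∪ T₂ := fun T hT A B hAB e1 e2 e3 => by
    have := card_union_add_card_inter (T ∩ A) (T ∩ B)
    rw [← inter_union_distrib_left, ← inter_inter_distrib_left] at this
    have h4 := eq_of_subset_of_card_le (inter_subset_left (s₁ := T) (s₂ := A ∪ B))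
      (by rw [h3 T hT]; omega)
    exact (h4 ▸ inter_subset_right : T ⊆ A ∪ B).trans hAB
  have k1 : ∀ T ∈ F, ¬ T₁ ∩ T₂ ⊆ T → T ⊆ T₁ ∪ T₂ := fun T hT hn =>
    key T hT T₁ T₂ subset_rfl (h2 _ hT _ h1 fun e => hn (e ▸ inter_subset_left))
      (h2 _ hT _ h1' fun e => hn (e ▸ inter_subset_right)) (lt T hn)
  have k2 : F ⊆ powersetCard 3 (T₁ ∪ T₂) := fun T hT => mem_powersetCard.2 ⟨by
    by_cases hn' : T₁ ∩ T₂ ⊆ T
    · exact key T hT T₃ (T₁ ∩ T₂) (union_subset (k1 _ h1'' hn) inter_subset_union)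
        (h2 _ hT _ h1'' fun e => hn (e ▸ hn')) (by rw [inter_eq_right.2 hn', hD])
        ((card_le_card inter_subset_right).trans (lt _ hn))
    · exact k1 T hT hn', h3 T hT⟩
  have := card_le_card k2
  rw [card_powersetCard, hU] at this
  exact absurd (h5.trans_le this) (by decide)

theorem unit_of_sum_lt {ι : Type*} {S : Finset ι} {x : ι → ℤ} (h : ∑ i ∈ S, x i * x i < 4) {i : ι}
    (hi : i ∈ S) : x i = 0 ∨ x i = 1 ∨ x i = -1 := by
  have := single_le_sum (f := fun i => x i * x i) (fun _ _ => mul_self_nonneg _) hi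
  have h1 : x i ≤ 1 := by nlinarith
  have h2 : -1 ≤ x i := by nlinarith
  omega

theorem sunflower' {ι Λ : Type*} (S : Finset ι) (L : Finset Λ) (v : Λ → ι → ℤ)
    (h3 : ∀ l ∈ L, ∑ i ∈ S, v l i * v l i = 3)
    (h2 : ∀ l ∈ L, ∀ m ∈ L, ∑ i ∈ S, v l i * v m i = 2 ∨ ∑ i ∈ S, v l i * v m i = 3)
    (hr : ∀ l ∈ L, (L.filter fun m => ∑ i ∈ S, v l i * v m i = 3).card ≤ 3) (hL : 12 < L.card) :
    ∃ i ∈ S, ∃ j ∈ S, i ≠ j ∧ ∃ s t : ℤ, (s = 1 ∨ s = -1) ∧ (t = 1 ∨ t = -1) ∧
      ∀ l ∈ L, v l i = s ∧ v l j = t := by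
  classical
  let T : Λ → Finset (ι × ℤ) := fun l => (S.filter fun i => v l i ≠ 0).image fun i => (i, v l i)
  have hu : ∀ l ∈ L, ∀ i ∈ S, v l i = 0 ∨ v l i = 1 ∨ v l i = -1 := fun l hl i hi =>
    unit_of_sum_lt (by rw [h3 l hl]; norm_num) hi
  have hT : ∀ l p, p ∈ T l ↔ p.1 ∈ S ∧ p.2 ≠ 0 ∧ v l p.1 = p.2 := by
    rintro l ⟨i, a⟩
    simp only [T, mem_image, mem_filter, Prod.mk.injEq]
    exact ⟨by rintro ⟨_, h, rfl, rfl⟩; exact ⟨h.1, h.2, rfl⟩,
      by rintro ⟨h, h', rfl⟩; exact ⟨i, ⟨h, h'⟩, rfl, rfl⟩⟩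
  have hc : ∀ l ∈ L, ∀ m ∈ L, (2 * (T l ∩ T m).card : ℤ) =
      ∑ i ∈ S, v l i * v m i + ∑ i ∈ S, v l i * v m i * (v l i * v m i) := fun l hl m hm => by
    have : T l ∩ T m = (S.filter fun i => v l i ≠ 0 ∧ v m i = v l i).image fun i => (i, v l i) := by
      ext ⟨i, a⟩
      simp only [Finset.mem_inter, hT, mem_image, mem_filter, Prod.mk.injEq]
      exact ⟨by rintro ⟨⟨h, h', rfl⟩, -, -, e⟩; exact ⟨i, ⟨h, h', e⟩, rfl, rfl⟩,
        by rintro ⟨_, ⟨h, h', e⟩, rfl, rfl⟩; exact ⟨⟨h, h', rfl⟩, h, h', e⟩⟩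
    rw [this, card_image_of_injective _ fun _ _ e => (Prod.mk.inj e).1, card_filter, ← sum_add_distrib]
    push_cast
    rw [mul_sum]
    refine sum_congr rfl fun i hi => ?_
    rcases hu l hl i hi with e | e | e <;> rcases hu m hm i hi with e' | e' | e' <;> simp [e, e']
  have hb : ∀ l ∈ L, ∀ m ∈ L, ∑ i ∈ S, v l i * v m i ≤ ∑ i ∈ S, v l i * v m i * (v l i * v m i) ∧
      ∑ i ∈ S, v l i * v m i * (v l i * v m i) ≤ 3 := fun l hl m hm => by
    refine ⟨sum_le_sum fun i hi => ?_, (sum_le_sum fun i hi => ?_).trans (h3 l hl).le⟩ <;>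
    rcases hu l hl i hi with e | e | e <;> rcases hu m hm i hi with e' | e' | e' <;> simp [e, e']
  have c3 : ∀ l ∈ L, ∀ m ∈ L, ∑ i ∈ S, v l i * v m i = 3 → (T l ∩ T m).card = 3 :=
    fun l hl m hm e => by have := hc l hl m hm; have := hb l hl m hm; omega
  have c2 : ∀ l ∈ L, ∀ m ∈ L, ∑ i ∈ S, v l i * v m i = 2 → (T l ∩ T m).card = 2 :=
    fun l hl m hm e => by have := hc l hl m hm; have := hb l hl m hm; omega
  have c1 : ∀ l ∈ L, (T l).card = 3 := fun l hl => by simpa using c3 l hl l hl (h3 l hl)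
  obtain ⟨D, hD, hD'⟩ := sunflower (L.image T) (forall_mem_image.2 c1)
    (forall_mem_image.2 fun l hl => forall_mem_image.2 fun m hm hne => (h2 l hl m hm).elim (c2 l hl m hm)
      fun e => absurd ((eq_of_subset_of_card_le inter_subset_left
        (by rw [c3 l hl m hm e, c1 l hl])).symm.trans (eq_of_subset_of_card_le inter_subset_right
        (by rw [c3 l hl m hm e, c1 m hm]))) hne)
    (by
      have := card_le_mul_card_image (f := T) L 3 (forall_mem_image.2 fun l hl =>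
        (card_le_card fun m hm => ?_).trans (hr l hl))
      · omega
      · rw [mem_filter] at hm ⊢
        refine ⟨hm.1, (h2 l hl m hm.1).resolve_left fun e => ?_⟩
        have := c2 l hl m hm.1 e
        rw [hm.2, inter_self, c1 l hl] at this
        omega)
  obtain ⟨⟨i, s⟩, ⟨j, t⟩, hne, rfl⟩ := card_eq_two.1 hD
  obtain ⟨l, hl⟩ := card_pos.1 (show 0 < L.card by omega)
  have k1 := fun l hl => (hT l (i, s)).1 (hD' _ (mem_image_of_mem T hl) (by simp))
  have k2 := fun l hl => (hT l (j, t)).1 (hD' _ (mem_image_of_mem T hl) (by simp))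
  obtain ⟨a1, a2, a3⟩ := k1 l hl
  obtain ⟨b1, b2, b3⟩ := k2 l hl
  dsimp only at a1 a2 a3 b1 b2 b3
  refine ⟨i, a1, j, b1, ?_, s, t, ?_, ?_, fun l hl => ⟨(k1 l hl).2.2, (k2 l hl).2.2⟩⟩
  · rintro rfl
    exact hne (by rw [← a3, ← b3])
  · exact (a3 ▸ hu l hl i a1).resolve_left a2
  · exact (b3 ▸ hu l hl j b1).resolve_left b2

theorem homo_arith {a b n k l : ℤ} (hn : 16 ≤ n) (ha : a = 1 + n * k) (hb : b = 1 + n * l)
    (h : (a * b + a + b) * (1 + a + b) = 9 * (a * b)) : a = 1 := by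
  have r : ∀ k : ℤ, k = 0 ∨ 17 ≤ 1 + n * k ∨ 1 + n * k ≤ -15 := fun k => by
    rcases lt_trichotomy k 0 with h | h | h
    · right; right; nlinarith
    · exact Or.inl h
    · right; left; nlinarith
  have r3 : 1 + a + b = 3 ∨ 19 ≤ 1 + a + b ∨ 1 + a + b ≤ -13 := by
    have := r (k + l)
    rcases this with h | h | h
    · left; rw [ha, hb]; linear_combination n * h
    · right; left; rw [ha, hb]; linarith
    · right; right; rw [ha, hb]; linarith
  have r1 := r k
  have r2 := r l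
  rw [← ha] at r1
  rw [← hb] at r2
  rcases r1 with h1 | h1
  · rw [ha, h1]; ring
  rcases r2 with h2 | h2
  · have : b = 1 := by rw [hb, h2]; ring
    rw [this] at h
    nlinarith [sq_nonneg (a - 1)]
  exfalso
  clear r ha hb
  generalize 1 + a + b = y at h r3
  have p : ∀ x : ℤ, 17 ≤ x ∨ x ≤ -15 → 15 ≤ |x| := fun x hx => by
    rcases hx with h | h
    · exact le_abs.2 (Or.inl (by omega))
    · exact le_abs.2 (Or.inr (by omega))
  have p1 := p a h1
  have p2 := p b h2
  have p3 : |a * b| * |y - 9| = |a + b| * |y| := by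
    rw [← abs_mul, ← abs_mul, ← abs_neg]; congr 1; linarith
  have p4 : 15 * |a + b| ≤ 2 * |a * b| := by
    have := abs_add_le a b
    rw [abs_mul]; nlinarith
  have p5 : 0 < |a * b| := by rw [abs_mul]; positivity
  have p6 : 2 * |y| < 15 * |y - 9| := by
    rcases r3 with h | h | h
    · rw [h]; norm_num
    · rw [abs_of_pos (by omega), abs_of_pos (by omega)]; omega
    · rw [abs_of_neg (by omega), abs_of_neg (by omega)]; omega
  nlinarith [abs_nonneg y]

variable {G : Type u} [Group G] [Finite G]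

/-- reduced multiplicity -/
noncomputable def vv {P : Subgroup G} [Fintype P] (χ : G → ℂ) (l : IrrCharacter P) : ℂ :=
  classInner (fun u : P => χ u) (fun u => (l : P → ℂ) u - 1)

theorem vv_eq {P : Subgroup G} [Fintype P] (χ : G → ℂ) (l : IrrCharacter P) :
    vv χ l = classInner (fun u : P => χ u) l - classInner (fun u : P => χ u) (irrOne P) :=
  classInner_sub_right _ _ _

theorem vv_int {P : Subgroup G} [Fintype P] (χ : IrrCharacter G) (l : IrrCharacter P) :
    ∃ n : ℤ, vv (χ : G → ℂ) l = n := by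
  obtain ⟨a, ha⟩ := (χ.2.isCharacter.restrict P).classInner_nat l.2.isCharacter
  obtain ⟨b, hb⟩ := (χ.2.isCharacter.restrict P).classInner_nat (irrOne P).2.isCharacter
  exact ⟨a - b, by rw [vv_eq, ha, hb]; simp⟩

theorem sum_vv {P : Subgroup G} [Fintype P] (S : Finset (IrrCharacter G)) (w : IrrCharacter G → ℂ)
    (l : IrrCharacter P) : ∑ χ ∈ S, w χ * vv (χ : G → ℂ) l =
      classInner (fun u : P => ∑ χ ∈ S, w χ * (χ : G → ℂ) u) (fun u => (l : P → ℂ) u - 1) := by
  simp only [vv, classInner_def, mul_sum, sum_mul]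
  rw [sum_comm]
  exact sum_congr rfl fun _ _ => sum_congr rfl fun _ _ => by ring

theorem sum_vv_zero {P : Subgroup G} [Fintype P] (S : Finset (IrrCharacter G))
    (w : IrrCharacter G → ℂ) (l : IrrCharacter P)
    (h : ∀ u : P, (l : P → ℂ) u ≠ 1 → ∑ χ ∈ S, w χ * (χ : G → ℂ) u = 0) :
    ∑ χ ∈ S, w χ * vv (χ : G → ℂ) l = 0 := by
  rw [sum_vv, classInner_def, sum_eq_zero, mul_zero]
  intro u _
  by_cases e : (l : P → ℂ) u = 1
  · simp [e]
  · rw [h u e, zero_mul]

theorem val_of_vv {P : Subgroup G} [Fintype P] (hP : ∀ a b : P, a * b = b * a) (χ : IrrCharacter G)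
    {s : ℤ} (h : ∀ l : IrrCharacter P, l ≠ irrOne P → vv (χ : G → ℂ) l = s) :
    (∀ u ∈ P, u ≠ 1 → (χ : G → ℂ) u = -s) ∧ ∃ k : ℤ, (χ : G → ℂ) 1 = -s + Nat.card P * k := by
  classical
  obtain ⟨b, hb⟩ := (χ.2.isCharacter.restrict P).classInner_nat (irrOne P).2.isCharacter
  have key : ∀ u : P, (χ : G → ℂ) u = -s + (if u = 1 then (Nat.card P : ℂ) else 0) * (b + s) := by
    intro u
    have h1 := congrFun (regular_eq_sum_irr (G := P)) u
    rw [(χ.2.isClassFunction.restrict P).apply_eq_sum_irr u, h1, Finset.sum_apply, sum_mul,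
      ← add_sum_erase _ _ (mem_univ (irrOne P)), ← add_sum_erase _ _ (mem_univ (irrOne P)), hb,
      ← add_assoc]
    congr 1
    · simp
    refine sum_congr rfl fun l hl => ?_
    have := h l (mem_erase.1 hl).1
    rw [vv_eq, hb] at this
    rw [Pi.smul_apply, l.2.one_eq_one_of_comm hP, eq_add_of_sub_eq this, smul_eq_mul]
    ring
  refine ⟨fun u hu h1 => ?_, b + s, ?_⟩
  · rw [key ⟨u, hu⟩, if_neg (fun e => h1 (congrArg Subtype.val e))]; simp
  · have := key 1
    simpa using this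

variable {M : Ideal AlgInt} [hM : PMod 2 M]

theorem sq_eq_one_of_inv {P : Sylow 2 G} (hP : IsMulCommutative P) {s x : G} (hs : s * s = 1)
    {k : ℕ} (hx : orderOf x = 2 ^ k) (h : s * x * s⁻¹ = x⁻¹) : x * x = 1 := by
  have h1 : zpowers s ≤ normalizer (zpowers x : Set G) := zpowers_le.2 (mem_normalizer_of_cj_le (by
    rw [cj_zpowers, h, zpowers_inv]))
  have h2 : IsPGroup 2 (zpowers s ⊔ zpowers x : Subgroup G) :=
    IsPGroup.to_sup_of_normal_right' (isPGroup_zpowers (k := 1) (by rw [pow_one, sq, hs]))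
      (isPGroup_zpowers (k := k) (by rw [← hx, pow_orderOf_eq_one])) h1
  obtain ⟨c, -, hc⟩ := (isSylowOf_top P).exists_cj_le h2 le_top
  have := congrArg Subtype.val (hP.1.1 ⟨_, hc (conj_mem_cj.2 (mem_sup_left (mem_zpowers s)))⟩
    ⟨_, hc (conj_mem_cj.2 (mem_sup_right (mem_zpowers x)))⟩)
  simp only [Subgroup.coe_mul, conj_mul, mul_left_inj, mul_right_inj] at this
  rw [this, mul_inv_cancel_right] at h
  exact mul_eq_one_iff_eq_inv.2 h

theorem PB_invol {P : Sylow 2 G} (hP : IsMulCommutative P) {t u : G} (ht : t * t = 1)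
    (hu : u ∈ (P : Subgroup G)) (hu2 : u * u ≠ 1) :
    ∑ χ ∈ PB M G, conj ((χ : G → ℂ) t ^ 2 / (χ : G → ℂ) 1) * (χ : G → ℂ) u = 0 := by
  have := Fintype.ofFinite G
  have h1 : ∀ a b : G, ∑ χ ∈ PB M G, (χ : G → ℂ) (a * t * a⁻¹ * (b * t * b⁻¹)) *
      conj ((χ : G → ℂ) u) = 0 := by
    intro a b
    obtain ⟨x, hx⟩ := exists_ppart (p := 2) Nat.prime_two (a * t * a⁻¹ * (b * t * b⁻¹))
    rw [← finsum_PB]
    refine block_orth isPBlock_principal hx (ppart_self Nat.prime_two (IsPGroup_orderOf P.isPGroup' hu))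
      fun hc => hu2 ?_
    obtain ⟨k, hk⟩ := ppart_order hx
    obtain ⟨n, hn⟩ := mem_zpowers_iff.1 (ppart_mem_zpowers Nat.prime_two hx)
    have e1 : a * t * a⁻¹ * (a * t * a⁻¹) = 1 := by rw [conj_mul, ht]; simp
    have e2 : b * t * b⁻¹ * (b * t * b⁻¹) = 1 := by rw [conj_mul, ht]; simp
    generalize a * t * a⁻¹ = s at *
    generalize b * t * b⁻¹ = s' at *
    have := sq_eq_one_of_inv hP e1 hk (by
      rw [← hn, ← conj_zpow, ← inv_zpow, mul_inv_rev, inv_eq_of_mul_eq_one_right e1,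
        inv_eq_of_mul_eq_one_right e2, ← mul_assoc, e1, one_mul])
    obtain ⟨c, rfl⟩ := isConj_iff.1 hc
    rw [conj_mul, this]; simp
  have h2 : ∑ b : G, ∑ a : G, ∑ χ ∈ PB M G, (χ : G → ℂ) (a * t * a⁻¹ * (b * t * b⁻¹)) *
      conj ((χ : G → ℂ) u) = 0 := by simp [h1]
  rw [sum_congr rfl fun b _ => sum_comm, sum_comm, sum_congr rfl (g := fun χ : IrrCharacter G =>
    (Nat.card G : ℂ) ^ 2 * ((χ : G → ℂ) t ^ 2 / (χ : G → ℂ) 1 * conj ((χ : G → ℂ) u))) fun χ _ => by
      simp only [← sum_mul, χ.2.sum_conj_mul, χ.2.isClassFunction t, sum_const, card_univ,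
        nsmul_eq_mul, Nat.card_eq_fintype_card]
      ring, ← mul_sum, mul_eq_zero, pow_eq_zero_iff two_ne_zero] at h2
  have h3 := congrArg conj (h2.resolve_left (card_ne_zero G))
  simpa only [map_sum, map_mul, Complex.conj_conj, map_zero] using h3

open Classical in
theorem PB_comm {P : Sylow 2 G} (hP : IsMulCommutative P)
    (hV : IsKleinFour (Core.powKer (P : Subgroup G) hP 2)) {u w : G} (hu : u ∈ (P : Subgroup G))
    (hw : w ∈ (P : Subgroup G)) (hw1 : w ≠ 1) :
    ∑ χ ∈ PB M G, conj ((χ : G → ℂ) w) * (χ : G → ℂ) u =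
      if IsConj u w then (Nat.card (P : Subgroup G) : ℂ) else 0 := by
  simp only [mul_comm (conj _)]
  split_ifs with e
  · have h2 := principal_sum_sq (M := M) (IsPGroup_orderOf P.isPGroup' hw) hw1
      (npc_cent_of_comm hP hV hw hw1)
    rw [← (isSylowOf_sylow P (le_cent_iff.mpr (le_centralizer (P : Subgroup G) hw))).card_eq] at h2
    simp only [fun χ : IrrCharacter G => χ.2.isClassFunction.of_isConj e, Complex.mul_conj']
    exact_mod_cast h2
  · rw [← finsum_PB]
    exact block_orth isPBlock_principal (ppart_self Nat.prime_two (IsPGroup_orderOf P.isPGroup' hu))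
      (ppart_self Nat.prime_two (IsPGroup_orderOf P.isPGroup' hw)) e

theorem PB_comm' {P : Sylow 2 G} {u : G} (hu : u ∈ (P : Subgroup G)) (hu1 : u ≠ 1) :
    ∑ χ ∈ PB M G, conj ((χ : G → ℂ) 1) * (χ : G → ℂ) u = 0 := by
  have h := IsPGroup_orderOf P.isPGroup' hu
  have := congrArg conj (PB_reg (M := M) (not_dvd_orderOf_one Nat.prime_two)
    (dvd_of_ppart_ne_one Nat.prime_two (ppart_self Nat.prime_two h) hu1))
  simpa only [map_sum, map_mul, Complex.conj_conj, map_zero] using this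

open Classical in
theorem inner_sub_one {P : Type*} [Group P] [Fintype P] {l m : IrrCharacter P} (hl : l ≠ irrOne P)
    (hm : m ≠ irrOne P) : classInner (fun u => (m : P → ℂ) u - 1) (fun u => (l : P → ℂ) u - 1) =
      1 + if m = l then 1 else 0 := by
  change classInner ((m : P → ℂ) - (irrOne P).1) ((l : P → ℂ) - (irrOne P).1) = _
  simp only [classInner_sub_left, classInner_sub_right, irr_classInner, if_neg hm, if_neg hl.symm,
    if_true]
  ring

/-- the local situation -/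
structure H3Aut (P : Sylow 2 G) (β : MulAut (P : Subgroup G)) : Prop where
  cube : ∀ u, β (β (β u)) = u
  fpf : ∀ u, β u = u → u = 1
  fus : ∀ u w : (P : Subgroup G), IsConj (u : G) w ↔ w = u ∨ w = β u ∨ w = β (β u)

variable {P : Sylow 2 G} {β : MulAut (P : Subgroup G)}

theorem H3Aut.irr_ne (h : H3Aut P β) (hP : IsMulCommutative P) {m : IrrCharacter (P : Subgroup G)}
    (hm : m ≠ irrOne _) : irrAut β m ≠ m := fun e => hm (Subtype.ext
  (m.2.eq_one_of_aut_fixed β (fun g hg => h.fpf g (by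
    obtain ⟨c, hc⟩ := isConj_iff.1 hg
    rwa [hP.1.1 c, mul_inv_cancel_right] at hc)) fun g => by rw [← irrAut_apply, e]))

theorem H3Aut.irr_cube (h : H3Aut P β) (m : IrrCharacter (P : Subgroup G)) :
    irrAut β (irrAut β (irrAut β m)) = m := Subtype.ext (funext fun u => by
  simp only [irrAut_apply, h.cube])

theorem H3Aut.irr_ne_one (h : H3Aut P β) {m : IrrCharacter (P : Subgroup G)}
    (hm : m ≠ irrOne _) : irrAut β m ≠ irrOne _ := fun e => hm (by
  rw [← h.irr_cube m, e]; rfl)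

open Classical in
theorem H3Aut.gram [Fintype (P : Subgroup G)] (h : H3Aut P β) (hP : IsMulCommutative P)
    (hV : IsKleinFour (Core.powKer (P : Subgroup G) hP 2)) {l m : IrrCharacter (P : Subgroup G)}
    (hl : l ≠ irrOne _) (hm : m ≠ irrOne _) :
    ∑ χ ∈ PB M G, conj (vv (χ : G → ℂ) m) * vv (χ : G → ℂ) l =
      3 + if l = m ∨ l = irrAut β m ∨ l = irrAut β (irrAut β m) then 1 else 0 := by
  have hc : ∀ a b : (P : Subgroup G), a * b = b * a := hP.1.1
  have n1 := h.irr_ne hP hm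
  have n2 := h.irr_ne hP (h.irr_ne_one hm)
  have n3 := h.irr_ne hP (h.irr_ne_one (h.irr_ne_one hm))
  rw [h.irr_cube] at n3
  have e1 : classInner (fun u : (P : Subgroup G) => ∑ χ ∈ PB M G, conj (vv (χ : G → ℂ) m) * (χ : G → ℂ) u)
      (fun u => l.1 u - 1) = classInner ((fun u => m.1 u - 1) +
        (fun u => (irrAut β m).1 u - 1) + (fun u => (irrAut β (irrAut β m)).1 u - 1))
      (fun u => l.1 u - 1) := by
    rw [classInner_def, classInner_def]
    congr 1
    refine sum_congr rfl fun u _ => ?_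
    by_cases hu : u = 1
    · simp [hu, l.2.one_eq_one_of_comm hc]
    congr 1
    have u1 : β u ≠ u := fun e => hu (h.fpf u e)
    have u2 : β (β u) ≠ β u := β.injective.ne u1
    have u3 : β (β u) ≠ u := fun e => u1 ((congrArg β e).symm.trans (h.cube u))
    calc _ = ∑ w : (P : Subgroup G), (Nat.card (P : Subgroup G) : ℂ)⁻¹ * (m.1 w - 1) *
          ∑ χ ∈ PB M G, conj ((χ : G → ℂ) w) * (χ : G → ℂ) u := by
          simp only [vv, classInner_def, map_mul, map_sum, map_inv₀, map_natCast, Complex.conj_conj,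
            mul_sum, sum_mul]
          rw [sum_comm]
          exact sum_congr rfl fun _ _ => sum_congr rfl fun _ _ => by ring
      _ = ∑ w ∈ ({u, β u, β (β u)} : Finset _), (m.1 w - 1) := by
          rw [← sum_subset (subset_univ {u, β u, β (β u)})]
          · refine sum_congr rfl fun w hw => ?_
            have hw' : IsConj (u : G) w := (h.fus u w).2 (by simpa using hw)
            rw [PB_comm hP hV u.2 w.2 (fun e => hu (Subtype.ext (by simpa [e] using hw'))), if_pos hw']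
            have := card_ne_zero (P : Subgroup G)
            field_simp
          · intro w _ hw
            by_cases e : w = 1
            · simp [e, m.2.one_eq_one_of_comm hc]
            · rw [PB_comm hP hV u.2 w.2 (fun e' => e (Subtype.ext e')),
                if_neg fun e' => hw (by simpa using (h.fus u w).1 e'), mul_zero]
      _ = _ := by
          rw [sum_insert (by simp [u1.symm, u3.symm]), sum_pair u2.symm, ← add_assoc]; rfl
  rw [sum_vv, e1, classInner_add_left, classInner_add_left, inner_sub_one hl hm,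
    inner_sub_one hl (h.irr_ne_one hm), inner_sub_one hl (h.irr_ne_one (h.irr_ne_one hm))]
  by_cases a1 : l = m
  · subst a1; simp [n1, n3.symm]; norm_num
  by_cases a2 : l = irrAut β m
  · subst a2; simp [n1.symm, n2]; norm_num
  by_cases a3 : l = irrAut β (irrAut β m)
  · subst a3; simp [n3, n2.symm]; norm_num
  · simp [a1, a2, a3, Ne.symm a1, Ne.symm a2, Ne.symm a3]; norm_num

theorem H3Aut.exists_linear (h : H3Aut P β) (hP : IsMulCommutative P)
    (hV : IsKleinFour (Core.powKer (P : Subgroup G) hP 2)) (h16 : 16 ≤ Nat.card (P : Subgroup G)) :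
    ∃ ψ : IrrCharacter G, ψ ≠ irrOne G ∧ (ψ : G → ℂ) 1 = 1 ∧ ∀ u ∈ (P : Subgroup G), (ψ : G → ℂ) u = 1 := by
  classical
  obtain ⟨M, hM⟩ := exists_PMod 2
  have := Fintype.ofFinite (P : Subgroup G)
  have hc : ∀ a b : (P : Subgroup G), a * b = b * a := hP.1.1
  choose v hv using fun (l : IrrCharacter (P : Subgroup G)) (χ : IrrCharacter G) => vv_int χ l
  have v1 : ∀ l, l ≠ irrOne _ → v l (irrOne G) = -1 := fun l hl => by
    have := hv l (irrOne G)
    rw [vv_eq] at this
    have e1 := irr_classInner (irrOne (P : Subgroup G)) l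
    have e2 := irr_classInner (irrOne (P : Subgroup G)) (irrOne _)
    rw [if_neg hl.symm] at e1
    rw [if_pos rfl] at e2
    rw [irrOne_coe, ← irrOne_coe (G := (P : Subgroup G)), e1, e2] at this
    exact_mod_cast (show (v l (irrOne G) : ℂ) = -1 by rw [← this]; simp)
  have g : ∀ m, m ≠ irrOne _ → ∀ l, l ≠ irrOne _ → ∑ χ ∈ (PB M G).erase (irrOne G), v m χ * v l χ =
      2 + if l = m ∨ l = irrAut β m ∨ l = irrAut β (irrAut β m) then 1 else 0 := by
    intro m hm l hl
    have := h.gram (M := M) hP hV hl hm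
    simp only [hv, map_intCast] at this
    rw [← add_sum_erase _ _ (one_mem_PB 2), v1 m hm, v1 l hl] at this
    apply Int.cast_injective (α := ℂ)
    push_cast at this ⊢
    linear_combination this
  have hcard : Fintype.card (IrrCharacter (P : Subgroup G)) = Nat.card (P : Subgroup G) := by
    have := congrFun (regular_eq_sum_irr (G := (P : Subgroup G))) 1
    simp only [if_true, Finset.sum_apply, Pi.smul_apply, fun l : IrrCharacter (P : Subgroup G) =>
      l.2.one_eq_one_of_comm hc, smul_eq_mul, mul_one, sum_const, card_univ, nsmul_eq_mul] at this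
    exact_mod_cast this.symm
  obtain ⟨ψ, hψ, φ, hφ, hne, s, t, hs, ht, hv'⟩ := sunflower' ((PB M G).erase (irrOne G))
    (univ.erase (irrOne (P : Subgroup G))) v
    (fun l hl => by rw [g l (mem_erase.1 hl).1 l (mem_erase.1 hl).1]; simp)
    (fun l hl m hm => by rw [g l (mem_erase.1 hl).1 m (mem_erase.1 hm).1]; split_ifs <;> simp)
    (fun l hl => (card_le_card (t := {l, irrAut β l, irrAut β (irrAut β l)}) fun m hm => by
      obtain ⟨h1, h2⟩ := mem_filter.1 hm
      rw [g l (mem_erase.1 hl).1 m (mem_erase.1 h1).1] at h2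
      by_contra hc
      rw [if_neg (by simpa using hc)] at h2
      omega).trans card_le_three)
    (by rw [card_erase_of_mem (mem_univ _), card_univ, hcard]; omega)
  obtain ⟨ψ1, k, hk⟩ := val_of_vv hc ψ (s := s) fun l hl => by
    rw [hv, (hv' l (mem_erase.2 ⟨hl, mem_univ _⟩)).1]
  obtain ⟨φ1, k', hk'⟩ := val_of_vv hc φ (s := t) fun l hl => by
    rw [hv, (hv' l (mem_erase.2 ⟨hl, mem_univ _⟩)).2]
  obtain ⟨w, hw⟩ : ∃ w : (P : Subgroup G), w * w ≠ 1 := by
    by_contra hw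
    push Not at hw
    have := card_le_of_le (show (P : Subgroup G) ≤ Core.powKer (P : Subgroup G) hP 2 from
      fun x hx => Core.mem_powKer.2 ⟨hx, by rw [sq]; exact congrArg Subtype.val (hw ⟨x, hx⟩)⟩)
    rw [kf_card hV] at this
    omega
  obtain ⟨l', hl'⟩ := exists_hom_apply_ne_one hc hw
  let l : IrrCharacter (P : Subgroup G) := ⟨_, isIrrCharacter_hom (l' * l')⟩
  have l2 : ∀ u, l.1 u = l' (u * u) := fun u => by simp [l]
  have l1 : l ≠ irrOne _ := fun e => hl' (Units.ext (by rw [← l2, e]; rfl))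
  have l3 : ∀ u : (P : Subgroup G), l.1 u ≠ 1 → (u : G) * u ≠ 1 := fun u hu e => hu (by
    rw [l2, show u * u = 1 from Subtype.ext e]; simp)
  obtain ⟨z, hz, hz1, -⟩ := kf_exists_ne hV 1
  have hz2 := kf_sq hV hz
  have q1 := sum_vv_zero (PB M G) (fun χ => conj ((χ : G → ℂ) 1)) l fun u hu => by
    rw [PB_comm' u.2 (fun e => l3 u hu (by simp [e]))]
  have q2 := sum_vv_zero (PB M G) (fun χ => conj ((χ : G → ℂ) z)) l fun u hu => by
    rw [PB_comm hP hV u.2 hz.1 hz1, if_neg]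
    intro e
    obtain ⟨c, e⟩ := isConj_iff.1 e.symm
    exact l3 u hu (by rw [← e, conj_mul, hz2]; simp)
  have q3 := sum_vv_zero (PB M G) _ l fun u hu => PB_invol (M := M) hP hz2 u.2 (l3 u hu)
  have hφ' : φ ∈ ((PB M G).erase (irrOne G)).erase ψ := mem_erase.2 ⟨hne.symm, hφ⟩
  have g1 := g l l1 l l1
  obtain ⟨v2, v3⟩ := hv' l (mem_erase.2 ⟨l1, mem_univ _⟩)
  have ss : s * s = 1 := by rcases hs with rfl | rfl <;> rfl
  have tt : t * t = 1 := by rcases ht with rfl | rfl <;> rfl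
  rw [if_pos (Or.inl rfl), ← add_sum_erase _ _ hψ, ← add_sum_erase _ _ hφ', v2, v3, ss, tt] at g1
  obtain ⟨χ, hχ, ε1, ε0⟩ : ∃ χ ∈ (((PB M G).erase (irrOne G)).erase ψ).erase φ,
      v l χ * v l χ = 1 ∧ ∀ ξ ∈ (((PB M G).erase (irrOne G)).erase ψ).erase φ, ξ ≠ χ → v l ξ = 0 := by
    obtain ⟨χ, hχ, e⟩ := exists_ne_zero_of_sum_ne_zero (s := (((PB M G).erase (irrOne G)).erase ψ).erase φ)
      (f := fun χ => v l χ * v l χ) (by omega)
    rw [← add_sum_erase _ _ hχ] at g1
    have p1 := sum_nonneg (s := ((((PB M G).erase (irrOne G)).erase ψ).erase φ).erase χ)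
      fun ξ _ => mul_self_nonneg (v l ξ)
    have p2 := mul_self_nonneg (v l χ)
    refine ⟨χ, hχ, by omega, fun ξ hξ e' => mul_self_eq_zero.1 ?_⟩
    exact (sum_eq_zero_iff_of_nonneg fun ξ _ => mul_self_nonneg (v l ξ)).1 (by omega) ξ
      (mem_erase.2 ⟨e', hξ⟩)
  have red : ∀ F : IrrCharacter G → ℂ, ∑ ξ ∈ PB M G, F ξ * vv (ξ : G → ℂ) l =
      -F (irrOne G) + F ψ * s + F φ * t + F χ * v l χ := fun F => by
    simp only [hv]
    rw [← add_sum_erase _ _ (one_mem_PB 2), ← add_sum_erase _ _ hψ, ← add_sum_erase _ _ hφ',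
      sum_eq_single_of_mem χ hχ fun ξ hξ e => by rw [ε0 ξ hξ e]; simp, v1 l l1, v2, v3]
    push_cast; ring
  rw [red] at q1 q2 q3
  have q1 := congrArg conj q1
  have q2 := congrArg conj q2
  have q3 := congrArg conj q3
  simp only [map_add, map_mul, map_neg, Complex.conj_conj, map_intCast, map_zero, irrOne_coe,
    ψ1 z hz.1 hz1, φ1 z hz.1 hz1] at q1 q2 q3
  have ss' : (s : ℂ) * s = 1 := by exact_mod_cast ss
  have tt' : (t : ℂ) * t = 1 := by exact_mod_cast tt
  have ε' : (v l χ : ℂ) * v l χ = 1 := by exact_mod_cast ε1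
  have d1 := ψ.2.one_ne_zero
  have d2 := φ.2.one_ne_zero
  have d3 := χ.2.one_ne_zero
  have e1 : (χ : G → ℂ) z = 3 * v l χ := by
    linear_combination (v l χ : ℂ) * q2 - (χ : G → ℂ) z * ε' + v l χ * ss' + v l χ * tt'
  rw [e1] at q3
  field_simp at q3
  have a1 : (ψ : G → ℂ) 1 = -s * ((1 + Nat.card (P : Subgroup G) * (-s * k) : ℤ) : ℂ) := by
    rw [hk]; push_cast; linear_combination (-Nat.card (P : Subgroup G) * k : ℂ) * ss'
  have b1 : (φ : G → ℂ) 1 = -t * ((1 + Nat.card (P : Subgroup G) * (-t * k') : ℤ) : ℂ) := by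
    rw [hk']; push_cast; linear_combination (-Nat.card (P : Subgroup G) * k' : ℂ) * tt'
  have := homo_arith (n := Nat.card (P : Subgroup G)) (k := -s * k) (l := -t * k') (by exact_mod_cast h16) rfl rfl (by
    generalize (1 + Nat.card (P : Subgroup G) * (-s * k) : ℤ) = a at a1 ⊢
    generalize (1 + Nat.card (P : Subgroup G) * (-t * k') : ℤ) = b at b1 ⊢
    have c1 : (χ : G → ℂ) 1 = v l χ * (1 + a + b) := by
      rw [a1, b1] at q1
      linear_combination (v l χ : ℂ) * q1 - (χ : G → ℂ) 1 * ε' + v l χ * a * ss' + v l χ * b * tt'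
    rw [a1, b1, c1] at q3
    apply Int.cast_injective (α := ℂ)
    push_cast
    rcases hs with rfl | rfl <;> rcases ht with rfl | rfl <;>
      rcases Int.eq_one_or_neg_one_of_mul_eq_one ε1 with e | e <;> simp only [e] at q3 <;>
      push_cast at q3 <;>
      first | linear_combination q3 | linear_combination -q3)
  rw [this] at a1
  obtain ⟨n, hn, hn'⟩ := ψ.2.exists_nat
  obtain rfl : s = -1 := hs.resolve_left fun e => by
    rw [hn', e] at a1
    have : (n : ℤ) = -1 := by exact_mod_cast (show (n : ℂ) = -1 by simpa using a1)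
    omega
  have a2 : (ψ : G → ℂ) 1 = 1 := by simpa using a1
  refine ⟨ψ, (mem_erase.1 hψ).1, a2, fun u hu => ?_⟩
  by_cases e : u = 1
  · rw [e, a2]
  · simpa using ψ1 u hu e

theorem exists_h3Aut (P : Sylow 2 G) (hP : IsMulCommutative P)
    (hV : IsKleinFour (Core.powKer (P : Subgroup G) hP 2))
    (h3 : (centralizer (P : Set G)).relIndex (normalizer (P : Set G)) = 3) : ∃ β, H3Aut P β := by
  let f := (P : Subgroup G).normalizerMonoidHom
  have hc : Nat.card f.range = 3 := by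
    rw [← index_ker, normalizerMonoidHom_ker]; exact h3
  have := Fact.mk Nat.prime_three
  obtain ⟨⟨β, hβ⟩, hg⟩ := (isCyclic_of_prime_card hc).exists_monoid_generator
  have ho : orderOf (⟨β, hβ⟩ : f.range) = 3 :=
    (orderOf_eq_card_of_forall_mem_powers hg).trans hc
  have h1 : β ^ 3 = 1 := congrArg Subtype.val (ho ▸ pow_orderOf_eq_one (⟨β, hβ⟩ : f.range))
  have hcube : ∀ u, β (β (β u)) = u := fun u => by
    simpa [pow_succ] using DFunLike.congr_fun h1 u
  have hf : ∀ (n : normalizer ((P : Subgroup G) : Set G)) (u : (P : Subgroup G)),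
      (f n u : G) = n * u * (n : G)⁻¹ := fun _ _ => rfl
  obtain ⟨g, rfl⟩ := hβ
  refine ⟨f g, hcube, fun u hu => by_contra fun h => ?_, fun u w => ⟨fun h => ?_, ?_⟩⟩
  · have h2 := mem_cent_of_commute hP hV g.2 u.2 (fun e => h (Subtype.ext e))
      (mul_inv_eq_iff_eq_mul.1 ((hf g u).symm.trans (congrArg Subtype.val hu)))
    have h3 : g ∈ f.ker := by rw [normalizerMonoidHom_ker]; exact h2
    have h4 : (⟨f g, g, rfl⟩ : f.range) = 1 := Subtype.ext h3
    rw [h4, orderOf_one] at ho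
    omega
  · obtain ⟨c, hc⟩ := isConj_iff.1 h
    obtain ⟨n, hn, e⟩ := P.conj_eq_normalizer_conj_of_mem u c⁻¹ u.2 (by rw [inv_inv, hc]; exact w.2)
    obtain ⟨i, hi⟩ := hg ⟨f ⟨n, hn⟩⁻¹, _, rfl⟩
    have e1 : w = (f g ^ (i % 3)) u := by
      rw [← pow_eq_pow_mod i h1, show f g ^ i = f ⟨n, hn⟩⁻¹ from congrArg Subtype.val hi]
      refine Subtype.ext ?_
      rw [hf, ← hc]
      simpa using e
    have : i % 3 = 0 ∨ i % 3 = 1 ∨ i % 3 = 2 := by omega
    rcases this with e | e | e <;> simp [e1, e, pow_succ]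
  · have : ∀ u : (P : Subgroup G), IsConj (u : G) (f g u) := fun u => isConj_iff.2 ⟨g, rfl⟩
    rintro (rfl | rfl | rfl)
    exacts [IsConj.refl _, this u, (this u).trans (this _)]

theorem homo_normal (m : ℕ) (hm : 2 ≤ m) (n : ℕ) : ∀ (G : Type u) [Group G] [Finite G]
    (P : Sylow 2 G), Nat.card G = n →
    ((P : Subgroup G) ≃* Multiplicative (ZMod (2 ^ m) × ZMod (2 ^ m))) → pPrimeCore 2 G = ⊥ →
    (P : Subgroup G).Normal := by
  induction n using Nat.strong_induction_on with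
  | _ n ih =>
  intro G _ _ P hn e hO
  obtain ⟨hP, hV⟩ := homocyclic (by omega) e
  rcases (S0945.result P m (by omega) e).1 with h | h
  · have h1 := ((isSylowOf_top P).npc_of_burnside
      (inf_le_right.trans (relIndex_eq_one.1 h))).pResOf_eq_pPrimeCoreOf
    have h2 := (isSylowOf_top P).sup_pResOf
    rw [h1, pPrimeCoreOf_top, hO, sup_bot_eq] at h2
    rw [h2]; infer_instance
  obtain ⟨β, hβ⟩ := exists_h3Aut P hP hV h
  obtain ⟨ψ, h1, h2, h3⟩ := hβ.exists_linear hP hV (by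
    rw [Nat.card_congr e.toEquiv, Nat.card_congr Multiplicative.toAdd, Nat.card_prod, Nat.card_zmod]
    have : 2 ^ 2 ≤ 2 ^ m := Nat.pow_le_pow_right two_pos hm
    nlinarith)
  let K := (homOfLinear ψ.2.isCharacter h2).ker
  have hK : (P : Subgroup G) ≤ K := fun u hu => Units.ext (h3 u hu)
  have hK' : K ≠ ⊤ := fun e => h1 (Subtype.ext (funext fun g =>
    congrArg Units.val (MonoidHom.mem_ker.1 (e.ge (mem_top g)))))
  have h4 := ih (Nat.card K) (hn ▸ card_lt_of_ne_top hK') K (P.subtype hK) rfl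
    ((subgroupOfEquivOfLe hK).trans e)
    (pPrimeCoreOf_eq_bot_iff.1 (eq_bot_iff.2 (hO ▸ pPrimeCoreOf_le_pPrimeCore K)))
  have h5 := Sylow.characteristic_of_normal _ h4
  rw [← map_subgroupOf_eq_of_le hK]
  exact ConjAct.normal_of_characteristic_of_normal (K := (P.subtype hK : Subgroup K))

theorem s0949 (P : Sylow 2 G) (m : ℕ) (hm : 2 ≤ m)
    (e : (P : Subgroup G) ≃* Multiplicative (ZMod (2 ^ m) × ZMod (2 ^ m)))
    (hO : ∀ N : Subgroup G, N.Normal → Odd (Nat.card N) → N = ⊥) :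
    (P : Subgroup G).Normal ∧ centralizer (P : Set G) = (P : Subgroup G) ∧
      ((P : Subgroup G).index = 1 ∨ (P : Subgroup G).index = 3) := by
  have hO' : pPrimeCore 2 G = ⊥ := hO _ inferInstance (Nat.coprime_two_right.1 pPrimeCore_coprime)
  have h1 := homo_normal m hm _ G P rfl e hO'
  obtain ⟨hP, hV⟩ := homocyclic (by omega) e
  have h2 : centralizer (P : Set G) = (P : Subgroup G) := by
    have h3 := isSylowOf_sylow P (le_centralizer (P : Subgroup G))
    have h4 := h3.sup_pResOf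
    have : (centralizer ((P : Subgroup G) : Set G)).Normal := inferInstance
    rwa [(h3.npc_of_burnside inf_le_left).pResOf_eq_pPrimeCoreOf,
      eq_bot_iff.2 ((pPrimeCoreOf_le_pPrimeCore _).trans hO'.le), sup_bot_eq, eq_comm] at h4
  refine ⟨h1, h2, ?_⟩
  have := (S0945.result P m (by omega) e).1
  rwa [h2, show normalizer (P : Set G) = ⊤ from normalizer_eq_top (P : Subgroup G),
    relIndex_top_right] at this

end Cfsg.Agent.H3
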