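import Cfsg.Agent.H3.Sph

/-! An orthogonal irreducible character occurring in its symmetric square, with irreducible exterior
square, comes from a doubly transitive action. -/

set_option autoImplicit false
set_option linter.unusedVariables false
set_option linter.unusedSectionVars false

namespace Cfsg.Agent.H3

open Finset Subgroup Cfsg.Agent.PLoc Cfsg.Agent.Char Cfsg.Agent.Blk Cfsg.Agent.Inv Cfsg.Agent.H9
open scoped ComplexConjugate TensorProduct

universe u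

theorem common_eig {W ι : Type*} [AddCommGroup W] [Module ℂ W] [FiniteDimensional ℂ W] [Nontrivial W]
    (f : ι → W →ₗ[ℂ] W) (h : ∀ i j, f i * f j = f j * f i) :
    ∃ w ≠ (0 : W), ∀ i, ∃ c : ℂ, f i w = c • w := by
  obtain ⟨S, ⟨h1, h2⟩, h3⟩ := (wellFounded_lt (α := Submodule ℂ W)).has_min
    {S | S ≠ ⊥ ∧ ∀ i, ∀ w ∈ S, f i w ∈ S} ⟨⊤, top_ne_bot, fun _ _ _ => trivial⟩
  obtain ⟨w, hw, w0⟩ := S.ne_bot_iff.1 h1
  refine ⟨w, w0, fun i => ?_⟩
  have := Submodule.nontrivial_iff_ne_bot.2 h1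
  obtain ⟨c, hc⟩ := Module.End.exists_eigenvalue ((f i).restrict (h2 i))
  obtain ⟨v, hv⟩ := hc.exists_hasEigenvector
  have h4 := h3 (S ⊓ Module.End.eigenspace (f i) c) ⟨(Submodule.ne_bot_iff _).2 ⟨v, ⟨v.2,
    Module.End.mem_eigenspace_iff.2 (congrArg Subtype.val hv.apply_eq_smul)⟩, by simpa using hv.2⟩,
    fun j u hu => ⟨h2 j u hu.1, Module.End.mem_eigenspace_iff.2 (by
      rw [← Module.End.mul_apply, h, Module.End.mul_apply, Module.End.mem_eigenspace_iff.1 hu.2,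
        map_smul])⟩⟩
  have h5 := (inf_le_left.lt_or_eq.resolve_left h4).ge hw
  exact ⟨c, Module.End.mem_eigenspace_iff.1 h5.2⟩

variable {G : Type u} [Group G] [Fintype G]

section forms
variable {U : Type*} [AddCommGroup U] [Module ℂ U] [FiniteDimensional ℂ U]
  {R : Representation ℂ G U} {p : U →ₗ[ℂ] U} (hc : ∀ g, p * R g = R g * p) (hp : p * p = p)
  {c : ℂ} (h : classInner (fun g => LinearMap.trace ℂ U (R g * p)) (fun _ => 1) = c)

include hc hp in
theorem pa_idem : (p * avg R ⊤) * (p * avg R ⊤) = p * avg R ⊤ := by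
  rw [mul_assoc, ← mul_assoc _ p, ← avg_comm R ⊤ fun n _ => hc n, mul_assoc, avg_avg, ← mul_assoc, hp]

include h in
theorem pa_trace : LinearMap.trace ℂ U (p * avg R ⊤) = c := by
  simpa [sph_top, h] using trace_avg R ⊤ p 1

theorem pa_fix {f : U →ₗ[ℂ] ℂ} (h1 : ∀ g, f ∘ₗ R g = f) (h2 : f ∘ₗ p = f) :
    f ∘ₗ (p * avg R ⊤) = f := by
  have := Fintype.ofFinite (⊤ : Subgroup G)
  rw [Module.End.mul_eq_comp, ← LinearMap.comp_assoc, h2, avg, finsum_eq_sum_of_fintype]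
  ext v
  simp only [LinearMap.comp_apply, LinearMap.smul_apply, LinearMap.sum_apply, map_smul, map_sum,
    show ∀ g, f (R g v) = f v from fun g => LinearMap.congr_fun (h1 g) v]
  rw [sum_const, card_univ, ← Nat.card_eq_fintype_card, nsmul_eq_mul, smul_eq_mul,
    inv_mul_cancel_left₀ (card_ne_zero _)]

include hc hp h

theorem form_zero (h0 : c = 0) {f : U →ₗ[ℂ] ℂ} (h1 : ∀ g, f ∘ₗ R g = f) (h2 : f ∘ₗ p = f) :
    f = 0 := by
  have h3 := (LinearMap.IsIdempotentElem.isProj_range _ (pa_idem hc hp)).trace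
  rw [pa_trace h, h0, eq_comm, Nat.cast_eq_zero, Submodule.finrank_eq_zero,
    LinearMap.range_eq_bot] at h3
  rw [← pa_fix h1 h2, h3, LinearMap.comp_zero]

theorem form_one (h0 : c = 1) {f f' : U →ₗ[ℂ] ℂ} (h1 : ∀ g, f ∘ₗ R g = f) (h2 : f ∘ₗ p = f)
    (h3 : ∀ g, f' ∘ₗ R g = f') (h4 : f' ∘ₗ p = f') (h5 : f' ≠ 0) : ∃ a : ℂ, f = a • f' := by
  obtain ⟨φ, u, e⟩ := rank_one (pa_idem hc hp) ((pa_trace h).trans h0)
  have a1 := pa_fix h1 h2
  have a2 := pa_fix h3 h4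
  rw [e] at a1 a2
  have a3 : f' u ≠ 0 := fun e => h5 (by rw [← a2]; ext; simp [e])
  refine ⟨f u / f' u, ?_⟩
  rw [← a1, ← a2]
  ext
  simp only [LinearMap.comp_apply, LinearMap.smulRight_apply, map_smul, smul_eq_mul,
    LinearMap.smul_apply]
  have a4 := LinearMap.congr_fun a1 u
  have a5 := LinearMap.congr_fun a2 u
  simp only [LinearMap.comp_apply, LinearMap.smulRight_apply, map_smul, smul_eq_mul] at a4 a5
  rw [a4, a5]
  field_simp

theorem form_ex (h0 : c ≠ 0) : ∃ f ≠ (0 : U →ₗ[ℂ] ℂ), (∀ g, f ∘ₗ R g = f) ∧ f ∘ₗ p = f := by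
  obtain ⟨v, hv⟩ := DFunLike.ne_iff.1 (show p * avg R ⊤ ≠ 0 from fun e => h0 (by
    rw [← pa_trace h, e, map_zero]))
  obtain ⟨f, hf⟩ := Module.Projective.exists_dual_ne_zero ℂ hv
  refine ⟨f ∘ₗ (p * avg R ⊤), fun e => hf (LinearMap.congr_fun e v), fun g => ?_, ?_⟩
  · rw [LinearMap.comp_assoc, ← Module.End.mul_eq_comp, mul_assoc, avg_mul R ⊤ (mem_top g)]
  · rw [LinearMap.comp_assoc, ← Module.End.mul_eq_comp, mul_assoc, ← avg_comm R ⊤ fun n _ => hc n,
      ← mul_assoc, hp]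

end forms

section sp
variable {n : ℕ} (ρ : Representation ℂ G (Fin n → ℂ))

/-- the (anti)symmetriser -/
noncomputable def sp (n : ℕ) (ε : ℂ) : (Fin n → ℂ) ⊗[ℂ] (Fin n → ℂ) →ₗ[ℂ] (Fin n → ℂ) ⊗[ℂ] (Fin n → ℂ) :=
  (2 : ℂ)⁻¹ • (1 + ε • (TensorProduct.comm ℂ (Fin n → ℂ) (Fin n → ℂ)).toLinearMap)

theorem sp_tmul (ε : ℂ) (a b : Fin n → ℂ) :
    sp n ε (a ⊗ₜ b) = (2 : ℂ)⁻¹ • (a ⊗ₜ b + ε • b ⊗ₜ a) := by simp [sp]

theorem sp_comm (ε : ℂ) (g : G) : sp n ε * ρ.tprod ρ g = ρ.tprod ρ g * sp n ε :=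
  TensorProduct.ext' fun a b => by simp [sp_tmul]

theorem sp_idem {ε : ℂ} (h : ε * ε = 1) : sp n ε * sp n ε = sp n ε :=
  TensorProduct.ext' fun a b => by
    simp only [Module.End.mul_apply, sp_tmul, map_smul, map_add, smul_add, smul_smul]
    match_scalars
    · linear_combination h / 4
    · ring

theorem sp_trace (ε : ℂ) (g : G) : LinearMap.trace ℂ _ (ρ.tprod ρ g * sp n ε) =
    (ρ.character g ^ 2 + ε * ρ.character (g * g)) / 2 := by
  have e1 : LinearMap.trace ℂ _ (ρ.tprod ρ g) = ρ.character g * ρ.character g :=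
    congrFun (Representation.char_tensor ρ ρ) g
  have e2 : LinearMap.trace ℂ _ (ρ.tprod ρ g * (TensorProduct.comm ℂ (Fin n → ℂ)
      (Fin n → ℂ)).toLinearMap) = ρ.character (g * g) := by
    rw [Representation.character, map_mul ρ]; exact trace_map_mul_comm (ρ g)
  simp only [sp, mul_smul_comm, mul_add, mul_one, map_smul, map_add, smul_eq_mul, e1, e2]
  ring

theorem sp_fix {W : Type*} [AddCommGroup W] [Module ℂ W] {ε : ℂ}
    {f : (Fin n → ℂ) ⊗[ℂ] (Fin n → ℂ) →ₗ[ℂ] W} :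
    f ∘ₗ sp n ε = f ↔ ∀ a b, ε • f (b ⊗ₜ a) = f (a ⊗ₜ b) := by
  refine ⟨fun h a b => ?_, fun h => TensorProduct.ext' fun a b => ?_⟩
  · have := LinearMap.congr_fun h (a ⊗ₜ b)
    simp only [LinearMap.comp_apply, sp_tmul, map_smul, map_add] at this
    linear_combination (norm := module) (2 : ℂ) • this
  · simp only [LinearMap.comp_apply, sp_tmul, map_smul, map_add, h]
    module

theorem form2 (h : classInner (fun g => (ρ.character g ^ 2 + ρ.character (g * g)) / 2)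
    (fun _ => 1) ≠ 0) : ∃ B ≠ (0 : (Fin n → ℂ) →ₗ[ℂ] (Fin n → ℂ) →ₗ[ℂ] ℂ),
      (∀ g a b, B (ρ g a) (ρ g b) = B a b) ∧ ∀ a b, B a b = B b a := by
  obtain ⟨f, f0, f1, f2⟩ := form_ex (sp_comm ρ 1) (sp_idem (one_mul 1)) rfl
    (by simpa only [sp_trace, one_mul] using h)
  exact ⟨TensorProduct.curry f, fun e => f0 (TensorProduct.ext' fun a b => LinearMap.congr_fun₂ e a b),
    fun g a b => LinearMap.congr_fun (f1 g) (a ⊗ₜ b), fun a b => by simpa using sp_fix.1 f2 b a⟩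

theorem form3_aux {ε : ℂ} (he : ε * ε = 1) :
    (∀ g, (sp n ε).rTensor (Fin n → ℂ) * (ρ.tprod ρ).tprod ρ g =
      (ρ.tprod ρ).tprod ρ g * (sp n ε).rTensor (Fin n → ℂ)) ∧
    (sp n ε).rTensor (Fin n → ℂ) * (sp n ε).rTensor (Fin n → ℂ) = (sp n ε).rTensor (Fin n → ℂ) ∧
    ∀ g, LinearMap.trace ℂ _ ((ρ.tprod ρ).tprod ρ g * (sp n ε).rTensor (Fin n → ℂ)) =
      (ρ.character g ^ 2 + ε * ρ.character (g * g)) / 2 * ρ.character g := by
  refine ⟨fun g => TensorProduct.ext' fun a b => ?_, by rw [← LinearMap.rTensor_mul, sp_idem he],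
    fun g => ?_⟩
  · exact congrArg (· ⊗ₜ _) (LinearMap.congr_fun (sp_comm ρ ε g) a)
  · rw [show (ρ.tprod ρ).tprod ρ g * (sp n ε).rTensor (Fin n → ℂ) =
      TensorProduct.map (ρ.tprod ρ g * sp n ε) (ρ g) from TensorProduct.ext' fun a b => rfl,
      LinearMap.trace_tensorProduct', sp_trace]
    rfl

theorem form3_ex (h : classInner (fun g => (ρ.character g ^ 2 + ρ.character (g * g)) / 2 *
    ρ.character g) (fun _ => 1) ≠ 0) :
    ∃ T ≠ (0 : (Fin n → ℂ) →ₗ[ℂ] (Fin n → ℂ) →ₗ[ℂ] (Fin n → ℂ) →ₗ[ℂ] ℂ),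
      (∀ g a b c, T (ρ g a) (ρ g b) (ρ g c) = T a b c) ∧ ∀ a b, T a b = T b a := by
  obtain ⟨h1, h2, h3⟩ := form3_aux ρ (ε := 1) (by simp)
  obtain ⟨f, f0, f1, f2⟩ := form_ex (U := ((Fin n → ℂ) ⊗[ℂ] (Fin n → ℂ)) ⊗[ℂ] (Fin n → ℂ)) h1 h2 rfl
    (by simp only [one_mul] at h3; simp only [h3]; exact h)
  refine ⟨TensorProduct.curry (TensorProduct.curry f), fun e => f0 (TensorProduct.ext_threefold
    fun a b c => LinearMap.congr_fun (LinearMap.congr_fun₂ e a b) c),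
    fun g a b c => LinearMap.congr_fun (f1 g) ((a ⊗ₜ b) ⊗ₜ c), fun a b => ?_⟩
  simpa using sp_fix.1 (show TensorProduct.curry f ∘ₗ sp n 1 = _ from LinearMap.ext₂ fun a c =>
    LinearMap.congr_fun f2 (a ⊗ₜ c)) b a

theorem form3_zero (h : classInner (fun g => (ρ.character g ^ 2 - ρ.character (g * g)) / 2 *
    ρ.character g) (fun _ => 1) = 0)
    {T : (Fin n → ℂ) →ₗ[ℂ] (Fin n → ℂ) →ₗ[ℂ] (Fin n → ℂ) →ₗ[ℂ] ℂ}
    (t1 : ∀ g a b c, T (ρ g a) (ρ g b) (ρ g c) = T a b c) (t2 : ∀ a b, -T a b = T b a) (a b c) :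
    T a b c = 0 := by
  obtain ⟨h1, h2, h3⟩ := form3_aux ρ (ε := -1) (by simp)
  have h4 := (sp_fix (ε := -1) (f := TensorProduct.lift T)).2 fun a b => by simp [t2]
  exact LinearMap.congr_fun (form_zero h1 h2 rfl
    (by simpa only [h3, neg_one_mul, ← sub_eq_add_neg] using h)
    (f := TensorProduct.lift (TensorProduct.lift T))
    (fun g => TensorProduct.ext_threefold fun a b c => t1 g a b c)
    (TensorProduct.ext' fun a c => LinearMap.congr_fun₂ h4 a c)) ((a ⊗ₜ b) ⊗ₜ c)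

theorem form4 (h : classInner (fun g => (ρ.character g ^ 2 - ρ.character (g * g)) / 2 *
    ((ρ.character g ^ 2 - ρ.character (g * g)) / 2)) (fun _ => 1) = 1)
    {F F' : (Fin n → ℂ) →ₗ[ℂ] (Fin n → ℂ) →ₗ[ℂ] (Fin n → ℂ) →ₗ[ℂ] (Fin n → ℂ) →ₗ[ℂ] ℂ}
    (hF : ∀ T ∈ [F, F'], (∀ g a b c d, T (ρ g a) (ρ g b) (ρ g c) (ρ g d) = T a b c d) ∧
      (∀ a b, -T a b = T b a) ∧ ∀ a b c d, -T a b c d = T a b d c) (h0 : F' ≠ 0) :
    ∃ k : ℂ, ∀ a b c d, F a b c d = k * F' a b c d := by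
  let L := fun T : (Fin n → ℂ) →ₗ[ℂ] (Fin n → ℂ) →ₗ[ℂ] (Fin n → ℂ) →ₗ[ℂ] (Fin n → ℂ) →ₗ[ℂ] ℂ =>
    TensorProduct.lift (TensorProduct.lift (T.compr₂ (TensorProduct.uncurry (RingHom.id ℂ) _ _ _)))
  have hL : ∀ T a b c d, L T ((a ⊗ₜ b) ⊗ₜ (c ⊗ₜ d)) = T a b c d := fun T a b c d => rfl
  have h1 : ∀ T ∈ [F, F'], (∀ g, L T ∘ₗ (ρ.tprod ρ).tprod (ρ.tprod ρ) g = L T) ∧
      L T ∘ₗ TensorProduct.map (sp n (-1)) (sp n (-1)) = L T := fun T hT => by
    obtain ⟨t1, t2, t3⟩ := hF T hT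
    refine ⟨fun g => TensorProduct.ext_fourfold' fun a b c d => t1 g a b c d,
      TensorProduct.ext_fourfold' fun a b c d => ?_⟩
    simp only [LinearMap.comp_apply, TensorProduct.map_tmul, sp_tmul,
      TensorProduct.tmul_smul, TensorProduct.add_tmul, TensorProduct.tmul_add, map_smul, map_add,
      ← TensorProduct.smul_tmul', hL, ← t2 a b, ← t3 a b c d, LinearMap.neg_apply, smul_eq_mul]
    ring
  have a1 : ∀ g, TensorProduct.map (sp n (-1)) (sp n (-1)) * (ρ.tprod ρ).tprod (ρ.tprod ρ) g =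
      (ρ.tprod ρ).tprod (ρ.tprod ρ) g * TensorProduct.map (sp n (-1)) (sp n (-1)) := fun g => by
    rw [Representation.tprod_apply, ← TensorProduct.map_mul, ← TensorProduct.map_mul, sp_comm]
  have a2 : TensorProduct.map (sp n (-1)) (sp n (-1)) * TensorProduct.map (sp n (-1)) (sp n (-1)) =
      TensorProduct.map (sp n (-1)) (sp n (-1)) := by
    rw [← TensorProduct.map_mul, sp_idem (by simp)]
  have a3 : ∀ g, LinearMap.trace ℂ _ ((ρ.tprod ρ).tprod (ρ.tprod ρ) g *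
      TensorProduct.map (sp n (-1)) (sp n (-1))) = (ρ.character g ^ 2 - ρ.character (g * g)) / 2 *
      ((ρ.character g ^ 2 - ρ.character (g * g)) / 2) := fun g => by
    rw [Representation.tprod_apply, ← TensorProduct.map_mul, LinearMap.trace_tensorProduct',
      sp_trace, neg_one_mul, ← sub_eq_add_neg]
  obtain ⟨k, hk⟩ := form_one (U := (_ ⊗[ℂ] _) ⊗[ℂ] (_ ⊗[ℂ] _)) a1 a2 rfl (by simpa only [a3] using h) (h1 F (by simp)).1 (h1 F (by simp)).2 (h1 F' (by simp)).1 (h1 F' (by simp)).2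
    fun e => h0 (LinearMap.ext₂ fun a b => LinearMap.ext₂ fun c d =>
      LinearMap.congr_fun e ((a ⊗ₜ b) ⊗ₜ (c ⊗ₜ d)))
  exact ⟨k, fun a b c d => LinearMap.congr_fun hk ((a ⊗ₜ b) ⊗ₜ (c ⊗ₜ d))⟩

end sp

/-- type synonym carrying the algebra multiplication -/
def Syn (α : Type*) := α

theorem alg_core {V : Type*} [AddCommGroup V] [Module ℂ V] [FiniteDimensional ℂ V]
    (ρ : Representation ℂ G V) (hρ : ∀ U : Submodule ℂ V, (∀ g, ∀ v ∈ U, ρ g v ∈ U) → U = ⊥ ∨ U = ⊤)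
    (hd : 1 < Module.finrank ℂ V) {B : V →ₗ[ℂ] V →ₗ[ℂ] ℂ} {m : V →ₗ[ℂ] V →ₗ[ℂ] V}
    (b1 : ∀ g a b, B (ρ g a) (ρ g b) = B a b) (b2 : ∀ a b, B a b = B b a)
    (m0 : m ≠ 0) (m1 : ∀ g a b, m (ρ g a) (ρ g b) = ρ g (m a b)) (m2 : ∀ a b, m a b = m b a)
    (m3 : ∀ a b c, B (m a b) c = B (m a c) b) {k : ℂ}
    (m4 : ∀ a b c, m a (m b c) - m b (m a c) = k • (B a c • b - B b c • a)) :
    ∃ H : Subgroup G, H.index = Module.finrank ℂ V + 1 := by
  classical
  let M : ℂ × V →ₗ[ℂ] ℂ × V →ₗ[ℂ] ℂ × V := LinearMap.mk₂ ℂ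
    (fun a b => (a.1 * b.1 + k * B a.2 b.2, a.1 • b.2 + b.1 • a.2 + m a.2 b.2))
    (fun a b c => by ext <;> simp [add_smul] <;> [ring; abel])
    (fun a b c => by ext <;> simp [smul_smul, mul_comm]; ring)
    (fun a b c => by ext <;> simp [add_smul] <;> [ring; abel])
    (fun a b c => by ext <;> simp [smul_smul, mul_comm]; ring)
  have hM : ∀ a b, M a b = (a.1 * b.1 + k * B a.2 b.2, a.1 • b.2 + b.1 • a.2 + m a.2 b.2) :=
    fun _ _ => rfl
  have c1 : ∀ a b, M a b = M b a := fun a b => by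
    rw [hM, hM, b2, m2, mul_comm a.1, add_comm (a.1 • b.2)]
  have c2 : ∀ a b, M a * M b = M b * M a := fun a b => LinearMap.ext fun c => by
    simp only [Module.End.mul_apply, hM, map_add, map_smul, smul_eq_mul, Prod.mk.injEq]
    refine ⟨?_, ?_⟩
    · rw [b2 a.2 (m _ _), b2 b.2 (m _ _), m2 b.2 c.2, m2 a.2 c.2, m3 c.2 a.2, b2 b.2 a.2]
      ring
    · rw [m2 b.2 a.2]
      linear_combination (norm := module) m4 a.2 b.2 c.2
  have c3 : ∀ a b c, M (M a b) c = M a (M b c) := fun a b c => by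
    rw [c1, c1 b c, c1 a b]
    exact (LinearMap.congr_fun (c2 c b) a).trans (by
      rw [Module.End.mul_apply, c1 c a, c1 c b, c1 a (M b c), c1 (M b c) a, c1 b c]
      exact (LinearMap.congr_fun (c2 b a) c).trans (by rw [Module.End.mul_apply, c1 b c]))
  have c4 : ∀ b, M (1, 0) b = b := fun b => by simp [hM]
  obtain ⟨w, w0, hw⟩ := common_eig (fun a => M a) c2
  choose φ hφ using hw
  have i1 := smul_left_injective ℂ w0
  let ψ : ℂ × V →ₗ[ℂ] ℂ := ⟨⟨φ, fun a b => i1 (by simp only [add_smul, ← hφ, map_add,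
    LinearMap.add_apply])⟩, fun a b => i1 (by
      simp only [RingHom.id_apply, smul_eq_mul, mul_smul, ← hφ, map_smul, LinearMap.smul_apply])⟩
  have p1 : ψ (1, 0) = 1 := i1 (by
    beta_reduce; rw [one_smul]; exact (hφ _).symm.trans (c4 w))
  have p2 : ∀ a b, ψ (M a b) = ψ a * ψ b := fun a b => i1 (by
    beta_reduce
    change φ _ • w = (φ a * φ b) • w
    rw [← hφ, c3, hφ b, map_smul, hφ, smul_smul, mul_comm])
  let ξ : V →ₗ[ℂ] ℂ := ψ ∘ₗ LinearMap.inr ℂ ℂ V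
  have hs : ∀ g, Function.Surjective (ρ g) := fun g v => ⟨ρ g⁻¹ v, by
    rw [← Module.End.mul_apply, ← map_mul, mul_inv_cancel, map_one]; rfl⟩
  have x0 : ξ ≠ 0 := fun e => by
    have a1 : ∀ a, w.1 • a + m a w.2 = 0 := fun a => by
      have := congrArg Prod.snd (hφ (0, a))
      rw [show φ (0, a) = 0 from LinearMap.congr_fun e a] at this
      simpa [hM] using this
    let U : Submodule ℂ V :=
      { carrier := {v | ∃ s : ℂ, ∀ a, s • a + m a v = 0}
        zero_mem' := ⟨0, by simp⟩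
        add_mem' := fun ⟨s, hs⟩ ⟨t, ht⟩ => ⟨s + t, fun a => by
          rw [map_add]; linear_combination (norm := module) hs a + ht a⟩
        smul_mem' := fun c v ⟨s, hs⟩ => ⟨c * s, fun a => by
          rw [map_smul]; linear_combination (norm := module) c • hs a⟩ }
    rcases hρ U (fun g v ⟨s, h⟩ => ⟨s, fun a => by
      obtain ⟨a, rfl⟩ := hs g a
      rw [m1, ← map_smul, ← map_add, h, map_zero]⟩) with e | e
    · have a2 : w.2 = 0 := e.le ⟨_, a1⟩
      have := Module.nontrivial_of_finrank_pos (zero_lt_one.trans hd)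
      obtain ⟨a, ha⟩ := exists_ne (0 : V)
      exact w0 (Prod.ext (by simpa [a2, ha] using a1 a) a2)
    · refine m0 (LinearMap.ext₂ fun a v => ?_)
      obtain ⟨s, h⟩ := e.ge (Submodule.mem_top (x := v))
      by_cases v0 : v = 0
      · simp [v0]
      obtain ⟨b, hb⟩ := exists_linearIndependent_pair_of_one_lt_finrank hd v0
      obtain ⟨t, h'⟩ := e.ge (Submodule.mem_top (x := b))
      have := (LinearIndependent.pair_iff.1 hb t (-s) (by
        linear_combination (norm := module) h' v - h b + m2 b v)).2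
      simpa [neg_eq_zero.1 this] using h a
  let H : Subgroup G :=
    { carrier := {g | ∀ v, ξ (ρ g v) = ξ v}
      one_mem' := by simp
      mul_mem' := fun {a b} ha hb v => by rw [map_mul, Module.End.mul_apply, ha, hb]
      inv_mem' := fun {a} ha v => by
        rw [← ha, ← Module.End.mul_apply, ← map_mul, mul_inv_cancel, map_one]; rfl }
  let F : G ⧸ H → V →ₗ[ℂ] ℂ := fun q => ξ ∘ₗ ρ q.out⁻¹
  have f1 : ∀ g v, F (g : G) v = ξ (ρ g⁻¹ v) := fun g v => by
    obtain ⟨h, e⟩ := QuotientGroup.mk_out_eq_mul H g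
    simp only [F, e, mul_inv_rev, map_mul, LinearMap.comp_apply, Module.End.mul_apply]
    exact H.inv_mem h.2 _
  have f2 : ∀ g q v, F (g • q) (ρ g v) = F q v := fun g q v => by
    obtain ⟨a, rfl⟩ := QuotientGroup.mk_surjective q
    rw [MulAction.Quotient.smul_mk, f1, f1, ← Module.End.mul_apply, ← map_mul]
    simp
  have f3 : ∀ U : Submodule ℂ V, (∀ g, ∀ v ∈ U, ρ g v ∈ U) → (∀ v ∈ U, ξ v = 0) → U = ⊥ :=
    fun U h1 h2 => (hρ U h1).resolve_right fun e => x0 (LinearMap.ext fun v => h2 v (e.ge trivial))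
  refine ⟨H, le_antisymm ?_ ?_⟩
  · let : MulOneClass (Syn (ℂ × V)) :=
      { mul := fun a b => M a b, one := ((1, 0) : ℂ × V), one_mul := c4,
        mul_one := fun a => (c1 _ _).trans (c4 a) }
    let E : G ⧸ H → ℂ × V →ₗ[ℂ] ℂ := fun q => ψ ∘ₗ LinearMap.id.prodMap (ρ q.out⁻¹)
    have a0 : ∀ q (a b : ℂ × V), E q (M a b) = E q a * E q b := fun q a b => by
      simp only [E, LinearMap.comp_apply, ← p2, hM, LinearMap.prodMap_apply, LinearMap.id_apply,
        b1, m1, map_add, map_smul]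
    let E' : G ⧸ H → Syn (ℂ × V) →* ℂ := fun q => ⟨⟨E q, by
      show E q (1, 0) = 1
      simpa [E] using p1⟩, a0 q⟩
    have a1 : Function.Injective E' := fun q r e => by
      obtain ⟨a, rfl⟩ := QuotientGroup.mk_surjective q
      obtain ⟨b, rfl⟩ := QuotientGroup.mk_surjective r
      refine QuotientGroup.eq.2 fun v => ?_
      have : F a (ρ b v) = F b (ρ b v) := DFunLike.congr_fun e ((0, ρ b v) : ℂ × V)
      rw [f1, f1] at this
      simpa only [← Module.End.mul_apply, ← map_mul, inv_mul_cancel, map_one,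
        Module.End.one_apply] using this
    have a2 := (LinearIndependent.of_comp (LinearMap.ltoFun ℂ (ℂ × V) ℂ ℂ) (v := E)
      ((linearIndependent_monoidHom _ ℂ).comp E' a1)).fintype_card_le_finrank
    rwa [Subspace.dual_finrank_eq, Module.finrank_prod, Module.finrank_self, add_comm,
      ← Nat.card_eq_fintype_card] at a2
  · let S : (G ⧸ H → ℂ) →ₗ[ℂ] ℂ := ∑ q, LinearMap.proj q
    have a1 : Function.Injective (LinearMap.pi F) := LinearMap.ker_eq_bot.1 (f3 _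
      (fun g v hv => funext fun q => by
        rw [← smul_inv_smul g q]
        exact (f2 _ _ _).trans (congrFun hv _)) fun v hv => by
          simpa using (f1 1 v).symm.trans (congrFun hv _))
    have a2 : ∀ g v, S (LinearMap.pi F (ρ g v)) = S (LinearMap.pi F v) := fun g v => by
      simp only [S, LinearMap.sum_apply, LinearMap.proj_apply, LinearMap.pi_apply]
      rw [← Equiv.sum_comp (MulAction.toPerm g)]
      simp only [MulAction.toPerm_apply, f2]
    have a3 : LinearMap.range (LinearMap.pi F) ≤ LinearMap.ker S := by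
      rw [LinearMap.range_le_ker_iff, ← LinearMap.ker_eq_top]
      refine (hρ _ fun g v hv => (a2 g v).trans hv).resolve_left fun e => ?_
      have := LinearMap.finrank_le_finrank_of_injective (LinearMap.ker_eq_bot.1 e)
      rw [Module.finrank_self] at this
      omega
    have a4 := Submodule.finrank_lt (s := LinearMap.ker S) fun e => by
      have := e.ge (Submodule.mem_top (x := Pi.single ((1 : G) : G ⧸ H) 1))
      simp [S] at this
    have a5 := Submodule.finrank_mono a3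
    rw [LinearMap.finrank_range_of_inj a1] at a5
    rw [Module.finrank_fintype_fun_eq_card, ← Nat.card_eq_fintype_card] at a4
    exact Nat.succ_le_of_lt (a5.trans_lt a4)

/-- antisymmetrisation -/
def asy {V W : Type*} [AddCommGroup V] [Module ℂ V] [AddCommGroup W] [Module ℂ W]
    (f : V →ₗ[ℂ] V →ₗ[ℂ] W) : V →ₗ[ℂ] V →ₗ[ℂ] W := f - f.flip

theorem alg_index {χ ψ : IrrCharacter G} {d : ℕ} (hd : charDegree χ.1 = d) (d1 : 1 < d)
    (h1 : classInner (fun g => (χ.1 g ^ 2 + χ.1 (g * g)) / 2) (fun _ => 1) ≠ 0)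
    (h2 : classInner (fun g => (χ.1 g ^ 2 + χ.1 (g * g)) / 2) χ.1 ≠ 0)
    (h3 : ∀ g, (χ.1 g ^ 2 - χ.1 (g * g)) / 2 = ψ.1 g) (h4 : ψ ≠ χ) :
    ∃ H : Subgroup G, H.index = d + 1 := by
  have r1 : ∀ g, conj (χ.1 g) = χ.1 g := fun g => by
    obtain ⟨a, b, -, a1, a2, -⟩ := χ.2.frobenius_schur
    split_ifs at a1 with e
    · exact Complex.conj_eq_iff_im.2 (e g)
    · exact absurd (a2.trans (by rw [show a = 0 by omega, Nat.cast_zero])) h1
  have r2 : ∀ g, conj (ψ.1 g) = ψ.1 g := fun g => by simp [← h3, r1, map_ofNat]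
  obtain ⟨n, ρ, hi, hρ⟩ := id χ.2
  have hn : Module.finrank ℂ (Fin n → ℂ) = d := Nat.cast_injective (R := ℂ) (by
    rw [← hd, ← irr_one_eq, ← hρ, Representation.char_one])
  obtain ⟨-, hU⟩ := (isIrreducible_iff ρ).1 hi
  have hs : ∀ g, Function.Surjective (ρ g) := fun g v => ⟨ρ g⁻¹ v, by
    rw [← Module.End.mul_apply, ← map_mul, mul_inv_cancel, map_one]; rfl⟩
  obtain ⟨B, b0, b1, b2⟩ := form2 ρ (hρ ▸ h1)
  obtain ⟨T, t0, t1, t2⟩ := form3_ex ρ (by
    rw [classInner_eq_one_right] at h2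
    simpa only [hρ, r1, Pi.mul_def] using h2)
  have t3 : ∀ a b c, T a b c = T a c b := fun a b c => sub_eq_zero.1 (form3_zero ρ (by
    have := irr_classInner ψ χ
    rw [if_neg h4, classInner_eq_one_right] at this
    simpa only [hρ, r1, h3, Pi.mul_def] using this) (T := LinearMap.lflip.toLinearMap ∘ₗ T.flip -
      (LinearMap.lflip.toLinearMap ∘ₗ T.flip).flip) (fun g a b c => by simp [t1]) (fun a b => by simp) b c a)
  have i1 : Function.Injective B := LinearMap.ker_eq_bot.1 ((hU _ fun g v hv =>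
    LinearMap.ext fun w => by
      obtain ⟨w, rfl⟩ := hs g w
      exact (b1 g v w).trans (LinearMap.congr_fun hv w)).resolve_right
    fun e => b0 (LinearMap.ker_eq_top.1 e))
  let e := LinearMap.linearEquivOfInjective B i1 (Subspace.dual_finrank_eq.symm)
  let m := T.compr₂ e.symm.toLinearMap
  have hm : ∀ a b, B (m a b) = T a b := fun a b => e.apply_symm_apply _
  have m1 : ∀ g a b, m (ρ g a) (ρ g b) = ρ g (m a b) := fun g a b => i1 (LinearMap.ext fun c => by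
    obtain ⟨c, rfl⟩ := hs g c
    rw [hm, t1, b1, hm])
  have m5 : ∀ a u v, B (m a u) v = B u (m a v) := fun a u v => by rw [hm, b2, hm, t3]
  let K := LinearMap.smulRightₗ (M := Fin n → ℂ) ∘ₗ B
  let Φ := (LinearMap.mul ℂ (Module.End ℂ (Fin n → ℂ))).compl₁₂ m m
  let c : Module.End ℂ (Fin n → ℂ) →ₗ[ℂ] (Fin n → ℂ) →ₗ[ℂ] (Fin n → ℂ) →ₗ[ℂ] ℂ :=
    LinearMap.llcomp ℂ _ _ _ B
  have k1 : ∀ a b u v, asy (K.compr₂ c) a b u v = B a u * B b v - B b u * B a v :=
    fun a b u v => (show B (B a u • b) v - B (B b u • a) v = _ by simp)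
  have k2 : ∀ a b u v, asy (Φ.compr₂ c) a b u v = B (m a (m b u) - m b (m a u)) v :=
    fun a b u v => by rw [map_sub]; rfl
  obtain ⟨k, hk⟩ := form4 ρ (F := asy (Φ.compr₂ c)) (F' := asy (K.compr₂ c)) (by
    have := ψ.2.classInner_self
    rw [classInner_eq_one_right] at this
    simpa only [hρ, r2, h3, Pi.mul_def] using this) (by
      simp only [List.mem_cons, List.not_mem_nil, or_false, forall_eq_or_imp, forall_eq]
      refine ⟨⟨fun g a b u v => ?_, fun a b => LinearMap.ext₂ fun u v => ?_, fun a b u v => ?_⟩,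
        fun g a b u v => by simp only [k1, b1], fun a b => LinearMap.ext₂ fun u v => ?_,
        fun a b u v => by rw [k1, k1]; ring⟩
      · rw [k2, k2, m1, m1, m1, m1, ← map_sub, b1]
      · simp only [LinearMap.neg_apply, k2, map_sub, LinearMap.sub_apply, neg_sub]
      · simp only [k2, map_sub, LinearMap.sub_apply, m5, neg_sub]
        rw [b2 u, b2 u, m5, m5, m5, m5]
      · simp only [LinearMap.neg_apply, k1, neg_sub]) (fun e => by
    have := Module.nontrivial_of_finrank_pos (R := ℂ) (M := Fin n → ℂ) (by omega)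
    obtain ⟨a, ha⟩ := exists_ne (0 : Fin n → ℂ)
    obtain ⟨b, hb⟩ := exists_linearIndependent_pair_of_one_lt_finrank (hn ▸ d1) ha
    obtain ⟨u, hu⟩ := DFunLike.ne_iff.1 (mt (map_eq_zero_iff B i1).1 ha)
    refine hu (LinearIndependent.pair_iff.1 hb (-B b u) (B a u) (i1 (LinearMap.ext fun v => ?_))).2
    have := (k1 a b u v).symm.trans (LinearMap.congr_fun₂ (LinearMap.congr_fun₂ e a b) u v)
    simp at this ⊢
    linear_combination this)
  exact hn ▸ alg_core ρ hU (hn ▸ d1) b1 b2 (m := m) (fun e => t0 (LinearMap.ext₂ fun a b => by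
    rw [← hm, e]; simp)) m1 (fun a b => i1 (by rw [hm, hm, t2])) (fun a b c => by rw [hm, hm, t3])
    (k := k) fun a b u => i1 (LinearMap.ext fun v => by rw [← k2, hk, k1]; simp)

end Cfsg.Agent.H3
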