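import Cfsg.Agent.H3.Col

/-! A light evaluation of a test on all members of `trees2`. -/

set_option autoImplicit false

namespace Cfsg.Agent.H3

open Cfsg.Agent.H9 Cfsg.Agent.Gol

noncomputable def allE2 (P : ℤ → List ℤ → Bool) (C : List ℤ) : ℕ → ℕ → ℤ → List ℤ → Bool :=
  List.rec (fun k _ t acc => bif' (Nat.beq k 0) (P t acc) true)
    (fun c _ ih k b t acc => bif' (Nat.beq k 0) (P t acc) (lall (fun j =>
      bif' (Nat.ble (j * c.natAbs ^ 2) b) (force (k - j) fun k' => force (b - j * c.natAbs ^ 2) fun b' =>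
        forceI (t + j * c) fun t' => forceL (acc ++ List.replicate j c) fun acc' =>
          ih k' b' t' acc') true) (List.range (k + 1)))) C

theorem enum_zero (C : List ℤ) (b : ℕ) : ∀ L ∈ enum C 0 b, L = [] := by
  induction C generalizing b with
  | nil => simp [enum]
  | cons c cs ih =>
    intro L hL
    simp only [enum, List.mem_flatMap, List.mem_range] at hL
    obtain ⟨j, hj, hL⟩ := hL
    obtain rfl : j = 0 := by omega
    split_ifs at hL with e
    · obtain ⟨L', h1, rfl⟩ := List.mem_map.1 hL
      simp [ih _ _ h1]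
    · simp at hL

theorem allE2_sound {P : ℤ → List ℤ → Bool} (C : List ℤ) : ∀ (k b : ℕ) (t : ℤ) (acc : List ℤ),
    allE2 P C k b t acc = true → ∀ L ∈ enum C k b, P (t + L.sum) (acc ++ L) = true := by
  induction C with
  | nil =>
    intro k b t acc h L hL
    simp only [enum] at hL
    split_ifs at hL with e
    · subst e
      rw [List.mem_singleton.1 hL]
      simpa [allE2] using h
    · simp at hL
  | cons c cs ih =>
    intro k b t acc h L hL
    rcases k with _ | k
    · rw [enum_zero _ _ L hL]
      simpa [allE2] using h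
    simp only [enum, List.mem_flatMap] at hL
    obtain ⟨j, hj, hL⟩ := hL
    split_ifs at hL with e
    · obtain ⟨L', h1, rfl⟩ := List.mem_map.1 hL
      have h2 := lall_iff.1 h j hj
      rw [Nat.ble_eq.mpr e, bif'_true, force_eq, force_eq, forceI_eq, forceL_eq] at h2
      have := ih _ _ _ _ h2 L' h1
      rwa [List.append_assoc, add_assoc, ← nsmul_eq_mul, ← List.sum_replicate, ← List.sum_append] at this
    · simp at hL

noncomputable def allT (n p : ℕ) (D : List ℕ) (Q R : ℕ → Bool) (P : ℕ × ℕ × ℕ × List ℤ → Bool) :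
    Bool := forceL (cand2 n D Q) fun C0 => lall (fun np => bif' (decide (np % p = 1) && decide (np ≠ 1))
  (lall (fun e => bif' (decide (2 ≤ e) && decide ((p - 1) % e = 0) &&
      decide (n % (p * e * np) = 0) && R (n / (p * e * np)))
    (force (n / (p * e * np)) fun v => force (e * np) fun w =>
      forceL (C0.filter fun a => aOK p v e np a 1) fun C => allE2 (fun f L =>
        bif' (Nat.beq (w % f.natAbs) 0) (bif' (fOK2 n p v e np Q L f) (P (v, e, np, L)) true) true)
          C (e - 1) n 1 []) true) (List.range p)) true) D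

theorem allT_sound {n p : ℕ} {D : List ℕ} {Q R : ℕ → Bool} {P : ℕ × ℕ × ℕ × List ℤ → Bool}
    (h : allT n p D Q R P = true) : lall P (trees2 n p D Q R) = true := lall_iff.2 fun T hT => by
  simp only [trees2, List.mem_flatMap, List.mem_filter, List.mem_map] at hT
  obtain ⟨np, ⟨a1, a2⟩, e, ⟨a3, a4⟩, L, ⟨a7, a8⟩, rfl⟩ := hT
  rw [allT, forceL_eq] at h
  have h1 := lall_iff.1 h np a1
  rw [a2, bif'_true] at h1
  have h2 := lall_iff.1 h1 e a3
  rw [a4, bif'_true, force_eq, force_eq, forceL_eq] at h2
  have h3 := allE2_sound _ _ _ _ _ h2 L a7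
  have h4 : e * np % (1 + L.sum).natAbs = 0 := by
    simp only [fOK2, aOK, Bool.and_eq_true, decide_eq_true_eq] at a8
    exact a8.1.1.2.1.1
  rwa [List.nil_append, h4, a8, Nat.beq_refl, bif'_true, bif'_true] at h3

end Cfsg.Agent.H3
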