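import Cfsg.Agent.H3.Fx

/-! Characters outside the principal block average to zero over `x * V`. -/

set_option autoImplicit false
set_option linter.unusedVariables false
set_option linter.unusedSectionVars false

namespace Cfsg.Agent.H3

open Finset Subgroup Equiv Cfsg.Agent.PLoc Cfsg.Agent.Char Cfsg.Agent.Blk Cfsg.Agent.Inv Cfsg.Agent.H9
  Cfsg.Agent.Gol
open scoped ComplexConjugate

universe u

variable {G : Type u} [Group G] [Fintype G] {p : ℕ} [hp : Fact p.Prime] {x : G}

open Classical in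
theorem avg_cnt (h : Syl1 p x) {v : G} (hv : v ∈ Vc p x) :
    ∑ w ∈ univ.filter (· ∈ Vc p x), (if IsConj (x * v) (x * w) then
      Nat.card (centralizer ({x * v} : Set G)) else 0) ≤ p * Nat.card (Vc p x) := by
  have a0 : ∀ v ∈ Vc p x, IsPPart p (x * v) x := fun v hv => ppart_mk
    (mem_centralizer_singleton_iff.1 (h.mem_Vc.1 hv).1).symm ⟨1, by simp [h.ord]⟩ (h.mem_Vc.1 hv).2
  have a1 : ∀ w, (if IsConj (x * v) (x * w) then Nat.card (centralizer ({x * v} : Set G)) else 0) =
      ∑ g, if g * (x * v) * g⁻¹ = x * w then 1 else 0 := fun w => by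
    rw [← card_filter]
    split_ifs with e
    · exact (card_filter_conj_eq e).symm
    · exact (card_eq_zero.2 (filter_eq_empty_iff.2 fun g _ e' => e (isConj_iff.2 ⟨g, e'⟩))).symm
  rw [sum_congr rfl fun w _ => a1 w, sum_comm, ← h.card_cent, Nat.card_eq_fintype_card,
    Fintype.card_subtype, card_filter]
  refine sum_le_sum fun g _ => ?_
  simp only [← inv_mul_eq_iff_eq_mul, sum_ite_eq, mem_filter, mem_univ, true_and]
  split_ifs with e1 e2
  · rfl
  · refine absurd (mem_centralizer_singleton_iff.2 ?_) e2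
    have := ppart_unique hp.out (ppart_conj (a0 v hv) g) (by simpa using a0 _ e1)
    rw [mul_inv_eq_iff_eq_mul] at this
    exact this
  all_goals omega

open Classical in
theorem avgV (h : Syl1 p x) {l : List (IrrCharacter G)} (hl : (irrOne G :: l).Nodup)
    (hn : l.length = p - 1) {s : IrrCharacter G → ℤ}
    (hs : ∀ χ ∈ l, (s χ = 1 ∨ s χ = -1) ∧ ∀ v ∈ Vc p x, χ.1 (x * v) = s χ) {χ : IrrCharacter G}
    (hχ : χ ∉ irrOne G :: l) : ∑ v ∈ univ.filter (· ∈ Vc p x), χ.1 (x * v) = 0 := by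
  set S := univ.filter (· ∈ Vc p x) 
  have cS : S.card = Nat.card (Vc p x) := by rw [Nat.card_eq_fintype_card, Fintype.card_subtype]
  have a1 : ((∑ ψ : IrrCharacter G, ‖∑ v ∈ S, ψ.1 (x * v)‖ ^ 2 : ℝ) : ℂ) =
      ((∑ v ∈ S, ∑ w ∈ S, (if IsConj (x * v) (x * w) then
        Nat.card (centralizer ({x * v} : Set G)) else 0) : ℕ) : ℝ) := by
    rw [Complex.ofReal_natCast]
    push_cast
    simp only [← Complex.mul_conj', map_sum, sum_mul_sum]
    rw [sum_comm]
    refine sum_congr rfl fun v _ => sum_comm.trans (sum_congr rfl fun w _ => ?_)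
    rw [sum_irr_mul_conj]
    congr
  have a2 : ∑ v ∈ S, ∑ w ∈ S, (if IsConj (x * v) (x * w) then
      Nat.card (centralizer ({x * v} : Set G)) else 0) ≤ S.card * (p * S.card) := by
    rw [← smul_eq_mul, ← sum_const, cS]
    exact sum_le_sum fun v hv => avg_cnt h (mem_filter.1 hv).2
  have hS' : ∀ v ∈ S, v ∈ Vc p x := fun v hv => (mem_filter.1 hv).2
  clear_value S
  have nd : (χ :: irrOne G :: l).Nodup := List.nodup_cons.2 ⟨hχ, hl⟩
  have a3 := sum_le_sum_of_subset_of_nonneg (f := fun ψ : IrrCharacter G => ‖∑ v ∈ S, ψ.1 (x * v)‖ ^ 2)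
    (subset_univ (χ :: irrOne G :: l).toFinset) fun _ _ _ => by positivity
  rw [Complex.ofReal_injective a1, List.sum_toFinset _ nd, List.map_cons, List.sum_cons,
    List.map_congr_left (g := fun _ => (S.card : ℝ) ^ 2) fun ψ hψ => by
      rcases List.mem_cons.1 hψ with rfl | e
      · simp
      · rw [sum_congr rfl fun v hv => (hs ψ e).2 v (hS' v hv)]
        rw [sum_const, nsmul_eq_mul, norm_mul]
        rcases (hs ψ e).1 with e | e <;> simp [e]] at a3
  have a4 : ((∑ v ∈ S, ∑ w ∈ S, (if IsConj (x * v) (x * w) then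
      Nat.card (centralizer ({x * v} : Set G)) else 0) : ℕ) : ℝ) ≤ S.card * (p * S.card) := by
    exact_mod_cast a2
  have a5 : ((l.length + 1 : ℕ) : ℝ) = p := by
    have := hp.out.pos
    exact_mod_cast (by omega : l.length + 1 = p)
  rw [List.map_const', List.sum_replicate, List.length_cons, nsmul_eq_mul, a5] at a3
  have a6 : ‖∑ v ∈ S, χ.1 (x * v)‖ ^ 2 ≤ 0 := by nlinarith
  exact norm_eq_zero.1 (pow_eq_zero_iff (two_ne_zero) |>.1 (le_antisymm a6 (by positivity)))

end Cfsg.Agent.H3
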