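import Cfsg.Agent.H3.Syl21

/-! Two primes: the Brauer-Tuan lemma and counting tools for principal blocks of defect one. -/

set_option autoImplicit false
set_option linter.unusedSectionVars false
set_option synthInstance.maxSize 2000

namespace Cfsg.Agent.H3

open Cfsg Finset Subgroup MulAction Cfsg.Agent.PLoc Cfsg.Agent.Perm Cfsg.Agent.Inv Cfsg.Agent.Char
  Cfsg.Agent.Blk
open scoped ComplexConjugate

universe u

variable {G : Type u} [Group G] [Finite G] {p : ℕ} [hp : Fact p.Prime] {x : G}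

theorem exists_PMod (p : ℕ) [hp : Fact p.Prime] : ∃ M, PMod p M :=
  (exists_isPModular p hp.out).imp fun _ h => ⟨h⟩

/-- fixed points of an element of prime order centralizing `x` on the Sylow subgroups -/
theorem exists_fix [IsSimpleGroup G] (hG : ¬ IsMulCommutative G) (h : Syl1 p x) {q : ℕ}
    (hq : q.Prime) {v : G} (hv : v * x = x * v) (ho : orderOf v = q) :
    ∃ f, f < (Nx x).index ∧ f ≡ 1 [MOD p] ∧ (Nx x).index ≡ f [MOD q] ∧
      (q = 2 → ((Nx x).index - f) % 4 = 0) := by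
  classical
  have := Fact.mk hq
  have := Fintype.ofFinite (Sylow p G)
  obtain ⟨P, hP⟩ := h.sylow.exists_sylow_top
  obtain ⟨r, hr⟩ := h.exists_r
  have hf : (toPermHom G (Sylow p G)).ker = ⊥ := (IsSimpleGroup.eq_bot_or_eq_top_of_normal _
    inferInstance).resolve_right fun e => h.r_ne_zero hG hr (by
      have : Nx x = ⊤ := (eq_top_iff' _).2 fun g => by
        rw [Nx, ← hP]
        exact Sylow.smul_eq_iff_mem_normalizer.1
          (DFunLike.congr_fun (MonoidHom.mem_ker.1 (e.ge (mem_top g))) P)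
      rw [this, index_top] at hr
      simpa [hp.out.ne_zero] using hr)
  have h3 := ncard_modEq (O := {R : Sylow p G | v • R = R}) P.2 fun g hg R hR => by
    obtain ⟨i, rfl⟩ := hP.le hg
    rw [Set.mem_ofPred, ← mul_smul, (Commute.zpow_right hv i).eq, mul_smul, hR]
  have hPt : v • P = P := Sylow.ext (by rw [coe_smul_sylow, hP, cj_zpowers, hv]; simp)
  rw [show {R : Sylow p G | v • R = R} ∩ fixedPoints (P : Subgroup G) (Sylow p G) = {P} from
    Set.eq_singleton_iff_unique_mem.2 ⟨⟨hPt, fun g => smul_eq_of_mem g.2⟩,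
      fun R hR => eq_of_fix fun g hg => hR.2 ⟨g, hg⟩⟩, Set.ncard_singleton] at h3
  have t2 : v ^ q = 1 := ho ▸ pow_orderOf_eq_one v
  have h6 := ncard_modEq_elt (O := (Set.univ : Set (Sylow p G))) t2 fun _ _ => trivial
  rw [Set.univ_inter, Set.ncard_univ, h.card_sylow] at h6
  refine ⟨_, (Set.ncard_lt_card ?_).trans_eq h.card_sylow, h3, h6, ?_⟩
  · intro e
    have : v ∈ (toPermHom G (Sylow p G)).ker := Equiv.ext fun R => e.ge (Set.mem_univ R)
    rw [mem_bot.1 (hf.le this), orderOf_one] at ho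
    exact hq.one_lt.ne ho
  rintro rfl
  have h7 := Equiv.Perm.sign_of_pow_two_eq_one (σ := toPermHom G (Sylow p G) v)
    (by rw [← map_pow, t2, map_one])
  rw [Fintype.card_eq_nat_card, Fintype.card_eq_nat_card, h.card_sylow] at h7
  change _ = (-1) ^ ((_ - {R : Sylow p G | v • R = R}.ncard) / 2) at h7
  have h8 : (Equiv.Perm.sign.comp (toPermHom G (Sylow p G))).ker = ⊤ :=
    (IsSimpleGroup.eq_bot_or_eq_top_of_normal _ inferInstance).resolve_left fun e => hG ⟨⟨fun a b =>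
      (MonoidHom.ker_eq_bot_iff _).1 e (by rw [map_mul, map_mul, mul_comm])⟩⟩
  have h9 := (MonoidHom.mem_ker.1 (h8.ge (mem_top v))).symm.trans h7
  rw [eq_comm, neg_one_pow_eq_one_iff_even (by decide)] at h9
  obtain ⟨k, hk⟩ := h9
  unfold Nat.ModEq at h6
  have := Set.ncard_le_card {R : Sylow p G | v • R = R}
  rw [h.card_sylow] at this
  omega

theorem card_dvd_of_vanish {θ : G → ℂ} (hθ : IsGeneralizedCharacter G θ) (Q : Subgroup G)
    (h : ∀ y ∈ Q, y ≠ 1 → θ y = 0) {n : ℤ} (hn : θ 1 = n) : (Nat.card Q : ℤ) ∣ n := by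
  have := Fintype.ofFinite Q
  obtain ⟨m, hm⟩ := (hθ.restrict Q).classInner_int isGen_one
  have := card_mul_classInner (fun y : Q => θ y) fun _ => 1
  rw [hm, sum_eq_single 1 (fun y _ hy => by rw [h y y.2 (by simpa using hy), zero_mul])
    (by simp)] at this
  exact ⟨m, by
    simp only [OneMemClass.coe_one, hn, map_one, mul_one] at this
    exact_mod_cast this.symm⟩

variable {M : Ideal AlgInt} [hM : PMod p M] {h : Syl1 p x} {N : Finset (IrrCharacter G)}
  {δ : IrrCharacter G → ℤ} {ε : ℤ} {μ : (ZMod p)ˣ → IrrCharacter G}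

theorem exc_reg (D : D1 M h N δ ε μ) {g : G} (hg : ¬ p ∣ orderOf g) (j : (ZMod p)ˣ) :
    (μ j : G → ℂ) g = (μ 1 : G → ℂ) g := by
  have := (D.reg g hg j).symm.trans (D.reg g hg 1)
  rcases D.ε_val with rfl | rfl <;> simpa using this

theorem exists_gal (h : Syl1 p x) (j : (ZMod p)ˣ) : ∃ m : ℕ, m.Coprime (Nat.card G) ∧
    (m : ZMod p) = j ∧ ∀ g : G, ¬ p ∣ orderOf g → g ^ m = g := by
  have hc := (Nat.coprime_primes hp.out hp.out)
  have h1 : p.Coprime (zpowers x).index := hp.out.coprime_iff_not_dvd.2 h.idx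
  obtain ⟨m, m1, m2⟩ := Nat.chineseRemainder h1 (j : ZMod p).val 1
  have h2 : Nat.card G = p * (zpowers x).index := by
    rw [← (zpowers x).card_mul_index, Nat.card_zpowers, h.ord]
  refine ⟨m, h2 ▸ Nat.Coprime.mul_right ?_ ?_, ?_, fun g hg => ?_⟩
  · exact (Nat.coprime_iff_gcd_eq_one.2 (m1.gcd_eq.trans (ZMod.val_coe_unit_coprime j)))
  · exact Nat.coprime_iff_gcd_eq_one.2 (m2.gcd_eq.trans (by simp))
  · rw [(ZMod.natCast_eq_natCast_iff _ _ _).2 m1, ZMod.natCast_zmod_val]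
  · have := (hp.out.coprime_iff_not_dvd.2 hg).symm.dvd_of_dvd_mul_left
      (h2 ▸ orderOf_dvd_natCard g)
    simpa using pow_eq_pow_iff_modEq.2 (m2.of_dvd this)

theorem exc_gal (D : D1 M h N δ ε μ) (j : (ZMod p)ˣ) :
    ∃ σ : ℂ ≃+* ℂ, μ j = ⟨_, (μ 1).2.map_ringHom σ⟩ := by
  obtain ⟨m, m1, m2, m3⟩ := exists_gal h j
  obtain ⟨σ, hσ⟩ := exists_ringEquiv_pow_char m1
  refine ⟨σ, Subtype.ext (funext fun g => ((hσ _ (μ 1).2.isGen g).trans ?_).symm)⟩
  by_cases hg : p ∣ orderOf g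
  · obtain ⟨i, hi, v, hv, e⟩ := h.exists_conj hg
    have hi' : i * j ≠ 0 := mul_ne_zero hi j.ne_zero
    have hc : Commute (pw x i) v := by
      obtain ⟨k, hk⟩ := pw_mem (x := x) i
      exact hk ▸ (Commute.zpow_right (mem_centralizer_singleton_iff.1 (h.mem_Vc.1 hv).1) k).symm
    rw [(μ 1).2.isClassFunction.of_isConj (e.pow m), (μ j).2.isClassFunction.of_isConj e,
      hc.mul_pow, pw_pow h.ord, m2,
      h.PB_const (D.exc_mem 1) (pw_mem _) (mt (pw_eq_one h.ord).1 hi') (pow_mem hv m),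
      h.PB_const (D.exc_mem j) (pw_mem _) (mt (pw_eq_one h.ord).1 hi) hv,
      D.apply_exc _ _ hi, D.apply_exc _ _ hi', Units.val_one, mul_one]
  · rw [m3 g hg, exc_reg D hg j]

variable {q : ℕ} [hq : Fact q.Prime] {M' : Ideal AlgInt} [hM' : PMod q M']

include hM' in
theorem exc_PB (D : D1 M h N δ ε μ) (j : (ZMod p)ˣ) : μ j ∈ PB M' G ↔ μ 1 ∈ PB M' G := by
  obtain ⟨σ, hσ⟩ := exc_gal D j
  refine ⟨fun e => ?_, fun e => hσ ▸ PB_gal σ e⟩
  have : μ 1 = ⟨_, (μ j).2.map_ringHom σ.symm⟩ := Subtype.ext (funext fun g => by simp [hσ])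
  exact this ▸ PB_gal σ.symm e

theorem not_dvd_of_Vc (h : Syl1 p x) (hpq : q ≠ p) (hV : ¬ q ∣ Nat.card (Vc p x)) {g : G}
    (hg : p ∣ orderOf g) : ¬ q ∣ orderOf g := fun e => by
  obtain ⟨i, -, v, hv, e1⟩ := h.exists_conj hg
  have := e.trans (Blk.orderOf_isConj e1 ▸ orderOf_dvd_card_of_mem
    (mul_mem (h.le_cent (pw_mem i)) (h.mem_Vc.1 hv).1))
  rw [h.card_cent, hq.out.dvd_mul, Nat.prime_dvd_prime_iff_eq hq.out hp.out] at this
  exact this.elim hpq hV

open Classical in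
theorem bt {B : Set (IrrCharacter G)} (hB : fS B ∈ RG M' G)
    (hpq : ∀ g : G, p ∣ orderOf g → ¬ q ∣ orderOf g) {u y : G} (hu : p ∣ orderOf u)
    (hy : q ∣ orderOf y) :
    ∑ χ ∈ (PB M G).filter (· ∈ B), (χ : G → ℂ) u * conj ((χ : G → ℂ) y) = 0 := by
  have := Fintype.ofFinite G
  obtain ⟨z, hz⟩ := exists_ppart hp.out u
  have h1 := blockPart_eq_zero_of_section (fS_mem_ZR (isPBlock_principal (M := M) (G := G))).1
    (θ := ∑ χ : IrrCharacter G, (if χ ∈ B then conj ((χ : G → ℂ) y) else 0) • (χ : G → ℂ))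
    (x := z) (fun w z' h1 h2 => by
      have := block_orth_reg hB (hpq w (dvd_of_ppart_ne_one hp.out h1 fun e =>
        ppart_ne_one hp.out hz hu (isConj_one_left.1 (e ▸ h2)))) hy
      rw [finsum_mem_irr, sum_filter] at this
      simpa [mul_comm, apply_ite (fun f : G → ℂ => f w)] using this) hz (IsConj.refl z)
  rw [blockPart, finsum_PB] at h1
  simp only [classInner_congr_fintype _ this, classInner_sum_irr] at h1
  rw [sum_filter]
  exact (sum_congr rfl fun χ _ => by split_ifs <;> simp [mul_comm]).trans h1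

open Classical in
theorem bt_D1 (D : D1 M h N δ ε μ) {B : Set (IrrCharacter G)} (hB : fS B ∈ RG M' G)
    (hμ : ∀ j, μ j ∈ B ↔ μ 1 ∈ B) (hpq : ∀ g : G, p ∣ orderOf g → ¬ q ∣ orderOf g) {y : G}
    (hy : q ∣ orderOf y) : ∑ χ ∈ N.filter (· ∈ B), δ χ * (χ : G → ℂ) y =
      if μ 1 ∈ B then ε * (μ 1 : G → ℂ) y else 0 := by
  have h1 : ∑ i : (ZMod p)ˣ, ∑ χ ∈ (PB M G).filter (· ∈ B), (χ : G → ℂ) (pw x (i : ZMod p)) *
      conj ((χ : G → ℂ) y⁻¹) = 0 := sum_eq_zero fun i _ =>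
    bt hB hpq (orderOf_pw h.ord i.ne_zero).symm.dvd (by simpa using hy)
  have h0 : ∀ χ : IrrCharacter G, conj ((χ : G → ℂ) y⁻¹) = (χ : G → ℂ) y := fun χ => by
    simp [χ.2.isCharacter.apply_inv]
  simp only [h0] at h1
  rw [sum_comm, sum_filter, D.sum_PB _ (c := if μ 1 ∈ B then
    -(Nat.card (autSub h.ord) * (ε * (μ 1 : G → ℂ) y)) else 0) fun j => by
      simp only [hμ j, D.apply_exc j _ (Units.ne_zero _), ← sum_mul, ← mul_sum, sum_eta,
        exc_reg D (fun e => hpq y e hy) j]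
      split_ifs <;> ring, ← sum_filter, sum_congr rfl (g := fun χ => ((p : ℂ) - 1) *
        (δ χ * (χ : G → ℂ) y)) fun χ hχ => by
      simp only [D.apply_N χ (mem_filter.1 hχ).1 _ (Units.ne_zero _), sum_const, card_univ,
        ZMod.card_units, nsmul_eq_mul, Nat.cast_pred hp.out.pos], ← mul_sum] at h1
  have h2 : (p : ℂ) - 1 = Nat.card (autSub h.ord) * (autSub h.ord).index := by
    rw [sub_eq_iff_eq_add]
    exact_mod_cast (e_mul_t h.ord).symm
  refine mul_left_cancel₀ (a := (p : ℂ) - 1) (sub_ne_zero.2 (by exact_mod_cast hp.out.ne_one)) ?_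
  split_ifs at h1 ⊢
  · rw [nsmul_eq_mul] at h1
    rw [eq_neg_of_add_eq_zero_left h1, h2]
    ring
  · simpa using h1

open Classical in
theorem bt_dvd (D : D1 M h N δ ε μ) {B : Set (IrrCharacter G)} (hB : fS B ∈ RG M' G)
    (hμ : ∀ j, μ j ∈ B ↔ μ 1 ∈ B) (hpq : ∀ g : G, p ∣ orderOf g → ¬ q ∣ orderOf g) {k : ℕ}
    (hk : q ^ k ∣ Nat.card G) : (q ^ k : ℤ) ∣ ∑ χ ∈ N.filter (· ∈ B), δ χ * charDegree (χ : G → ℂ) -
      if μ 1 ∈ B then ε * charDegree (μ 1 : G → ℂ) else 0 := by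
  obtain ⟨Q, hQ⟩ := Sylow.exists_subgroup_card_pow_prime q hk
  have := card_dvd_of_vanish (θ := ∑ χ ∈ N.filter (· ∈ B), (δ χ : ℂ) • (χ : G → ℂ) -
    ((if μ 1 ∈ B then ε else 0 : ℤ) : ℂ) • (μ 1 : G → ℂ))
    ((isGen_sum _ _ fun χ _ => χ.2.isGen.intCast_smul _).sub ((μ 1).2.isGen.intCast_smul _)) Q
    (fun y hy h1 => by
      obtain ⟨_ | i, hi⟩ := IsPGroup_orderOf (IsPGroup.of_card hQ) hy
      · exact absurd (orderOf_eq_one_iff.1 hi) h1
      have := bt_D1 D hB hμ hpq (y := y) (hi ▸ dvd_pow_self q i.succ_ne_zero)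
      simp only [Pi.sub_apply, Finset.sum_apply, Pi.smul_apply, smul_eq_mul, this]
      split_ifs <;> simp)
    (n := ∑ χ ∈ N.filter (· ∈ B), δ χ * charDegree (χ : G → ℂ) -
      if μ 1 ∈ B then ε * charDegree (μ 1 : G → ℂ) else 0) (by
      simp only [Pi.sub_apply, Finset.sum_apply, Pi.smul_apply, smul_eq_mul, irr_one_eq]
      split_ifs <;> simp)
  simpa [hQ] using this

open Classical in
theorem bt_PB (D : D1 M h N δ ε μ) (hpq : ∀ g : G, p ∣ orderOf g → ¬ q ∣ orderOf g) {k : ℕ}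
    (hk : q ^ k ∣ Nat.card G) : (q ^ k : ℤ) ∣ ∑ χ ∈ N.filter (· ∈ PB M' G),
      δ χ * charDegree (χ : G → ℂ) - if μ 1 ∈ PB M' G then ε * charDegree (μ 1 : G → ℂ) else 0 := by
  have := bt_dvd D (fS_mem_ZR (isPBlock_principal (M := M') (G := G))).1
    (fun j => by simpa only [mem_PB] using exc_PB (M' := M') D j) hpq hk
  simpa only [mem_PB] using this

/-- the possible degrees of a non-exceptional character -/
theorem deg_N' [IsSimpleGroup G] (hG : ¬ IsMulCommutative G) (D : D1 M h N δ ε μ)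
    {χ : IrrCharacter G} (hχ : χ ∈ N) (h1 : χ ≠ irrOne G) : ∃ d : ℕ, charDegree (χ : G → ℂ) = d ∧
      d ∣ Nat.card (autSub h.ord) * (Nx x).index ∧ d ^ 2 ≤ Nat.card G ∧ d ≠ 1 ∧
      ((δ χ = 1 ∧ d % p = 1) ∨ (δ χ = -1 ∧ (d + 1) % p = 0 ∧ (d + 1 = p → Vc p x = ⊥))) := by
  refine ⟨_, rfl, index_cent h.ord ▸ D.dvd_N hχ, by simpa using sum_deg_sq_le {χ},
    fun e => h1 (eq_irrOne_of_deg hG e), ?_⟩
  obtain ⟨m, hm, h2⟩ := D.deg_N χ hχ
  refine (D.δ_val χ hχ).imp (fun e => ⟨e, ?_⟩) fun e => ⟨e, ?_, fun e1 => ?_⟩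
  · rw [e] at hm h2
    obtain ⟨m, rfl⟩ : ∃ k, m = k + 1 := ⟨m - 1, by omega⟩
    rw [show charDegree (χ : G → ℂ) = 1 + p * m by push_cast at hm; zify; linarith,
      Nat.add_mul_mod_self_left, Nat.mod_eq_of_lt hp.out.one_lt]
  · rw [e] at hm
    rw [show charDegree (χ : G → ℂ) + 1 = p * (m + 1) by zify; linarith, Nat.mul_mod_right]
  · refine h.Vc_eq_bot (D.sub hχ) h1 ?_
    rw [D.fm_N hχ, e, ← e1]
    simp

theorem sum_three {ι : Type*} {s : Finset ι} {f : ι → ℤ} {u v w : ℤ} [DecidableEq ι]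
    (h : ∀ i ∈ s, f i = u ∨ f i = v ∨ f i = w) (huv : u ≠ v) (huw : u ≠ w) :
    ∃ b c : ℕ, s.card = (s.filter (f · = u)).card + b + c ∧
      ∑ i ∈ s, f i = (s.filter (f · = u)).card * u + b * v + c * w := by
  induction s using Finset.induction_on with
  | empty => exact ⟨0, 0, by simp⟩
  | insert a s ha ih =>
    obtain ⟨b, c, h1, h2⟩ := ih fun i hi => h i (mem_insert_of_mem hi)
    have := mt (mem_filter (p := (f · = u))).1 fun e => ha e.1
    rw [card_insert_of_notMem ha, sum_insert ha, filter_insert, h2]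
    rcases h a (mem_insert_self _ _) with e | e | e
    · rw [if_pos e, card_insert_of_notMem this, e]
      exact ⟨b, c, by omega, by push_cast; ring⟩
    · rw [if_neg (e ▸ huv.symm), e]
      exact ⟨b + 1, c, by omega, by push_cast; ring⟩
    · rw [if_neg (e ▸ huw.symm), e]
      exact ⟨b, c + 1, by omega, by push_cast; ring⟩

/-- list of the divisors of a factored number -/
def dl : List (ℕ × ℕ) → List ℕ
  | [] => [1]
  | x :: l => (List.range (x.2 + 1)).flatMap fun i => (dl l).map (x.1 ^ i * ·)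

theorem mem_dl (l : List (ℕ × ℕ)) (hl : ∀ x ∈ l, x.1.Prime) {d : ℕ}
    (h : d ∣ (l.map fun x => x.1 ^ x.2).prod) : d ∈ dl l := by
  induction l generalizing d with
  | nil => simpa [dl] using h
  | cons x l ih =>
    obtain ⟨a, b, ha, hb, rfl⟩ := Nat.dvd_mul.1 h
    obtain ⟨i, hi, rfl⟩ := (Nat.dvd_prime_pow (hl x (by simp))).1 ha
    exact List.mem_flatMap.2 ⟨i, List.mem_range.2 (by omega),
      List.mem_map_of_mem (ih (fun y hy => hl y (by simp [hy])) hb)⟩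

theorem not_comm_of_card [IsSimpleGroup G] {n : ℕ} (hn : Nat.card G = n) (h : ¬ n.Prime) :
    ¬ IsMulCommutative G := not_comm_of_simple (hn ▸ h)

instance fact19 : Fact (Nat.Prime 19) := ⟨by norm_num⟩

theorem s1022 [IsSimpleGroup G] : Nat.card G ≠ 459648 := fun hn => by
  have h1 : ∀ n ∈ dl [(2, 7), (3, 3), (7, 1)], n % 19 = 1 → n = 1 ∨ n = 96 ∨ n = 1008 := by
    decide +kernel
  have h4 : ∀ d < 678, d ∣ 6048 → d ≠ 1 → (d % 19 = 1 → d = 96) ∧
      ((d + 1) % 19 = 0 → d = 18 ∨ d = 56 ∨ d = 189) := by decide +kernel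
  have h10 : ∀ a < 6, ∀ b < 6, ∀ c < 6, a + b + c + 1 ∣ 6 → a + b + c ≠ 0 →
      (1 + (a : ℕ) * 96 - (b : ℕ) * 56 - (c : ℕ) * 189 : ℤ).natAbs ∣ 6048 →
        a = 2 ∧ b = 2 ∧ c = 1 := by decide +kernel
  classical
  have hG := not_comm_of_card hn (by norm_num)
  obtain ⟨x, h⟩ := exists_syl1 (G := G) (p := 19) (by rw [hn]; norm_num) (by rw [hn]; norm_num)
  obtain ⟨y, h'⟩ := exists_syl1 (G := G) (p := 7) (by rw [hn]; norm_num) (by rw [hn]; norm_num)
  obtain ⟨M, hM⟩ := exists_PMod 19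
  obtain ⟨M', hM'⟩ := exists_PMod 7
  obtain ⟨N, δ, ε, μ, D⟩ := h.exists_D1 (M := M)
  obtain ⟨N', δ', ε', μ', D'⟩ := h'.exists_D1 (M := M')
  obtain ⟨r, hr⟩ := h.exists_r
  have r0 := h.r_ne_zero hG hr
  have hc := h.card_eq
  have he := card_autSub_dvd h.ord
  have he2 := D.two_le hG
  have hz := D.dvd_exc 1
  have hd := fun χ hχ => deg_N' hG D (χ := χ) (mem_erase.1 hχ).2 (mem_erase.1 hχ).1
  have hN := D.card
  rw [index_cent h.ord] at hz
  rw [hn] at hc hd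
  have hfix := fun v hv ho => exists_fix hG h fact7.1 (v := v) hv ho
  have hV7 := fun e => exists_mem_orderOf_eq_prime (H := Vc 19 x) fact7.1 e
  have hbt := fun e => bt_PB (M' := M') D (fun g => not_dvd_of_Vc h (by norm_num) e) (k := 1)
    (by rw [hn]; norm_num)
  have hV : Nat.card (Vc 19 x) = 1 ↔ Vc 19 x = ⊥ := card_eq_one
  generalize Nat.card (autSub h.ord) = e at *
  generalize Nat.card (Vc 19 x) = v at *
  generalize (Nx x).index = n at *
  have h2 : n ∣ 24192 := ⟨v * e, by linarith⟩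
  have he3 := Nat.le_of_dvd (by norm_num) he
  rcases h1 n (mem_dl _ (by decide) h2) (by omega) with rfl | rfl | rfl
  · exact r0 (by linarith)
  · obtain ⟨w, hw, ho⟩ := hV7 (by interval_cases e <;> omega)
    obtain ⟨f, f1, f2, f3, -⟩ := hfix w (mem_centralizer_singleton_iff.1 (h.mem_Vc.1 hw).1) ho
    unfold Nat.ModEq at f2 f3
    omega
  have h3 : e ∣ 6 ∧ v ≠ 1 ∧ ¬ 7 ∣ v := by interval_cases e <;> omega
  have h5 : ∀ χ ∈ N.erase (irrOne G), δ χ * charDegree (χ : G → ℂ) = 96 ∨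
      δ χ * charDegree (χ : G → ℂ) = -56 ∨ δ χ * charDegree (χ : G → ℂ) = -189 := fun χ hχ => by
    obtain ⟨d, d1, d2, d3, d4, d5⟩ := hd χ hχ
    have := h4 d (by nlinarith) (d2.trans (Nat.mul_dvd_mul_right h3.1 1008)) d4
    rw [← hV] at d5
    rw [d1]
    rcases d5 with ⟨e1, e2⟩ | ⟨e1, e2, e3⟩ <;> rw [e1] <;> omega
  obtain ⟨b, c, h6, h7⟩ := sum_three h5 (by norm_num) (by norm_num)
  have h8 := D.deg_eq 1
  rw [← add_sum_erase _ _ D.one_mem, h7, D.δ_one, deg_irrOne] at h8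
  rw [card_erase_of_mem D.one_mem, hN] at h6
  have h9 := hz.trans (Nat.mul_dvd_mul_right h3.1 1008)
  have h11 := Nat.le_of_dvd (by norm_num) h3.1
  obtain ⟨a2, rfl, rfl⟩ := h10 _ (lt_of_le_of_lt (card_filter_le _ _) (by
    rw [card_erase_of_mem D.one_mem]; omega)) b (by omega) c (by omega) (by
    rw [← h6, Nat.sub_add_cancel (by omega)]; exact h3.1) (by omega) (by
    refine Dvd.dvd.trans (dvd_of_eq ?_) h9
    rcases D.ε_val with rfl | rfl <;> omega)
  rw [a2] at h8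
  obtain ⟨rfl, h12⟩ : ε = -1 ∧ charDegree (μ 1 : G → ℂ) = 108 := by
    rcases D.ε_val with rfl | rfl <;> omega
  have h13 : ∀ χ ∈ (N.erase (irrOne G)).filter (· ∈ PB M' G),
      δ χ * charDegree (χ : G → ℂ) = 96 := fun χ hχ => by
    have := h'.PB_not_dvd (mem_filter.1 hχ).2
    have := h5 χ (mem_filter.1 hχ).1
    rcases D.δ_val χ (mem_erase.1 (mem_filter.1 hχ).1).2 with e1 | e1 <;> rw [e1] at this ⊢ <;> omega
  have h14 := hbt h3.2.2
  rw [← add_sum_erase _ _ (mem_filter.2 ⟨D.one_mem, one_mem_PB 7⟩), D.δ_one, deg_irrOne,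
    ← filter_erase, sum_congr rfl h13, sum_const, h12] at h14
  have h15 := (card_le_card fun χ hχ => mem_filter.2 ⟨(mem_filter.1 hχ).1, h13 χ hχ⟩).trans_eq a2
  have h16 : ∀ χ ∈ PB M' G, charDegree (χ : G → ℂ) % 7 = 1 ∨ charDegree (χ : G → ℂ) % 7 = 6 ∨
      charDegree (χ : G → ℂ) = charDegree (μ' 1 : G → ℂ) := fun χ hχ => by
    rcases D'.cases χ hχ with e1 | ⟨j, rfl⟩
    · obtain ⟨m, hm, -⟩ := D'.deg_N χ e1
      rcases D'.δ_val χ e1 with e2 | e2 <;> rw [e2] at hm <;> omega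
    · exact Or.inr (Or.inr (D'.deg_exc_eq j))
  split_ifs at h14 with h17
  · obtain ⟨χ, hχ⟩ := card_pos.1 (by simp only [nsmul_eq_mul] at h14; omega :
      0 < ((N.erase (irrOne G)).filter (· ∈ PB M' G)).card)
    have := h16 _ h17
    have := h16 _ (mem_filter.1 hχ).2
    have := h13 χ hχ
    rcases D.δ_val χ (mem_erase.1 (mem_filter.1 hχ).1).2 with e1 | e1 <;> rw [e1] at this <;> omega
  · simp only [nsmul_eq_mul] at h14
    omega

end Cfsg.Agent.H3
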