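import Cfsg.Agent.H3.T2

/-! Brauer-Tuan: simple groups of order `p q^b g₀` with `g₀ < p - 1`. -/

set_option autoImplicit false
set_option linter.unusedVariables false
set_option linter.unusedSectionVars false

namespace Cfsg.Agent.H3

open Finset Subgroup Cfsg.Agent.PLoc Cfsg.Agent.Char Cfsg.Agent.Blk Cfsg.Agent.Inv Cfsg.Agent.H9
open scoped ComplexConjugate

universe u

variable {G : Type u} [Group G] [Finite G] {p : ℕ} [hp : Fact p.Prime] {x : G}

theorem sum_tw {χ : G → ℂ} (hχ : IsCharacter G χ) (hx : orderOf x = p) (k : ZMod p)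
    (h0 : ∑ i, ech (i * k) * χ (pw x i) = 0) (g : G) :
    ∑ i, ech (i * k) * χ (pw x i * g) = 0 := by
  obtain ⟨n, ρ, rfl⟩ := hχ
  have p0 : (p : ℂ) ≠ 0 := p_ne_zero_complex p
  have h1 : IsIdempotentElem ((p : ℂ)⁻¹ • ∑ i : ZMod p, ech (i * k) • ρ (pw x i)) := by
    have : ∀ i : ZMod p, (ech (i * k) • ρ (pw x i)) * ∑ j : ZMod p, ech (j * k) • ρ (pw x j) =
        ∑ j : ZMod p, ech (j * k) • ρ (pw x j) := fun i => by
      conv_rhs => rw [← Equiv.sum_comp (Equiv.addLeft i)]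
      simp [mul_sum, pw_add hx, mul_add, ech_add, smul_smul, mul_comm]
    rw [IsIdempotentElem, smul_mul_smul_comm, sum_mul, sum_congr rfl fun i _ => this i, sum_const,
      card_univ, ZMod.card, ← Nat.cast_smul_eq_nsmul ℂ, smul_smul]
    congr 1
    field_simp
  have h2 := LinearMap.IsIdempotentElem.eq_zero_of_trace_eq_zero h1 (by
    simpa [Representation.character, p0] using h0)
  have h3 := congrArg (fun f => LinearMap.trace ℂ _ (f * ρ g)) ((smul_eq_zero.1 h2).resolve_left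
    (inv_ne_zero p0))
  simpa [Representation.character, sum_mul] using h3

variable {M : Ideal AlgInt} [hM : PMod p M] {h : Syl1 p x} {N : Finset (IrrCharacter G)}
  {δ : IrrCharacter G → ℤ} {ε : ℤ} {μ : (ZMod p)ˣ → IrrCharacter G}

theorem Vc_bot_tw [IsSimpleGroup G] (D : D1 M h N δ (-1) μ)
    (hf : charDegree (μ 1 : G → ℂ) + Nat.card (autSub h.ord) = p) : Vc p x = ⊥ := by
  classical
  rw [eq_bot_iff, ← (μ 1).2.charKer_eq_bot_of_simple fun e => D.ne_one 1 (Subtype.ext e)]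
  intro v hv
  have h1 : ∑ i : (ZMod p)ˣ, ech ((i : ZMod p) * -1) * (μ 1 : G → ℂ) (pw x (i : ZMod p)) =
      -(μ 1 : G → ℂ) 1 := by
    have : ∀ a : autSub h.ord, ∑ i : (ZMod p)ˣ, ech ((i : ZMod p) * -1) *
        ech ((i : ZMod p) * ((a : (ZMod p)ˣ) : ZMod p)) = (if a = 1 then (p : ℂ) else 0) - 1 := fun a => by
      have := sum_ech (((a : (ZMod p)ˣ) : ZMod p) - 1)
      rw [Syl1.sum_units, zero_mul, ech_zero] at this
      simp only [← ech_add, ← mul_add, neg_add_eq_sub, eq_sub_iff_add_eq', this, sub_eq_zero,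
        Units.val_eq_one, OneMemClass.coe_eq_one]
    simp only [D.apply_exc 1 _ (Units.ne_zero _), eta, finsum_eq_sum_of_fintype, Units.val_one,
      mul_one, Int.cast_neg, Int.cast_one, neg_mul, one_mul, mul_neg, sum_neg_distrib, mul_sum,
      neg_inj] at this ⊢
    rw [sum_comm, sum_congr rfl fun a _ => this a, irr_one_eq, sum_sub_distrib, sum_ite_eq',
      if_pos (mem_univ _), sum_const, card_univ, ← Nat.card_eq_fintype_card, nsmul_one,
      sub_eq_iff_eq_add]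
    exact_mod_cast hf.symm
  have h2 := sum_tw (μ 1).2.isCharacter h.ord (-1) (by rw [Syl1.sum_units, h1]; simp [pw_zero, ech_zero]) v
  rw [Syl1.sum_units, pw_zero, one_mul, sum_congr rfl fun (i : (ZMod p)ˣ) _ => by
    rw [h.PB_const (D.exc_mem 1) (pw_mem _) (mt (pw_eq_one h.ord).1 i.ne_zero) hv], h1] at h2
  rw [(μ 1).2.isCharacter.mem_charKer]
  simpa [ech_zero, add_neg_eq_zero] using h2

theorem D1_sing (D : D1 M h N δ ε μ) {χ : IrrCharacter G} (hχ : χ ∈ N) {g : G}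
    (hg : p ∣ orderOf g) : χ.1 g = δ χ := by
  obtain ⟨i, hi, v, hv, e⟩ := h.exists_conj hg
  rw [χ.2.isClassFunction.of_isConj e,
    h.PB_const (D.sub hχ) (pw_mem _) (mt (pw_eq_one h.ord).1 hi) hv, D.apply_N χ hχ i hi]

theorem D1_trick [Fintype G] (D : D1 M h N δ ε μ) {j : (ZMod p)ˣ} (hj : μ 1 ≠ μ j)
    {χ : IrrCharacter G} (hχ : χ ∈ N) : classInner ((μ 1).1 * fun g => conj ((μ 1).1 g)) χ.1 =
      classInner ((μ 1).1 * fun g => conj ((μ j).1 g)) χ.1 + δ χ := by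
  classical
  have h1 : classInner ((μ 1).1 * fun g => conj ((μ 1).1 g)) (fun _ => 1) -
      classInner ((μ 1).1 * fun g => conj ((μ j).1 g)) (fun _ => 1) = 1 := by
    simp [← classInner_eq_one_right, irr_classInner, hj]
  simp only [← classInner_sub_left] at h1
  rw [← sub_eq_iff_eq_add', ← classInner_sub_left, ← mul_one (δ χ : ℂ), ← h1, classInner_def,
    classInner_def, mul_left_comm, mul_sum _ _ (δ χ : ℂ)]
  refine congrArg _ (sum_congr rfl fun g _ => ?_)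
  by_cases hg : p ∣ orderOf g
  · simp [D1_sing D hχ hg, mul_comm]
  · simp [exc_reg D hg j]

theorem D1_size (D : D1 M h N δ ε μ) (ht : autSub h.ord ≠ ⊤) {s : ℤ} (hs : s = 1 ∨ s = -1) :
    ∑ χ ∈ N.filter (δ · = s), charDegree χ.1 ≤ charDegree (μ 1).1 ^ 2 := by
  classical
  have := Fintype.ofFinite G
  obtain ⟨j, hj⟩ : ∃ j, j ∉ autSub h.ord := by simpa [eq_top_iff'] using ht
  have h1 : μ 1 ≠ μ j⁻¹ := by simpa [D.exc_eq] using hj
  have c1 := fun i => (μ 1).2.isCharacter.mul (μ i).2.isCharacter.conj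
  choose k hk using fun i (χ : IrrCharacter G) => (c1 i).classInner_nat χ.2.isCharacter
  have h2 : ∀ i, (∀ χ ∈ N, δ χ = s → 1 ≤ k i χ) →
      ∑ χ ∈ N.filter (δ · = s), charDegree χ.1 ≤ charDegree (μ 1).1 ^ 2 := fun i hi => by
    rw [← sum_mult_deg (c1 i).isClassFunction (hk i) (n := charDegree (μ 1).1 ^ 2) (by
      simp [irr_one_eq, D.deg_exc_eq i, sq])]
    exact (sum_le_sum fun χ hχ => Nat.le_mul_of_pos_left _ (hi χ (mem_filter.1 hχ).1
      (mem_filter.1 hχ).2)).trans (sum_le_sum_of_subset (subset_univ _))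
  have h3 : ∀ χ ∈ N, (k 1 χ : ℤ) = k j⁻¹ χ + δ χ := fun χ hχ => by
    have := D1_trick D h1 hχ
    rw [hk, hk] at this
    exact_mod_cast this
  rcases hs with rfl | rfl
  · exact h2 1 fun χ hχ e => by have := h3 χ hχ; omega
  · exact h2 j⁻¹ fun χ hχ e => by have := h3 χ hχ; omega

theorem D1_split (D : D1 M h N δ ε μ) {S : Finset (IrrCharacter G)} (hS : S ⊆ N)
    (F : IrrCharacter G → ℤ) : ∑ χ ∈ S, δ χ * F χ =
      ∑ χ ∈ S.filter (δ · = 1), F χ - ∑ χ ∈ S.filter (δ · = -1), F χ := by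
  rw [sum_filter, sum_filter, ← sum_sub_distrib]
  exact sum_congr rfl fun χ hχ => by rcases D.δ_val χ (hS hχ) with e | e <;> simp [e]

theorem bt_key [IsSimpleGroup G] (hG : ¬ IsMulCommutative G) (D : D1 M h N δ ε μ)
    (ht : autSub h.ord ≠ ⊤) (hV : Vc p x = ⊥) {q : ℕ} [hq : Fact q.Prime] (qp : q ≠ p)
    {χ : IrrCharacter G} (hχ : χ ∈ N) (h1 : χ ≠ irrOne G) {c b : ℕ} (hd : charDegree χ.1 ∣ q ^ c)
    (hb : q ^ b ∣ Nat.card G) : q ^ b ≤ charDegree (μ 1).1 ^ 2 + charDegree (μ 1).1 := by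
  classical
  obtain ⟨M', hM'⟩ := exists_PMod q
  have h2 := bt_PB (M' := M') D (fun g hg => not_dvd_of_Vc h qp (by simp [hV, hq.out.ne_one]) hg) hb
  set S := N.filter (· ∈ PB M' G)
  have hS : S ⊆ N := filter_subset _ _
  have h3 : (p : ℤ) ∣ ∑ χ ∈ S, δ χ * charDegree χ.1 - S.card := by
    rw [card_eq_sum_ones, Nat.cast_sum, ← sum_sub_distrib]
    refine dvd_sum fun ψ hψ => ?_
    obtain ⟨m, hm, -⟩ := D.deg_N ψ (hS hψ)
    rw [hm]
    rcases D.δ_val ψ (hS hψ) with e | e <;> rw [e]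
    exacts [⟨m - 1, by push_cast; ring⟩, ⟨-(m + 1), by push_cast; ring⟩]
  have h4 : S.card < Nat.card (autSub h.ord) := D.card ▸ card_lt_card
    ⟨hS, fun e => not_PB_of_pow hG h1 hd (mem_filter.1 (e hχ)).2⟩
  have h5 : 0 < S.card := card_pos.2 ⟨_, mem_filter.2 ⟨D.one_mem, one_mem_PB q⟩⟩
  have h6 := Nat.le_of_dvd (by have := hp.out.two_le; omega) (card_autSub_dvd h.ord)
  have h7 : ∀ s, s = 1 ∨ s = -1 → ∑ χ ∈ S.filter (δ · = s), (charDegree χ.1 : ℤ) ≤
      charDegree (μ 1).1 ^ 2 := fun s hs => by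
    exact_mod_cast (sum_le_sum_of_subset (filter_subset_filter _ hS)).trans (D1_size D ht hs)
  have h8 : ∀ s, 0 ≤ ∑ χ ∈ S.filter (δ · = s), (charDegree χ.1 : ℤ) := fun s => by positivity
  have h9 := D1_split D hS fun χ => charDegree χ.1
  have := h7 1 (by simp)
  have := h7 (-1) (by simp)
  have := h8 1
  have := h8 (-1)
  obtain ⟨m, hm, -⟩ := D.deg_exc 1
  zify
  refine (Int.le_abs_of_dvd (fun e => ?_) h2).trans (abs_le.2 ?_)
  · rw [sub_eq_zero] at e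
    rw [e] at h3
    split_ifs at h3
    · have : (p : ℤ) ∣ Nat.card (autSub h.ord) - S.card := by
        obtain ⟨k, hk⟩ := h3
        rw [hm] at hk
        rcases D.ε_val with rfl | rfl
        exacts [⟨k - m, by linarith⟩, ⟨k + m, by linarith⟩]
      have := Int.le_of_dvd (by omega) this
      omega
    · have := Int.le_of_dvd (by omega) ((dvd_neg (b := (S.card : ℤ))).1 (by simpa using h3))
      omega
  · rcases D.ε_val with rfl | rfl <;> split_ifs <;> constructor <;> omega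

/-- counting in the tree -/
theorem D1_count [IsSimpleGroup G] (hG : ¬ IsMulCommutative G) (D : D1 M h N δ ε μ)
    (ht : autSub h.ord ≠ ⊤) : ∃ a c A C : ℤ, 0 ≤ a ∧ 0 ≤ c ∧ a + c + 1 = Nat.card (autSub h.ord) ∧
      Nat.card (autSub h.ord) + p * (A - C) = ε * charDegree (μ 1).1 ∧
      1 + a + p * A ≤ charDegree (μ 1).1 ^ 2 ∧ p * C - c ≤ charDegree (μ 1).1 ^ 2 ∧
      a ≤ A ∧ c ≤ C ∧
      ((∀ χ ∈ N, charDegree χ.1 ≠ p + 1) → 2 * a ≤ A) ∧
      ((∀ χ ∈ N, χ ≠ irrOne G → charDegree χ.1 + 1 ≠ p ∧ charDegree χ.1 + 1 ≠ 2 * p) → 3 * c ≤ C) := by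
  classical
  have p2 := hp.out.two_le
  choose! m hm hm' using D.deg_N
  have h0 := D.δ_one
  have h1 : irrOne G ∈ N.filter (δ · = 1) := mem_filter.2 ⟨D.one_mem, h0⟩
  have h2 : ∀ χ ∈ (N.filter (δ · = 1)).erase (irrOne G), χ ≠ irrOne G ∧ χ ∈ N ∧
      (charDegree χ.1 : ℤ) = 1 + p * (m χ - 1) ∧ 1 ≤ (m χ - 1 : ℤ) := fun χ hχ => by
    obtain ⟨a1, a2⟩ := mem_erase.1 hχ
    obtain ⟨a2, a3⟩ := mem_filter.1 a2
    have b1 := hm χ a2
    have b2 := hm' χ a2
    rw [a3] at b1 b2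
    refine ⟨a1, a2, b1, by_contra fun e => a1 (eq_irrOne_of_deg hG ?_)⟩
    rw [show (m χ : ℤ) - 1 = 0 by omega] at b1
    omega
  have h3 : ∀ χ ∈ N.filter (δ · = -1), χ ≠ irrOne G ∧ χ ∈ N ∧
      (charDegree χ.1 : ℤ) = -1 + p * (m χ + 1) := fun χ hχ => by
    obtain ⟨a2, a3⟩ := mem_filter.1 hχ
    exact ⟨by rintro rfl; omega, a2, by simpa [a3] using hm χ a2⟩
  have h4 := D1_size D ht (.inl rfl)
  have h5 := D1_size D ht (.inr rfl)
  have h6 := D1_split D Subset.rfl fun χ => charDegree χ.1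
  have h7 := D1_split D Subset.rfl δ
  rw [sum_congr rfl (g := fun _ => 1) fun χ hχ => by rcases D.δ_val χ hχ with e | e <;> simp [e],
    sum_congr rfl (g := fun _ => 1) fun χ hχ => (mem_filter.1 hχ).2,
    sum_congr rfl (g := fun _ => -1) fun χ hχ => (mem_filter.1 hχ).2, ← add_sum_erase _ _ h1] at h7
  zify at h4 h5
  rw [D.deg_eq 1] at h6
  rw [← add_sum_erase _ _ h1, sum_congr rfl fun χ hχ => (h2 χ hχ).2.2.1, deg_irrOne] at h4 h6
  rw [sum_congr rfl fun χ hχ => (h3 χ hχ).2.2] at h5 h6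
  simp only [sum_add_distrib (f := fun _ => (1 : ℤ)), sum_add_distrib (f := fun _ => (-1 : ℤ)),
    ← mul_sum, sum_const, D.card, nsmul_eq_mul] at h4 h5 h6 h7
  have h8 : ∀ (S : Finset (IrrCharacter G)) (k : ℤ) (F : IrrCharacter G → ℤ), (∀ χ ∈ S, k ≤ F χ) →
      k * S.card ≤ ∑ χ ∈ S, F χ := fun S k F H => by
    simpa [mul_comm] using card_nsmul_le_sum S F k H
  refine ⟨((N.filter (δ · = 1)).erase (irrOne G)).card, (N.filter (δ · = -1)).card,
    ∑ χ ∈ (N.filter (δ · = 1)).erase (irrOne G), (m χ - 1 : ℤ),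
    ∑ χ ∈ N.filter (δ · = -1), (m χ + 1 : ℤ), by positivity, by positivity, by linarith,
    by push_cast at h6; linarith, by push_cast at h4; linarith, by linarith,
    by simpa using h8 _ 1 _ fun χ hχ => (h2 χ hχ).2.2.2,
    by simpa using h8 _ 1 _ fun χ hχ => (by omega : (1 : ℤ) ≤ m χ + 1), fun H => h8 _ 2 _ fun χ hχ => ?_,
    fun H => h8 _ 3 _ fun χ hχ => ?_⟩
  · obtain ⟨-, a2, a3, a4⟩ := h2 χ hχ
    have := H χ a2
    by_contra e
    rw [show (m χ : ℤ) - 1 = 1 by omega] at a3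
    omega
  · obtain ⟨a1, a2, a3⟩ := h3 χ hχ
    have := H χ a2 a1
    by_contra e
    rcases (by omega : m χ = 0 ∨ m χ = 1) with e | e <;> rw [e] at a3 <;> omega

theorem pow_le_aux {p s b : ℕ} (h1 : 2 ^ b < (2 ^ s) ^ 2) (h2 : 2 ^ s ≤ p + 1)
    (h3 : ∀ r, b = s + r → p ∣ 2 ^ r - 1) : 2 ^ b ≤ 2 ^ s := by
  rw [← pow_mul, Nat.pow_lt_pow_iff_right (by norm_num)] at h1
  refine Nat.pow_le_pow_right two_pos (not_lt.1 fun e => ?_)
  obtain ⟨r, rfl⟩ := Nat.exists_eq_add_of_le e.le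
  have h4 : 2 ^ (r + 1) ≤ 2 ^ s := Nat.pow_le_pow_right two_pos (by omega)
  have h5 : 2 ^ 1 ≤ 2 ^ r := Nat.pow_le_pow_right two_pos (by omega)
  have := Nat.le_of_dvd (by omega) (h3 r rfl)
  omega

theorem ar1 {e p A a c : ℤ} (h0 : 2 ≤ e) (h1 : 3 * e + 1 ≤ p) (h2 : a ≤ A) (h3 : c ≤ A) (h4 : 0 ≤ a)
    (h5 : a + c + 1 = e) (h6 : 1 + a + p * A ≤ e ^ 2) : False := by nlinarith

theorem ar2 {e A a : ℤ} (h0 : 2 ≤ e) (h4 : 0 ≤ a) (h6 : 1 + a + (2 * e + 1) * A ≤ e ^ 2) :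
    2 * A < e := by nlinarith

theorem ar3 {e A a c : ℤ} (h0 : 4 ≤ e) (h1 : a ≤ A) (h2 : 3 * c ≤ A + 1) (h5 : a + c + 1 = e)
    (h6 : (2 * e + 1) * (A + 1) - c ≤ (e + 1) ^ 2) : False := by nlinarith

theorem ar4 {n f m : ℕ} (h : n ≤ f ^ 2 + f) (h1 : f < m) : n < m ^ 2 := by nlinarith

theorem ar5 {n e p : ℕ} (h : n ≤ p + 1) (h1 : e < p - 1) : n * e < p ^ 2 := by
  obtain ⟨k, rfl⟩ : ∃ k, p = e + 2 + k := ⟨p - e - 2, by omega⟩
  nlinarith

set_option maxHeartbeats 1600000 in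
theorem bt_main [IsSimpleGroup G] (hG : ¬ IsMulCommutative G) {q b g : ℕ} [hq : Fact q.Prime]
    (qp : q ≠ p) (hc : Nat.card G = p * (q ^ b * g)) (hg : g + 1 < p) (qg : ¬ q ∣ g) :
    Nat.card G < p ^ 3 ∧ ∃ m, p = 2 ^ m + 1 ∨ p = 2 ^ m - 1 := by
  classical
  have g0 : 0 < g := Nat.pos_of_ne_zero (by rintro rfl; simp at qg)
  have pg : ¬ p ∣ q ^ b * g := by
    rw [hp.out.dvd_mul, not_or]
    exact ⟨fun e => qp ((Nat.prime_dvd_prime_iff_eq hp.out hq.out).1 (hp.out.dvd_of_dvd_pow e)).symm,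
      fun e => by have := Nat.le_of_dvd g0 e; omega⟩
  obtain ⟨x, h⟩ := exists_syl1 (G := G) (p := p) ⟨_, hc⟩ fun e => pg
    (by rwa [hc, sq, Nat.mul_dvd_mul_iff_left hp.out.pos] at e)
  obtain ⟨M, hM⟩ := exists_PMod p
  obtain ⟨N, δ, ε, μ, D⟩ := h.exists_D1 (M := M)
  have i1 : (centralizer {x}).index ∣ q ^ b * g := by
    have := (centralizer ({x} : Set G)).card_mul_index
    rw [h.card_cent, hc, mul_assoc, Nat.mul_right_inj hp.out.ne_zero] at this
    exact Dvd.intro_left _ this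
  have i2 : ∀ d, d ∣ q ^ b * g → ¬ q ∣ d → d ∣ g := fun d h1 h2 =>
    ((hq.out.coprime_iff_not_dvd.2 h2).symm.pow_right b).dvd_of_dvd_mul_left h1
  have i3 : ∀ χ ∈ N, χ ≠ irrOne G → q ∣ charDegree χ.1 ∧ p ≤ charDegree χ.1 + 1 := fun χ hχ h1 => by
    obtain ⟨d, rfl, -, -, d1, d2⟩ := deg_N' hG D hχ h1
    have : p ≤ charDegree χ.1 + 1 := by
      rcases d2 with ⟨-, e⟩ | ⟨-, e, -⟩
      · by_contra e1
        rw [Nat.mod_eq_of_lt (by omega)] at e
        exact d1 e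
      · exact Nat.le_of_dvd (by omega) (Nat.dvd_of_mod_eq_zero e)
    exact ⟨by_contra fun e => by
      have := Nat.le_of_dvd g0 (i2 _ ((D.dvd_N hχ).trans i1) e); omega, this⟩
  set f := charDegree (μ 1).1 with hf
  set e := Nat.card (autSub h.ord) with he
  have i4 : ∀ k : ℕ, (∀ χ ∈ N, χ ≠ irrOne G → k ∣ charDegree χ.1) → (k : ℤ) ∣ ε * f - 1 :=
    fun k H => by
    rw [← D.deg_eq 1, ← add_sum_erase _ _ D.one_mem, D.δ_one, deg_irrOne]
    simpa using dvd_sum fun χ hχ => Dvd.dvd.mul_left (Int.natCast_dvd_natCast.2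
      (H χ (mem_erase.1 hχ).2 (mem_erase.1 hχ).1)) _
  have i5 := i4 q fun χ h1 h2 => (i3 χ h1 h2).1
  have i6 : f ∣ g := i2 _ ((D.dvd_exc 1).trans i1) fun e => hq.out.not_dvd_one (by
    have := (dvd_sub_right (Dvd.dvd.mul_left (Int.natCast_dvd_natCast.2 e) ε)).1 i5
    exact_mod_cast this)
  have i7 := Nat.le_of_dvd g0 i6
  have i8 : f ≠ 1 := fun e => D.ne_one 1 (eq_irrOne_of_deg hG e)
  have i9 : 2 ≤ e := D.two_le hG
  have et := e_mul_t h.ord
  obtain ⟨m, hm, hm'⟩ := D.deg_exc 1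
  rw [← hf, ← he] at hm
  rw [← he] at et
  have e1 : e < p := by
    have := Nat.le_mul_of_pos_right e (autSub h.ord).index_ne_zero_of_finite.bot_lt
    omega
  have j1 : ε = 1 ∧ f = e ∨ ε = -1 ∧ f + e = p := D.ε_val.imp (fun e => ⟨e, by
      rcases m with _ | m
      · simpa [e] using hm
      · subst e; push_cast at hm; nlinarith⟩) fun e => ⟨e, by
      subst e
      rcases m with _ | _ | m
      · omega
      · omega
      · push_cast at hm; nlinarith⟩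
  have ht : autSub h.ord ≠ ⊤ := fun e => by rw [index_eq_one.2 e] at et; omega
  have t2 : 2 * e + 1 ≤ p := by
    have := (autSub h.ord).index_ne_zero_of_finite
    have := mt index_eq_one.1 ht
    nlinarith [show 2 ≤ (autSub h.ord).index by omega]
  have hV : Vc p x = ⊥ := by
    rcases j1 with ⟨rfl, e⟩ | ⟨rfl, e⟩
    · exact h.Vc_eq_bot (D.exc_mem 1) (D.ne_one 1) (by rw [D.fm_exc, ← hf, e, ← he]; simp)
    · exact Vc_bot_tw D e
  obtain ⟨r, hr⟩ := h.exists_r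
  have j2 : e * (1 + r * p) = q ^ b * g := by
    have := h.card_eq
    rw [hV, card_bot, hc, mul_one, mul_assoc, Nat.mul_right_inj hp.out.ne_zero, hr] at this
    exact this.symm
  have p2 : p % 2 = 1 := hp.out.eq_two_or_odd.resolve_left (by omega)
  have j3 : ∀ {χ : IrrCharacter G}, χ ∈ N → charDegree χ.1 ∣ q ^ b → charDegree χ.1 ≠ 1 →
      q ^ b ≤ f ^ 2 + f := fun h1 h2 h3 =>
    bt_key hG D ht hV qp h1 (fun e => h3 (e ▸ deg_irrOne)) h2 ⟨p * g, by rw [hc]; ring⟩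
  have j4 : ∀ n, n ∣ q ^ b → 2 ∣ n → n ≠ 0 → q = 2 ∧ ∃ s, n = 2 ^ s := fun n h1 h2 h3 => by
    obtain rfl := (Nat.prime_dvd_prime_iff_eq Nat.prime_two hq.out).1
      (Nat.prime_two.dvd_of_dvd_pow (h2.trans h1))
    exact ⟨rfl, ((Nat.dvd_prime_pow Nat.prime_two).1 h1).imp fun _ h => h.2⟩
  obtain ⟨a, c, A, C, k1, k2, k3, k4, k5, k6, k7, k8, k9, k10⟩ := D1_count hG D ht
  rw [← he] at k3
  rw [← he, ← hf] at k4
  rw [← hf] at k5 k6
  rcases j1 with ⟨rfl, j1⟩ | ⟨rfl, j1⟩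
  · rw [j1] at k4 k5 i6 j3
    obtain rfl : A = C := by
      have : (p : ℤ) * (A - C) = 0 := by linarith
      exact sub_eq_zero.1 ((mul_eq_zero.1 this).resolve_left (by omega))
    have l1 : p = 2 * e + 1 := by
      by_contra l1
      have : 3 ≤ (autSub h.ord).index := by
        by_contra l2
        have : e * (autSub h.ord).index ≤ e * 2 := Nat.mul_le_mul_left _ (by omega)
        omega
      have := Nat.mul_le_mul_left e this
      exact ar1 (by omega) (by omega) k7 k8 k1 k3 k5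
    have l2 : 2 * A + 1 = e := by
      have : 2 * A < e := ar2 (by omega) k1 (by rw [l1] at k5; exact_mod_cast k5)
      omega
    obtain ⟨χ, hχ, l3⟩ : ∃ χ ∈ N, charDegree χ.1 = p + 1 := by
      by_contra! l3
      have := k9 l3
      omega
    obtain rfl : g = e := Nat.eq_of_dvd_of_lt_two_mul g0.ne' i6 (by omega)
    rw [mul_comm _ e, Nat.mul_right_inj (by omega)] at j2
    have l4 : charDegree χ.1 ∣ q ^ b := Nat.Coprime.dvd_of_dvd_mul_right (by
      rw [l3, l1, add_assoc, Nat.coprime_mul_right_add_left, Nat.coprime_two_left, Nat.odd_iff]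
      omega) ((D.dvd_N hχ).trans i1)
    obtain ⟨rfl, s, hs⟩ := j4 _ l4 (by omega) (by omega)
    have l6 := pow_le_aux (p := p) (s := s) (b := b) (ar4 (j3 hχ ‹_› (by omega)) (by omega)) (by omega) fun k hk => by
      rw [hk, pow_add, ← hs, l3] at j2
      exact (Nat.dvd_add_right (dvd_mul_right p (2 ^ k))).1 ⟨r, by
        have := Nat.one_le_two_pow (n := k); zify [this] at j2 ⊢; linarith⟩
    refine ⟨?_, s, .inr (by omega)⟩
    rw [hc, pow_succ' p 2, Nat.mul_lt_mul_left hp.out.pos]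
    exact ar5 (by omega) (by omega)
  obtain rfl : g = f := Nat.eq_of_dvd_of_lt_two_mul g0.ne' i6 (by omega)
  have l0 : e.Coprime f := by
    rw [← Nat.coprime_add_self_right, j1]
    exact (Nat.coprime_of_lt_prime (by omega) e1 hp.out).symm
  obtain ⟨_ | c', -, l1⟩ := (Nat.dvd_prime_pow hq.out).1
    (l0.dvd_of_dvd_mul_right (Dvd.intro _ j2))
  · rw [pow_zero] at l1
    omega
  have l2 : ∀ k : ℕ, k ∣ e → (k : ℤ) ∣ -1 * f - 1 → k ∣ 2 := fun k ⟨u, hu⟩ ⟨w, hw⟩ => by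
    zify at et j1 hu ⊢
    exact ⟨u - w - u * (autSub h.ord).index, by rw [hu] at et j1; linarith⟩
  obtain rfl := (Nat.prime_dvd_prime_iff_eq hq.out Nat.prime_two).1
    (l2 q (l1 ▸ dvd_pow_self q c'.succ_ne_zero) i5)
  have l3 : p ∣ 2 ^ b + 1 := (Nat.coprime_of_lt_prime (by omega) e1 hp.out).dvd_of_dvd_mul_left (by
    zify at j1 j2 ⊢
    exact ⟨2 ^ b - e * r, by rw [← j1] at j2 ⊢; linarith⟩)
  obtain ⟨χ, hχ, l4, l5⟩ : ∃ χ ∈ N, charDegree χ.1 + 1 = p ∧ (p - 1).Coprime f := by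
    rcases c' with _ | c'
    · obtain ⟨χ, hχ⟩ : ∃ χ, N.erase (irrOne G) = {χ} :=
        card_eq_one.1 (by rw [card_erase_of_mem D.one_mem, D.card, ← he, l1]; rfl)
      have h1 := D.deg_eq 1
      have h2 := mem_of_mem_erase (hχ.ge (mem_singleton_self χ))
      rw [← add_sum_erase _ _ D.one_mem, hχ, sum_singleton, D.δ_one, deg_irrOne, ← hf] at h1
      refine ⟨χ, h2, by rcases D.δ_val χ h2 with e | e <;> rw [e] at h1 <;> omega, ?_⟩
      rw [show p - 1 = 1 + f by omega]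
      simp
    have h4 : 4 ∣ e := ⟨2 ^ c', by rw [l1]; ring⟩
    obtain ⟨χ, hχ, h1, h2⟩ : ∃ χ ∈ N, χ ≠ irrOne G ∧ ¬ 4 ∣ charDegree χ.1 := by
      by_contra! H
      exact absurd (l2 4 h4 (i4 4 H)) (by norm_num)
    obtain ⟨⟨d, hd⟩, h3⟩ := i3 χ hχ h1
    have h5 : d ∣ f := i2 d ((Dvd.intro_left _ hd.symm).trans ((D.dvd_N hχ).trans i1)) (by omega)
    have h6 : f = d := Nat.eq_of_dvd_of_lt_two_mul g0.ne' h5 (by omega)
    have h7 : p = 2 * e + 1 := by
      obtain ⟨_, rfl, -, -, -, ⟨-, d2⟩ | ⟨-, d2, -⟩⟩ := deg_N' hG D hχ h1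
      · rw [show charDegree χ.1 = p - 2 * e + p by omega, Nat.add_mod_right,
          Nat.mod_eq_of_lt (by omega)] at d2
        omega
      · rw [show charDegree χ.1 + 1 = p - 2 * e + 1 + p by omega, Nat.add_mod_right,
          Nat.mod_eq_of_lt (by omega)] at d2
        omega
    by_contra! H
    have h8 : (p - 1).Coprime f := by
      rw [show p - 1 = 2 * e by omega]
      exact Nat.Coprime.mul_left (by rw [Nat.coprime_two_left, Nat.odd_iff]; omega) l0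
    have h9 := k10 fun ψ h1 h2 => ⟨fun e => H ψ h1 e h8, by have := (i3 ψ h1 h2).1; omega⟩
    obtain rfl : C = A + 1 := by
      have : (p : ℤ) * (A + 1 - C) = 0 := by zify at j1; linarith
      exact (sub_eq_zero.1 ((mul_eq_zero.1 this).resolve_left (by omega))).symm
    have := Nat.le_of_dvd (by omega) h4
    rw [show f = e + 1 by omega, h7] at k6
    exact ar3 (by omega) k7 h9 k3 (by exact_mod_cast k6)
  have l6 : charDegree χ.1 ∣ 2 ^ b := Nat.Coprime.dvd_of_dvd_mul_right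
    (by rwa [show charDegree χ.1 = p - 1 by omega]) ((D.dvd_N hχ).trans i1)
  obtain ⟨-, s, hs⟩ := j4 _ l6 (by omega) (by omega)
  have l8 := pow_le_aux (p := p) (s := s) (b := b) (ar4 (j3 hχ ‹_› (by omega)) (by omega)) (by omega) fun k hk => by
    rw [hk, pow_add, ← hs] at l3
    have := Nat.one_le_two_pow (n := k)
    exact (Nat.dvd_add_right l3).1 ⟨2 ^ k, by zify [this] at l4 ⊢; rw [← l4]; ring⟩
  refine ⟨?_, s, .inl (by omega)⟩
  rw [hc, pow_succ' p 2, Nat.mul_lt_mul_left hp.out.pos]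
  exact ar5 (by omega) (by omega)

theorem s0997 [IsSimpleGroup G] (hG : ¬ IsCyclic G) (p q b g₀ : ℕ) (hp : p.Prime) (hq : q.Prime)
    (hpq : p ≠ q) (hc : Nat.card G = p * q ^ b * g₀) (hg : g₀ < p - 1) :
    Nat.card G < p ^ 3 ∧ ∃ m, p = 2 ^ m + 1 ∨ p = 2 ^ m - 1 := by
  have := Fact.mk hp
  have := Fact.mk hq
  have g0 : g₀ ≠ 0 := by rintro rfl; simpa [hc] using Nat.card_pos (α := G)
  obtain ⟨k, g, h1, rfl⟩ := Nat.exists_eq_pow_mul_and_not_dvd g0 q hq.ne_one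
  have := Nat.le_mul_of_pos_left g (pow_pos hq.pos k)
  exact bt_main (b := b + k) (not_comm_of_not_cyclic hG) hpq.symm (by rw [hc]; ring) (by omega) h1

end Cfsg.Agent.H3
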