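import Cfsg.Agent.H3.Avg

/-! The principal block of a rational element generating a Sylow subgroup, with a sharper
Brauer–Tuan filter. -/

set_option autoImplicit false
set_option linter.unusedVariables false
set_option linter.unusedSectionVars false

namespace Cfsg.Agent.H3

open Finset Subgroup Equiv Cfsg.Agent.PLoc Cfsg.Agent.Char Cfsg.Agent.Blk Cfsg.Agent.Inv Cfsg.Agent.H9
  Cfsg.Agent.Gol
open scoped ComplexConjugate

universe u

def btU (q : ℕ) (L : List ℤ) : Bool := L.sublists.any fun S => (1 + S.sum) % q == 0 &&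
  S.all fun a => a.natAbs % q != 0 && (pm1 q a || 2 ≤ (L.map Int.natAbs).count a.natAbs)

variable {G : Type u} [Group G] [Finite G] {p : ℕ} [hp : Fact p.Prime] {x : G}

/-- the whole principal block `irrOne G :: m` and the column `w` of `x` -/
structure C1 (p : ℕ) (x : G) (m : List (IrrCharacter G)) (w : IrrCharacter G → ℤ) : Prop where
  nodup : (irrOne G :: m).Nodup
  len : m.length = p - 1
  val : ∀ χ ∈ m, (w χ = 1 ∨ w χ = -1) ∧ ∀ v ∈ Vc p x, χ.1 (x * v) = w χ
  sing : ∀ χ ∈ m, ∀ g, p ∣ orderOf g → χ.1 g = w χ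
  col : ∀ (χ : IrrCharacter G) g, orderOf g = p → χ.1 g = w χ
  reg : ∀ g, ¬ p ∣ orderOf g → 1 + (m.map fun χ => w χ * χ.1 g).sum = 0
  gal : ∀ χ ∈ m, ∀ σ : ℂ ≃+* ℂ, (⟨_, χ.2.map_ringHom σ⟩ : IrrCharacter G) ∈ m
  bt : ∀ q : ℕ, q.Prime → q ≠ p → ¬ q ∣ Nat.card (Vc p x) → q ∣ Nat.card G → ¬ q ^ 2 ∣ Nat.card G →
    btU q (m.map fun χ => w χ * charDegree χ.1) = true

variable [IsSimpleGroup G]

theorem exists_C1 (hG : ¬ IsMulCommutative G) {n : ℕ} (hn : Nat.card G = n) {Dv : List ℕ}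
    (hD : ∀ d, d ∣ n → d ∈ Dv) {Q R : ℕ → Bool}
    (hQ : ∀ χ : IrrCharacter G, χ ≠ irrOne G → Q (charDegree (χ : G → ℂ)) = true)
    (h : Syl1 p x) (hR : R (Nat.card (Vc p x)) = true) (he : Nat.card (autSub h.ord) + 1 = p) :
    ∃ m w L, C1 p x m w ∧ (m.map fun χ => w χ * charDegree χ.1) = -(1 + L.sum) :: L ∧
      (Nat.card (Vc p x), Nat.card (autSub h.ord), (Nx x).index, L) ∈ trees2 n p Dv Q R := by
  classical
  obtain ⟨M, hM⟩ := exists_PMod p
  obtain ⟨N, δ, ε, μ, D⟩ := h.exists_D1 (M := M)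
  obtain ⟨L, h1, h2, hL⟩ := tree_mem2 hG hn hD hQ hR D
  obtain ⟨l, l1, l2, rfl⟩ := exists_list h1
  have l3 : ∀ χ, χ ∈ l ↔ χ ≠ irrOne G ∧ χ ∈ N := fun χ => by
    rw [← List.mem_toFinset, l2, mem_erase]
  have ht : autSub h.ord = ⊤ := eq_top_of_card_eq _ (by
    rw [Nat.card_eq_fintype_card (α := (ZMod p)ˣ), ZMod.card_units]; omega)
  choose w hw using fun χ : IrrCharacter G => χ.2.isGen.exists_int_of_pow x fun m hm =>
    (χ.2.isClassFunction.of_isConj (conj_of_ord h he (by rw [hm.symm.orderOf_pow, h.ord]))).symm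
  have s1 : ∀ (χ : IrrCharacter G) g, orderOf g = p → χ.1 g = w χ := fun χ g hg => by
    rw [← χ.2.isClassFunction.of_isConj (conj_of_ord h he hg), hw]
  have nd : (irrOne G :: μ 1 :: l).Nodup := by simp [l1, l3, (D.ne_one _).symm, D.exc_not]
  have l6 : ∀ χ, χ ∈ irrOne G :: μ 1 :: l ↔ χ ∈ PB M G := fun χ => by
    simp only [List.mem_cons, l3]
    refine ⟨?_, fun e => ?_⟩
    · rintro (rfl | rfl | e)
      exacts [one_mem_PB p, D.exc_mem 1, D.sub e.2]
    · rcases D.cases χ e with e | ⟨j, rfl⟩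
      · tauto
      · exact .inr (.inl ((D.exc_eq _ _).2 (ht ▸ mem_top _)))
  have l7 : PB M G = (irrOne G :: μ 1 :: l).toFinset := Finset.ext fun χ => by
    rw [List.mem_toFinset, l6]
  have w1 : w (irrOne G) = 1 := Int.cast_injective (α := ℂ) ((hw _).symm.trans Int.cast_one.symm)
  have rg : ∀ g, ¬ p ∣ orderOf g → 1 + ((μ 1 :: l).map fun χ => w χ * χ.1 g).sum = 0 := fun g hg => by
    have := PB_reg (M := M) hg h.ord.symm.dvd
    rw [l7, List.sum_toFinset _ nd] at this
    simpa [hw, mul_comm, w1] using this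
  have wN : ∀ χ ∈ l, w χ = δ χ := fun χ hχ => Int.cast_injective (α := ℂ)
    ((s1 χ _ (orderOf_pw h.ord one_ne_zero)).symm.trans (D.apply_N χ ((l3 χ).1 hχ).2 1 one_ne_zero))
  have wL : (l.map fun χ => w χ * charDegree χ.1) = l.map fun χ => δ χ * charDegree χ.1 :=
    List.map_congr_left fun χ hχ => by rw [wN χ hχ]
  have vl : ∀ χ ∈ μ 1 :: l, (w χ = 1 ∨ w χ = -1) ∧ ∀ v ∈ Vc p x, χ.1 (x * v) = w χ := fun χ hχ =>
    ⟨h.const_val ((l6 χ).1 (.tail _ hχ)) fun i hi => s1 χ _ (orderOf_pw h.ord hi), fun v hv => by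
      rw [h.PB_const ((l6 χ).1 (.tail _ hχ)) (mem_zpowers x) h.ne_one hv, hw]⟩
  have gl : ∀ χ ∈ μ 1 :: l, ∀ σ : ℂ ≃+* ℂ, (⟨_, χ.2.map_ringHom σ⟩ : IrrCharacter G) ∈ μ 1 :: l :=
    fun χ hχ σ => (List.mem_cons.1 ((l6 _).2 (PB_gal σ ((l6 χ).1 (.tail _ hχ))))).resolve_left
      fun e => (List.nodup_cons.1 nd).1 (by
        have a1 : charDegree (fun g => σ (χ.1 g)) = charDegree χ.1 :=
          charDegree_eq (by simp [irr_one_eq])
        exact eq_irrOne_of_deg hG (a1.symm.trans ((congrArg (charDegree ·.1) e).trans deg_irrOne)) ▸ hχ)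
  refine ⟨μ 1 :: l, w, _, ⟨nd, ?_, vl, fun χ hχ g hg => ?_, s1, rg, gl,
    fun q hq qp h3 h4 h5 => ?_⟩, ?_, hL⟩
  · have := congrArg Finset.card l2
    rw [List.toFinset_card_of_nodup l1, card_erase_of_mem D.one_mem, D.card] at this
    have := h.two_le hG
    rw [List.length_cons]
    omega
  · obtain ⟨i, i0, v, hv, e⟩ := h.exists_conj hg
    rw [χ.2.isClassFunction.of_isConj e, h.PB_const ((l6 χ).1 (.tail _ hχ)) (pw_mem i)
      (fun e => i0 ((pw_eq_one h.ord).1 e)) hv, s1 χ _ (orderOf_pw h.ord i0)]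
  · have : Fact q.Prime := ⟨hq⟩
    obtain ⟨M', hM'⟩ := exists_PMod q
    obtain ⟨y, h'⟩ := exists_syl1 h4 h5
    obtain ⟨N', δ', ε', μ', D'⟩ := h'.exists_D1 (M := M')
    have a0 : ∀ {A : Type} [CommRing A] (F : IrrCharacter G → A), F (irrOne G) = 1 →
        ∑ χ ∈ (PB M G).filter (· ∈ principalBlock M' G), F χ =
        1 + (((μ 1 :: l).filter (· ∈ PB M' G)).map F).sum := fun F hF => by
      rw [← hF, ← List.sum_cons, ← List.map_cons, ← List.sum_toFinset _ (nd.sublist
        (List.filter_sublist.cons_cons _))]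
      refine sum_congr (Finset.ext fun χ => ?_) fun _ _ => rfl
      rw [mem_filter, ← l6, ← mem_PB, List.mem_toFinset, List.mem_cons, List.mem_cons (b := irrOne G),
        List.mem_filter, decide_eq_true_eq]
      have := one_mem_PB (M := M') (G := G) q
      constructor
      · tauto
      · rintro (rfl | e) <;> tauto
    have a1 := card_dvd_of_vanish (θ := ∑ χ ∈ (PB M G).filter (· ∈ principalBlock M' G),
      (w χ : ℂ) • (χ : G → ℂ)) (isGen_sum _ _ fun χ _ => χ.2.isGen.intCast_smul _) (zpowers y)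
      (n := ∑ χ ∈ (PB M G).filter (· ∈ principalBlock M' G), w χ * charDegree χ.1) (fun g hg g1 => by
        have := bt (M := M) (M' := M') (fS_mem_ZR (isPBlock_principal (M := M') (G := G))).1
          (fun g => not_dvd_of_Vc h qp h3) h.ord.symm.dvd (y := g⁻¹) (by
            obtain ⟨i, rfl⟩ := exists_pw h'.ord hg
            rw [orderOf_inv, orderOf_pw h'.ord (i := i) fun e => g1 (by rw [e, pw_zero])])
        simpa [hw, fun χ : IrrCharacter G => χ.2.isCharacter.apply_inv g] using this)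
      (by simp [irr_one_eq])
    rw [Nat.card_zpowers, h'.ord, a0 _ (by rw [w1, deg_irrOne]; rfl)] at a1
    simp only [btU, List.any_eq_true, List.mem_sublists, Bool.and_eq_true, List.all_eq_true,
      Bool.or_eq_true, beq_iff_eq, bne_iff_ne, decide_eq_true_eq]
    refine ⟨_, (List.filter_sublist (p := (· ∈ PB M' G))).map _, Int.emod_eq_zero_of_dvd a1, ?_⟩
    simp only [List.forall_mem_map]
    intro χ hχ
    obtain ⟨b1, b2⟩ := List.mem_filter.1 hχ
    replace b2 := of_decide_eq_true b2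
    rw [pm1, natAbs_sign (vl χ b1).1]
    refine ⟨mt Nat.dvd_of_mod_eq_zero (h'.PB_not_dvd b2), ?_⟩
    rcases D'.cases χ b2 with e | ⟨j, rfl⟩
    · obtain ⟨d, rfl, -, -, -, e | e⟩ := deg_N' hG D' e (fun e => (List.nodup_cons.1 nd).1 (e ▸ b1))
        <;> simp [e]
    by_cases b3 : ∀ k, μ' k = μ' j
    · left
      have b4 : autSub h'.ord = ⊤ := eq_top_iff.2 fun k _ => by
        simpa using (D'.exc_eq (k * j) j).1 (b3 _)
      obtain ⟨k, b5, -⟩ := D'.deg_exc j
      rw [b4, card_top, Nat.card_eq_fintype_card, ZMod.card_units, Nat.cast_pred hq.pos] at b5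
      simp only [Bool.or_eq_true, beq_iff_eq]
      rcases D'.ε_val with rfl | rfl
      · exact .inr (Nat.mod_eq_zero_of_dvd (Int.natCast_dvd_natCast.1 ⟨k + 1, by
          push_cast; linear_combination b5⟩))
      · left
        have : ((charDegree (μ' j).1 % q : ℕ) : ℤ) = 1 := by
          rw [Int.natCast_mod, b5, show -1 * ((q : ℤ) - 1) + q * k = 1 + q * (k - 1) by ring,
            Int.add_mul_emod_self_left, Int.emod_eq_of_lt (by omega) (by exact_mod_cast hq.one_lt)]
        exact_mod_cast this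
    · right
      obtain ⟨k, b4⟩ := not_forall.1 b3
      obtain ⟨σ, c1⟩ := exc_gal D' j
      obtain ⟨τ, c2⟩ := exc_gal D' k
      have c3 : μ' k ∈ μ 1 :: l := by
        have := gl _ b1 (σ.symm.trans τ)
        convert this using 1
        exact Subtype.ext (funext fun g => by simp [c1, c2])
      rw [List.map_map, List.map_congr_left (g := fun χ => charDegree χ.1) fun χ hχ => by
        simp only [Function.comp, natAbs_sign (vl χ hχ).1], List.count_eq_countP, List.countP_map,
        List.countP_eq_length_filter]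
      have c4 : [μ' k, μ' j].Nodup := by simpa using b4
      refine (List.subperm_of_subset c4 fun ψ hψ => ?_).length_le
      simp only [List.mem_cons, List.not_mem_nil, or_false] at hψ
      rcases hψ with rfl | rfl
      · exact List.mem_filter.2 ⟨c3, by simp [D'.deg_exc_eq]⟩
      · exact List.mem_filter.2 ⟨b1, by simp⟩
  · have := rg 1 (by simpa using hp.out.ne_one)
    rw [List.map_cons, wL]
    congr 1
    apply Int.cast_injective (α := ℂ)
    rw [← wL]
    simp only [irr_one_eq, List.map_cons, List.sum_cons] at this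
    push_cast [List.map_map, Function.comp_def]
    linear_combination this

end Cfsg.Agent.H3
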