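import Cfsg.Agent.H3.Fx

/-! Search for the column of an involution in the character table. -/

set_option autoImplicit false
set_option linter.unusedVariables false
set_option linter.unusedSectionVars false

namespace Cfsg.Agent.H3

open Finset Subgroup Cfsg.Agent.PLoc Cfsg.Agent.Char Cfsg.Agent.Blk Cfsg.Agent.Inv Cfsg.Agent.H9
  Cfsg.Agent.Gol
open scoped ComplexConjugate

universe u

noncomputable section

def forceL {β : Type} (l : List ℤ) : (List ℤ → β) → β :=
  List.rec (fun k => k []) (fun a _ ih k => forceI a fun a => ih fun l => k (a :: l)) l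

theorem forceL_eq {β : Type} (l : List ℤ) (k : List ℤ → β) : forceL l k = k l := by
  induction l generalizing k with
  | nil => rfl
  | cons a l ih => exact (forceI_eq a fun a => forceL l fun l => k (a :: l)).trans (ih _)

def forceS {α β : Type} (l : List α) : (List α → β) → β :=
  List.rec (fun k => k []) (fun a _ ih k => ih fun l => k (a :: l)) l

theorem forceS_eq {α β : Type} (l : List α) (k : List α → β) : forceS l k = k l := by
  induction l generalizing k with
  | nil => rfl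
  | cons a l ih => exact ih _

def lfil {α : Type} (p : α → Bool) (l : List α) : List α :=
  List.rec [] (fun a _ ih => bif' (p a) (a :: ih) ih) l

theorem mem_lfil {α : Type} {p : α → Bool} {l : List α} {a : α} (h : a ∈ l) (hp : p a = true) :
    a ∈ lfil p l := by
  induction l with
  | nil => simp at h
  | cons b l ih =>
    show a ∈ bif' (p b) (b :: lfil p l) (lfil p l)
    rcases List.mem_cons.1 h with rfl | h
    · simp [hp]
    · cases p b <;> simp [ih h]

def nfil (f : ℕ → ℤ) (p : ℤ → Bool) (N : ℕ) : List ℤ :=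
  Nat.rec [] (fun j ih => forceI (f j) fun a => bif' (p a) (a :: ih) ih) N

theorem mem_nfil {f : ℕ → ℤ} {p : ℤ → Bool} {N j : ℕ} (h : j < N) (hp : p (f j) = true) :
    f j ∈ nfil f p N := by
  induction N with
  | zero => simp at h
  | succ N ih =>
    show _ ∈ forceI (f N) fun a => bif' (p a) (a :: nfil f p N) (nfil f p N)
    rw [forceI_eq]
    rcases Nat.lt_succ_iff_lt_or_eq.1 h with h | rfl
    · cases p (f N) <;> simp [ih h]
    · simp [hp]

/-- the candidates for a character value -/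
def opt (K m b d : ℕ) : List ℤ := force (Nat.lcm m (d / Nat.gcd d K)) fun L =>
  force (min d (2 ^ (b.log2 / 2 + 1)) / L + 1) fun J => force (d % L) fun r =>
    nfil (fun j => Int.subNatNat (r + L * j) (L * J))
      (fun a => bif' (Nat.blt a.natAbs d) (Nat.ble (a.natAbs * a.natAbs) b) false) (2 * J + 1)

theorem mem_opt {K m b d : ℕ} (m0 : 0 < m) {a : ℤ} (h1 : (m : ℤ) ∣ d - a) (h2 : (d : ℤ) ∣ K * a)
    (h3 : a.natAbs < d) (h4 : a.natAbs * a.natAbs ≤ b) : a ∈ opt K m b d := by
  have d0 : 0 < d := by omega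
  have g0 := Nat.gcd_pos_of_pos_left K d0
  have a1 : ((d / Nat.gcd d K : ℕ) : ℤ) ∣ d - a := by
    refine dvd_sub (Int.natCast_dvd_natCast.2 (Nat.div_dvd_of_dvd (Nat.gcd_dvd_left _ _)))
      (Int.natCast_dvd.2 ((Nat.coprime_div_gcd_div_gcd g0).dvd_of_dvd_mul_left
        (Nat.dvd_of_mul_dvd_mul_left g0 ?_)))
    rw [← mul_assoc, Nat.mul_div_cancel' (Nat.gcd_dvd_left _ _),
      Nat.mul_div_cancel' (Nat.gcd_dvd_right _ _)]
    simpa [Int.natAbs_mul] using Int.natAbs_dvd_natAbs.2 h2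
  obtain ⟨k, hk⟩ : ((Nat.lcm m (d / Nat.gcd d K) : ℕ) : ℤ) ∣ d - a :=
    Int.natCast_dvd.2 (Nat.lcm_dvd (Int.natCast_dvd.1 h1) (Int.natCast_dvd.1 a1))
  have L0 : 0 < Nat.lcm m (d / Nat.gcd d K) :=
    Nat.lcm_pos m0 (Nat.div_pos (Nat.gcd_le_left _ d0) g0)
  have a2 : a.natAbs < min d (2 ^ (b.log2 / 2 + 1)) := lt_min h3 (Nat.mul_self_lt_mul_self_iff.1
    (h4.trans_lt (Nat.lt_log2_self.trans_le (by
      rw [← pow_add]; exact Nat.pow_le_pow_right two_pos (by omega)))))
  simp only [opt, force_eq]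
  generalize Nat.lcm m (d / Nat.gcd d K) = L at *
  generalize min d (2 ^ (b.log2 / 2 + 1)) = B at *
  have a3 := Nat.div_add_mod d L
  have a4 := Nat.mod_lt d L0
  have a5 := Nat.lt_mul_div_succ B L0
  generalize B / L + 1 = J at *
  have a6 : ∃ j < 2 * J + 1, a = Int.subNatNat (d % L + L * j) (L * J) := by
    have b1 : a = (d % L : ℕ) + L * ((d / L : ℕ) - k) := by
      rw [mul_sub, ← hk, ← Nat.cast_mul]
      omega
    generalize ((d / L : ℕ) - k : ℤ) = i at b1
    have b2 : -J ≤ i ∧ i ≤ J := by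
      zify at a5 L0
      constructor <;> by_contra <;> nlinarith [neg_abs_le a, le_abs_self a,
        show |a| < B by rw [← Int.natCast_natAbs]; omega, Nat.cast_nonneg (α := ℤ) (d % L),
        show ((d % L : ℕ) : ℤ) < L by exact_mod_cast a4]
    refine ⟨(i + J).toNat, by omega, ?_⟩
    rw [Int.subNatNat_eq_coe, b1]
    push_cast
    rw [Int.toNat_of_nonneg (by omega)]
    ring
  obtain ⟨j, j1, rfl⟩ := a6
  exact mem_nfil j1 (by rw [Nat.blt_eq.mpr h3, bif'_true, Nat.ble_eq.mpr h4])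

/-- attach weights and candidate values to a list of signed degrees -/
def ann {β : Type} (w : ℤ → ℕ) (f : ℤ → List ℤ) (z : β) (M : List ℤ) :
    (List (ℤ × ℕ × List ℤ) → β) → β :=
  List.rec (fun k => k []) (fun d _ ih k => forceL (f d) fun O => bif' O.isEmpty z
    (force (w d) fun x => ih fun E => k ((d, x, O) :: E))) M

theorem ann_cons {β : Type} (w : ℤ → ℕ) (f : ℤ → List ℤ) (z : β) (d : ℤ) (M : List ℤ)
    (k : List (ℤ × ℕ × List ℤ) → β) : ann w f z (d :: M) k = bif' (f d).isEmpty z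
      (ann w f z M fun E => k ((d, w d, f d) :: E)) :=
  (forceL_eq _ _).trans (congrArg _ (force_eq _ _))

theorem ann_eq {β : Type} {w : ℤ → ℕ} {f : ℤ → List ℤ} {z : β} {M : List ℤ} (h : ∀ d ∈ M, f d ≠ [])
    (k : List (ℤ × ℕ × List ℤ) → β) : ann w f z M k = k (M.map fun d => (d, w d, f d)) := by
  induction M generalizing k with
  | nil => rfl
  | cons d M ih =>
    rw [ann_cons, List.isEmpty_eq_false_iff.2 (h d (by simp)), bif'_false]
    exact ih (fun d hd => h d (by simp [hd])) _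

def colF {β : Type} (leaf : ℕ → List (ℤ × ℤ) → β → β) :
    List (ℤ × ℕ × List ℤ) → ℕ → ℤ → List (ℤ × ℤ) → β → β
  | [], _, _, _, r => r
  | [e], b, l, A, r => forceI (-(e.1.sign * l)) fun a => bif' (lany (· == a) e.2.2)
      (force (e.2.1 * (a.natAbs * a.natAbs)) fun z => bif' (Nat.ble z b)
        (force (b - z) fun b => leaf b ((e.1, a) :: A) r) r) r
  | e :: E, b, l, A, r => forceI e.1 fun d => List.rec r (fun a _ ih =>
      force (e.2.1 * (a.natAbs * a.natAbs)) fun z => bif' (Nat.ble z b) (force (b - z) fun b =>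
        forceI (l + d.sign * a) fun l => colF leaf E b l ((d, a) :: A) ih) ih) e.2.2

section
variable {β : Type} {leaf : ℕ → List (ℤ × ℤ) → β → β} {P : β → Prop}
  (hP : ∀ b A r, P r → P (leaf b A r))
include hP

theorem colF_mono (E : List (ℤ × ℕ × List ℤ)) {b : ℕ} {l : ℤ} {A : List (ℤ × ℤ)} {r : β} (h : P r) :
    P (colF leaf E b l A r) := by
  induction E generalizing b l A r with
  | nil => exact h
  | cons e E ih =>
    cases E with
    | nil =>
      simp only [colF, forceI_eq, force_eq, bif'_eq]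
      split_ifs
      exacts [hP _ _ _ h, h, h]
    | cons e' E =>
      simp only [colF, forceI_eq, force_eq, bif'_eq]
      induction e.2.2 with
      | nil => exact h
      | cons a O ih' =>
        dsimp only
        split_ifs
        exacts [ih ih', ih']

theorem colF_sound {w : ℤ → ℕ} {f : ℤ → List ℤ} (E : List (ℤ × ℤ)) (h0 : E ≠ [])
    (hE : ∀ e ∈ E, e.1 ≠ 0 ∧ e.2 ∈ f e.1) {b b' : ℕ} {l : ℤ} {A : List (ℤ × ℤ)}
    (h1 : l + (E.map fun e => e.1.sign * e.2).sum = 0)
    (h2 : b = b' + (E.map fun e => w e.1 * (e.2.natAbs * e.2.natAbs)).sum)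
    (h3 : ∀ r, P (leaf b' (E.reverse ++ A) r)) (r : β) :
    P (colF leaf (E.map fun e => (e.1, w e.1, f e.1)) b l A r) := by
  induction E generalizing b l A r with
  | nil => exact absurd rfl h0
  | cons e E ih =>
    obtain ⟨a1, a2⟩ := hE e (by simp)
    rw [List.map_cons, List.sum_cons] at h1 h2
    cases E with
    | nil =>
      have : -(e.1.sign * l) = e.2 := by
        rw [show l = -(e.1.sign * e.2) by simpa [add_eq_zero_iff_eq_neg] using h1]
        rcases lt_or_gt_of_ne a1 with e | e <;> simp [Int.sign_eq_neg_one_of_neg, e,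
          Int.sign_eq_one_of_pos]
      simp only [List.map_cons, List.map_nil, colF, forceI_eq, force_eq, this]
      rw [(lany_iff (p := (· == e.2))).2 ⟨_, a2, beq_self_eq_true _⟩, bif'_true,
        Nat.ble_eq.mpr (by omega), bif'_true]
      simpa [h2] using h3 r
    | cons e' E =>
      rw [List.map_cons, List.map_cons, colF, ← List.map_cons (f := fun e : ℤ × ℤ => (e.1, w e.1, f e.1))]
      · simp only [forceI_eq, force_eq]
        generalize f e.1 = O at a2
        induction O with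
        | nil => simp at a2
        | cons a O ih' =>
          dsimp only
          rcases List.mem_cons.1 a2 with rfl | a3
          · rw [Nat.ble_eq.mpr (by omega), bif'_true]
            exact ih (by simp) (fun e he => hE e (.tail _ he)) (by omega) (by omega)
              (by simpa using h3) _
          · rw [bif'_eq]
            split_ifs
            exacts [colF_mono hP _ (ih' a3), ih' a3]
      · simp

theorem ann_mono {w : ℤ → ℕ} {f : ℤ → List ℤ} (M : List ℤ) {b : ℕ} {r : β} (h : P r) :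
    P (ann w f r M fun E => colF leaf E b 1 [] r) := by
  have : ∀ k, (∀ E, P (k E)) → P (ann w f r M k) := by
    induction M with
    | nil => exact fun k hk => hk _
    | cons d M ih =>
      intro k hk
      rw [ann_cons, bif'_eq]
      split_ifs
      exacts [h, ih _ fun E => hk _]
  exact this _ fun E => colF_mono hP E h

theorem ann_sound {w : ℤ → ℕ} {f : ℤ → List ℤ} (E : List (ℤ × ℤ)) (h0 : E ≠ [])
    (hE : ∀ e ∈ E, e.1 ≠ 0 ∧ e.2 ∈ f e.1) {b b' : ℕ}
    (h1 : 1 + (E.map fun e => e.1.sign * e.2).sum = 0)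
    (h2 : b = b' + (E.map fun e => w e.1 * (e.2.natAbs * e.2.natAbs)).sum)
    (h3 : ∀ r, P (leaf b' E.reverse r)) (r : β) :
    P (ann w f r (E.map (·.1)) fun E => colF leaf E b 1 [] r) := by
  rw [ann_eq (by
    simp only [List.forall_mem_map]
    exact fun e he => List.ne_nil_of_mem (hE e he).2), List.map_map]
  exact colF_sound hP E h0 hE h1 h2 (by simpa using h3) r

end

def qs (n : ℕ) (A : List (ℤ × ℤ)) : ℤ := List.rec n (fun e _ ih => ih + e.2 * e.2 * ((n : ℤ) / e.1)) A

theorem qs_eq (n : ℕ) (A : List (ℤ × ℤ)) :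
    qs n A = n + (A.map fun e => e.2 * e.2 * ((n : ℤ) / e.1)).sum := by
  induction A with
  | nil => simp [qs]
  | cons e A ih =>
    rw [List.map_cons, List.sum_cons, add_left_comm, add_comm, ← ih]
    rfl

/-- the columns on a block of a non-real element -/
def cols (n : ℕ) (M : List ℤ) (C : List ℕ) : List (ℕ × ℕ × List (ℤ × ℤ)) :=
  List.rec [] (fun c _ ih => force (n / c) fun K => force (c - 1) fun b =>
    ann (fun _ => 1) (fun d => opt K 4 b d.natAbs) ih M fun E =>
      colF (fun b A r => bif' (qs n A == 0) ((c, b, A) :: r) r) E b 1 [] ih) C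

theorem mem_cols {n c b : ℕ} {C : List ℕ} (hc : c ∈ C) {E : List (ℤ × ℤ)} (h0 : E ≠ [])
    (hE : ∀ e ∈ E, e.1 ≠ 0 ∧ e.2 ∈ opt (n / c) 4 (c - 1) e.1.natAbs)
    (h1 : 1 + (E.map fun e => e.1.sign * e.2).sum = 0)
    (h2 : c - 1 = b + (E.map fun e => 1 * (e.2.natAbs * e.2.natAbs)).sum)
    (h3 : qs n E.reverse = 0) : (c, b, E.reverse) ∈ cols n (E.map (·.1)) C := by
  have hP : ∀ (c' b' : ℕ) A r, (c, b, E.reverse) ∈ r →
      (c, b, E.reverse) ∈ bif' (qs n A == 0) ((c', b', A) :: r) r := fun c' b' A r h => by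
    cases qs n A == 0 <;> simp [h]
  induction C with
  | nil => simp at hc
  | cons c' C ih =>
    show _ ∈ force (n / c') fun K => force (c' - 1) fun b => ann _ (fun d => opt K 4 b d.natAbs)
      (cols n _ C) _ fun E => colF (fun b A r => bif' (qs n A == 0) ((c', b, A) :: r) r) E b 1 [] (cols n _ C)
    rw [force_eq, force_eq]
    rcases List.mem_cons.1 hc with rfl | hc
    · exact ann_sound (P := ((c, b, E.reverse) ∈ ·)) (hP c) E h0 hE h1 h2 (by simp [h3]) _
    · exact ann_mono (P := ((c, b, E.reverse) ∈ ·)) (hP c') _ (ih hc)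

def sqT (X : ℤ) (c : ℕ) : Bool := force X.natAbs fun Y => bif' (Nat.beq (Y % (c * c)) 0)
  (bif' (X < 0) false (force (Y / (c * c)) fun Y => bif' (Nat.ble 90000 Y) true
    (nany (fun j => Nat.beq (j * j) Y) 300))) false

theorem sqT_sq (c j : ℕ) (c0 : 0 < c) : sqT ((c * j : ℕ) ^ 2) c = true := by
  have : (c * j) ^ 2 = c * c * (j * j) := by ring
  simp only [sqT, force_eq, Int.natAbs_pow, Int.natAbs_natCast, this, Nat.mul_mod_right,
    Nat.mul_div_cancel_left _ (Nat.mul_pos c0 c0), bif'_eq, Nat.beq_eq, if_true, decide_eq_true_eq,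
    if_neg (sq_nonneg _).not_gt, Nat.ble_eq]
  split_ifs with h
  exacts [rfl, nany_iff.2 ⟨j, Nat.mul_self_lt_mul_self_iff.1 (not_le.1 h), Nat.beq_refl _⟩]

/-- the values with a given degree -/
def kn (m : ℕ) (d : ℤ) (A : List (ℤ × ℤ)) : List ℤ := List.rec [] (fun e _ ih =>
  bif' (bif' (Nat.beq e.1.natAbs d.natAbs) ((d.natAbs - e.2) % m == 0) false) (e.2 :: ih) ih) A

theorem mem_kn {m : ℕ} {d : ℤ} {A : List (ℤ × ℤ)} {e : ℤ × ℤ} (h : e ∈ A) (h1 : e.1.natAbs = d.natAbs)
    (h2 : (m : ℤ) ∣ d.natAbs - e.2) : e.2 ∈ kn m d A := by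
  induction A with
  | nil => simp at h
  | cons e' A ih =>
    show _ ∈ bif' _ (_ :: kn m d A) (kn m d A)
    rcases List.mem_cons.1 h with rfl | h
    · rw [h1, Int.emod_eq_zero_of_dvd h2]
      simp
    · rw [bif'_eq]
      split_ifs
      exacts [.tail _ (ih h), ih h]

/-- a column on a second block -/
def jc (n q p : ℕ) (U : ℕ × ℕ × List ℤ) (x : ℕ × ℕ × List (ℤ × ℤ)) (k : List (ℤ × ℤ) → Bool) : Bool :=
  force (bif' (Nat.beq (x.1 % p) 0) (4 * p) 4) fun m => force (n / x.1) fun K =>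
    ann (fun d => bif' (Nat.beq (d.natAbs % q) 0) 1 0)
      (fun d => bif' (Nat.beq (d.natAbs % q) 0) (opt K m x.2.1 d.natAbs) (kn m d x.2.2)) false U.2.2
      fun E => colF (fun _ B r => forceI (qs n B) fun s => bif' (bif' (bif' (Nat.beq (U.2.1 % 2) 0)
        (sqT ((p * U.1 : ℕ) * s) x.1) (s == 0)) (k B) false) true r) E x.2.1 1 [] false

def okc (p : ℕ) (U : ℕ × ℕ × List ℤ) (c : ℕ) : Bool := bif' (Nat.beq (c % p) 0)
  (bif' (Nat.beq (U.1 % 4) 0) (nany (fun i => force (4 * p * i) fun k => bif' (Nat.beq (c % k) 0)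
    (bif' (Nat.beq (c / k % p) 1) (Nat.beq (p * U.1 * U.2.1 % k) 0) false) false) (U.1 * U.2.1 / 4 + 1))
    (Nat.beq (U.1 % 2) 0)) true

def cmp (p v : ℕ) (A B : List (ℤ × ℤ)) : Bool := bif' (Nat.beq v 1) (lall (fun e =>
  bif' (Nat.beq (e.1.natAbs % p) 0) true
    (lany (fun f => bif' (Nat.beq e.1.natAbs f.1.natAbs) (e.2 == f.2) false) B)) A) true

def cmpD (p v : ℕ) (A B : List ℤ) : Bool := cmp p v (A.map (·, 0)) (B.map (·, 0))

def tri (n q p r : ℕ) (U W : ℕ × ℕ × List ℤ) (k : ℕ × ℕ × List (ℤ × ℤ) → List (ℤ × ℤ) →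
    List (ℤ × ℤ) → Bool) (x : ℕ × ℕ × List (ℤ × ℤ)) : Bool :=
  bif' (okc p U x.1) (bif' (okc r W x.1) (jc n q p U x fun B => jc n q r W x fun C =>
    bif' (cmp r W.1 B C) (bif' (cmp p U.1 C B) (k x B C) false) false) false) false

def flt (n q p : ℕ) (M : List ℤ) (X : List (ℕ × ℕ × List (ℤ × ℤ))) (T : List (ℕ × ℕ × List ℤ)) :
    List (ℕ × ℕ × List ℤ) := lfil (fun U => bif' (bif' (cmpD q 1 U.2.2 M) (cmpD p U.1 M U.2.2) false)
  (bif' (Nat.beq (U.1 % 2) 0) (lany (fun x => bif' (okc p U x.1) (jc n q p U x fun _ => true) false) X)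
    true) false) T

def stage (n q p r : ℕ) (Cp Cr Cz : List ℕ) (Tp Tr : List (ℕ × ℕ × List ℤ))
    (good : ℕ × ℕ × List ℤ → ℕ × ℕ × List ℤ → Bool) (M : List ℤ) : Bool :=
  forceS (cols n M Cp) fun Xp => forceS (flt n q p M Xp Tp) fun Sp => bif' Sp.isEmpty true
  (forceS (cols n M Cr) fun Xr => forceS (flt n q r M Xr Tr) fun Sr => bif' Sr.isEmpty true
  (forceS (cols n M Cz) fun Xz => lall (fun U => lall (fun W =>
    bif' (bif' (cmpD r W.1 U.2.2 W.2.2) (cmpD p U.1 W.2.2 U.2.2) false)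
    (bif' (bif' (Nat.beq (U.1 % 2) 0) (lany (tri n q p r U W fun _ _ _ => true) Xp) true)
    (bif' (bif' (Nat.beq (W.1 % 2) 0) (lany (tri n q p r U W fun _ _ _ => true) Xr) true)
    (bif' (lany (tri n q p r U W fun _ _ _ => true) Xz) (good U W) true) true) true) true) Sr) Sp))

end

end Cfsg.Agent.H3
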