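import Cfsg.Agent.H3.Col

/-! Soundness of the search for the column of an involution. -/

set_option autoImplicit false
set_option linter.unusedVariables false
set_option linter.unusedSectionVars false

namespace Cfsg.Agent.H3

open Finset Subgroup Cfsg.Agent.PLoc Cfsg.Agent.Char Cfsg.Agent.Blk Cfsg.Agent.Inv Cfsg.Agent.H9
  Cfsg.Agent.Gol
open scoped ComplexConjugate

universe u

theorem stage_sound {n q p r : ℕ} {Cp Cr Cz : List ℕ} {Tp Tr : List (ℕ × ℕ × List ℤ)}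
    {good : ℕ × ℕ × List ℤ → ℕ × ℕ × List ℤ → Bool} {M : List ℤ}
    (h : stage n q p r Cp Cr Cz Tp Tr good M = true) {U W : ℕ × ℕ × List ℤ}
    (hU : U ∈ flt n q p M (cols n M Cp) Tp) (hW : W ∈ flt n q r M (cols n M Cr) Tr)
    (h1 : cmpD r W.1 U.2.2 W.2.2 = true) (h2 : cmpD p U.1 W.2.2 U.2.2 = true)
    (h3 : U.1 % 2 = 0 → lany (tri n q p r U W fun _ _ _ => true) (cols n M Cp) = true)
    (h4 : W.1 % 2 = 0 → lany (tri n q p r U W fun _ _ _ => true) (cols n M Cr) = true)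
    (h5 : lany (tri n q p r U W fun _ _ _ => true) (cols n M Cz) = true) : good U W = true := by
  have k : ∀ {a : ℕ} {b : Bool}, (a % 2 = 0 → b = true) → bif' (Nat.beq (a % 2) 0) b true = true :=
    fun h => by
      simp only [bif'_eq, Nat.beq_eq]
      split_ifs with e
      exacts [h e, rfl]
  simp only [stage, forceS_eq, List.isEmpty_eq_false_iff.2 (List.ne_nil_of_mem hU),
    List.isEmpty_eq_false_iff.2 (List.ne_nil_of_mem hW), bif'_false, lall_iff] at h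
  simpa only [h1, h2, k h3, k h4, h5, bif'_true] using h U hU W hW

def ky (q : ℕ) (a : ℤ) : ℕ := (if a % q = 0 then 0 else 2000) + 2 * a.natAbs + if a < 0 then 1 else 0

def srt (q : ℕ) (L : List ℤ) : List ℤ := (-(1 + L.sum) :: L).insertionSort fun a b => ky q b ≤ ky q a

variable {G : Type u} [Group G] [Finite G]

theorem four_dvd {V : Subgroup G} {t : G} (ht : t ∈ V) (h2 : orderOf t = 2) (h4 : 4 ∣ Nat.card V) :
    4 ∣ Nat.card ↥(V ⊓ centralizer {t}) := by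
  have := Nat.fact_prime_two
  have h1 := Sylow.prime_pow_dvd_card_normalizer (p := 2) (n := 1) h4 (H := zpowers (⟨t, ht⟩ : V))
    (by rw [Nat.card_zpowers, ← Subgroup.orderOf_coe, h2, pow_one])
  rw [← card_map_of_injective V.subtype_injective] at h1
  refine h1.trans (card_dvd_of_le ?_)
  rintro _ ⟨g, hg, rfl⟩
  refine ⟨g.2, mem_centralizer_singleton_iff.2 ?_⟩
  obtain ⟨k, hk⟩ := mem_zpowers_iff.1 ((mem_normalizer_iff.1 hg _).1 (mem_zpowers _))
  replace hk : t ^ k = g * t * g⁻¹ := congrArg Subtype.val hk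
  rw [← zpow_mod_orderOf, h2] at hk
  rcases Int.emod_two_eq_zero_or_one k with e | e <;> rw [Nat.cast_ofNat, e] at hk
  · exact absurd (conj_eq_one_iff.1 (hk.symm.trans (zpow_zero t))) (ne_one_of_ord2 h2)
  · exact (eq_mul_inv_iff_mul_eq.1 ((zpow_one t).symm.trans hk)).symm

theorem conj_Vc {p : ℕ} [hp : Fact p.Prime] {x t : G} (h : Syl1 p x) (p2 : p ≠ 2) (ht : orderOf t = 2)
    (hc : p ∣ Nat.card (centralizer ({t} : Set G))) : ∃ v ∈ Vc p x, IsConj t v := by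
  obtain ⟨y, y1, y2⟩ := exists_mem_orderOf_eq_prime hp.out hc
  have c : Commute y t := mem_centralizer_singleton_iff.1 y1
  obtain ⟨i, -, v, hv, e⟩ := h.exists_conj (g := y * t) (by
    rw [c.orderOf_mul_eq_mul_orderOf_of_coprime (by
      rw [y2, ht]; exact (Nat.coprime_primes hp.out Nat.prime_two).2 p2), y2]
    exact dvd_mul_right _ _)
  obtain ⟨k, hk⟩ := hp.out.odd_of_ne_two p2
  have c' : Commute (pw x i) v := (show Commute x v from
    (mem_centralizer_singleton_iff.1 (h.mem_Vc.1 hv).1).symm).pow_left _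
  have := e.pow p
  rw [c.mul_pow, c'.mul_pow, orderOf_dvd_iff_pow_eq_one.1 y2.dvd, pw, ← pow_mul, mul_comm _ p, pow_mul,
    orderOf_dvd_iff_pow_eq_one.1 h.ord.dvd, one_pow, one_mul, one_mul] at this
  refine ⟨_, pow_mem hv p, ?_⟩
  rwa [show t ^ p = t by rw [hk, pow_succ, pow_mul, ← ht, pow_orderOf_eq_one, one_pow, one_mul]] at this

theorem dvd_index_mul (χ : IrrCharacter G) {g : G} {a : ℤ} (ha : χ.1 g = a) : (charDegree χ.1 : ℤ) ∣
    (Nat.card G / Nat.card (centralizer ({g} : Set G)) : ℕ) * a := by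
  have h1 := isIntegral_centralChar χ g
  have h2 := (deg_pos χ).ne'
  rw [centralChar, ha, irr_one_eq] at h1
  obtain ⟨k, hk⟩ := exists_int_of_isIntegral_rat (q := (centralizer {g}).index * a / charDegree χ.1)
    (by simpa using h1)
  refine ⟨k, Int.cast_injective (α := ℂ) ?_⟩
  rw [← (centralizer {g}).index_mul_card, Nat.mul_div_cancel _ Nat.card_pos]
  push_cast at hk ⊢
  rw [← hk]
  field_simp

/-- the principal block in the form needed for the search -/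
structure TC (p : ℕ) (U : ℕ × ℕ × List ℤ) (m : List (IrrCharacter G)) (s : IrrCharacter G → ℤ) :
    Prop where
  nodup : (irrOne G :: m).Nodup
  sgn : ∀ χ ∈ m, (s χ = 1 ∨ s χ = -1) ∧ ¬ p ∣ charDegree χ.1
  deg : (m.map fun χ => s χ * charDegree χ.1) = U.2.2
  reg : ∀ g, ¬ p ∣ orderOf g → 1 + (m.map fun χ => s χ * χ.1 g).sum = 0
  cov : U.1 = 1 → ∀ χ, χ ≠ irrOne G → ¬ p ∣ charDegree χ.1 →
    ∃ ψ ∈ m, ∀ g, ¬ p ∣ orderOf g → χ.1 g = ψ.1 g
  ex : U.1 % 2 = 0 → ∃ t : G, orderOf t = 2 ∧ p ∣ Nat.card (centralizer ({t} : Set G))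
  okc : ∀ t : G, orderOf t = 2 → okc p U (Nat.card (centralizer ({t} : Set G))) = true
  cg : ∀ t, orderOf t = 2 → p ∣ Nat.card (centralizer ({t} : Set G)) → ∀ χ ∈ m, ∀ a : ℤ,
    χ.1 t = a → (p : ℤ) ∣ charDegree χ.1 - a
  quad : U.2.1 % 2 ≠ 0 → ∀ t, t * t = 1 → 1 + (m.map fun χ => s χ * (χ.1 t ^ 2 / χ.1 1)).sum = 0
  sqr : ∀ t, t * t = 1 → ∃ j : ℕ, (p * U.1 * Nat.card G : ℂ) *
    (1 + (m.map fun χ => s χ * (χ.1 t ^ 2 / χ.1 1)).sum) =
      (Nat.card (centralizer ({t} : Set G)) * j) ^ 2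

variable [IsSimpleGroup G] {p : ℕ} [hp : Fact p.Prime]

theorem exists_TC (hG : ¬ IsMulCommutative G) {n : ℕ} (hn : Nat.card G = n) {Dv : List ℕ}
    (hD : ∀ d, d ∣ n → d ∈ Dv) {Q R : ℕ → Bool}
    (hQ : ∀ χ : IrrCharacter G, χ ≠ irrOne G → Q (charDegree (χ : G → ℂ)) = true) {x : G}
    (h : Syl1 p x) (hR : R (Nat.card (Vc p x)) = true) (p2 : p ≠ 2) (q : ℕ) : ∃ m s L,
      TC (G := G) p (Nat.card (Vc p x), Nat.card (autSub h.ord), srt q L) m s ∧
      (Nat.card (Vc p x), Nat.card (autSub h.ord), (Nx x).index, L) ∈ trees2 n p Dv Q R := by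
  obtain ⟨m, s, L, T, h1, h2⟩ := exists_TB hG hn hD hQ h hR
  obtain ⟨m', e1, e2⟩ := (congrFun₂ (List.eq_map_comp_perm _) (srt q L) m).mpr
    (by rw [h1]; exact List.perm_insertionSort _ _)
  refine ⟨m', s, L, ⟨(e2.cons _).nodup_iff.2 T.nodup, fun χ hχ => ⟨T.sgn χ (e2.subset hχ), fun e => ?_⟩,
    e1.symm, fun g hg => by rw [(e2.map _).sum_eq, T.reg g hg], fun e χ a1 a2 => ?_, fun e => ?_,
    fun t ht => ?_, fun t ht e χ hχ a ha => ?_, fun e t ht => by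
      rw [(e2.map _).sum_eq, T.quad (not_real h.ord p2 (Nat.odd_iff.2 (Nat.mod_two_ne_zero.1 e))) t ht],
    fun t ht => by rw [(e2.map _).sum_eq]; exact T.sqr p2 t ht⟩, h2⟩
  · have a1 := T.aok χ (e2.subset hχ)
    have a2 : (p : ℤ) ∣ s χ * charDegree χ.1 := (Int.natCast_dvd_natCast.2 e).mul_left _
    have a3 := hp.out.one_lt
    simp only [aOK, Bool.and_eq_true, decide_eq_true_eq, ← Int.dvd_iff_emod_eq_zero] at a1
    rcases a1 with a1 | a1
    · exact a3.ne' (Nat.dvd_one.1 (Int.natCast_dvd_natCast.1 ((dvd_sub_right a2).1 a1.1.2)))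
    · exact Nat.not_dvd_of_pos_of_lt Nat.card_pos (Nat.lt_of_le_sub_one (by omega) (Nat.le_of_dvd
        (by omega) (card_autSub_dvd h.ord))) (Int.natCast_dvd_natCast.1
        ((dvd_sub_right a2.neg_right).1 a1.1.2))
  · obtain ⟨ψ, a3, a4⟩ := T.cov (h.sc (card_eq_one.1 e)) χ a1 a2
    exact ⟨ψ, e2.symm.subset a3, a4⟩
  · obtain ⟨t, t1, t2⟩ := exists_mem_orderOf_eq_prime Nat.prime_two (Nat.dvd_of_mod_eq_zero e)
    exact ⟨t, t2, h.ord ▸ orderOf_dvd_card_of_mem (mem_centralizer_singleton_iff.2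
      (mem_centralizer_singleton_iff.1 (h.mem_Vc.1 t1).1).symm)⟩
  · simp only [H3.okc, bif'_eq, Nat.beq_eq, force_eq]
    split_ifs with e e'
    · obtain ⟨v, v1, v2⟩ := conj_Vc h p2 ht (Nat.dvd_of_mod_eq_zero e)
      have x1 : x ∈ centralizer {v} := mem_centralizer_singleton_iff.2
        (mem_centralizer_singleton_iff.1 (h.mem_Vc.1 v1).1).symm
      obtain ⟨k, k1, k2⟩ := card_over h x1
      obtain ⟨i, hi⟩ : 4 * p ∣ Nat.card ↥(Nx x ⊓ centralizer {v}) := Nat.Coprime.mul_dvd_of_dvd_of_dvd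
        (Nat.Coprime.pow_left 2 ((Nat.coprime_primes Nat.prime_two hp.out).2 p2.symm))
        ((four_dvd v1 (ord_conj v2 ▸ ht) (Nat.dvd_of_mod_eq_zero e')).trans (card_dvd_of_le
          (inf_le_inf_right _ ((pPrimeCoreOf_le _).trans h.cent_le))))
        (h.ord ▸ orderOf_dvd_card_of_mem ⟨le_normalizer (mem_zpowers x), x1⟩)
      have a1 : 4 * p * i ∣ p * Nat.card (Vc p x) * Nat.card (autSub h.ord) := by
        rw [← hi, Nat.eq_of_mul_eq_mul_right (index_pos' (Nx x))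
          (h.card_eq.symm.trans (Nx x).card_mul_index.symm)]
        exact card_dvd_of_le inf_le_left
      have a2 : 0 < 4 * p * i := hi ▸ Nat.card_pos
      refine nany_iff.2 ⟨i, Nat.lt_succ_of_le ((Nat.le_div_iff_mul_le (by decide)).2
        (Nat.le_of_mul_le_mul_left (c := p) ?_ hp.out.pos)), ?_⟩
      · have := Nat.le_of_dvd (Nat.mul_pos (Nat.mul_pos hp.out.pos Nat.card_pos) Nat.card_pos) a1
        linarith
      · simp only [card_centralizer_of_isConj v2, k1, hi, Nat.mul_mod_right, Nat.mul_div_cancel_left _ a2,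
          k2, Nat.mod_eq_zero_of_dvd a1, if_true]
        rfl
    · obtain ⟨v, v1, v2⟩ := conj_Vc h p2 ht (Nat.dvd_of_mod_eq_zero e)
      exact Nat.beq_eq.mpr (Nat.mod_eq_zero_of_dvd (ht ▸ ord_conj v2 ▸ orderOf_dvd_card_of_mem v1))
    · rfl
  · obtain ⟨v, v1, v2⟩ := conj_Vc h p2 ht e
    exact T.cg χ (e2.subset hχ) v v1 a (by rw [← χ.2.isClassFunction.of_isConj v2, ha])

noncomputable def ent (s w : IrrCharacter G → ℤ) (m : List (IrrCharacter G)) : List (ℤ × ℤ) :=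
  m.map fun χ => (s χ * charDegree χ.1, w χ)

def nq (w : IrrCharacter G → ℤ) (m : List (IrrCharacter G)) : ℕ :=
  (m.map fun χ => (w χ).natAbs * (w χ).natAbs).sum

theorem nq_le {l : List (IrrCharacter G)} (hl : (irrOne G :: l).Nodup) {t : G}
    {w : IrrCharacter G → ℤ} (hw : ∀ χ, χ.1 t = w χ) :
    1 + nq w l ≤ Nat.card (centralizer ({t} : Set G)) := by
  have := sq_le hl fun χ _ => hw χ
  rw [List.map_cons, List.sum_cons, show w (irrOne G) = 1 from
    Int.cast_injective (α := ℂ) ((hw _).symm.trans Int.cast_one.symm)] at this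
  zify [nq, List.map_map, Function.comp_def, abs_mul_abs_self]
  simpa only [sq, one_mul] using this

namespace TC
variable {U : ℕ × ℕ × List ℤ} {m : List (IrrCharacter G)} {s : IrrCharacter G → ℤ} (T : TC p U m s)
include T

theorem ne {χ : IrrCharacter G} (hχ : χ ∈ m) : χ ≠ irrOne G := fun e =>
  (List.nodup_cons.1 T.nodup).1 (e ▸ hχ)

theorem fst (w : IrrCharacter G → ℤ) : (ent s w m).map (·.1) = U.2.2 := by
  rw [← T.deg, ent, List.map_map]
  rfl

theorem cmp {q : ℕ} [Fact q.Prime] {U' : ℕ × ℕ × List ℤ} {m' : List (IrrCharacter G)}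
    {s' w : IrrCharacter G → ℤ} (T' : TC q U' m' s') {A B : List (ℤ × ℤ)}
    (hw : ∀ χ ψ : IrrCharacter G, (∀ g, ¬ p ∣ orderOf g → χ.1 g = ψ.1 g) → w χ = w ψ)
    (hA : ∀ e ∈ A, e ∈ ent s' w m') (hB : ∀ e ∈ ent s w m, e ∈ B) : cmp p U.1 A B = true := by
  simp only [H3.cmp, bif'_eq, Nat.beq_eq]
  split_ifs with e
  · refine lall_iff.2 fun a ha => ?_
    obtain ⟨χ, h1, rfl⟩ := List.mem_map.1 (hA a ha)
    simp only [natAbs_sign (T'.sgn χ h1).1]
    split_ifs with e'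
    · rfl
    obtain ⟨ψ, h2, h3⟩ := T.cov e χ (T'.ne h1) (mt Nat.mod_eq_zero_of_dvd e')
    refine lany_iff.2 ⟨_, hB _ (List.mem_map_of_mem h2), ?_⟩
    simp [natAbs_sign (T.sgn ψ h2).1, hw χ ψ h3, show charDegree χ.1 = charDegree ψ.1 from
      charDegree_eq ((h3 1 (by simpa using hp.out.ne_one)).trans (irr_one_eq ψ))]
  · rfl

theorem cmpD {q : ℕ} [Fact q.Prime] {U' : ℕ × ℕ × List ℤ} {m' : List (IrrCharacter G)}
    {s' : IrrCharacter G → ℤ} (T' : TC q U' m' s') : cmpD p U.1 U'.2.2 U.2.2 = true :=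
  T.cmp T' (w := 0) (fun _ _ _ => rfl) (fun e he => by rwa [← T'.deg, List.map_map] at he)
    fun e he => by rwa [← T.deg, List.map_map]

variable (hG : ¬ IsMulCommutative G) {n : ℕ} (hn : Nat.card G = n) (p2 : p ≠ 2) {t : G}
  (ht : orderOf t = 2) {w : IrrCharacter G → ℤ} (hw : ∀ χ, χ.1 t = w χ ∧ 4 ∣ charDegree χ.1 - w χ)
include hG hn p2 ht hw

theorem aux : ent s w m ≠ [] ∧ 1 + ((ent s w m).map fun e => e.1.sign * e.2).sum = 0 ∧
    (qs n (ent s w m).reverse : ℂ) = n * (1 + (m.map fun χ => s χ * (χ.1 t ^ 2 / χ.1 1)).sum) ∧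
    ∀ χ ∈ m, s χ * charDegree χ.1 ≠ 0 ∧ ∀ k b : ℕ, 0 < k → (k : ℤ) ∣ charDegree χ.1 - w χ →
      (w χ).natAbs * (w χ).natAbs ≤ b → w χ ∈ opt (n / Nat.card (centralizer ({t} : Set G))) k b
        (s χ * charDegree χ.1).natAbs := by
  have d0 := fun χ : IrrCharacter G => (deg_pos χ).ne'
  have h1 := T.reg t (by rwa [ht, Nat.prime_dvd_prime_iff_eq hp.out Nat.prime_two])
  refine ⟨fun e => by simp [List.map_eq_nil_iff.1 e] at h1, Int.cast_injective (α := ℂ) ?_, ?_,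
    fun χ hχ => ⟨by rcases (T.sgn χ hχ).1 with e | e <;> simp [e, d0], fun k b k0 h2 h3 => ?_⟩⟩
  · push_cast [ent, List.map_map]
    rw [← h1]
    refine congrArg _ (congrArg _ (List.map_congr_left fun χ hχ => ?_))
    rcases (T.sgn χ hχ).1 with e | e <;> simp [e, hw, Int.sign_natCast_of_ne_zero (d0 χ)]
  · rw [qs_eq, List.map_reverse, List.sum_reverse]
    push_cast [ent, List.map_map]
    rw [mul_add, mul_one, ← List.sum_map_mul_left]
    refine congrArg _ (congrArg _ (List.map_congr_left fun χ hχ => ?_))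
    obtain ⟨k, hk⟩ := hn ▸ deg_dvd χ
    have := d0 χ
    rcases (T.sgn χ hχ).1 with e | e <;> simp [e, hw, hk, irr_one_eq, d0] <;> field_simp
  · rw [natAbs_sign (T.sgn χ hχ).1]
    have := abs_lt_deg hG (T.ne hχ) (ne_one_of_ord2 ht) (hw χ).1
    exact mem_opt k0 h2 (hn ▸ dvd_index_mul χ (hw χ).1) (by rwa [← Int.natCast_natAbs, Nat.cast_lt] at this) h3

theorem cols (he : U.2.1 % 2 ≠ 0) {C : List ℕ} (hc : Nat.card (centralizer ({t} : Set G)) ∈ C) :
    (Nat.card (centralizer ({t} : Set G)), Nat.card (centralizer ({t} : Set G)) - 1 - nq w m,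
      (ent s w m).reverse) ∈ cols n U.2.2 C := by
  obtain ⟨a1, a2, a3, a4⟩ := T.aux hG hn p2 ht hw
  have a5 := nq_le T.nodup fun χ => (hw χ).1
  rw [← T.fst w]
  refine mem_cols hc a1 (List.forall_mem_map.2 fun χ hχ => ⟨(a4 χ hχ).1, (a4 χ hχ).2 _ _ (by decide)
    (hw χ).2 ?_⟩) a2 ?_ (Int.cast_injective (α := ℂ) ?_)
  · have : _ ≤ nq w m := List.le_sum_of_mem (List.mem_map_of_mem hχ)
    omega
  · simp only [ent, List.map_map, Function.comp_def, one_mul]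
    exact (Nat.sub_add_cancel (show nq w m ≤ _ by omega)).symm
  · rw [a3, T.quad he t (ord2_iff.1 ht).1, mul_zero, Int.cast_zero]

theorem jc {q : ℕ} [hq : Fact q.Prime] {U0 : ℕ × ℕ × List ℤ} {m0 : List (IrrCharacter G)}
    {s0 : IrrCharacter G → ℤ} (T0 : TC q U0 m0 s0) (h0 : U0.1 = 1) (q2 : q ≠ 2)
    {k : List (ℤ × ℤ) → Bool} (hk : k (ent s w m).reverse = true) :
    jc n q p U (Nat.card (centralizer ({t} : Set G)), Nat.card (centralizer ({t} : Set G)) - 1 -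
      nq w m0, (ent s0 w m0).reverse) k = true := by
  obtain ⟨a1, a2, a3, a4⟩ := T.aux hG hn p2 ht hw
  have a5 := nq_le (l := m0 ++ m.filter (q ∣ charDegree ·.1)) (List.nodup_cons.2 ⟨fun e =>
    (List.mem_append.1 e).elim (T0.ne · rfl) fun e => T.ne (List.mem_of_mem_filter e) rfl,
    List.nodup_append.2 ⟨T0.nodup.of_cons, T.nodup.of_cons.filter _, fun χ h1 ψ h2 e =>
      (T0.sgn χ h1).2 (e ▸ of_decide_eq_true (List.mem_filter.1 h2).2)⟩⟩) fun χ => (hw χ).1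
  rw [nq, List.map_append, List.sum_append, ← nq, ← nq] at a5
  have a6 : ∀ χ ∈ m, ((bif' (Nat.beq (Nat.card (centralizer ({t} : Set G)) % p) 0) (4 * p) 4 : ℕ) : ℤ) ∣
      charDegree χ.1 - w χ := fun χ hχ => by
    simp only [bif'_eq, Nat.beq_eq]
    split_ifs with e
    · exact_mod_cast (Nat.isCoprime_iff_coprime.2 (Nat.Coprime.pow_left 2 ((Nat.coprime_primes
        Nat.prime_two hp.out).2 p2.symm))).mul_dvd (hw χ).2
        (T.cg t ht (Nat.dvd_of_mod_eq_zero e) χ hχ _ (hw χ).1)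
    · exact (hw χ).2
  simp only [H3.jc, force_eq, ← T.fst w]
  refine ann_sound (P := (· = true)) (fun _ B r e => by simp [forceI_eq, bif'_eq, e]) _ a1
    (List.forall_mem_map.2 fun χ hχ => ⟨(a4 χ hχ).1, ?_⟩) (b' := Nat.card (centralizer ({t} : Set G)) -
      1 - nq w m0 - nq w (m.filter (q ∣ charDegree ·.1))) a2 ?_ (fun r => ?_) _
  · rw [bif'_eq]
    split_ifs with e
    · refine (a4 χ hχ).2 _ _ (by have := hp.out.pos; rw [bif'_eq]; split_ifs <;> omega) (a6 χ hχ) ?_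
      rw [natAbs_sign (T.sgn χ hχ).1, Nat.beq_eq] at e
      have : _ ≤ nq w (m.filter (q ∣ charDegree ·.1)) := List.le_sum_of_mem (List.mem_map_of_mem
        (List.mem_filter.2 ⟨hχ, decide_eq_true (Nat.dvd_of_mod_eq_zero e)⟩))
      omega
    · rw [natAbs_sign (T.sgn χ hχ).1, Nat.beq_eq] at e
      obtain ⟨ψ, b1, b2⟩ := T0.cov h0 χ (T.ne hχ) (mt Nat.mod_eq_zero_of_dvd e)
      have b3 : w χ = w ψ := Int.cast_injective (α := ℂ) (by
        rw [← (hw χ).1, ← (hw ψ).1, b2 t (by rwa [ht, Nat.prime_dvd_prime_iff_eq hq.out Nat.prime_two])])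
      refine b3 ▸ mem_kn (e := (s0 ψ * charDegree ψ.1, w ψ)) (List.mem_reverse.2 (List.mem_map_of_mem b1)) ?_ ?_
      · rw [natAbs_sign (T.sgn χ hχ).1, natAbs_sign (T0.sgn ψ b1).1]
        exact (charDegree_eq ((b2 1 (by simpa using hq.out.ne_one)).trans (irr_one_eq ψ))).symm
      · rw [natAbs_sign (T.sgn χ hχ).1, ← b3]
        exact a6 χ hχ
  · have : ((ent s w m).map fun e => bif' (Nat.beq (e.1.natAbs % q) 0) 1 0 *
        (e.2.natAbs * e.2.natAbs)).sum = nq w (m.filter (q ∣ charDegree ·.1)) := by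
      rw [ent, List.map_map, List.map_congr_left (g := fun χ => if q ∣ charDegree χ.1 then
        (w χ).natAbs * (w χ).natAbs else 0) fun χ hχ => by
          simp [natAbs_sign (T.sgn χ hχ).1, bif'_eq, Nat.dvd_iff_mod_eq_zero], List.sum_map_ite]
      simp [nq]
    omega
  · obtain ⟨j, hj⟩ := T.sqr t (ord2_iff.1 ht).1
    rw [forceI_eq, hk]
    by_cases e : U.2.1 % 2 = 0
    · rw [show ((p * U.1 : ℕ) : ℤ) * qs n (ent s w m).reverse =
        (Nat.card (centralizer ({t} : Set G)) * j : ℕ) ^ 2 from Int.cast_injective (α := ℂ) (by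
          push_cast
          rw [a3, ← hj, hn, mul_assoc (_ * _)]), sqT_sq _ _ Nat.card_pos, e]
      rfl
    · rw [show qs n (ent s w m).reverse = 0 from Int.cast_injective (α := ℂ) (by
        rw [a3, T.quad e t (ord2_iff.1 ht).1, mul_zero, Int.cast_zero]), Nat.mod_two_ne_zero.1 e]
      rfl

theorem tri {q r : ℕ} [Fact q.Prime] [Fact r.Prime] {U0 W : ℕ × ℕ × List ℤ}
    {m0 m' : List (IrrCharacter G)} {s0 s' : IrrCharacter G → ℤ} (T0 : TC q U0 m0 s0) (T' : TC r W m' s')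
    (h0 : U0.1 = 1) (q2 : q ≠ 2) (r2 : r ≠ 2) {k : _ → _ → _ → Bool} {x : ℕ × ℕ × List (ℤ × ℤ)}
    (hx : x = (Nat.card (centralizer ({t} : Set G)), Nat.card (centralizer ({t} : Set G)) - 1 -
      nq w m0, (ent s0 w m0).reverse)) (hk : k x (ent s w m).reverse (ent s' w m').reverse = true) :
    tri n q p r U W k x = true := by
  have : ∀ p : ℕ, [Fact p.Prime] → p ≠ 2 → ∀ χ ψ : IrrCharacter G,
      (∀ g, ¬ p ∣ orderOf g → χ.1 g = ψ.1 g) → w χ = w ψ := fun p hp p2 χ ψ h =>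
    Int.cast_injective (α := ℂ) (by
      rw [← (hw χ).1, ← (hw ψ).1, h t (by rwa [ht, Nat.prime_dvd_prime_iff_eq hp.out Nat.prime_two])])
  subst hx
  rw [H3.tri, T.okc t ht, T'.okc t ht]
  refine T.jc hG hn p2 ht hw T0 h0 q2 (T'.jc hG hn r2 ht hw T0 h0 q2 ?_)
  rw [T'.cmp T (this r r2) (fun _ => List.mem_reverse.1) fun _ => List.mem_reverse.2,
    T.cmp T' (this p p2) (fun _ => List.mem_reverse.1) fun _ => List.mem_reverse.2]
  exact hk

end TC

theorem TC.flt (hG : ¬ IsMulCommutative G) {n : ℕ} (hn : Nat.card G = n) {q : ℕ} [Fact q.Prime]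
    {U U0 : ℕ × ℕ × List ℤ} {m m0 : List (IrrCharacter G)} {s s0 : IrrCharacter G → ℤ} (T : TC p U m s)
    (T0 : TC q U0 m0 s0) (h0 : U0.1 = 1) (e0 : U0.2.1 % 2 ≠ 0) (p2 : p ≠ 2) (q2 : q ≠ 2) {C : List ℕ}
    (hC : ∀ t : G, orderOf t = 2 → p ∣ Nat.card (centralizer ({t} : Set G)) →
      Nat.card (centralizer ({t} : Set G)) ∈ C) {L : List (ℕ × ℕ × List ℤ)} (hU : U ∈ L) :
    U ∈ flt n q p U0.2.2 (H3.cols n U0.2.2 C) L := by
  refine mem_lfil hU ?_
  rw [T.cmpD T0, ← h0, T0.cmpD T]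
  simp only [bif'_eq, Nat.beq_eq, if_true]
  split_ifs with e
  · obtain ⟨t, ht, h1⟩ := T.ex e
    choose w w1 w2 using fun χ => mod4 hG χ ht
    refine lany_iff.2 ⟨_, T0.cols hG hn q2 ht (fun χ => ⟨w1 χ, w2 χ⟩) e0 (hC t ht h1), ?_⟩
    rw [if_pos (T.okc t ht)]
    exact T.jc hG hn p2 ht (fun χ => ⟨w1 χ, w2 χ⟩) T0 h0 q2 rfl
  · rfl

theorem TC.stage (hG : ¬ IsMulCommutative G) {n : ℕ} (hn : Nat.card G = n) {q r : ℕ} [Fact q.Prime]
    [Fact r.Prime] {U W U0 : ℕ × ℕ × List ℤ} {m m' m0 : List (IrrCharacter G)}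
    {s s' s0 : IrrCharacter G → ℤ} (T : TC p U m s) (T' : TC r W m' s') (T0 : TC q U0 m0 s0)
    (h0 : U0.1 = 1) (e0 : U0.2.1 % 2 ≠ 0) (p2 : p ≠ 2) (q2 : q ≠ 2) (r2 : r ≠ 2) {Cp Cr Cz : List ℕ}
    (hp : ∀ t : G, orderOf t = 2 → p ∣ Nat.card (centralizer ({t} : Set G)) →
      Nat.card (centralizer ({t} : Set G)) ∈ Cp)
    (hr : ∀ t : G, orderOf t = 2 → r ∣ Nat.card (centralizer ({t} : Set G)) →
      Nat.card (centralizer ({t} : Set G)) ∈ Cr)
    (hz : ∃ t : G, orderOf t = 2 ∧ Nat.card (centralizer ({t} : Set G)) ∈ Cz)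
    {Tp Tr : List (ℕ × ℕ × List ℤ)} (hU : U ∈ Tp) (hW : W ∈ Tr) {good : _ → _ → Bool}
    (h : stage n q p r Cp Cr Cz Tp Tr good U0.2.2 = true) : good U W = true := by
  have k : ∀ C, (∃ t : G, orderOf t = 2 ∧ Nat.card (centralizer ({t} : Set G)) ∈ C) →
      lany (H3.tri n q p r U W fun _ _ _ => true) (H3.cols n U0.2.2 C) = true := fun C ⟨t, ht, h⟩ => by
    choose w w1 w2 using fun χ => mod4 hG χ ht
    exact lany_iff.2 ⟨_, T0.cols hG hn q2 ht (fun χ => ⟨w1 χ, w2 χ⟩) e0 h,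
      T.tri hG hn p2 ht (fun χ => ⟨w1 χ, w2 χ⟩) T0 T' h0 q2 r2 rfl rfl⟩
  exact stage_sound h (T.flt hG hn T0 h0 e0 p2 q2 hp hU) (T'.flt hG hn T0 h0 e0 r2 q2 hr hW)
    (T'.cmpD T) (T.cmpD T') (fun e => k _ ((T.ex e).imp fun t h => ⟨h.1, hp t h.1 h.2⟩))
    (fun e => k _ ((T'.ex e).imp fun t h => ⟨h.1, hr t h.1 h.2⟩)) (k _ hz)

end Cfsg.Agent.H3
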