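import Cfsg.Agent.H3.Rec

/-! The simple group of order `7920`. -/

set_option autoImplicit false
set_option linter.unusedVariables false
set_option linter.unusedSectionVars false

namespace Cfsg.Agent.H3

open Finset Subgroup Equiv Cfsg.Agent.PLoc Cfsg.Agent.Char Cfsg.Agent.Blk Cfsg.Agent.Inv Cfsg.Agent.H9
  Cfsg.Agent.Gol

universe u

instance fact11 : Fact (Nat.Prime 11) := ⟨by norm_num⟩

def D11 : List ℕ := dl [(2, 4), (3, 2), (5, 1), (11, 1)]

theorem hD11 (d : ℕ) (hd : d ∣ 7920) : d ∈ D11 := mem_dl _ (by norm_num) hd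

def g11 : List ℕ := [396678789134945345, 405502438596188256, 1417445720166475]

def W11 : List (List ℕ) :=
  [[2], [0, 2, 0, 2, 2, 1], [0, 2, 1, 1], [0, 1, 2], [0, 1, 2, 0, 2, 2], [0, 0, 2]]

def L11 : List (ℕ × ℕ × ℕ × List (List ℕ) × List (List ℕ)) :=
  [(1417445720166475, 407901468851537952, 407901468851537952, [[0], [1], [2]], [[0], [1], [2]]),
   (4788683662398539, 397516477411108160, 397516477411108160, [[1, 1, 0, 1, 1, 1, 0], [1], [2, 1]], [[1, 1, 0, 1, 1, 1, 0], [1], [1, 2, 1]]),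
   (3453713369072843, 407901468851537952, 407901468851537952, [[0], [1], [1, 2]], [[0], [1], [2, 1, 1]]),
   (1206339519189195, 397516477411108160, 397516477411108160, [[1, 1, 0, 1, 1, 1, 0], [1], [1, 2, 1]], [[1, 1, 0, 1, 1, 1, 0], [1], [2, 1]]),
   (3594450951734507, 397516477411108160, 397516477411108160, [[1, 1, 0, 1, 1, 1, 0], [1], [2, 1, 1]], [[1, 1, 0, 1, 1, 1, 0], [1], [1, 2]]),
   (10348643506982123, 407901468851537952, 407901468851537952, [[0], [1], [2, 1]], [[0], [1], [1, 2, 1]]),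
   (4859052269180171, 407901468851537952, 407901468851537952, [[0], [1], [2, 1, 1]], [[0], [1], [1, 2]]),
   (5982550215566603, 397516477411108160, 397516477411108160, [[1, 1, 0, 1, 1, 1, 0], [1], [1, 2]], [[1, 1, 0, 1, 1, 1, 0], [1], [2, 1, 1]]),
   (10383827815959883, 397516477411108160, 397516477411108160, [[1, 1, 0, 1, 1, 1, 0], [1], [2]], [[2, 0, 2, 0, 2], [1], [2]]),
   (5876997299447115, 407901468851537952, 407901468851537952, [[0], [1], [1, 2, 1]], [[0], [1], [2, 1]])]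

theorem chk11 : allC 12 (Yc 11 3) (powS 12 (Yc 11 3) 1) 66912 39480270388268096 3452536409325568 4
    (fun j a => j != 1 || a != 11) (finB 12 [Xc 11, Yc 11 3] g11 [[4], [10], [1, 1, 1, 1, 2, 2]]
      W11 L11) = true := by decide +kernel

variable {G : Type u} [Group G] [Finite G] [IsSimpleGroup G] (h : Nat.card G = 7920)
include h

theorem nc11 : ¬ IsMulCommutative G := not_comm_of_card h (by norm_num)

theorem m11_11 {x : G} (hx : orderOf x = 11) : SC 11 x ∧ Nat.card (autSub hx) = 5 ∧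
    ∃ L, (L = [-10, -10, 12, 12] ∨ L = [45, -10, -10, -10]) ∧
      (∀ d ∈ degs L, ∃ χ : IrrCharacter G, χ ≠ irrOne G ∧ charDegree (χ : G → ℂ) = d) ∧
      ∀ χ : IrrCharacter G, χ ≠ irrOne G →
        (charDegree χ.1 % 11 == 0 || charDegree χ.1 ∈ degs L) = true := by
  have hs := syl1_of_ord hx (by rw [h]; norm_num)
  obtain ⟨L, h1, h2, h3⟩ := exists_tree2 (nc11 h) h hD11 (Q := fun _ => true) (R := fun _ => true)
    (fun _ _ => rfl) hs rfl
  obtain ⟨h4, h5, h6⟩ := (by decide +kernel : ∀ T ∈ trees2 7920 11 D11 (fun _ => true)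
    (fun _ => true), T.1 = 1 ∧ T.2.1 = 5 ∧
      (T.2.2.2 = [-10, -10, 12, 12] ∨ T.2.2.2 = [45, -10, -10, -10])) _ h1
  have h7 := hs.sc (card_eq_one.1 h4)
  refine ⟨h7, h5, L, h6, h2, fun χ h8 => ?_⟩
  simp only [Bool.or_eq_true, beq_iff_eq, decide_eq_true_eq]
  exact or_iff_not_imp_left.2 fun e => h3 h7 χ h8 fun e' => e (Nat.mod_eq_zero_of_dvd e')

theorem m11_5 {y : G} (hy : orderOf y = 5) : SC 5 y ∧ Nat.card (autSub hy) = 4 ∧
    ∀ χ : IrrCharacter G, χ ≠ irrOne G →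
      (charDegree χ.1 % 11 == 0 || charDegree χ.1 ∈ degs [45, -10, -10, -10]) = true := by
  obtain ⟨x, hx⟩ := exists_prime_orderOf_dvd_card' (G := G) 11 (by rw [h]; norm_num)
  obtain ⟨-, -, L, h1, h2, h3⟩ := m11_11 h hx
  have hs := syl1_of_ord hy (by rw [h]; norm_num)
  have h4 := isP_cent_of_sc (by norm_num) (fun x hx => (m11_11 h hx).1) hs.ne_one (by simp [hy])
  obtain ⟨L', h5, -⟩ := exists_tree2 (nc11 h) h hD11 (R := fun v => v % 11 != 0)
    (Q := fun d => d % 11 == 0 || d ∈ degs L) h3 hs (by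
      rw [hs.card_cent] at h4
      simpa using fun e => h4 ((Nat.dvd_of_mod_eq_zero e).mul_left 5))
  rcases h1 with rfl | rfl
  · obtain ⟨χ, -, h6⟩ := h2 5 (by decide)
    exact absurd (card_Vc_sc (sc_of_deg (nc11 h) hs h6)) ((by decide +kernel : ∀ T ∈ trees2 7920 5 D11
      (fun d => d % 11 == 0 || d ∈ degs [-10, -10, 12, 12]) (fun v => v % 11 != 0), T.1 ≠ 1) _ h5)
  · obtain ⟨h6, h7⟩ := (by decide +kernel : ∀ T ∈ trees2 7920 5 D11
      (fun d => d % 11 == 0 || d ∈ degs [45, -10, -10, -10]) (fun v => v % 11 != 0),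
        T.1 = 1 ∧ T.2.1 = 4) _ h5
    exact ⟨hs.sc (card_eq_one.1 h6), h7, h3⟩

/-- The character of degree `11`. -/
theorem m11_chi : ∃ (n : ℕ) (ρ : Representation ℂ G (Fin n → ℂ)) (χ : IrrCharacter G),
    ρ.character = χ ∧ χ ≠ irrOne G ∧ charDegree χ.1 = 11 ∧ (∀ g, orderOf g = 5 → χ.1 g = (1 : ℤ)) ∧
    ∀ t, orderOf t = 2 → χ.1 t = (3 : ℤ) ∧ Nat.card (centralizer ({t} : Set G)) = 48 := by
  classical
  have := Fintype.ofFinite G
  obtain ⟨y, hy⟩ := exists_prime_orderOf_dvd_card' (G := G) 5 (by rw [h]; norm_num)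
  obtain ⟨h1, h2, h3⟩ := m11_5 h hy
  obtain ⟨s, l, -, l1, l2, l3, l4, -, l5, l6⟩ := sc_col (nc11 h) h1 (by rw [h2])
    (C := (cand2 7920 D11 fun d => d % 11 == 0 || d ∈ degs [45, -10, -10, -10]).filter
      fun a => (a - 1) % 5 == 0) fun χ e s hs hd => List.mem_filter.2
        ⟨mem_cand2 (nc11 h) h hD11 e (h3 χ e) hs, by simpa using Int.emod_eq_zero_of_dvd hd⟩
  rw [h] at l5
  have l7 := (by decide +kernel : ∀ L ∈ enum ((cand2 7920 D11 fun d => d % 11 == 0 ||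
    d ∈ degs [45, -10, -10, -10]).filter fun a => (a - 1) % 5 == 0) (5 - 1) 7920,
      1 + L.sum = 0 → L = [11, -44, 16, 16]) _ l5 l6
  simp only [List.map_eq_cons_iff, List.map_eq_nil_iff] at l7
  obtain ⟨α, _, rfl, a1, β, _, rfl, b1, γ, _, rfl, c1, δ, _, rfl, d1, rfl⟩ := l7
  obtain ⟨a2, a3, -⟩ := sign_deg (l2 α (by simp)) a1
  obtain ⟨b2, -, b3⟩ := sign_deg (l2 β (by simp)) b1
  obtain ⟨c2, -⟩ := sign_deg (l2 γ (by simp)) c1
  obtain ⟨d2, -⟩ := sign_deg (l2 δ (by simp)) d1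
  obtain ⟨n, ρ, -, hρ⟩ := id α.2
  have a4 : ∀ g, orderOf g = 5 → α.1 g = (1 : ℤ) := fun g hg => by rw [l3 α g hg, a3 (by norm_num)]
  refine ⟨n, ρ, α, hρ, fun e => l1 (by simp [e]), a2, a4, fun t ht => ?_⟩
  obtain ⟨b, hb, -⟩ := S0944.result α t ht
  have c3 := defect_zero (r := 495) Nat.prime_two c2 (by rw [h]; rfl) (by norm_num) ht.symm.dvd
  have d3 := defect_zero (r := 495) Nat.prime_two d2 (by rw [h]; rfl) (by norm_num) ht.symm.dvd
  have e1 := sum_irr_mul_conj t y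
  rw [if_neg fun e => by have := ord_conj e; omega] at e1
  simp only [l3 _ y hy, map_intCast, mul_comm _ (s _ : ℂ), l4, List.map_cons, List.sum_cons, c3, d3,
    hb, a3 (by norm_num), b3 (by norm_num)] at e1
  have e2 := pairs (ord2_iff.1 ht).1 y
  simp only [l3 _ y⁻¹ (by simpa using hy), l4, List.map_cons, List.sum_cons, c3, d3, hb,
    a3 (by norm_num), b3 (by norm_num), irr_one_eq, a2, b2, deg_irrOne, h] at e2
  have e3 : β.1 t = 1 + b := by
    have : (irrOne G).1 t = 1 := rfl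
    simp [this] at e1
    linear_combination -e1
  generalize hk : (univ.filter fun u => IsConj t u ∧ IsConj t (u * y)).card = k at e2
  have e4 : (Nat.card (centralizer ({t} : Set G)) : ℤ) ^ 2 * k = 180 * (3 * b ^ 2 - 2 * b + 43) := by
    apply Int.cast_injective (α := ℂ)
    have : (irrOne G).1 t = 1 := rfl
    rw [e3, this] at e2
    push_cast
    rw [← e2]
    simp
    ring
  obtain ⟨e5, u, u1, u2⟩ := pairs_le (y := y) (ord2_iff.1 ht).1 (by
    rw [hk]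
    rintro rfl
    simp at e4
    nlinarith)
  rw [hk, h1.cent, h1.card_P] at e5
  obtain ⟨f1, f2⟩ := dih (by rw [hy]; decide) (ord_conj u1 ▸ ht) u2
  have f3 := fd_cyc hρ hy a4
  have f4 := fd_step ρ (le_sup_right (a := zpowers u)) (c := b) (fun g hg g1 => by
    rw [hρ, ← α.2.isClassFunction.of_isConj (u1.trans (f2 g hg g1)), hb]) h1.card_P (hy ▸ f1)
  have f5 := fd_anti ρ (le_sup_right (a := zpowers u) (b := zpowers y))
  rw [a2] at f3
  obtain ⟨rfl, f6⟩ := (by decide +kernel : ∀ c ∈ D11, ∀ k ≤ 5, ∀ b ∈ [(-3 : ℤ), -1, 1, 3],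
    (c : ℤ) ^ 2 * (k : ℕ) = 180 * (3 * b ^ 2 - 2 * b + 43) → b = 3 ∧ c = 48) _
    (hD11 _ (h ▸ card_subgroup_dvd_card _)) k e5 b (by simp at *; omega) e4
  exact ⟨hb, f6⟩

theorem m11_ord (g : G) : ∃ l ∈ [[4], [10], [1, 1, 1, 1, 2, 2]], g ^ (l.map (· + 1)).prod = 1 := by
  simp only [← orderOf_dvd_iff_pow_eq_one]
  by_cases h5 : 5 ∣ orderOf g
  · exact ⟨[4], by simp, (ord_eq_of_sc (fun x hx => (m11_5 h hx).1) h5).dvd⟩
  by_cases h11 : 11 ∣ orderOf g
  · exact ⟨[10], by simp, (ord_eq_of_sc (fun x hx => (m11_11 h hx).1) h11).dvd⟩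
  exact ⟨[1, 1, 1, 1, 2, 2], by simp, ((fact5.out.coprime_iff_not_dvd.2 h5).symm).dvd_of_dvd_mul_right
    (((fact11.out.coprime_iff_not_dvd.2 h11).symm).dvd_of_dvd_mul_right
      ((orderOf_dvd_natCard g).trans (by rw [h]; decide)))⟩

theorem m11_over {x : G} (hx : orderOf x = 11) {H : Subgroup G} (h1 : Nx x ≤ H)
    (h2 : 2 ∣ Nat.card H) : H.index = 12 ∨ H = ⊤ := by
  obtain ⟨h3, h4, -⟩ := m11_11 h hx
  obtain ⟨m, h5, h6⟩ := card_over h3.syl1 (h1 (le_normalizer (mem_zpowers x)))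
  have h7 := H.index_mul_card
  rw [inf_eq_left.2 h1, h3.card_N, h4] at h5
  rw [h5] at h2 h7
  have h8 : m ∣ 144 := Dvd.intro_left H.index (by linarith)
  have := Nat.le_of_dvd (by norm_num) h8
  rw [← index_eq_one]
  interval_cases m <;> omega

theorem m11_equiv : Nonempty (G ≃* KP 12 g11) := by
  obtain ⟨x, hx⟩ := exists_prime_orderOf_dvd_card' (G := G) 11 (by rw [h]; norm_num)
  obtain ⟨h1, h2, -⟩ := m11_11 h hx
  have h3 : IsConj x (x ^ 3) := by
    have k : ∀ a : (ZMod 11)ˣ, a ^ 5 = 1 → a ≠ 1 → ∃ k < 5, ((a ^ k : (ZMod 11)ˣ) : ZMod 11) = 3 := by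
      decide +kernel
    obtain ⟨a, a1, a2⟩ := exists_ne_one (H := autSub hx) fun e => by simp [e] at h2
    obtain ⟨k, -, hk⟩ := k a (orderOf_dvd_iff_pow_eq_one.1 (h2 ▸ orderOf_dvd_card_of_mem a1)) a2
    have : IsConj x (pw x _) := pow_mem a1 k
    rwa [hk] at this
  obtain ⟨y, e1⟩ := isConj_iff.1 h3
  have hy : orderOf y = 5 := orderOf_eq_prime (sc_pow h1 e1 (by decide) (by decide)) fun e => by
    rw [e, one_mul, inv_one, mul_one, ← pow_one x, ← pow_mul, pow_eq_pow_iff_modEq, hx] at e1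
    exact absurd e1 (by decide)
  obtain ⟨h4, h5, -⟩ := m11_5 h hy
  obtain ⟨s, e2⟩ := isConj_iff.1 (conj_of_ord h4.syl1 (by rw [h5]) (g := y ^ 2)
    (by rw [Nat.Coprime.orderOf_pow (by rw [hy]; norm_num), hy]))
  have e3 : s ^ 2 * y * (s ^ 2)⁻¹ = y⁻¹ := by
    rw [show s ^ 2 * y * (s ^ 2)⁻¹ = s * (s * y * s⁻¹) * s⁻¹ by rw [sq]; group, e2, ← conj_pow, e2,
      eq_inv_iff_mul_eq_one, ← pow_mul, ← pow_succ, ← orderOf_dvd_iff_pow_eq_one, hy]
  have ht : orderOf (s ^ 2) = 2 := orderOf_eq_prime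
    (by rw [← pow_mul]; exact sc_pow h4 e2 (by decide) (by decide)) fun e => by
      rw [e, one_mul, inv_one, mul_one, eq_inv_iff_mul_eq_one, ← sq, ← orderOf_dvd_iff_pow_eq_one,
        hy] at e3
      omega
  have hyN : y ∈ Nx x := mem_normalizer_of_cj_le (by
    rw [cj_zpowers, e1]; exact zpowers_le.2 (npow_mem_zpowers x 3))
  have hN : Nat.card (Nx x) = 55 := by rw [h1.card_N, h2]
  obtain ⟨n, ρ, χ, hρ, c1, c2, c3, c4⟩ := m11_chi h
  have f1 := fd_cyc hρ hx (c := 0) fun g hg => by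
    rw [defect_zero (r := 720) fact11.out c2 h.symm (by norm_num) hg.symm.dvd, Int.cast_zero]
  have f2 := fd_step ρ (le_normalizer (H := zpowers x)) (c := 1) (fun g hg g1 => by
    have i1 := (Nat.dvd_prime fact5.out).1 (h2 ▸ h1.orderOf_dvd hg g1)
    rw [hρ, c3 g (i1.resolve_left fun e => g1 (orderOf_eq_one_iff.1 e ▸ one_mem _))]) h1.card_P hN
  obtain ⟨v, v1, v2⟩ := exists_vst c1 hρ (A := Nx x) (by
    rw [c2] at f1
    show fd ρ (normalizer (zpowers x : Set G)) ≠ 0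
    omega)
  obtain ⟨d1, d2⟩ := dih (by rw [hy]; decide) ht e3
  have f3 := fd_cyc hρ hy c3
  have f4 := fd_step ρ (le_sup_right (a := zpowers (s ^ 2))) (c := 3) (fun g hg g1 => by
    rw [hρ, (c4 g (ord_conj (d2 g hg g1) ▸ ht)).1]) h4.card_P (hy ▸ d1)
  have f5 : fx ρ (zpowers (s ^ 2) ⊔ zpowers y) = fx ρ (zpowers y) :=
    Submodule.eq_of_le_of_finrank_eq (fx_anti ρ le_sup_right) (by
      rw [c2] at f3
      show fd ρ _ = fd ρ _
      omega)
  have f6 : s ^ 2 ∈ vst ρ v := (mem_fx ρ).1 (f5 ▸ fx_anti ρ (zpowers_le.2 hyN) v1) _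
    (mem_sup_left (mem_zpowers _))
  have i1 := (m11_over h hx ((mem_fx ρ).1 v1) (ht ▸ orderOf_dvd_card_of_mem f6)).resolve_right v2
  have i2 : closure {g | g ∈ [x, y] ++ [s]} = ⊤ := by
    generalize hK : closure {g | g ∈ [x, y] ++ [s]} = K
    have j : ∀ g ∈ [x, y] ++ [s], g ∈ K := fun g hg => hK ▸ subset_closure hg
    have j1 := orderOf_dvd_card_of_mem (j x (by simp))
    have j2 := orderOf_dvd_card_of_mem (j y (by simp))
    have j3 := orderOf_dvd_card_of_mem (pow_mem (j s (by simp)) 2)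
    have j4 : Nx x ≤ K := inf_eq_left.1 (eq_of_le_of_card_ge inf_le_left (hN ▸ Nat.le_of_dvd
      Nat.card_pos (Nat.Coprime.mul_dvd_of_dvd_of_dvd (by norm_num : Nat.Coprime 5 11)
        (hy ▸ orderOf_dvd_card_of_mem ⟨hyN, j y (by simp)⟩) (hx ▸ orderOf_dvd_card_of_mem
          ⟨le_normalizer (mem_zpowers x), j x (by simp)⟩))))
    refine (m11_over h hx j4 (ht ▸ j3)).resolve_left fun e => ?_
    obtain ⟨m, j5, j6⟩ := card_over h4.syl1 (j y (by simp))
    have j7 := K.index_mul_card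
    have j8 := card_dvd_of_le (inf_le_left (a := Nx y) (b := K))
    have j9 := orderOf_dvd_card_of_mem (H := Nx y ⊓ K) ⟨mem_normalizer_of_cj_le (by
      rw [cj_zpowers, e2]; exact zpowers_le.2 (npow_mem_zpowers y 2)), j s (by simp)⟩
    have j10 := orderOf_dvd_card_of_mem (H := Nx y ⊓ K) ⟨le_normalizer (mem_zpowers y), j y (by simp)⟩
    rw [orderOf_eq_prime_pow (p := 2) (n := 1) (ne_one_of_ord2 ht)
      (sc_pow h4 e2 (by decide) (by decide))] at j9
    rw [h4.card_N, h5] at j8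
    rw [e, j5, Nat.dvd_antisymm j8 (Nat.Coprime.mul_dvd_of_dvd_of_dvd (by norm_num) (hy ▸ j10) j9),
      h] at j7
    omega
  obtain ⟨φ, p1, p2, p3, p4⟩ := exists_label i1 hx e1 (by decide)
  refine finB_sound (W := W11) (L := L11) (by norm_num) p1 i2 (m11_ord h) ?_
  simp only [List.map_cons, List.map_nil, p2, p3]
  refine allC_sound (rp := 66912) (n := 4) (ok := fun j a => j != 1 || a != 11) (by norm_num)
    (Y := φ y) (Z := φ y ^ 2) (by
    rw [← map_pow, ← e2, ← map_mul, ← map_mul, inv_mul_cancel_right]) (fun j hj => ?_)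
    (by rw [← powS_eq (by norm_num), p3]; exact chk11)
  rw [Bool.or_eq_true, or_iff_not_imp_left]
  intro e
  obtain rfl : j = 1 := by simpa using e
  rw [show ap 66912 1 = 11 by decide +kernel, ap_encP (by norm_num) _ (by norm_num), bne_iff_ne]
  intro e'
  obtain ⟨g, hg⟩ := p4 (Fin.last 11) 0
  rw [fix_of_gen i2 (fun g hg => Fin.ext ?_)] at hg
  · exact absurd hg (by decide)
  rw [← ap_encP (by norm_num) _ (Fin.is_lt _)]
  simp only [List.cons_append, List.nil_append, List.mem_cons, List.not_mem_nil, or_false] at hg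
  rcases hg with rfl | rfl | rfl
  · rw [p2]; decide +kernel
  · rw [p3]; decide +kernel
  · rw [ap_encP (by norm_num) _ (Fin.is_lt _)]; exact e'

theorem m11_norm3 (P : Sylow 3 G) : Nat.card (normalizer ((P : Subgroup G) : Set G)) = 144 := by
  have hc : ∀ P : Sylow 3 G, Nat.card P = 9 := fun P =>
    card_sylow_of_card P (k := 2) (m := 880) h (by norm_num)
  obtain ⟨e⟩ := m11_equiv h
  obtain ⟨ev, e1, e2, e3⟩ := exists_ev (by norm_num) (by decide +kernel) e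
  have k1 : ev [1, 2, 0, 0] * ev [1, 2, 0, 1, 2] = ev [0, 2, 2, 1, 0, 2, 1, 0, 0, 1] * ev [1, 2, 0, 0] ∧
      ev [1, 2, 0, 0] * ev [0, 2, 2, 1, 0, 2, 1, 0, 0, 1] = ev [1, 2, 0, 1, 2] * ev [0, 2, 2, 1, 0, 2, 1, 0, 0, 1] * ev [1, 2, 0, 0] ∧
      ev [1, 2, 0, 1, 2] * ev [0, 2, 2, 1, 0, 2, 1, 0, 0, 1] = ev [0, 2, 2, 1, 0, 2, 1, 0, 0, 1] * ev [1, 2, 0, 1, 2] ∧
      ev [1, 2, 0, 1, 2] ^ 3 = 1 ∧ ev [1, 2, 0, 1, 2] ≠ 1 ∧ ev [0, 2, 2, 1, 0, 2, 1, 0, 0, 1] ≠ ev [1, 2, 0, 1, 2] ∧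
      ev [0, 2, 2, 1, 0, 2, 1, 0, 0, 1] ≠ ev [1, 2, 0, 1, 2] ^ 2 ∧ ev [1, 2, 0, 0] ^ 4 ≠ 1 ∧ ev [1, 2, 0, 0] ^ 8 = 1 := by
    simp only [pow_succ, pow_zero, ← e1, e2, e3, ne_eq]
    decide +kernel
  generalize ev [1, 2, 0, 0] = g, ev [1, 2, 0, 1, 2] = a, ev [0, 2, 2, 1, 0, 2, 1, 0, 0, 1] = b at k1
  obtain ⟨a1, a2, a3, a4, a5, a6, a7, a8, a9⟩ := k1
  have b1 := mul_inv_eq_iff_eq_mul.2 a1
  have ha : orderOf a = 3 := orderOf_eq_prime a4 a5
  have hb : orderOf b = 3 := by rw [← b1, PLoc.orderOf_conj', ha]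
  have b2 : zpowers b ≤ normalizer (zpowers a : Set G) := (zpowers_le.2 (by
    rw [centralizer_zpowers]; exact mem_centralizer_singleton_iff.2 a3.symm)).trans
      (centralizer_le_normalizer _)
  have b3 : Nat.card ↥(zpowers b ⊔ zpowers a) = 3 ^ 2 := by
    have i1 := card_sup_dvd b2
    have i2 := card_lt_of_lt (right_lt_sup.2 fun e : zpowers b ≤ zpowers a => by
      obtain ⟨i, hi⟩ := exists_pw ha (e (mem_zpowers b))
      fin_cases i
      · rw [← hi] at hb; exact absurd ((orderOf_one.symm.trans (congrArg _ pw_zero.symm)).trans hb) (by decide)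
      · exact a6 (hi.symm.trans (pw_one ha))
      · exact a7 hi.symm)
    simp only [Nat.card_zpowers, ha, hb] at i1 i2
    have := Nat.le_of_dvd (by norm_num) i1
    generalize Nat.card ↥(zpowers b ⊔ zpowers a) = k at *
    interval_cases k <;> omega
  obtain ⟨Q, hQ⟩ := (IsPGroup.of_card b3).exists_le_sylow
  have b4 : g ∈ normalizer ((Q : Subgroup G) : Set G) := by
    rw [← eq_of_le_of_card_ge hQ (by rw [b3, hc]; rfl)]
    refine mem_normalizer_of_cj_le ?_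
    rw [cj_sup, cj_zpowers, cj_zpowers, b1, mul_inv_eq_iff_eq_mul.2 a2]
    exact sup_le (zpowers_le.2 (mul_mem (mem_sup_right (mem_zpowers a))
      (mem_sup_left (mem_zpowers b)))) le_sup_left
  have b5 := orderOf_dvd_card_of_mem b4
  rw [orderOf_eq_prime_pow (p := 2) (n := 2) a8 a9] at b5
  have c4 := card_sylow_modEq_one 3 G
  have c0 : ∀ P : Sylow 3 G, Nat.card (Sylow 3 G) *
      Nat.card (normalizer ((P : Subgroup G) : Set G)) = Nat.card G := fun P =>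
    P.card_eq_index_normalizer ▸ (normalizer ((P : Subgroup G) : Set G)).index_mul_card
  have c5 := c0 Q
  have c6 := card_dvd_of_le (le_normalizer (H := (Q : Subgroup G)))
  have c8 := mt (card_modEq_of_sc (fun x hx => (m11_5 h hx).1) (Q := Q) (by rw [hc]; norm_num))
    (by rw [hc]; decide)
  have c9 := mt (card_modEq_of_sc (fun x hx => (m11_11 h hx).1) (Q := Q) (by rw [hc]; norm_num))
    (by rw [hc]; decide)
  have c10 := c0 P
  change Nat.card (Sylow 3 G) % 3 = 1 at c4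
  obtain ⟨k, hk⟩ : 72 ∣ _ := Nat.Coprime.mul_dvd_of_dvd_of_dvd (by norm_num) (hc Q ▸ c6) b5
  rw [hk, h] at c5
  rw [hk] at c8 c9
  have d1 : k ∣ 110 := Dvd.intro_left (Nat.card (Sylow 3 G)) (by linarith)
  have := Nat.le_of_dvd (by norm_num) d1
  have : Nat.card (Sylow 3 G) = 55 := by interval_cases k <;> omega
  rw [this, h] at c10
  omega

end Cfsg.Agent.H3
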