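import Cfsg.Agent.H3.Rec

/-! Lower bounds for the orders of coded permutation groups. -/

set_option autoImplicit false
set_option linter.unusedVariables false
set_option linter.unusedSectionVars false

namespace Cfsg.Agent.H3

open Finset Subgroup Equiv Cfsg.Agent.PLoc Cfsg.Agent.Char Cfsg.Agent.Blk Cfsg.Agent.Inv Cfsg.Agent.H9
  Cfsg.Agent.Gol

universe u

noncomputable section

def evL (m : ℕ) (gs : List ℕ) (ws : List (List ℕ)) : (List ℕ → Bool) → Bool :=
  List.rec (fun k => k []) (fun w _ ih k => force (evw m gs w) fun c => ih fun l => k (c :: l)) ws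

theorem evL_eq (m : ℕ) (gs : List ℕ) (ws : List (List ℕ)) (k : List ℕ → Bool) :
    evL m gs ws k = k (ws.map (evw m gs)) := by
  induction ws generalizing k with
  | nil => rfl
  | cons w ws ih => exact (force_eq _ _).trans (ih _)

/-- a chain of point stabilisers: base point, transversal, generators of the next term -/
def lowK (m : ℕ) (ls : List (ℕ × List (List ℕ) × List (List ℕ))) : List ℕ → Bool :=
  List.rec (fun _ => true) (fun d _ ih gs => Nat.blt d.1 m &&
    evL m gs d.2.1 (fun l => decide (l.map (ap · d.1)).Nodup) &&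
    evL m gs d.2.2 fun l => lall (fun c => Nat.beq (ap c d.1) d.1) l && ih l) ls

theorem lowK_sound {m : ℕ} (hm : m ≤ 32) {ls : List (ℕ × List (List ℕ) × List (List ℕ))}
    {gs : List ℕ} (h : lowK m ls gs = true) {H : Subgroup (Perm (Fin m))}
    (hH : ∀ c ∈ gs, ∃ σ ∈ H, encP σ = c) : (ls.map (·.2.1.length)).prod ≤ Nat.card H := by
  induction ls generalizing gs H with
  | nil => exact Nat.card_pos
  | cons d ls ih =>
    obtain ⟨h0, h3⟩ := Bool.and_eq_true_iff.1 h
    obtain ⟨h1, h2⟩ := Bool.and_eq_true_iff.1 h0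
    rw [evL_eq] at h2 h3
    obtain ⟨h4, h5⟩ := Bool.and_eq_true_iff.1 h3
    have hb : d.1 < m := Nat.blt_eq.mp h1
    have i1 := ih h5 (H := H ⊓ MulAction.stabilizer _ (⟨d.1, hb⟩ : Fin m)) fun c hc => by
      obtain ⟨w, -, rfl⟩ := List.mem_map.1 (id hc)
      obtain ⟨σ, s1, s2⟩ := evw_mem hm hH w
      exact ⟨σ, ⟨s1, Fin.ext ((ap_encP hm σ hb).symm.trans
        (s2 ▸ Nat.eq_of_beq_eq_true (lall_iff.1 h4 _ hc)))⟩, s2⟩
    rw [card_eq_orbit_mul (K := H ⊓ MulAction.stabilizer _ (⟨d.1, hb⟩ : Fin m))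
      (S := {j | ∃ g ∈ H, g • (⟨d.1, hb⟩ : Fin m) = j}) (fun _ => Iff.rfl) (fun g hg => ⟨g, hg, rfl⟩)
      fun _ h => h, List.map_cons, List.prod_cons]
    refine Nat.mul_le_mul ?_ i1
    rw [← Set.ncard_image_of_injective _ Fin.val_injective, ← List.length_map (evw m gs),
      ← List.length_map (ap · d.1), ← List.toFinset_card_of_nodup (of_decide_eq_true h2),
      ← Set.ncard_coe_finset]
    refine Set.ncard_le_ncard (fun a ha => ?_) (Set.toFinite _)
    simp only [List.coe_toFinset, List.mem_map, Set.mem_ofPred_eq] at ha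
    obtain ⟨_, ⟨w, -, rfl⟩, rfl⟩ := ha
    obtain ⟨σ, s1, s2⟩ := evw_mem hm hH w
    exact ⟨_, ⟨σ, s1, rfl⟩, s2 ▸ (ap_encP hm σ hb).symm⟩

theorem card_KP_ge {m : ℕ} (hm : m ≤ 32) {ls : List (ℕ × List (List ℕ) × List (List ℕ))}
    {gs : List ℕ} (h : (lall (isP m) gs && lowK m ls gs) = true) :
    (ls.map (·.2.1.length)).prod ≤ Nat.card (KP m gs) :=
  lowK_sound hm (Bool.and_eq_true_iff.1 h).2 fun c hc => by
    obtain ⟨σ, rfl⟩ := exists_encP (lall_iff.1 (Bool.and_eq_true_iff.1 h).1 c hc)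
    exact ⟨σ, subset_closure hc, rfl⟩

variable {G : Type u} [Group G] [Finite G]

theorem evw_map {m : ℕ} (hm : m ≤ 32) (φ : G →* Perm (Fin m)) (l : List G) (w : List ℕ) :
    evw m (l.map fun g => encP (φ g)) w = encP (φ (w.map (l.getD · 1)).prod) := by
  induction w with
  | nil => simp [evw, encP_one]
  | cons a w ih =>
    rw [List.map_cons, List.prod_cons, map_mul, encP_mul hm, ← ih, ← List.getD_map (f := fun g =>
      encP (φ g)), map_one, encP_one]
    exact force_eq _ _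

def finC (m : ℕ) (gs g0 : List ℕ) (E W N : List (List ℕ)) (L : List (ℕ × ℕ × List (List ℕ))) : Bool :=
  bif' (lany (fun w => force (evw m gs w) (badP m E)) W) true
    (bif' (lany (fun w => Nat.beq (evw m gs w) (idP m)) N) true
      (lany (fun d => bif' (Nat.beq (gs.getLastD 0) d.1) (cjOK m d.2.1 g0 gs d.2.2) false) L))

theorem finC_sound {m : ℕ} (hm : m ≤ 32) {φ : G →* Perm (Fin m)} (hφ : Function.Injective φ)
    {l : List G} {E : List (List ℕ)} (hE : ∀ g : G, ∃ l ∈ E, g ^ (l.map (· + 1)).prod = 1)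
    {g0 : List ℕ} (hc : Nat.card G ≤ Nat.card (KP m g0)) {W N : List (List ℕ)}
    (hN : ∀ w ∈ N, (w.map (l.getD · 1)).prod ≠ 1) {L : List (ℕ × ℕ × List (List ℕ))}
    (h : finC m (l.map fun g => encP (φ g)) g0 E W N L = true) : Nonempty (G ≃* KP m g0) := by
  rw [finC, bif'_eq, if_neg (not_bad hm φ hE l W), bif'_eq, if_neg fun e => by
    obtain ⟨w, h1, h2⟩ := lany_iff.1 e
    rw [evw_map hm, ← encP_one, ← map_one φ] at h2
    exact hN w h1 (hφ (encP_inj hm (Nat.eq_of_beq_eq_true h2)))] at h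
  obtain ⟨d, -, h2⟩ := lany_iff.1 h
  rw [bif'_eq] at h2
  split_ifs at h2
  obtain ⟨τ, h3⟩ := cjOK_sound hm h2
  have h4 : cj τ (KP m g0) = φ.range := eq_of_le_of_card_ge (h3.trans ((closure_le _).2 fun σ hσ => by
    obtain ⟨g, -, e⟩ := List.mem_map.1 hσ
    exact ⟨g, encP_inj hm e⟩)) (by
      rw [card_cj, ← Nat.card_congr (MonoidHom.ofInjective hφ).toEquiv]; exact hc)
  exact ⟨(MonoidHom.ofInjective hφ).trans ((MulEquiv.subgroupCongr h4.symm).trans
    ((MulAut.conj τ).subgroupMap _).symm)⟩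

end

end Cfsg.Agent.H3
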