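import Cfsg.Agent.H3.M12d
import Cfsg.Agent.H3.Rec2

/-! The simple group of order `95040` is unique. -/

set_option autoImplicit false
set_option linter.unusedVariables false
set_option linter.unusedSectionVars false

namespace Cfsg.Agent.H3

open Finset Subgroup Equiv Cfsg.Agent.PLoc Cfsg.Agent.Char Cfsg.Agent.Blk Cfsg.Agent.Inv Cfsg.Agent.H9
  Cfsg.Agent.Gol

universe u

def g12 : List ℕ := [396678789134945345, 405502438596188256, 3669109030327531]

theorem chk12 : allC 12 (Yc 11 3) (Yc 11 3) 66912 39480270388268096 3452536409325568 4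
    (fun _ _ => true) (fun c => bif' (Nat.beq (mulP 12 c c) (idP 12)) (finC 12 [Xc 11, Yc 11 3, c] g12
      [[9], [10], [1, 1, 1, 1, 1, 1, 2, 2, 2]]
      [[0, 1, 2], [0, 0, 2, 0, 1, 2, 0, 2], [0, 0, 2, 0, 2, 0, 2]] [[2], [2, 0, 2, 0]]
      [(3669109030327531, 407901468851537952, [[0], [1], [2]]),
        (4715987079335179, 397516477411108160, [[1, 1, 0, 1, 1, 1, 0], [1], [2]])]) true) = true := by
  decide +kernel

theorem card_g12 : 95040 ≤ Nat.card (KP 12 g12) := card_KP_ge (ls :=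
  [(11, [[], [2], [0, 2], [0, 0, 2], [1, 0, 2], [2, 0, 2], [1, 0, 0, 2], [2, 0, 0, 2], [0, 1, 0, 2], [1, 1, 0, 2], [2, 1, 0, 2], [0, 2, 0, 2]], [[2, 0, 1, 2, 0, 2], [1]]),
   (0, [[], [0], [0, 0], [1, 0], [0, 0, 0], [1, 0, 0], [0, 1, 0], [1, 1, 0], [1, 0, 0, 0], [0, 1, 0, 0], [0, 1, 1, 0]], [[1], [0, 1, 1, 1, 0, 0, 0]]),
   (1, [[], [0], [1], [0, 0], [0, 1], [1, 1], [0, 0, 1], [0, 1, 1], [1, 1, 1], [1, 0, 1, 1]], [[1, 0, 0], [0, 0, 1, 1]]),
   (2, [[], [1], [0, 1], [1, 1], [0, 0, 1], [1, 1, 1], [1, 0, 0, 1], [0, 1, 1, 1], [0, 0, 1, 1, 1]], [[1, 0, 1, 0, 0, 1], [0]]),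
   (3, [[], [0], [1], [0, 0], [1, 0], [0, 1], [0, 0, 0], [1, 0, 0]], [])]) (by norm_num)
  (by decide +kernel)

variable {G : Type u} [Group G] [Finite G]

theorem conj3 {x : G} (hx : orderOf x = 11) (h2 : Nat.card (autSub hx) = 5) : IsConj x (x ^ 3) := by
  have k : ∀ a : (ZMod 11)ˣ, a ^ 5 = 1 → a ≠ 1 → ∃ k < 5, ((a ^ k : (ZMod 11)ˣ) : ZMod 11) = 3 := by
    decide +kernel
  obtain ⟨a, a1, a2⟩ := exists_ne_one (H := autSub hx) fun e => by simp [e] at h2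
  obtain ⟨k, -, hk⟩ := k a (orderOf_dvd_iff_pow_eq_one.1 (h2 ▸ orderOf_dvd_card_of_mem a1)) a2
  have : IsConj x (pw x _) := pow_mem a1 k
  rwa [hk] at this

variable [IsSimpleGroup G] (h : Nat.card G = 95040)
include h

theorem m12_ord (g : G) :
    ∃ l ∈ [[9], [10], [1, 1, 1, 1, 1, 1, 2, 2, 2]], g ^ (l.map (· + 1)).prod = 1 := by
  simp only [← orderOf_dvd_iff_pow_eq_one]
  by_cases h5 : 5 ∣ orderOf g
  · have h1 := orderOf_pow_orderOf_div (orderOf_pos g).ne' h5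
    have h2 := orderOf_dvd_card_of_mem (mem_centralizer_singleton_iff.2
      ((Commute.refl g).pow_right (orderOf g / 5)))
    rw [(syl1_of_ord h1 (by rw [h]; norm_num)).card_cent, (m12_tree h h1).1] at h2
    exact ⟨[9], by simp, h2⟩
  by_cases h11 : 11 ∣ orderOf g
  · exact ⟨[10], by simp, (ord11 h h11).dvd⟩
  exact ⟨[1, 1, 1, 1, 1, 1, 2, 2, 2], by simp,
    ((fact5.out.coprime_iff_not_dvd.2 h5).symm).dvd_of_dvd_mul_right
    (((fact11.out.coprime_iff_not_dvd.2 h11).symm).dvd_of_dvd_mul_right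
      ((orderOf_dvd_natCard g).trans (by rw [h]; decide)))⟩

theorem m12_equiv : Nonempty (G ≃* KP 12 g12) := by
  have := Fintype.ofFinite G
  obtain ⟨x, hx⟩ := exists_prime_orderOf_dvd_card' (G := G) 11 (by rw [h]; norm_num)
  obtain ⟨h1, h2⟩ := m12_11 h hx
  obtain ⟨y, e1⟩ := isConj_iff.1 (conj3 hx h2)
  have hy : orderOf y = 5 := orderOf_eq_prime (sc_pow h1 e1 (by decide) (by decide)) fun e => by
    rw [e, one_mul, inv_one, mul_one, ← pow_one x, ← pow_mul, pow_eq_pow_iff_modEq, hx] at e1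
    exact absurd e1 (by decide)
  obtain ⟨α, β, γ, κ, μ, ν, H⟩ := m12_H h
  obtain ⟨z, l, l', K⟩ := m12_K h H hy
  obtain ⟨M, hM⟩ := K.index hy h H
  obtain ⟨φ, p1, p2, p3, -⟩ := exists_label hM hx e1 (by decide)
  obtain ⟨z1, z2⟩ := ord2_iff.1 K.z2
  have := allC_sound (by norm_num) (σ := φ z) (Y := φ y) (Z := φ y)
    (by rw [← map_mul, ← K.comm.eq, map_mul]) (fun _ _ => rfl) (p3 ▸ chk12)
  rw [← encP_mul (by norm_num), ← map_mul, z1, map_one, encP_one, Nat.beq_refl, bif'_true, ← p2]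
    at this
  refine finC_sound (l := [x, y, z]) (by norm_num) p1 (m12_ord h) (h ▸ card_g12) (fun w hw => ?_) this
  simp only [List.mem_cons, List.not_mem_nil, or_false] at hw
  rcases hw with rfl | rfl
  · simpa using z2
  · refine fun e => not_real hx (by decide) (by rw [h2]; decide) (isConj_iff.2 ⟨z, ?_⟩)
    rw [inv_of_ord2 K.z2, eq_inv_iff_mul_eq_one]
    simpa [mul_assoc] using e

end Cfsg.Agent.H3
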