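import Cfsg.Agent.H3.Rec3
import Cfsg.Agent.H3.M11
import Cfsg.Agent.H3.M12
import Cfsg.Agent.Perm.Prime2
import Cfsg.Agent.Perm.Jordan
import Cfsg.Agent.S0724

/-! Transitive groups of degree eleven. -/

set_option autoImplicit false
set_option linter.unusedVariables false
set_option linter.unusedSectionVars false

namespace Cfsg.Agent.H3

open Finset Subgroup Equiv Cfsg.Agent.PLoc Cfsg.Agent.Char Cfsg.Agent.Blk Cfsg.Agent.Inv Cfsg.Agent.H9
  Cfsg.Agent.Gol MulAction Cfsg.Agent.Perm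

def CH11 : List (List (ℕ × List (List ℕ) × List (List ℕ))) :=
  [[(0, [[], [0], [0, 0], [1, 0], [1, 0, 0], [0, 1, 0], [1, 1, 0], [0, 1, 0, 0], [2, 1, 0, 0], [0, 0, 1, 0], [0, 0, 1, 0, 0]], [[0, 2, 1, 0, 0], [2]]),
   (1, [[], [0], [0, 0], [1, 0], [0, 0, 0], [0, 1, 0], [1, 0, 0, 0], [0, 0, 1, 0], [1, 0, 1, 0], [1, 0, 0, 1, 0]], [[1], [0, 1, 0, 0, 1, 0, 1, 0, 1, 0, 1]]),
   (2, [[], [0], [1], [0, 0], [1, 0], [1, 1], [0, 1, 0], [1, 1, 1], [1, 0, 1, 0]], [[0, 1], [1, 0, 0, 1, 0]]),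
   (3, [[], [0], [1], [0, 0], [1, 0], [0, 1], [0, 0, 0], [1, 0, 0]], [])],
  [(0, [[], [0], [0, 0], [1, 0], [1, 0, 0], [2, 0, 0], [0, 1, 0], [1, 1, 0], [0, 1, 0, 0], [1, 2, 0, 0], [0, 0, 1, 0]], [[2], [0, 2, 0, 0]]),
   (1, [[], [1], [0, 1], [1, 1], [0, 0, 1], [1, 0, 1], [1, 0, 0, 1], [0, 1, 0, 1], [1, 1, 0, 0, 1], [1, 0, 1, 0, 1]], [[1, 1, 0, 1], [0]]),
   (2, [[], [0], [1], [0, 0], [0, 1], [1, 1], [0, 0, 0], [0, 1, 1], [1, 0, 1, 1]], [[0, 1, 0, 0], [1, 0, 1]]),
   (3, [[], [0], [1], [0, 0], [1, 0], [0, 1], [0, 0, 0], [1, 0, 0]], [])]]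

theorem chkA : allC 12 (Yc 11 3) (powS 12 (Yc 11 3) 1) 66912 39480270388268096 3452536409325568 4
    (fun j a => j != 1 || a == 11) (fun c => bif' (lany (fun w => force (evw 12 [Xc 11, Yc 11 3, c] w)
      (badP 12 [[4], [10], [1, 1, 1, 1, 2, 2]])) [[0, 0, 0, 2, 2, 0, 2], [0, 0, 2], [0, 2, 2, 2]]) true
      (lany (fun w => lany (fun ch => lowK 12 ch [Xc 11, Yc 11 3, evw 12 [Xc 11, Yc 11 3, c] w]) CH11)
        [[2], [2, 1], [2, 1, 1], [2, 1, 1, 1], [2, 1, 1, 1, 1]])) = true := by decide +kernel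

theorem chkB : allC 12 (Yc 11 3) (Yc 11 3) 66912 39480270388268096 3452536409325568 4
    (fun j a => j != 1 || a == 11) (fun c => bif' (Nat.beq (mulP 12 c c) (idP 12))
      (finC 12 [Xc 11, Yc 11 3, c] g12 [[9], [10], [1, 1, 1, 1, 1, 1, 2, 2, 2]]
        [[0, 1, 2], [0, 0, 1, 2]] [[2], [2, 0, 2, 0]] []) true) = true := by decide +kernel

theorem chkC : allC 12 (powS 12 (Yc 11 8) 1) (powS 12 (Yc 11 8) 3) 66912 39480270388268096
    4541020740091904 4 (fun j a => j != 1 || a == 11) (fun c => lany (fun w =>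
      force (evw 12 [Xc 11, Yc 11 8, c] w) (badP 12 [[1, 1, 1, 1, 1, 2, 2, 4, 10]]))
      [[0, 2, 1, 2, 2, 2], [0, 2, 2, 2, 1, 2], [0, 2, 2, 0, 2, 2, 1], [0, 1, 2, 1, 0, 2],
        [0, 0, 0, 2, 0, 0, 2]]) = true := by decide +kernel

theorem ok11 {c : ℕ} (h : ap c 11 = 11) : ∀ j < 4, (j != 1 || ap c (ap 66912 j) == 11) = true := by
  intro j hj
  by_cases e : j = 1
  · subst e; simpa [show ap 66912 1 = 11 by decide +kernel] using h
  · simp [e]

theorem exists_y5 {G : Type*} [Group G] [Finite G] {x : G} (h1 : SC 11 x)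
    (h2 : Nat.card (autSub h1.ord) = 5) : ∃ y, y * x * y⁻¹ = x ^ 3 ∧ orderOf y = 5 := by
  obtain ⟨y, e1⟩ := isConj_iff.1 (conj3 h1.ord h2)
  refine ⟨y, e1, orderOf_eq_prime (sc_pow h1 e1 (by decide) (by decide)) fun e => ?_⟩
  rw [e, one_mul, inv_one, mul_one, ← pow_one x, ← pow_mul, pow_eq_pow_iff_modEq, h1.ord] at e1
  exact absurd e1 (by decide)

variable {α : Type*} [Fintype α] [DecidableEq α] (hc : Nat.card α = 11) {H : Subgroup (Perm α)}
include hc

theorem ne_95040 [IsSimpleGroup H] : Nat.card H ≠ 95040 := fun h => by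
  obtain ⟨x, hx⟩ := exists_prime_orderOf_dvd_card' (G := H) 11 (by rw [h]; norm_num)
  obtain ⟨h1, h2⟩ := m12_11 h hx
  obtain ⟨y, e1, hy⟩ := exists_y5 h1 h2
  obtain ⟨z, z0, z1⟩ := exists_mem_orderOf_eq_prime (H := Vc 5 y) Nat.prime_two (by rw [(m12_tree h hy).1])
  obtain ⟨φ, -, p1, p2, p3, p4, -⟩ := exists_label' (by norm_num) (by decide +kernel) hc H.subtype_injective
    hx e1 (by decide)
  obtain ⟨z1', z2⟩ := ord2_iff.1 z1
  have := allC_sound (by norm_num) (σ := φ z) (Y := φ y) (Z := φ y) (by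
    rw [← map_mul, mem_centralizer_singleton_iff.1
      ((syl1_of_ord hy (by rw [h]; norm_num)).mem_Vc.1 z0).1, map_mul]) (ok11 (p4 z)) (p3 ▸ chkB)
  rw [← encP_mul (by norm_num), ← map_mul, z1', map_one, encP_one, Nat.beq_refl, bif'_true, ← p2,
    finC, bif'_eq, if_neg (by exact not_bad (by norm_num) φ (m12_ord h) [x, y, z] _), bif'_eq, if_neg] at this
  · exact absurd this (by simp [lany])
  intro e
  obtain ⟨w, h3, h4⟩ := lany_iff.1 e
  have h5 := evw_map (by norm_num) φ [x, y, z] w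
  rw [← encP_one, ← map_one φ] at h4
  have h6 := p1 (encP_inj (by norm_num) (h5.symm.trans (Nat.eq_of_beq_eq_true h4)))
  simp only [List.mem_cons, List.not_mem_nil, or_false] at h3
  rcases h3 with rfl | rfl
  · exact z2 (by simpa using h6)
  · refine not_real hx (by decide) (by rw [h2]; decide) (isConj_iff.2 ⟨z, ?_⟩)
    rw [inv_of_ord2 z1, eq_inv_iff_mul_eq_one]
    simpa [mul_assoc] using h6

theorem deg11_even [IsPretransitive H α] (hG : ¬ Group.IsSolvable H) (hA : H ≤ alternatingGroup α)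
    (hA' : ¬ alternatingGroup α ≤ H) :
    IsSimpleGroup H ∧ (Nat.card H = 660 ∨ Nat.card H = 7920) := by
  obtain ⟨P⟩ : Nonempty (Sylow 11 H) := inferInstance
  obtain ⟨d, n, h1, h2, h3, h4, h5⟩ := card_prime_deg hc P
  have h6 := odd_norm hc rfl hA P
  have h7 := (two_of_insoluble hc hG).dvd_card (by omega)
  have : Nontrivial α := Finite.one_lt_card_iff_nontrivial.1 (by omega)
  have h8 := card_dvd_of_le hA
  have hc' := Nat.card_eq_fintype_card.symm.trans hc
  have hp : IsPreprimitive H α := IsPreprimitive.of_prime_card (by rw [hc]; norm_num)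
  rw [nat_card_alternatingGroup, hc] at h8
  rw [hc] at h7
  rw [h3, Nat.not_even_iff_odd, Nat.odd_iff] at h6
  simp only [Nat.factorial, Nat.descFactorial] at h7 h8
  have := Nat.le_of_dvd (by norm_num) h1
  obtain rfl : d = 5 := by interval_cases d <;> omega
  have h9 : ∀ g ∈ H, g.IsCycle → orderOf g ≠ 5 ∧ orderOf g ≠ 7 := fun g hg h => by
    rw [h.orderOf]
    constructor <;> intro e <;> exact hA' (jordan_cycle hp h (by rw [e]; norm_num) hg (by omega))
  have h10 : ¬ 7 ∣ Nat.card H := fun e => by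
    obtain ⟨g, h1, h2⟩ := exists_mem_orderOf_eq_prime (by norm_num) e
    exact (h9 g h1 (Perm.isCycle_of_prime_order' (by rw [h2]; norm_num) (by omega))).2 h2
  have h11 : ¬ 5 ^ 2 ∣ Nat.card H := fun e => by
    obtain ⟨Q, hQ⟩ := Sylow.exists_subgroup_card_pow_prime 5 e
    have := S0724.result (Q.map H.subtype) {1} fun g hg g1 => by
      have i1 : ∀ n ∈ g.cycleType, n = 5 := fun n hn => by
        have a1 := (Perm.dvd_of_mem_cycleType hn).trans (orderOf_dvd_card_of_mem hg)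
        have a2 := Perm.two_le_of_mem_cycleType hn
        have a3 := (Perm.le_card_support_of_mem_cycleType hn).trans (card_le_univ _)
        rw [card_map_of_injective H.subtype_injective, hQ] at a1
        have := (by decide : ∀ n < 12, n ∣ 5 ^ 2 → 2 ≤ n → n = 5) n (by omega) a1 a2
        exact this
      have i2 := Multiset.eq_replicate_card.2 i1
      have i3 := g.sum_cycleType
      have i4 := card_le_univ g.support
      have i5 := mt Perm.card_cycleType_eq_zero.1 g1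
      have i6 := mt Perm.card_cycleType_eq_one.1 fun e => (h9 g (map_subtype_le Q hg) e).1 (by
        rw [e.orderOf]; exact i1 _ (by rw [e.cycleType]; simp))
      rw [i2, Multiset.sum_replicate, smul_eq_mul] at i3
      have i7 : Nat.card (fixedBy α g) = g.supportᶜ.card := by
        rw [← Nat.card_eq_finsetCard]
        exact Nat.card_congr (Equiv.subtypeEquivRight fun a => by simp)
      rw [i7, card_compl, mem_singleton]
      omega
    rw [card_map_of_injective H.subtype_injective, hQ, hc'] at this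
    exact absurd this (by decide)
  have hs : IsSimpleGroup H := simple_of_prime_deg hc P (fun h => by
      rw [normalizer_eq_top, card_top] at h3; omega) (by
    have := Core.card_mul_relIndex (le_normalizer (H := (P : Subgroup H)))
    rw [h3, show Nat.card (P : Subgroup H) = 11 from card_sylow_prime_deg hc P] at this
    rw [Nat.eq_of_mul_eq_mul_left (by norm_num) this]; norm_num)
  have h12 : n ∣ 10368 := by
    rw [h4] at h8 h10 h11
    have h12 : n ∣ 5 * (7 * 10368) := Nat.dvd_of_mul_dvd_mul_left (show 0 < 11 * 5 by norm_num) h8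
    refine Nat.Coprime.dvd_of_dvd_mul_left ?_ (Nat.Coprime.dvd_of_dvd_mul_left ?_ h12)
    · exact (((by norm_num : Nat.Prime 7).coprime_iff_not_dvd).2 fun e => h10 (e.mul_left _)).symm
    · exact ((Nat.prime_five.coprime_iff_not_dvd).2 fun e => h11 (by omega)).symm
  have h13 := (by decide +kernel : ∀ n ∈ dl [(2, 7), (3, 4)], n % 11 = 1 →
    n = 1 ∨ n = 12 ∨ n = 144 ∨ n = 1728) n (mem_dl _ (by norm_num) h12) h2
  have := ne_95040 hc (H := H)
  exact ⟨hs, by omega⟩

theorem sharp4 [IsSimpleGroup H] (h : Nat.card H = 7920) :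
    IsMultiplyPretransitive H α 4 ∧ ∀ x : Fin 4 ↪ α, stabilizer H x = ⊥ := by
  obtain ⟨x, hx⟩ := exists_prime_orderOf_dvd_card' (G := H) 11 (by rw [h]; norm_num)
  obtain ⟨h1, h2, -⟩ := m11_11 h hx
  obtain ⟨y, e1, hy⟩ := exists_y5 h1 h2
  obtain ⟨h4, h5, -⟩ := m11_5 h hy
  obtain ⟨s, e2⟩ := isConj_iff.1 (conj_of_ord h4.syl1 (by rw [h5]) (g := y ^ 2)
    (by rw [Nat.Coprime.orderOf_pow (by rw [hy]; norm_num), hy]))
  obtain ⟨φ, e, p1, p2, p3, p4, p5, p6⟩ := exists_label' (by norm_num) (by decide +kernel) hc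
    H.subtype_injective hx e1 (by decide)
  have := allC_sound (by norm_num) (σ := φ s) (Y := φ y) (Z := φ y ^ 2) (by
    rw [← map_pow, ← map_mul, ← map_mul, ← e2, inv_mul_cancel_right]) (ok11 (p4 s))
    (by rw [← powS_eq (by norm_num), p3]; exact chkA)
  rw [← p2, ← p3, bif'_eq, if_neg (by exact not_bad (by norm_num) φ (m11_ord h) [x, y, s] _)] at this
  obtain ⟨w, -, h6⟩ := lany_iff.1 this
  obtain ⟨ch, h7, h8⟩ := lany_iff.1 h6
  choose f hf using fun i : Fin 4 => p6 (i.castLE (by norm_num)) fun e => by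
    have := congrArg Fin.val e
    simp at this
    omega
  let x0 : Fin 4 ↪ α := ⟨f, fun i j h => Fin.castLE_injective _ (by rw [← hf, ← hf, h])⟩
  have h9 := lowK_sound' (by norm_num) h8 (H := φ.range) (K := (stabilizer H x0).map φ)
    (map_le_range _ _) (by
      rintro _ ⟨g, hg, rfl⟩ d hd
      have hd := (by decide : ∀ ch ∈ CH11, ∀ d ∈ ch, d.1 < 4) ch h7 d hd
      rw [ap_encP (by norm_num) _ (by omega : d.1 < 12)]
      have := p5 g (f ⟨_, hd⟩)
      rw [show H.subtype g (f ⟨_, hd⟩) = f ⟨_, hd⟩ from DFunLike.congr_fun hg ⟨_, hd⟩, hf] at this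
      exact congrArg Fin.val this) (by
      have := evw_map (by norm_num) φ [x, y, s] w
      simp only [List.mem_cons, List.not_mem_nil, or_false]
      rintro c (rfl | rfl | rfl)
      exacts [⟨_, ⟨x, rfl⟩, rfl⟩, ⟨_, ⟨y, rfl⟩, rfl⟩, ⟨_, ⟨_, rfl⟩, this.symm⟩])
  rw [(by decide : ∀ ch ∈ CH11, (ch.map (·.2.1.length)).prod = 7920) ch h7,
    ← Nat.card_congr (MonoidHom.ofInjective p1).toEquiv, h, card_map_of_injective p1] at h9
  have h10 : Nat.card (stabilizer H x0) = 1 := by have := Nat.card_pos (α := stabilizer H x0); omega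
  have h11 : orbit H x0 = Set.univ := by
    have := (stabilizer H x0).card_mul_index
    rw [h10, one_mul, h, index_stabilizer] at this
    refine Set.eq_of_subset_of_ncard_le (Set.subset_univ _) (le_of_eq ?_)
    rw [show (orbit H x0).ncard = 7920 from this, Set.ncard_univ, Nat.card_eq_fintype_card, Fintype.card_embedding_eq,
      ← Nat.card_eq_fintype_card (α := α), hc]
    rfl
  refine ⟨(isPretransitive_iff_orbit_eq_univ x0).2 h11, fun z => ?_⟩
  obtain ⟨g, rfl⟩ := h11.ge (Set.mem_univ z)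
  exact (stabilizer_smul_eq_stabilizer_map_conj g x0).trans (by rw [card_eq_one.1 h10, Subgroup.map_bot])

theorem deg11 [IsPretransitive H α] (hG : ¬ Group.IsSolvable H) (hA : ¬ alternatingGroup α ≤ H) :
    IsSimpleGroup H ∧ (Nat.card H = 660 ∨ Nat.card H = 7920) := by
  obtain ⟨h1, h2, h3 | h3⟩ := even_part hc (by norm_num) hG
  · exact deg11_even hc hG h3 hA
  exfalso
  obtain ⟨hs, h4⟩ := deg11_even hc h2 inf_le_right fun e => hA (e.trans inf_le_left)
  obtain ⟨P⟩ : Nonempty (Sylow 11 H) := inferInstance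
  obtain ⟨d, n, h5, h6, h7, h8, -⟩ := card_prime_deg hc P
  have := Nat.le_of_dvd (by norm_num) h5
  have h9 : Even (Nat.card (normalizer ((P : Subgroup H) : Set H))) := by
    rw [h7, Nat.even_iff]
    unfold Nat.ModEq at h6
    interval_cases d <;> omega
  have := (three_of_even' hc (by norm_num) hG P h9).dvd_card (by omega)
  rw [hc, h3] at this
  have h := h4.resolve_left fun e => by rw [e] at this; norm_num [Nat.descFactorial] at this
  set K := H ⊓ alternatingGroup α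
  let ι : K →* H := inclusion inf_le_left
  have hι : Function.Injective ι := inclusion_injective _
  obtain ⟨σ, s1, s2, c, s3⟩ := sylow_gen hc P
  obtain ⟨τ, t1, k, t2, t3⟩ := exists_inverting (by norm_num) s3 (s1 ▸ h9)
  have sq : ∀ g : H, ∃ a : K, ι a = g ^ 2 := fun g =>
    ⟨⟨g ^ 2, (g ^ 2).2, by simp [Perm.mem_alternatingGroup]⟩, rfl⟩
  obtain ⟨x, rfl⟩ : ∃ a : K, ι a = σ := by
    obtain ⟨a, ha⟩ := sq (σ ^ 6)
    exact ⟨a, by rw [ha, ← pow_mul, pow_succ, ← s2, pow_orderOf_eq_one, one_mul]⟩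
  have hx := (orderOf_injective ι hι x).symm.trans s2
  obtain ⟨x1, x2, -⟩ := m11_11 h hx
  obtain ⟨y, e1, -⟩ := exists_y5 x1 x2
  have e2 : τ * ι y * ι x * (τ * ι y)⁻¹ = ι x ^ 8 := by
    rw [show τ * ι y * ι x * (τ * ι y)⁻¹ = τ * ι (y * x * y⁻¹) * τ⁻¹ by simp [mul_assoc], e1, map_pow,
      ← conj_pow, t3, ← pow_mul, pow_eq_pow_iff_modEq, s2, ← ZMod.natCast_eq_natCast_iff, Nat.cast_mul, t2]
    decide
  obtain ⟨z, hz⟩ := sq (τ * ι y)
  have e3 : z * x * z⁻¹ = x ^ 64 := hι (by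
    rw [map_mul, map_mul, map_inv, hz, map_pow, show 64 = 8 * 8 from rfl, pow_mul, ← e2, conj_pow, ← e2,
      pow_two]
    group)
  have hz5 : orderOf z = 5 := orderOf_eq_prime (sc_pow x1 e3 (by decide) (by decide)) fun e => by
    rw [e, one_mul, inv_one, mul_one, ← pow_one x, ← pow_mul, pow_eq_pow_iff_modEq, hx] at e3
    exact absurd e3 (by decide)
  obtain ⟨z1, z2, -⟩ := m11_5 h hz5
  obtain ⟨s, e4⟩ := isConj_iff.1 (conj_of_ord z1.syl1 (by rw [z2]) (g := z ^ 2)
    (by rw [Nat.Coprime.orderOf_pow (by rw [hz5]; norm_num), hz5]))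
  obtain ⟨φ, -, p1, p2, p3, p4, -⟩ := exists_label' (by norm_num) (by decide +kernel) hc
    H.subtype_injective s2 e2 (by decide)
  have := allC_sound (by norm_num) (σ := φ (ι s)) (Y := φ (τ * ι y) ^ 2) (Z := φ (τ * ι y) ^ 4) (by
    rw [show 4 = 2 * 2 from rfl, pow_mul, ← map_pow, ← hz, ← map_pow, ← map_pow, ← e4]
    simp) (ok11 (p4 _)) (by rw [← powS_eq (by norm_num), ← powS_eq (by norm_num), p3]; exact chkC)
  rw [← p2, ← p3] at this
  exact not_bad (by norm_num) φ (fun g => ⟨_, List.mem_singleton_self _, by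
    rw [← pow_card_eq_one' (x := g), h3, h]; rfl⟩) [ι x, τ * ι y, ι s] _ this

end Cfsg.Agent.H3
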