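import Cfsg.Agent.H3.M24d
import Cfsg.Agent.H3.Col2

/-! The simple group of order `244823040`: the `2`-block of a character of degree `3840`. -/

set_option autoImplicit false
set_option linter.unusedVariables false
set_option linter.unusedSectionVars false

namespace Cfsg.Agent.H3

open Finset Subgroup Equiv Cfsg.Agent.PLoc Cfsg.Agent.Char Cfsg.Agent.Blk Cfsg.Agent.Inv Cfsg.Agent.H9
  Cfsg.Agent.Gol
open scoped ComplexConjugate

universe u

variable {G : Type u} [Group G] [Fintype G]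

theorem exists_2c {k : ℕ} (h : 2 ^ (k + 1) ∣ Nat.card G) :
    ∃ t : G, orderOf t = 2 ∧ 2 ^ (k + 1) ∣ Nat.card (centralizer ({t} : Set G)) := by
  have := Nat.fact_prime_two
  obtain ⟨Q, hQ⟩ := Sylow.exists_subgroup_card_pow_prime 2 h
  have q := IsPGroup.of_card hQ
  have : Nontrivial Q := Finite.one_lt_card_iff_nontrivial.1 (hQ ▸ Nat.one_lt_two_pow k.succ_ne_zero)
  have := q.center_nontrivial
  obtain ⟨t, ht⟩ := exists_prime_orderOf_dvd_card' (G := center Q) 2
    ((q.to_subgroup _).card_eq_or_dvd.resolve_left Finite.one_lt_card.ne')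
  refine ⟨t.1.1, by rw [orderOf_coe, orderOf_coe, ht], hQ ▸ card_dvd_of_le fun y hy => mem_centralizer_singleton_iff.2 ?_⟩
  exact congrArg Subtype.val (mem_center_iff.1 t.2 ⟨y, hy⟩)

variable [IsSimpleGroup G] (h : Nat.card G = 244823040)
  (h11 : ∀ {y : G} (hy : orderOf y = 11), SC 11 y ∧ Nat.card (autSub hy) = 10)
include h h11

theorem even_of_3840 (M : Ideal AlgInt) [hp : PMod 2 M] {χ ψ : IrrCharacter G}
    (hψ : charDegree ψ.1 = 3840) (e : SameBlock M χ.1 ψ.1) : 2 ∣ charDegree χ.1 := by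
  obtain ⟨t, t1, m, t2⟩ := exists_2c (G := G) (k := 9) (by rw [h]; norm_num)
  have t0 := ne_one_of_ord2 t1
  have c1 := isP23_24 h t0 (by rw [t1]; decide)
  have c2 := isP_cent_of_sc (by norm_num) (fun x hx => (h11 hx).1) t0 (by rw [t1]; decide)
  have c3 := (centralizer ({t} : Set G)).card_mul_index
  obtain ⟨a, a1, -⟩ := mod4 (nc24 h) ψ t1
  obtain ⟨b, b1, b2⟩ := mod4 (nc24 h) χ t1
  have a2 := dvd_index_mul ψ a1
  have b3 := dvd_index_mul χ b1
  have a3 := sq_le (l := [ψ]) (by simp) (w := fun _ => a) (by simpa using a1)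
  rw [← c3, Nat.mul_div_cancel_left _ Nat.card_pos] at a2 b3
  rw [t2] at c1 c2 c3 a3
  generalize hI : (centralizer ({t} : Set G)).index = I at *
  have c4 : m * I = 945 * 253 := by rw [h, mul_assoc] at c3; omega
  have c5 : m ∣ 945 := Nat.Coprime.dvd_of_dvd_mul_right (by
    rw [show 253 = 11 * 23 from rfl, Nat.coprime_mul_iff_right]
    exact ⟨(fact11.out.coprime_iff_not_dvd.2 fun e => c2 (e.mul_left _)).symm,
      (fact23.out.coprime_iff_not_dvd.2 fun e => c1 (e.mul_left _)).symm⟩) ⟨I, c4.symm⟩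
  have c6 := (by decide +kernel : ∀ m ≤ 945, m ∣ 945 →
    m ∈ [1, 3, 5, 7, 9, 15, 21, 27, 35, 45, 63, 105, 135, 189, 315, 945]) m
    (Nat.le_of_dvd (by norm_num) c5) c5
  simp only [List.mem_cons, List.not_mem_nil, or_false] at c6
  have c7 : I % 2 = 1 := by
    rcases c6 with e | e | e | e | e | e | e | e | e | e | e | e | e | e | e | e <;> subst e <;> omega
  have a0 : a = 0 := by
    rw [hψ] at a2
    obtain ⟨k, rfl⟩ : (256 : ℤ) ∣ a := (show IsCoprime (256 : ℤ) I from by
      rw [show (256 : ℤ) = 2 ^ 8 from rfl]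
      exact IsCoprime.pow_left (Nat.isCoprime_iff_coprime.2 (Nat.prime_two.coprime_iff_not_dvd.2
        (by omega)))).dvd_of_dvd_mul_left (Dvd.dvd.trans (by norm_num) a2)
    simp only [List.map_cons, List.map_nil, List.sum_cons, List.sum_nil] at a3
    push_cast at a3 a2
    have m1 : (m : ℤ) ≤ 945 := by exact_mod_cast Nat.le_of_dvd (by norm_num) c5
    have k1 : -4 < k ∧ k < 4 := ⟨by nlinarith, by nlinarith⟩
    obtain ⟨k1, k2⟩ := k1
    rcases c6 with e | e | e | e | e | e | e | e | e | e | e | e | e | e | e | e <;> subst e <;>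
      (obtain rfl : I = _ := Nat.eq_div_of_mul_eq_right (by decide) c4) <;>
      interval_cases k <;> omega
  obtain ⟨c, hc⟩ := b3
  have d0 : (charDegree χ.1 : ℂ) ≠ 0 := by exact_mod_cast (deg_pos χ).ne'
  have := e t
  rw [← mem_LP, centralChar, centralChar, a1, b1, a0, hI, irr_one_eq, show (I : ℂ) * b / charDegree χ.1 -
    I * (0 : ℤ) / ψ.1 1 = c by
      rw [show (I : ℂ) * b = charDegree χ.1 * c by exact_mod_cast hc]
      field_simp
      simp, intCast_mem_LP (p := 2)] at this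
  obtain ⟨c, rfl⟩ := this
  by_contra e'
  have b4 : Odd ((I : ℤ) * b) := Odd.mul (Int.odd_iff.2 (by omega)) (Int.odd_iff.2 (by omega))
  rw [hc, Int.odd_mul, Int.odd_mul] at b4
  exact absurd b4.2.1 (by decide)

end Cfsg.Agent.H3
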