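import Cfsg.Agent.Char.Prim2
import Cfsg.Agent.Blk.Norm
import Cfsg.Agent.Perm.Normal

/-! Extension of invariant characters over a quotient of prime power order. -/

set_option autoImplicit false
set_option linter.unusedSectionVars false

namespace Cfsg.Agent.H3

open Cfsg Finset Subgroup Cfsg.Agent.PLoc Cfsg.Agent.Char Cfsg.Agent.Blk
open scoped ComplexConjugate

theorem exists_fixed_not_dvd {Q Ω : Type*} [Group Q] [MulAction Q Ω] [Fintype Ω] {p : ℕ}
    [Fact p.Prime] {P : Subgroup Q} (hP : IsPGroup p P) (f : Ω → ℕ) (hf : ∀ (g : Q) x, f (g • x) = f x)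
    (h : ¬ p ∣ ∑ x, f x) : ∃ x, (∀ g ∈ P, g • x = x) ∧ ¬ p ∣ f x := by
  classical
  by_contra! hc
  refine h ?_
  rw [← sum_fiberwise_of_maps_to (t := univ.image f) (g := f) fun x _ => mem_image_of_mem f (mem_univ x)]
  refine dvd_sum fun k _ => ?_
  rw [sum_congr rfl (g := fun _ => k) fun x hx => (mem_filter.1 hx).2, sum_const, smul_eq_mul]
  by_cases hk : p ∣ k
  · exact hk.mul_left _
  have := Perm.ncard_modEq (O := {x | f x = k}) hP fun g _ x hx => (hf g x).trans hx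
  rw [show {x | f x = k} ∩ MulAction.fixedPoints P Ω = ∅ from Set.eq_empty_of_forall_notMem
    fun x hx => hk (hx.1 ▸ hc x fun g hg => hx.2 ⟨g, hg⟩), Set.ncard_empty,
    Set.ncard_eq_toFinset_card', Set.toFinset_ofPred] at this
  exact (Nat.modEq_zero_iff_dvd.1 this).mul_right _

variable {G : Type*} [Group G]

theorem s0896 [Fintype G] {p : ℕ} (hp : p.Prime) (N : Subgroup G) [hN : N.Normal]
    (hind : ∃ k : ℕ, N.index = p ^ k) {θ : N → ℂ} (hθ : IsIrrCharacter N θ)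
    (hinv : ∀ g, conjBy θ g = θ) : ∃ (E : Subgroup G) (φ : ↥(E ⊓ N) → ℂ), IsElementary p E ∧
      E ⊔ N = ⊤ ∧ IsIrrCharacter _ φ ∧ (∀ (g : G) (hg : g ∈ E) (x : ↥(E ⊓ N)), φ ⟨g * x * g⁻¹,
        ⟨(E.mul_mem (E.mul_mem hg x.2.1) (E.inv_mem hg)), hN.conj_mem (x : G) x.2.2 g⟩⟩ = φ x) ∧
      ∃ m : ℕ, ¬ p ∣ m ∧ ∀ [Fintype ↥(E ⊓ N)], classInner (fun x : ↥(E ⊓ N) => θ ⟨x, x.2.2⟩) φ = m := by
  classical
  have := Fact.mk hp
  have := Fintype.ofFinite N
  obtain ⟨k, hk⟩ := hind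
  obtain ⟨m, hm, h1⟩ := exists_const_mem_indSpan (G := G) hp
  let F : G → ℂ := (N.index : ℂ) • extendByZero N (θ * fun n => conj (θ n))
  have hF : IsClassFunction G F := fun g x => by
    simp only [F, Pi.smul_apply]
    by_cases h : g ∈ N
    · rw [extendByZero_of_mem _ _ h, extendByZero_of_mem _ _ (hN.conj_mem g h x)]
      simp only [Pi.mul_apply, show θ ⟨x * g * x⁻¹, _⟩ = θ ⟨g, h⟩ from congrFun (hinv x) ⟨g, h⟩]
    · rw [extendByZero_of_not_mem _ _ h, extendByZero_of_not_mem _ _ fun e => h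
        (by simpa using hN.mem_comm e)]
  have h2 : classInner F (fun _ => (m : ℂ)) = m := by
    have := card_mul_classInner θ θ
    rw [hθ.classInner_self, mul_one] at this
    rw [classInner_smul_left, classInner_def, sum_extendByZero_mul, ← sum_mul]
    simp only [Pi.mul_apply]
    rw [← this, ← N.index_mul_card, map_intCast]
    have := card_ne_zero N
    have : (N.index : ℂ) ≠ 0 := Nat.cast_ne_zero.2 index_ne_zero_of_finite
    push_cast
    field_simp
  by_contra hc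
  refine hm ?_
  have h3 := classInner_mem_of_mem_indSpan (AddSubgroup.zmultiples (p : ℂ)) hF ?_ h1
  · obtain ⟨n, hn⟩ := AddSubgroup.mem_zmultiples_iff.1 h3
    rw [h2, zsmul_eq_mul] at hn
    exact ⟨n, by rw [mul_comm]; exact_mod_cast hn.symm⟩
  intro E hE _ ψ hψ
  have := Fintype.ofFinite ↥(E ⊓ N)
  let θD : ↥(E ⊓ N) → ℂ := fun x => θ ⟨x, x.2.2⟩
  let ψD : ↥(E ⊓ N) → ℂ := fun x => ψ ⟨x, x.2.1⟩
  have c1 : IsCharacter _ θD := hθ.isCharacter.comp (inclusion inf_le_right)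
  have c2 : IsCharacter _ ψD := hψ.isCharacter.comp (inclusion inf_le_left)
  have h4 : classInner (fun x : E => F x) ψ = (E ⊔ N).index * classInner θD (ψD * θD) := by
    have e1 := relIndex_mul_index (le_sup_right (a := E) (b := N))
    have e2 := card_inf_mul_relIndex N E
    have := Fintype.ofFinite ((E ⊓ N).subgroupOf E)
    rw [relIndex_sup_right] at e1
    rw [classInner_def, classInner_def, sum_eq_sum_subgroup (H := (E ⊓ N).subgroupOf E) fun g hg => by
        simp only [F, Pi.smul_apply]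
        rw [extendByZero_of_not_mem N _ (x := (g : G)) fun e => hg ⟨g.2, e⟩]; simp,
      ← Equiv.sum_comp (subgroupOfEquivOfLe (inf_le_left : E ⊓ N ≤ E)).symm.toEquiv,
      sum_congr rfl (g := fun x => N.index * (θD x * conj ((ψD * θD) x))) fun x _ => by
        change N.index * extendByZero N _ x * conj (ψD x) = _
        rw [extendByZero_of_mem _ _ x.2.2]
        simp only [Pi.mul_apply, map_mul, θD]
        ring,
      ← mul_sum, ← e1, ← e2, inf_comm N E]
    have := card_ne_zero ↥(E ⊓ N)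
    have : (N.relIndex E : ℂ) ≠ 0 := Nat.cast_ne_zero.2 (relIndex_pos' N E).ne'
    push_cast
    field_simp
  obtain ⟨a, ha, -⟩ := c1.exists_mult
  obtain ⟨b, hb, -⟩ := (c2.mul c1).exists_mult
  rw [h4, c1.isClassFunction.classInner_eq_sum_irr]
  simp only [ha, hb, map_natCast, ← Nat.cast_mul, ← Nat.cast_sum]
  suffices p ∣ (E ⊔ N).index * ∑ φ, a φ * b φ by
    obtain ⟨n, hn⟩ := this
    exact AddSubgroup.mem_zmultiples_iff.2 ⟨n, by rw [hn]; simp [mul_comm]⟩
  by_cases hEN : E ⊔ N = ⊤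
  swap
  · obtain ⟨j, -, hj⟩ := (Nat.dvd_prime_pow hp).1 ((index_dvd_of_le (le_sup_right : N ≤ E ⊔ N)).trans hk.dvd)
    rcases j with _ | j
    · exact absurd (index_eq_one.1 hj) hEN
    · exact (hj ▸ dvd_pow_self p j.succ_ne_zero).mul_right _
  by_contra hd
  let α : E →* MulAut ↥(E ⊓ N) := (E ⊓ N).normalizerMonoidHom.comp
    (inclusion (le_normalizer_inf le_normalizer le_normalizer_of_normal))
  let _ : MulAction E (IrrCharacter ↥(E ⊓ N)) :=
    { smul := fun g φ => irrAut (α g⁻¹) φ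
      one_smul := fun φ => by change irrAut (α 1⁻¹) φ = φ; rw [inv_one, map_one]; rfl
      mul_smul := fun g h φ => by
        change irrAut (α (g * h)⁻¹) φ = irrAut (α g⁻¹) (irrAut (α h⁻¹) φ)
        rw [mul_inv_rev, map_mul]; rfl }
  have i0 : ∀ (f : ↥(E ⊓ N) → ℂ), (∀ g x, f (α g x) = f x) → ∀ (g : E) (φ : IrrCharacter ↥(E ⊓ N)),
      classInner f (g • φ).1 = classInner f φ := fun f hf g φ => by
    rw [← classInner_comp_equiv (α g⁻¹).toEquiv f φ]
    congr 1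
    exact funext fun x => (hf _ x).symm
  have i1 : ∀ g x, θD (α g x) = θD x := fun g x => congrFun (hinv g) ⟨x, x.2.2⟩
  have i2 : ∀ g x, ψD (α g x) = ψD x := fun g x => hψ.isClassFunction ⟨x, x.2.1⟩ g
  obtain ⟨Q⟩ := (inferInstance : Nonempty (Sylow p E))
  obtain ⟨φ, f1, f2⟩ := exists_fixed_not_dvd Q.2 (fun φ => a φ * b φ) (fun g φ => by
    have j1 := i0 θD i1 g φ
    have j2 := i0 (ψD * θD) (fun g x => by simp only [Pi.mul_apply, i1, i2]) g φ
    rw [ha, ha] at j1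
    rw [hb, hb] at j2
    rw [Nat.cast_injective j1, Nat.cast_injective j2]) fun e => hd (e.mul_left _)
  refine hc ⟨E, φ, hE, hEN, φ.2, fun g hg x => ?_, a φ, fun e => f2 (e.mul_right _), ?_⟩
  · have h5 := (isSylowOf_top Q).sup_eq_of_relIndex (N := N.subgroupOf E) le_top
      ⟨k, by rw [relIndex_top_right, ← relIndex, ← relIndex_sup_right, hEN, relIndex_top_right, hk]⟩
    have h6 : (⊤ : Subgroup E) ≤ MulAction.stabilizer E φ := h5.ge.trans (sup_le f1 fun n hn =>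
      Subtype.ext (funext fun y => φ.2.isClassFunction y ⟨(n⁻¹ : E), (n⁻¹).2, N.inv_mem hn⟩))
    exact congrFun (congrArg Subtype.val (h6 (mem_top (⟨g, hg⟩ : E)⁻¹))) x |>.symm.trans
      (congrArg φ.1 (Subtype.ext (by rw [inv_inv]; rfl))) |>.symm
  · intro i
    rw [← ha]; congr; exact Subsingleton.elim _ _

theorem commutator_le_of_central {E C Q : Subgroup G} (hC : C ≤ centralizer (E : Set G))
    (hQ : Q ≤ E) (h : E ≤ Q ⊔ C) : ⁅E, E⁆ ≤ ⁅Q, Q⁆ := by
  have hn : Q ≤ normalizer (C : Set G) := le_normalizer_iff.2 fun q hq c hc => by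
    rwa [hC hc q (hQ hq), mul_inv_cancel_right]
  refine commutator_le.2 fun a ha b hb => ?_
  obtain ⟨q, hq, c, hc, rfl⟩ := (mem_sup_of_le_normalizer_right hn).1 (h ha)
  obtain ⟨r, hr, d, hd, rfl⟩ := (mem_sup_of_le_normalizer_right hn).1 (h hb)
  convert commutator_mem_commutator hq hr using 1
  have h1 : Commute c (r * d) := (hC hc _ hb).symm
  have h2 : Commute q d := hC hd _ (hQ hq)
  simp only [commutatorElement_def]
  calc _ = q * (c * (r * d) * c⁻¹) * q⁻¹ * (r * d)⁻¹ := by group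
    _ = q * r * (d * q⁻¹ * d⁻¹) * r⁻¹ := by rw [h1.eq, mul_inv_cancel_right]; group
    _ = _ := by rw [← h2.inv_left.eq, mul_inv_cancel_right]

theorem s0897 [Fintype G] {p : ℕ} [hp : Fact p.Prime] (N : Subgroup G) [hN : N.Normal]
    (hind : ∃ k : ℕ, N.index = p ^ k) (P : Sylow p G) (hP : ⁅(P : Subgroup G), (P : Subgroup G)⁆ ⊓ N = ⊥)
    {θ : N → ℂ} (hθ : IsIrrCharacter N θ) (hinv : ∀ g, conjBy θ g = θ) :
    ∃ χ, IsIrrCharacter G χ ∧ ∀ n : N, χ n = θ n := by
  classical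
  obtain ⟨E, φ, hE, hEN, hφ, -, m, hm, h1⟩ := s0896 hp.out N hind hθ hinv
  have := Fintype.ofFinite ↥(E ⊓ N)
  have hE' : ⁅E, E⁆ ⊓ N = ⊥ := by
    obtain ⟨C, c1, -, -, k, c2⟩ := isElementary_iff.1 hE
    obtain ⟨Q, hQ⟩ := exists_isSylowOf p E
    obtain ⟨g, -, hg⟩ := (isSylowOf_top P).exists_cj_le hQ.isP le_top
    have h2 := commutator_le_of_central (C := C.map E.subtype) (by
      rintro _ ⟨c, hc, rfl⟩ e he
      exact congrArg Subtype.val (mem_center_iff.1 (c1 hc) ⟨e, he⟩)) hQ.le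
      (hQ.sup_eq_of_relIndex (map_subtype_le C) ⟨k, by
        rw [← c2, relIndex, subgroupOf, comap_map_eq_self_of_injective E.subtype_injective]⟩).ge
    refine eq_bot_iff.2 fun x hx => ?_
    have h3 : g * x * g⁻¹ ∈ ⁅(P : Subgroup G), (P : Subgroup G)⁆ ⊓ N := ⟨commutator_mono hg hg (by
      rw [cj, ← map_commutator]; exact mem_map_of_mem _ (h2 hx.1)), hN.conj_mem _ hx.2 g⟩
    rwa [hP, mem_bot, conj_eq_one_iff] at h3
  obtain ⟨l, rfl⟩ := hφ.exists_hom_of_comm fun a b => Subtype.ext (commutatorElement_eq_one_iff_mul_comm.1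
    (mem_bot.1 (hE'.le ⟨commutator_mem_commutator a.2.1 b.2.1,
      N.mul_mem (N.mul_mem (N.mul_mem a.2.2 b.2.2) (N.inv_mem a.2.2)) (N.inv_mem b.2.2)⟩)))
  obtain ⟨η, hη⟩ := mem_extendable.1 (mem_extendable_of_commutator
    (l := l.comp (subgroupOfEquivOfLe (inf_le_left : E ⊓ N ≤ E)).toMonoidHom) fun n hn => by
      have : ((n : E) : G) ∈ ⁅E, E⁆ ⊓ N := ⟨by
        rw [← map_subtype_commutator]; exact mem_map_of_mem _ hn, n.2.2⟩
      rw [show n = 1 from Subtype.ext (Subtype.ext (mem_bot.1 (hE'.le this))), map_one])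
  obtain ⟨Γ, _, _, π, ι, ξ, μ, h⟩ := exists_isCover hθ hinv
  have := h.normal_range
  let D := ι.range.subgroupOf (E.comap π)
  have := Fintype.ofFinite D
  let T := cosetAvg D ((fun x : E.comap π => ξ x) * fun x => conj (η (π.subgroupComap E x) : ℂ))
  have hT : IsCharacter _ T := ((h.irr.isCharacter.restrict _).mul
    ((isCharacter_hom η).comp _).conj).cosetAvg
  have t1 : T 1 = m := by
    let e : ↥(E ⊓ N) ≃ D := Equiv.ofBijective (fun x => ⟨⟨ι ⟨x, x.2.2⟩, by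
      rw [mem_comap, h.π_ι]; exact x.2.1⟩, _, rfl⟩) ⟨fun x y e => Subtype.ext (Subtype.mk.inj
        (h.ι_injective (congrArg (fun d : D => ((d : E.comap π) : Γ)) e))), by
        rintro ⟨⟨x, h2⟩, n, h3⟩
        obtain rfl : ι n = x := h3
        exact ⟨⟨n, by simpa [h.π_ι] using h2, n.2⟩, rfl⟩⟩
    rw [← h1, classInner_def, Nat.card_congr e]
    simp only [T, cosetAvg, mul_one]
    rw [← e.sum_comp]
    congr 1
    refine sum_congr rfl fun x _ => ?_
    have := hη ⟨⟨x, x.2.1⟩, x.2⟩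
    rw [Pi.mul_apply, show π.subgroupComap E (e x) = ⟨x, x.2.1⟩ from Subtype.ext (h.π_ι _), this]
    exact congrArg (· * _) (h.χ_ι _)
  have t2 : ∀ z (hz : π z = 1), T ⟨z, by simp [hz]⟩ = m * (μ ⟨z, by simp [hz]⟩)⁻¹ := fun z hz => by
    rw [← t1]
    simp only [T, cosetAvg, mul_one, mul_assoc, sum_mul]
    congr 1
    refine sum_congr rfl fun x _ => ?_
    have h2 := h.μ_mul_χ hz
    have h3 := h.irr.one_ne_zero
    rw [Pi.mul_apply, Pi.mul_apply, map_mul, show π.subgroupComap E ⟨z, _⟩ = 1 from Subtype.ext hz,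
      mul_one, Subgroup.coe_mul, ← h.central z hz, h.irr.apply_mul_of_comm (h.central z hz), ← h2]
    rw [← h2] at h3
    have := right_ne_zero_of_mul h3
    push_cast
    field_simp
  let f : E.comap π →* Γ ⧸ ι.range := (QuotientGroup.mk' _).comp (E.comap π).subtype
  obtain ⟨β, b1, b2⟩ := hT.exists_of_surjective f (fun x => by
      obtain ⟨x, rfl⟩ := QuotientGroup.mk_surjective x
      obtain ⟨a, ha, n, hn, e⟩ := (mem_sup_of_normal_right).1 (hEN.ge (mem_top (π x)))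
      refine ⟨⟨x * (ι ⟨n, hn⟩)⁻¹, by simpa [h.π_ι, ← e] using ha⟩, ?_⟩
      exact QuotientGroup.mk_mul_of_mem _ (inv_mem ⟨_, rfl⟩))
    fun n hn => by
      simp only [T, cosetAvg, mul_one]
      congr 1
      exact Fintype.sum_equiv (Equiv.mulRight (⟨n, (QuotientGroup.eq_one_iff (n : Γ)).1 hn⟩ : D)) _ _
        fun _ => rfl
  obtain ⟨k, hk⟩ := hind
  refine h.exists_extension (mem_of_coprime (m := p ^ k) (n := m) _ (Nat.Coprime.pow_left k
    (hp.out.coprime_iff_not_dvd.2 hm)) ?_ (mem_extendable.2 ⟨(detHom fun x : Γ => β x)⁻¹, fun x => ?_⟩))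
  · rw [← hk, ← h.index_comap]
    exact pow_index_mem_extendable' h.μ_conj
  have h2 : (fun x : N.comap π => β (x : Γ)) = (m : ℂ) • fun x => (μ⁻¹ x : ℂ) := by
    ext ⟨x, hx⟩
    obtain ⟨z, n, hz, rfl⟩ := h.exists_mul hx
    rw [Pi.smul_apply, MonoidHom.inv_apply, h.μ_mul_ι hz, smul_eq_mul, ← t2 z hz, ← b2]
    exact congrArg β (QuotientGroup.mk_mul_of_mem _ ⟨_, rfl⟩)
  rw [MonoidHom.inv_apply, ← detHom_restrict (χ := fun x : Γ => β x) (b1.comp (QuotientGroup.mk' _)),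
    inv_eq_iff_eq_inv]
  refine (congrArg (detHom · x) h2).trans ?_
  simp only [detHom_natCast_smul (isCharacter_hom _), detHom_hom]
  simp

theorem comm_inf_eq_bot [Finite G] {P N : Subgroup G}
    (hcent : ∀ x ∈ P ⊓ N, ∀ y ∈ P, x * y = y * x)
    (hlin : ∀ lam : ↥(P ⊓ N) → ℂ, IsCharacter _ lam → lam 1 = 1 → ∃ μ : P → ℂ, IsCharacter _ μ ∧
      μ 1 = 1 ∧ ∀ x : ↥(P ⊓ N), μ ⟨(x : G), x.2.1⟩ = lam x) : ⁅P, P⁆ ⊓ N = ⊥ := by
  refine eq_bot_iff.2 fun x hx => by_contra fun h => ?_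
  have hP : x ∈ P := commutator_le.2 (fun a ha b hb =>
    mul_mem (mul_mem (mul_mem ha hb) (inv_mem ha)) (inv_mem hb)) hx.1
  obtain ⟨l, hl⟩ := exists_hom_apply_ne_one (G := ↥(P ⊓ N))
    (fun a b => Subtype.ext (hcent a a.2 b b.2.1)) (g := ⟨x, hP, hx.2⟩)
    fun e => h (congrArg Subtype.val e)
  obtain ⟨μ, h1, h2, h3⟩ := hlin _ (isCharacter_hom l) (by simp)
  obtain ⟨ν, rfl⟩ := h1.exists_hom h2
  refine hl (Units.ext ((h3 _).symm.trans ?_))
  have := hx.1
  rw [← map_subtype_commutator] at this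
  obtain ⟨y, hy, rfl⟩ := this
  exact congrArg Units.val (Abelianization.commutator_subset_ker ν hy)

end Cfsg.Agent.H3
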