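import Cfsg.Agent.H3.Ext
import Cfsg.Agent.Inv.Two
import Cfsg.Agent.PLoc.Transfer2

/-! Normal Sylow subgroups of linear groups of small degree. -/

set_option autoImplicit false
set_option linter.unusedSectionVars false

namespace Cfsg.Agent.H3

open Cfsg Finset Subgroup Cfsg.Agent.PLoc Cfsg.Agent.Char Cfsg.Agent.Blk
open scoped ComplexConjugate

variable {G : Type*} [Group G]

theorem sum_sub_real [Fintype G] (H : Subgroup G) [Fintype H] [DecidablePred (· ∈ H)] (F : G → ℝ) :
    ∑ x : H, F x = ∑ g, if g ∈ H then F g else 0 := by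
  rw [← sum_filter]
  exact (sum_subtype _ (by simp) F).symm

theorem sum_norm_irr [Fintype G] {χ : G → ℂ} (hχ : IsIrrCharacter G χ) :
    ∑ g, ‖χ g‖ ^ 2 = Nat.card G := by
  have := classInner_self_re χ
  rw [hχ.classInner_self, Complex.one_re, eq_inv_mul_iff_mul_eq₀ (by exact_mod_cast Nat.card_pos.ne'),
    mul_one] at this
  exact this.symm

theorem s0898a [Fintype G] (H : Subgroup G) [Fintype H] (hab : ∀ a ∈ H, ∀ b ∈ H, a * b = b * a)
    (hZ : H ⊓ center G = ⊥) (hone : ∀ g : G, g ∉ center G → ∀ a b : G,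
      centralizer {g} ⊓ cj a H ≠ ⊥ → centralizer {g} ⊓ cj b H ≠ ⊥ → cj a H = cj b H)
    {χ : G → ℂ} (hχ : IsIrrCharacter G χ) (hker : ∃ h ∈ H, χ h ≠ χ 1) :
    (Nat.card H : ℝ) * (classInner (fun h : H => χ h) (fun _ => 1)).re ^ 2 < (χ 1).re ^ 2 := by
  classical
  obtain ⟨h₀, hh₀, hk⟩ := hker
  have h₁ : h₀ ≠ 1 := fun e => hk (e ▸ rfl)
  set N := normalizer (H : Set G)
  let X : G → Prop := fun y => y ∉ center G ∧ ∃ h ∈ H, h ≠ 1 ∧ h * y = y * h
  have hX : ∀ x y, X (x⁻¹ * y * x) → y ∉ center G ∧ centralizer {y} ⊓ cj x H ≠ ⊥ := by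
    rintro x y ⟨h1, h, hh, h2, h3⟩
    refine ⟨fun e => h1 (by rwa [mul_assoc, ← mem_center_iff.1 e x, inv_mul_cancel_left]), fun e => h2 ?_⟩
    have : x * h * x⁻¹ ∈ centralizer {y} ⊓ cj x H := ⟨mem_centralizer_singleton_iff.2 (by
      calc _ = x * (h * (x⁻¹ * y * x)) * x⁻¹ := by group
        _ = _ := by rw [h3]; group), conj_mem_cj.2 hh⟩
    rwa [e, mem_bot, conj_eq_one_iff] at this
  have s1 : ∑ y, (if X y then ‖χ y‖ ^ 2 else 0) < Nat.card N := by
    have e1 : ∀ x : G, ∑ y, (if X y then ‖χ y‖ ^ 2 else 0) =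
        ∑ y, (if X (x⁻¹ * y * x) then ‖χ y‖ ^ 2 else 0) := fun x =>
      Fintype.sum_equiv (MulAut.conj x).toEquiv _ _ fun y => by
        simp [mul_assoc, ← hχ.isClassFunction y x]
    have e2 : ∀ y, ∑ x, (if X (x⁻¹ * y * x) then ‖χ y‖ ^ 2 else 0) ≤
        Nat.card N * if y = 1 then 0 else ‖χ y‖ ^ 2 := fun y => by
      rw [← sum_filter, sum_const, nsmul_eq_mul]
      rcases (univ.filter fun x => X (x⁻¹ * y * x)).eq_empty_or_nonempty with e | ⟨a, ha⟩
      · rw [e]; simp only [card_empty, Nat.cast_zero, zero_mul]; positivity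
      have ha := hX _ _ (mem_filter.1 ha).2
      rw [if_neg fun e : y = 1 => ha.1 (e ▸ one_mem _)]
      refine mul_le_mul_of_nonneg_right (Nat.cast_le.2 ?_) (by positivity)
      rw [Nat.card_eq_fintype_card, Fintype.card_subtype]
      refine card_le_card_of_injOn (a⁻¹ * ·) (fun x hx => ?_) fun _ _ _ _ e => mul_left_cancel e
      have := hone y ha.1 x a (hX _ _ (mem_filter.1 hx).2).2 ha.2
      simp only [coe_filter, mem_univ, true_and, Set.mem_ofPred_eq]
      rw [← cj_eq_self_iff, cj_mul, this, ← cj_mul, inv_mul_cancel, cj_one]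
    have e3 : ∑ y, (if y = 1 then 0 else ‖χ y‖ ^ 2) < Nat.card G := by
      rw [← sum_norm_irr hχ]
      refine sum_lt_sum (fun y _ => by split_ifs; exacts [by positivity, le_rfl]) ⟨1, mem_univ _, ?_⟩
      rw [if_pos rfl]
      exact pow_pos (norm_pos_iff.2 hχ.one_ne_zero) 2
    have e4 := sum_le_sum fun y (_ : y ∈ univ) => e2 y
    rw [sum_comm, ← sum_congr rfl fun x _ => e1 x, ← mul_sum, sum_const, card_univ, nsmul_eq_mul,
      ← Nat.card_eq_fintype_card] at e4
    have p1 : (0 : ℝ) < Nat.card N := by exact_mod_cast Nat.card_pos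
    have p2 : (0 : ℝ) < Nat.card G := by exact_mod_cast Nat.card_pos
    nlinarith
  let A := cosetAvg H χ
  have := Fintype.ofFinite (H.subgroupOf N)
  have hA : cosetAvg (H.subgroupOf N) (fun y : N => χ y) = fun y : N => A y := funext fun y => by
    simp only [A, cosetAvg]
    rw [card_subgroupOf_of_le le_normalizer, ← (subgroupOfEquivOfLe (H := H) le_normalizer).toEquiv.sum_comp]
    rfl
  have hA' : ∀ h ∈ H, ∀ y, A (h * y) = A y := fun h hh y => by
    simp only [A, cosetAvg, ← mul_assoc]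
    congr 1
    exact Fintype.sum_equiv (Equiv.mulRight (⟨h, hh⟩ : H)) _ _ fun _ => rfl
  have s2 : (Nat.card N : ℝ) ≤ ∑ y : N, (‖χ y‖ ^ 2 - ‖A y‖ ^ 2) := by
    have c1 := hχ.isCharacter.restrict N
    have c2 := c1.cosetAvg (N := H.subgroupOf N)
    have c3 := classInner_cosetAvg (N := H.subgroupOf N) (fun y : N => χ y)
      (cosetAvg (H.subgroupOf N) fun y : N => χ y)
    rw [cosetAvg_of_ker c2 fun n hn => by
      rw [hA]; simpa using hA' n hn 1] at c3
    obtain ⟨m, hm⟩ := (c1.isGen.sub c2.isGen).classInner_int (c1.isGen.sub c2.isGen)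
    have c4 : (m : ℂ) ≠ 0 := fun e => hk (by
      have := classInner_self_eq_zero.1 (hm.trans e)
      rw [hA, sub_eq_zero] at this
      refine (congrFun this ⟨h₀, le_normalizer hh₀⟩).trans (Eq.trans ?_ (congrFun this 1).symm)
      simpa using hA' h₀ hh₀ 1)
    have c5 := classInner_self_re_nonneg ((fun y : N => χ y) - cosetAvg (H.subgroupOf N) fun y : N => χ y)
    rw [hm, Complex.intCast_re] at c5
    have c6 : (1 : ℝ) ≤ m := by
      have : m ≠ 0 := by exact_mod_cast c4
      have : 0 ≤ m := by exact_mod_cast c5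
      exact_mod_cast (show 1 ≤ m by omega)
    rw [classInner_sub_left, classInner_sub_right, classInner_sub_right, c2.classInner_comm c1, ← c3,
      sub_self, sub_zero] at hm
    have c7 := congrArg Complex.re hm
    rw [Complex.sub_re, classInner_self_re, classInner_self_re, hA, ← mul_sub, ← sum_sub_distrib,
      Complex.intCast_re, inv_mul_eq_iff_eq_mul₀ (by exact_mod_cast Nat.card_pos.ne')] at c7
    rw [c7]
    exact le_mul_of_one_le_right (by positivity) c6
  obtain ⟨n, -, hn⟩ := hχ.exists_nat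
  obtain ⟨c, hc⟩ := (hχ.isCharacter.restrict H).classInner_nat isCharacter_one
  have s3 : ∀ z ∈ center G, ‖χ z‖ = n ∧ ‖A z‖ = c := fun z hz => by
    have e1 := hχ.norm_eq_of_comm (fun g => (mem_center_iff.1 hz g).symm)
    rw [hn, Complex.norm_natCast] at e1
    refine ⟨e1, ?_⟩
    rw [classInner_one_right] at hc
    have : A z = χ z / χ 1 * c := by
      simp only [A, cosetAvg, ← hc, mem_center_iff.1 hz,
        hχ.apply_mul_of_comm fun g => (mem_center_iff.1 hz g).symm, mul_sum]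
      exact sum_congr rfl fun _ _ => by ring
    have n0 : (n : ℝ) ≠ 0 := fun e => hχ.one_ne_zero (by rw [hn]; exact_mod_cast e)
    rw [this, norm_mul, norm_div, e1, hn, Complex.norm_natCast, div_self n0, one_mul,
      Complex.norm_natCast]
  have s4 : ∀ y, (if y ∈ N then ‖χ y‖ ^ 2 - ‖A y‖ ^ 2 else 0) ≤ (if X y then ‖χ y‖ ^ 2 else 0) +
      (if y ∈ center G then (n : ℝ) ^ 2 else 0) - if y ∈ H ⊔ center G then (c : ℝ) ^ 2 else 0 := by
    intro y
    by_cases h1 : y ∈ H ⊔ center G
    · obtain ⟨h, hh, z, hz, rfl⟩ := mem_sup_of_normal_right.1 h1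
      rw [if_pos h1, if_pos (mul_mem (le_normalizer hh) (center_le_normalizer _ hz)), hA' h hh,
        (s3 z hz).2]
      by_cases h2 : h * z ∈ center G
      · rw [if_neg fun e : X _ => e.1 h2, if_pos h2, (s3 _ h2).1, zero_add]
      · rw [if_pos (show X _ from ⟨h2, h₀, hh₀, h₁, by
          rw [← mul_assoc, hab h₀ hh₀ h hh, mul_assoc, mul_assoc, mem_center_iff.1 hz]⟩), if_neg h2,
          add_zero]
    rw [if_neg h1, if_neg fun e => h1 (mem_sup_right e), add_zero, sub_zero]
    split_ifs with h2 h3 h3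
    · exact sub_le_self _ (by positivity)
    · suffices A y = χ y by rw [this, sub_self]
      simp only [A, cosetAvg]
      rw [sum_congr rfl (g := fun _ => χ y) fun h _ => by
        obtain ⟨k, -, e⟩ := exists_conj_of_centralizer_trivial H (fun h hh => conj_mem_of_mem_normalizer h2 hh)
          (fun h hh e => by_contra fun e' => h3 ⟨fun e => h1 (mem_sup_right e), h, hh, e', e⟩) h.2
        rw [← e, hχ.isClassFunction], sum_const, card_univ, nsmul_eq_mul, ← Nat.card_eq_fintype_card,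
        inv_mul_cancel_left₀ (card_ne_zero H)]
    · positivity
    · rfl
  have s5 := sum_le_sum fun y (_ : y ∈ univ) => s4 y
  rw [sum_sub_distrib, sum_add_distrib, ← sum_sub_real N fun y => ‖χ y‖ ^ 2 - ‖A y‖ ^ 2,
    ← sum_sub_real (center G) fun _ => (n : ℝ) ^ 2, ← sum_sub_real (H ⊔ center G) fun _ => (c : ℝ) ^ 2,
    sum_const, sum_const, card_univ, card_univ, ← Nat.card_eq_fintype_card, ← Nat.card_eq_fintype_card,
    card_sup_of_disjoint le_normalizer_of_normal hZ, nsmul_eq_mul, nsmul_eq_mul, Nat.cast_mul] at s5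
  have p1 : (0 : ℝ) < Nat.card (center G) := by exact_mod_cast Nat.card_pos
  rw [hc, hn, Complex.natCast_re, Complex.natCast_re]
  nlinarith

theorem s0898b [Fintype G] (H : Subgroup G) [Fintype H] (hab : ∀ a ∈ H, ∀ b ∈ H, a * b = b * a)
    (hZ : H ⊓ center G = ⊥) (hone : ∀ g : G, g ∉ center G → ∀ a b : G,
      centralizer {g} ⊓ cj a H ≠ ⊥ → centralizer {g} ⊓ cj b H ≠ ⊥ → cj a H = cj b H)
    {χ : G → ℂ} (hχ : IsIrrCharacter G χ) (h1 : χ 1 ≠ 1)
    (hM : ∀ M : Subgroup G, M.Normal → H ≤ M → M = ⊤) : (Nat.card H : ℝ) < (1 + (χ 1).re) ^ 2 := by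
  classical
  obtain ⟨n, n0, hn⟩ := hχ.exists_nat
  have c1 := hχ.isCharacter.mul hχ.isCharacter.conj
  obtain ⟨m, hm, e1⟩ := c1.exists_mult
  choose d d0 hd using fun ψ : IrrCharacter G => ψ.2.exists_nat
  choose c hc using fun ψ : IrrCharacter G =>
    (ψ.2.isCharacter.restrict H).classInner_nat isCharacter_one
  have m1 : m (irrOne G) = 1 := by
    have := hm (irrOne G)
    rw [irrOne_coe, ← classInner_eq_one_right, hχ.classInner_self] at this
    exact_mod_cast this.symm
  have e2 : n * n = ∑ ψ, m ψ * d ψ := by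
    have := congrFun e1 1
    simp only [Pi.mul_apply, hn, map_natCast, Finset.sum_apply, Pi.smul_apply, hd, smul_eq_mul] at this
    exact_mod_cast this
  have e3 : n ≤ ∑ ψ, m ψ * c ψ := by
    obtain ⟨a, ha, e⟩ := (hχ.isCharacter.restrict H).exists_mult
    have h2 := (hχ.isClassFunction.restrict H).classInner_eq_sum_irr fun h : H => χ h
    have h3 : (fun h : H => χ h) * (fun h : H => conj (χ h)) =
        ∑ ψ : IrrCharacter G, (m ψ : ℂ) • fun h : H => ψ.1 h := funext fun h => by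
      rw [Finset.sum_apply]
      exact (congrFun e1 h).trans (Finset.sum_apply _ _ _)
    rw [classInner_eq_one_right, h3, classInner_sum_left] at h2
    simp only [classInner_smul_left, hc, ha, map_natCast] at h2
    have h4 := congrFun e 1
    simp only [OneMemClass.coe_one, hn, Finset.sum_apply, Pi.smul_apply, fun l : IrrCharacter H =>
      l.2.one_eq_one_of_comm fun a b => Subtype.ext (hab a a.2 b b.2), smul_eq_mul, mul_one] at h4
    rw [show ∑ ψ, m ψ * c ψ = ∑ l, a l * a l by exact_mod_cast h2, show n = ∑ l, a l by exact_mod_cast h4]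
    exact sum_le_sum fun l _ => Nat.le_mul_self _
  have d1 : d (irrOne G) = 1 := by exact_mod_cast (show (d (irrOne G) : ℂ) = 1 from (hd (irrOne G)).symm)
  have c1 : c (irrOne G) = 1 := by
    exact_mod_cast (hc (irrOne G)).symm.trans isIrrCharacter_one.classInner_self
  have n1 : 2 ≤ n := by
    have : n ≠ 1 := fun e => h1 (by rw [hn, e, Nat.cast_one])
    omega
  rw [← add_sum_erase _ _ (mem_univ (irrOne G)), m1, d1] at e2
  rw [← add_sum_erase _ _ (mem_univ (irrOne G)), m1, c1] at e3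
  have e4 : ∀ ψ ∈ univ.erase (irrOne G), √(Nat.card H) * c ψ < d ψ := fun ψ hψ => by
    have := s0898a H hab hZ hone ψ.2 (by
      by_contra! hk
      have := hM (charKer ψ.1) ψ.2.isClassFunction.charKer_normal
        fun h hh => ψ.2.isCharacter.mem_charKer.2 (hk h hh)
      exact (mem_erase.1 hψ).1 (Subtype.ext (ψ.2.eq_one_of_forall_eq fun g =>
        ψ.2.isCharacter.mem_charKer.1 (this.ge (mem_top g)))))
    rw [hc, hd, Complex.natCast_re, Complex.natCast_re] at this
    refine lt_of_pow_lt_pow_left₀ 2 (by positivity) ?_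
    rwa [mul_pow, Real.sq_sqrt (by positivity)]
  obtain ⟨ψ, hψ, e5⟩ := exists_ne_zero_of_sum_ne_zero (s := univ.erase (irrOne G))
    (f := fun ψ => m ψ * d ψ) (by nlinarith)
  have e6 := sum_lt_sum (s := univ.erase (irrOne G)) (f := fun ψ => √(Nat.card H) * ((m ψ * c ψ : ℕ) : ℝ))
    (g := fun ψ => ((m ψ * d ψ : ℕ) : ℝ))
    (fun ψ hψ => by push_cast; nlinarith [e4 ψ hψ, Nat.cast_nonneg (α := ℝ) (m ψ)])
    ⟨ψ, hψ, by
      have : (0 : ℝ) < m ψ := by exact_mod_cast Nat.pos_of_ne_zero (left_ne_zero_of_mul e5)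
      push_cast; nlinarith [e4 ψ hψ]⟩
  rw [← mul_sum, ← Nat.cast_sum, ← Nat.cast_sum] at e6
  have e7 : (n : ℝ) * n = 1 * 1 + (∑ ψ ∈ univ.erase (irrOne G), m ψ * d ψ : ℕ) := by exact_mod_cast e2
  have e8 : (n : ℝ) ≤ 1 * 1 + (∑ ψ ∈ univ.erase (irrOne G), m ψ * c ψ : ℕ) := by exact_mod_cast e3
  have e9 : (2 : ℝ) ≤ n := by exact_mod_cast n1
  have e10 : √(Nat.card H) < 1 + n := by
    have := Real.sqrt_nonneg (Nat.card H)
    by_contra! h
    nlinarith
  rw [hn, Complex.natCast_re]
  exact (Real.sqrt_lt' (by positivity)).1 e10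

theorem exists_nonlinear [Finite G] {ψ : G → ℂ} (hψ : IsCharacter G ψ) {n : ℕ} (hn : ψ 1 = n)
    (hf : ∀ g, ψ g = ψ 1 → g = 1) (h : ¬ ∀ a b : G, a * b = b * a) :
    ∃ χ, IsIrrCharacter G χ ∧ ∃ d : ℕ, χ 1 = d ∧ 1 < d ∧ d ≤ n := by
  have := Fintype.ofFinite G
  by_contra! hc
  refine h fun a b => commutatorElement_eq_one_iff_mul_comm.1 (hf _ ?_)
  rw [hψ.isClassFunction.apply_eq_sum_irr, hψ.isClassFunction.apply_eq_sum_irr 1]
  refine sum_congr rfl fun χ _ => ?_
  by_cases e : classInner ψ χ = 0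
  · simp [e]
  obtain ⟨d, d0, hd⟩ := χ.2.exists_nat
  have h1 := hψ.degree_le_of_constituent χ.2 e
  rw [hd, hn, Complex.natCast_re, Complex.natCast_re, Nat.cast_le] at h1
  have h2 : d = 1 := by_contra fun e => (hc χ χ.2 d hd (by omega)).not_ge h1
  rw [h2, Nat.cast_one] at hd
  rw [hd, commutatorElement_def, χ.2.isCharacter.commutator_eq_of_one hd]

theorem feit_core [Finite G] {ψ : G → ℂ} (hψ : IsCharacter G ψ) {n : ℕ} (hn : ψ 1 = n)
    (hf : ∀ g, ψ g = ψ 1 → g = 1) {p : ℕ} [hp : Fact p.Prime] (hnp : n + 1 < p) (P : Sylow p G)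
    (hmin : ∀ K : Subgroup G, K ≠ ⊤ → ∀ Q, IsSylowOf p Q K → K ≤ normalizer (Q : Set G))
    (hc : (n + 1) ^ 2 ≤ Nat.card (P : Subgroup G)) : (P : Subgroup G).Normal := by
  classical
  have := Fintype.ofFinite G
  by_contra hP
  have hab : ∀ a ∈ (P : Subgroup G), ∀ b ∈ (P : Subgroup G), a * b = b * a := by
    by_contra h
    obtain ⟨χ, h1, d, h2, h3, h4⟩ := exists_nonlinear (hψ.restrict P) hn
      (fun g e => Subtype.ext (hf g e)) fun e => h fun a ha b hb =>
        congrArg Subtype.val (e ⟨a, ha⟩ ⟨b, hb⟩)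
    obtain ⟨k, hk⟩ := IsPGroup.iff_card.1 P.2
    obtain ⟨j, -, rfl⟩ := (Nat.dvd_prime_pow hp.out).1 ((h1.degree_dvd_card h2).trans hk.dvd)
    have := Nat.le_self_pow (n := j) (by rintro rfl; simp at h3) p
    omega
  have h1 : ∀ K : Subgroup G, K ≠ ⊤ → (P : Subgroup G) ≤ K → K ≤ normalizer ((P : Subgroup G) : Set G) :=
    fun K hK h => hmin K hK P (isSylowOf_sylow P h)
  have h2 : ∀ M : Subgroup G, M.Normal → (P : Subgroup G) ≤ M → M = ⊤ := fun M _ h => by_contra fun e =>
    hP (normal_of_top_le_normalizer ((isSylowOf_sylow P h).frattini_sup.ge.trans (sup_le (h1 M e h) le_rfl)))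
  have h3 : ∀ D : Subgroup G, D.Normal → (P : Subgroup G) ≤ centralizer (D : Set G) → D ≤ center G :=
    fun D _ h d hd => mem_center_iff.2 fun g => ((h2 _ inferInstance h).ge (mem_top g) d hd).symm
  have h4 : ∀ x ∉ center G, centralizer {x} ≠ ⊤ := fun x hx e =>
    hx (mem_center_iff.2 fun g => mem_centralizer_singleton_iff.1 (e.ge (mem_top g)))
  have h5 := inf_commutator_inf_center_eq_bot (isMulCommutative_of_forall hab) P.card_coprime_index
  obtain ⟨χ, c1, d, c2, c3, c4⟩ := exists_nonlinear hψ hn hf fun e =>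
    hP ⟨fun a ha g => by rwa [e g, mul_inv_cancel_right]⟩
  by_cases hK : _root_.commutator G = ⊤
  · rw [hK, inf_top_eq] at h5
    have key : ∀ a x, x ∈ cj a (P : Subgroup G) → x ≠ 1 → ∀ y, y * x = x * y → (∃ k, y ^ p ^ k = 1) →
        x ∉ center G ∧ y ∈ cj a (P : Subgroup G) := fun a x hx e y hy ⟨k, hk⟩ => by
      have i1 : x ∉ center G := fun h => e (by
        have : a⁻¹ * x * a ∈ (P : Subgroup G) ⊓ center G := ⟨mem_cj.1 hx, by
          rwa [mul_assoc, ← mem_center_iff.1 h a, inv_mul_cancel_left]⟩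
        simpa [h5, mul_assoc, inv_mul_eq_one] using this)
      have i2 : IsSylowOf p (cj a P) (centralizer {x}) := (cj_top a ▸ (isSylowOf_top P).cj a).of_le
        (fun z hz => mem_centralizer_singleton_iff.2 (comm_of_mem (isMulCommutative_cj a
          (isMulCommutative_of_forall hab)) hz hx)) le_top
      have i3 := zpowers_le.2 (mem_centralizer_singleton_iff.2 hy)
      exact ⟨i1, i2.le_of_le_normalizer (isPGroup_zpowers hk) i3 (i3.trans (hmin _ (h4 x i1) _ i2))
        (mem_zpowers y)⟩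
    have := s0898b (P : Subgroup G) hab h5 (fun g hg a b ha hb => by
      obtain ⟨⟨x, hx⟩, x1⟩ := ne_bot_iff_exists_ne_one.1 ha
      obtain ⟨⟨y, hy⟩, y1⟩ := ne_bot_iff_exists_ne_one.1 hb
      have x1 : x ≠ 1 := fun e => x1 (Subtype.ext e)
      have y1 : y ≠ 1 := fun e => y1 (Subtype.ext e)
      obtain ⟨Q, hQ⟩ := exists_isSylowOf p (centralizer {g})
      obtain ⟨c, -, e⟩ := (isSylowOf_top P).exists_cj_le hQ.isP le_top
      have i1 : ∀ a, centralizer {g} ⊓ cj a P ≤ cj c⁻¹ P := fun a =>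
        (hQ.le_of_le_normalizer ((isPGroup_cj a P.2).to_le inf_le_right) inf_le_left
          (inf_le_left.trans (hmin _ (h4 g hg) _ hQ))).trans (cj_le_iff.1 e)
      have i2 : ∀ a x, x ∈ centralizer {g} ⊓ cj a P → x ≠ 1 → cj c⁻¹ P = cj a P := fun a x hx e =>
        (cj_top c⁻¹ ▸ (isSylowOf_top P).cj c⁻¹ : IsSylowOf p _ ⊤).eq_of_le (isPGroup_cj a P.2) le_top
          (fun z hz => (key a x hx.2 e z (comm_of_mem (isMulCommutative_cj _
            (isMulCommutative_of_forall hab)) hz (i1 a hx))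
            (isPGroup_iff_forall.1 (isPGroup_cj _ P.2) z hz)).2) |>.symm
      rw [← i2 a x hx x1, i2 b y hy y1]) c1 (by rw [c2]; exact_mod_cast c3.ne') h2
    rw [c2, Complex.natCast_re] at this
    have : Nat.card (P : Subgroup G) < (1 + d) ^ 2 := by exact_mod_cast this
    have := Nat.pow_le_pow_left (show 1 + d ≤ n + 1 by omega) 2
    omega
  set K := _root_.commutator G
  have k1 : (P : Subgroup G) ⊔ K = ⊤ := h2 _ (Inv.normal_of_commutator_le le_sup_right) le_sup_left
  have k2 : (P : Subgroup G) ⊓ K = ⊥ := by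
    have e1 := isSylowOf_inf_normal P K
    rw [← h5, eq_comm, inf_eq_left]
    exact h3 _ (normal_of_top_le_normalizer (k1.ge.trans (sup_le (le_normalizer_inf le_normalizer
      le_normalizer_of_normal) (hmin K hK _ e1)))) fun a ha b hb => hab b hb.1 a ha
  have k3 : (Nat.card K).Coprime p := (isSylowOf_inf_normal P K).eq_bot_iff.1 k2
  set D := K ⊓ normalizer ((P : Subgroup G) : Set G)
  have k4 : D < K := lt_of_le_of_ne inf_le_left fun e =>
    hP (normal_of_top_le_normalizer (k1.ge.trans (sup_le le_normalizer (e.ge.trans inf_le_right))))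
  have k5 : D ≤ center G := by
    obtain ⟨q, hq, hd⟩ := Nat.exists_prime_and_dvd (n := D.relIndex K) fun e =>
      k4.not_ge (relIndex_eq_one.1 e)
    have := Fact.mk hq
    obtain ⟨Q, hQ, hQ'⟩ := Core.exists_invariant_isSylowIn (A := P) (K := K) le_normalizer_of_normal
      (coprime_card_of_isPGroup P.2 k3).symm (Or.inl (by have := P.2.isNilpotent; infer_instance)) q
    have e1 : (P : Subgroup G) ⊔ Q = ⊤ := by_contra fun e => hQ.2.2 (hd.trans
      (relIndex_dvd_of_le_left _ (le_inf hQ.1 (le_sup_right.trans (h1 _ e le_sup_left)))))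
    have e2 := sup_inf_of_le_normalizer' hQ' hQ.1
    rw [sup_comm, e1, top_inf_eq, k2, sup_bot_eq] at e2
    have e3 : (P : Subgroup G) ≤ normalizer (D : Set G) := le_normalizer_inf le_normalizer_of_normal
      (le_normalizer.trans le_normalizer)
    have e4 := lt_inf_normalizer (e2 ▸ hQ.2.1) k4
    have e5 : (P : Subgroup G) ⊔ K ⊓ normalizer (D : Set G) = ⊤ := by_contra fun e =>
      e4.not_ge (le_inf inf_le_left (le_sup_right.trans (h1 _ e le_sup_left)))
    exact h3 D (normal_of_top_le_normalizer (e5.ge.trans (sup_le e3 inf_le_right)))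
      (le_centralizer_of_inf_eq_bot e3 inf_le_right (eq_bot_iff.2 ((inf_le_inf_left _ inf_le_left).trans k2.le)))
  obtain ⟨j, hj⟩ : ∃ j, K.index = p ^ j := by
    rw [← relIndex_top_right, ← k1, relIndex_sup_right]; exact relIndex_eq_pow_of_isPGroup P.2 K
  have := Fintype.ofFinite K
  have c5 : IsIrrCharacter K fun k => χ k := by
    obtain ⟨θ, t1, t2⟩ := c1.exists_restrict_constituent (N := K)
    obtain ⟨b, b1, b2⟩ := c1.exists_degree_eq_mul t1 t2
    obtain ⟨t, t0, ht⟩ := t1.exists_nat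
    obtain ⟨i, -, rfl⟩ := (Nat.dvd_prime_pow hp.out).1 (b1.trans hj.dvd)
    have : i = 0 := by_contra fun e => by
      have := Nat.le_self_pow e p
      rw [c2, ht] at b2
      have : d = p ^ i * t := by exact_mod_cast b2
      nlinarith
    rw [(c1.isCharacter.restrict K).eq_of_constituent_of_one_eq t1 t2 (by simpa [this] using b2)]
    exact t1
  have c6 : ∀ x ∈ (P : Subgroup G), x ∉ center G → ‖χ x‖ ^ 2 = 1 := fun x hx hx' => by
    have e1 := sum_coset_norm_sq c1.isCharacter c5 x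
    rw [sum_congr rfl (g := fun _ => ‖χ x‖ ^ 2) fun k _ => ?_, sum_const, card_univ, nsmul_eq_mul,
      ← Nat.card_eq_fintype_card] at e1
    · exact (mul_eq_left₀ (by exact_mod_cast Nat.card_pos.ne')).1 e1
    obtain ⟨a, -, b, -, e2, e3, ⟨i, e4⟩, e5⟩ := exists_p_part p (k * x)
    obtain ⟨y, -, e6⟩ := (isSylowOf_top P).exists_cj_le (isPGroup_zpowers e4) le_top
    have e7 : b ∈ K := mem_of_pow_mem_of_coprime (K.pow_index_mem b) (hj ▸ e5.pow_right j)
    have e8 : y * a * y⁻¹ = x := by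
      have : y * a * y⁻¹ * x⁻¹ ∈ (P : Subgroup G) ⊓ K := mem_inf.2 ⟨mul_mem
        (e6 (conj_mem_cj.2 (mem_zpowers a))) (inv_mem hx), by
          have f1 : y * a * y⁻¹ * x⁻¹ = y * a * y⁻¹ * a⁻¹ * (b⁻¹ * k) := by
            rw [show (k : G) = b * a * x⁻¹ by rw [← e3, ← e2]; simp]; group
          rw [f1]
          exact mul_mem (commutator_mem_commutator (mem_top _) (mem_top _)) (mul_mem (inv_mem e7) k.2)⟩
      rwa [k2, mem_bot, mul_inv_eq_one] at this
    have e9 : y * b * y⁻¹ ∈ center G := k5 ⟨Normal.conj_mem inferInstance b e7 y, h1 _ (h4 x hx')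
      (fun z hz => mem_centralizer_singleton_iff.2 (hab z hz x hx))
      (mem_centralizer_singleton_iff.2 (by rw [← e8, conj_mul, conj_mul, e3]))⟩
    rw [← c1.isClassFunction _ y, e2, e3, ← conj_mul, e8,
      c1.apply_mul_of_comm fun g => (mem_center_iff.1 e9 g).symm, norm_div, norm_mul,
      c1.norm_eq_of_comm fun g => (mem_center_iff.1 e9 g).symm,
      mul_div_cancel_left₀ _ (norm_ne_zero_iff.2 c1.one_ne_zero)]
  obtain ⟨m, hm⟩ := (c1.isCharacter.restrict P).classInner_nat (c1.isCharacter.restrict P)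
  have e1 := classInner_self_re fun x : (P : Subgroup G) => χ x
  rw [hm, Complex.natCast_re, eq_inv_mul_iff_mul_eq₀ (by exact_mod_cast Nat.card_pos.ne'),
    sum_congr rfl (g := fun x : (P : Subgroup G) => 1 + if x ∈ (center G).subgroupOf P then
      (d : ℝ) ^ 2 - 1 else 0) fun x _ => by
        split_ifs with h
        · rw [c1.norm_eq_of_comm (z := (x : G)) fun g => (mem_center_iff.1 h g).symm, c2]; simp
        · rw [c6 x x.2 h, add_zero],
    sum_add_distrib, ← sum_sub_real _ fun _ => (d : ℝ) ^ 2 - 1, sum_const, sum_const, card_univ,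
    card_univ, ← Nat.card_eq_fintype_card, ← Nat.card_eq_fintype_card,
    ← ((center G).subgroupOf P).card_mul_index, nsmul_eq_mul, nsmul_eq_mul, Nat.cast_mul, mul_assoc,
    mul_assoc, ← mul_add] at e1
  obtain ⟨i, hi⟩ := P.2.index ((center G).subgroupOf P)
  have e2 := mul_left_cancel₀ (by exact_mod_cast Nat.card_pos.ne') e1
  rw [hi] at e2
  rcases i with _ | i
  · exact hP (Char.normal_of_le_center (subgroupOf_eq_top.1 (index_eq_one.1 hi)))
  have e3 : (p : ℤ) ∣ (d - 1) * (d + 1) := ⟨p ^ i * (m - 1), by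
    have : ((p ^ (i + 1) : ℕ) : ℤ) * m = (p ^ (i + 1) : ℕ) * 1 + (d ^ 2 - 1) := by exact_mod_cast e2
    push_cast at this
    linear_combination -this⟩
  rcases (Nat.prime_iff_prime_int.1 hp.out).dvd_or_dvd e3 with e | e <;>
  · have := Int.le_of_dvd (by omega) e
    omega

theorem s0899 [Finite G] {ψ : G → ℂ} (hψ : IsCharacter G ψ) {n : ℕ} (hn : ψ 1 = n)
    (hf : ∀ g, ψ g = ψ 1 → g = 1) {p : ℕ} [hp : Fact p.Prime]
    (h : (n + 1) ^ 2 ≤ p ∨ (n + 1 < p ∧ ∀ K : Subgroup G, ¬ p ^ 2 ∣ Nat.card K →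
      ∀ Q : Sylow p K, (Q : Subgroup K).Normal)) (P : Sylow p G) : (P : Subgroup G).Normal := by
  have h0 := hp.out.two_le
  have h1 : n + 1 < p := h.elim (fun h => by rcases n with _ | n <;> nlinarith) And.left
  have key : ∀ K : Subgroup G, ∀ Q, IsSylowOf p Q K → K ≤ normalizer (Q : Set G) := by
    intro K
    induction K using WellFoundedLT.induction with
    | _ K ih =>
    intro Q hQ
    obtain ⟨S, -, rfl⟩ := hQ.exists_sylow
    suffices (S : Subgroup K).Normal from le_normalizer_map_subtype _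
    by_cases h2 : (n + 1) ^ 2 ≤ Nat.card (S : Subgroup K)
    · refine feit_core (hψ.restrict K) hn (fun g e => Subtype.ext (hf g e)) h1 S (fun L hL R hR => ?_) h2
      have := ih (L.map K.subtype) (lt_of_le_of_ne (map_subtype_le L) fun e => hL (by
        rw [← comap_map_eq_self_of_injective K.subtype_injective L, e]; exact subgroupOf_self K)) _
        (hR.map K.subtype)
      rw [← comap_map_eq_self_of_injective K.subtype_injective R]
      exact (map_le_iff_le_comap.1 this).trans (le_normalizer_comap _)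
    rw [S.card_eq_multiplicity] at h2
    rcases h with h | h
    · have : (Nat.card K).factorization p = 0 := by_contra fun e =>
        h2 (h.trans (Nat.le_self_pow e p))
      rw [card_eq_one.1 (show Nat.card (S : Subgroup K) = 1 by rw [S.card_eq_multiplicity, this, pow_zero])]
      infer_instance
    · refine h.2 K (fun e => h2 ?_) S
      exact (Nat.pow_le_pow_left h1.le 2).trans (Nat.pow_le_pow_right (by omega)
        ((hp.out.pow_dvd_iff_le_factorization Nat.card_pos.ne').1 e))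
  exact normal_of_top_le_normalizer (key ⊤ P (isSylowOf_top P))

end Cfsg.Agent.H3
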