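import Cfsg.Agent.H3.Tri

/-! Characters whose degree misses exactly a factor `4`. -/

set_option autoImplicit false
set_option linter.unusedVariables false
set_option linter.unusedSectionVars false

namespace Cfsg.Agent.H3

open Cfsg Finset Subgroup Cfsg.Agent.PLoc Cfsg.Agent.Char Cfsg.Agent.Blk Cfsg.Agent.H9
open scoped ComplexConjugate

universe u

variable {G : Type u} [Group G] [Finite G]

theorem om_part {p : ℕ} [Fact p.Prime] {ψ : IrrCharacter G} {j r : ℕ}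
    (h : charDegree ψ.1 * p ^ j * r = Nat.card G) {n : IrrCharacter G → ℤ}
    (hn : ∀ g, (p : ℂ) ^ j * regPart p ψ.1 g = ∑ χ, n χ * χ.1 g) (χ : IrrCharacter G) :
    om ψ (aR p χ.1) = (r * n χ : ℤ) := by
  classical
  have := Fintype.ofFinite G
  have d0 : (charDegree ψ.1 : ℂ) ≠ 0 := by exact_mod_cast (deg_pos ψ).ne'
  have e2 : (p : ℂ) ^ j * classInner (regPart p ψ.1) χ.1 = n χ := by
    rw [← classInner_smul_left, show (p : ℂ) ^ j • regPart p ψ.1 = ∑ χ, (n χ : ℂ) • χ.1 from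
      funext fun g => by simpa using hn g, classInner_sum_irr]
  rw [om_def, ev_aR, ← h, irr_one_eq]
  push_cast
  rw [← e2]
  field_simp

/-- the characters of height zero in the block of `ψ` -/
theorem four (M : Ideal AlgInt) [hp : PMod 2 M] (ψ : IrrCharacter G) {r : ℕ}
    (h : charDegree ψ.1 * 2 ^ 2 * r = Nat.card G) (hr : ¬ 2 ∣ r) :
    ∃ (S : Finset (IrrCharacter G)) (k : ℕ), S.card = 4 ∧
      (∀ χ ∈ S, SameBlock M ψ.1 χ.1 ∧ (charDegree χ.1).factorization 2 = k) ∧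
      (∀ χ : IrrCharacter G, SameBlock M ψ.1 χ.1 → χ ∉ S → k < (charDegree χ.1).factorization 2) ∧
      (ψ ∈ S ∨ ∃ n : IrrCharacter G → ℤ, (∀ χ ∈ S, n χ = 1 ∨ n χ = -1) ∧
        ∀ g, ¬ 2 ∣ orderOf g → 2 * ψ.1 g = ∑ χ ∈ S, n χ * χ.1 g) := by
  classical
  have := Nat.fact_prime_two
  have hB := isPBlock_blockOf (M := M) ψ
  set B := blockOf M ψ.1
  obtain ⟨χ0, b0, b1⟩ := exists_nu_eq (p := 2) hB
  set S := univ.filter fun χ => χ ∈ B ∧ nu 2 χ = minNu 2 B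
  have s0 : ∀ χ, χ ∈ S ↔ χ ∈ B ∧ nu 2 χ = minNu 2 B := fun χ => by simp [S]
  have u0 : ∀ {ψ : IrrCharacter G} {j r : ℕ} (h : charDegree ψ.1 * 2 ^ j * r = Nat.card G)
      {n : IrrCharacter G → ℤ} (hn : ∀ g, ((2 : ℕ) : ℂ) ^ j * regPart 2 ψ.1 g = ∑ χ, n χ * χ.1 g),
      ψ ∈ B → ∀ χ ∈ S, ¬ (2 : ℤ) ∣ n χ := fun h n hn e χ hχ e' => by
    have := om_aR_notMem (p := 2) hB ((s0 χ).1 hχ).1 e ((s0 χ).1 hχ).2
    rw [om_part h hn] at this
    exact this (intCast_mem_LP.2 (e'.mul_left _))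
  have g0 : Nat.card G ≠ 0 := Nat.card_pos.ne'
  have r0 : r ≠ 0 := fun e => hr (e ▸ dvd_zero _)
  have f0 : ∀ {d j r : ℕ}, d * 2 ^ j * r = Nat.card G → ¬ 2 ∣ r →
      d.factorization 2 + j = (Nat.card G).factorization 2 := fun {d j r} h hr => by
    have a1 : d ≠ 0 := by rintro rfl; simp at h; exact g0 h.symm
    have a2 : r ≠ 0 := fun e => hr (e ▸ dvd_zero _)
    rw [← h, Nat.factorization_mul (by positivity) a2, Nat.factorization_mul a1 (by positivity)]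
    simp [Nat.prime_two.factorization_pow, Nat.factorization_eq_zero_of_not_dvd hr]
  have c4 : 4 ∣ S.card := by
    obtain ⟨m, hm⟩ := deg_dvd χ0
    obtain ⟨j, r0, a1, rfl⟩ := Nat.exists_eq_pow_mul_and_not_dvd (n := m)
      (by rintro rfl; exact g0 (by simpa using hm)) 2 (by norm_num)
    have a2 : charDegree χ0.1 * 2 ^ j * r0 = Nat.card G := by rw [hm, mul_assoc]
    obtain ⟨n, h1, h2, -, -, h5, h6⟩ := exists_part M χ0 a2 a1
    have a3 := u0 a2 h1 b0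
    have a4 : ∀ χ, χ ∈ S ↔ ¬ (2 : ℤ) ∣ n χ := fun χ => ⟨a3 χ, fun e => by
      have a5 := h5 χ fun e' => e (e' ▸ dvd_zero _)
      exact (s0 χ).2 ⟨sameBlock_trans b0 (sameBlock_symm a5),
        ((h6 (a3 χ0 ((s0 _).2 ⟨b0, b1⟩)) χ a5).2 e).trans b1⟩⟩
    have a5 : 2 ≤ j := by
      have a6 := f0 a2 a1
      have a7 := f0 h hr
      have a8 : nu 2 χ0 ≤ nu 2 ψ := b1 ▸ minNu_le (mem_blockOf_self ψ)
      unfold nu at a8
      omega
    have a6 : (4 : ℤ) ∣ ∑ χ, (n χ ^ 2 - if χ ∈ S then 1 else 0) := dvd_sum fun χ _ => by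
      obtain ⟨c, e | e⟩ := Int.even_or_odd' (n χ)
      · rw [if_neg (by rw [a4]; omega), e]; exact ⟨c ^ 2, by ring⟩
      · rw [if_pos (by rw [a4]; omega), e]; exact ⟨c ^ 2 + c, by ring⟩
    rw [sum_sub_distrib, h2, sum_boole, filter_mem_eq_inter, univ_inter] at a6
    obtain ⟨i, rfl⟩ := Nat.exists_eq_add_of_le a5
    have a7 : (4 : ℤ) ∣ ((2 : ℕ) : ℤ) ^ (2 + i) * n χ0 := ⟨2 ^ i * n χ0, by push_cast; ring⟩
    exact Int.natCast_dvd_natCast.1 (by simpa using dvd_sub a7 a6)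
  have c5 : 0 < S.card := card_pos.2 ⟨χ0, (s0 _).2 ⟨b0, b1⟩⟩
  obtain ⟨n, h1, h2, h3, h4, h5, h6⟩ := exists_part M ψ h hr
  have a3 := u0 h h1 (mem_blockOf_self ψ)
  have a4 := h4 (by norm_num)
  have a5 : ∀ χ ∈ S, 1 ≤ n χ ^ 2 := fun χ hχ =>
    (one_le_sq_iff_one_le_abs _).2 (Int.one_le_abs fun e => a3 χ hχ (e ▸ dvd_zero _))
  have a6 : ∑ χ ∈ univ.erase ψ, n χ ^ 2 ≤ 4 := by
    rw [← add_sum_erase _ _ (mem_univ ψ)] at h2
    push_cast at h2 a4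
    nlinarith [sq_nonneg (n ψ - 2)]
  have a7 : ((S.erase ψ).card : ℤ) ≤ ∑ χ ∈ S.erase ψ, n χ ^ 2 := by
    simpa using card_nsmul_le_sum (S.erase ψ) _ 1 fun χ hχ => a5 χ (mem_of_mem_erase hχ)
  have a8 := sum_sdiff (f := fun χ => n χ ^ 2) (erase_subset_erase ψ (subset_univ S))
  have a9 : 0 ≤ ∑ χ ∈ univ.erase ψ \ S.erase ψ, n χ ^ 2 := sum_nonneg fun χ _ => sq_nonneg _
  have c6 : S.card = 4 := by
    have := pred_card_le_card_erase (s := S) (a := ψ)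
    omega
  refine ⟨S, minNu 2 B, c6, fun χ hχ => (s0 χ).1 hχ, fun χ e e' =>
    lt_of_le_of_ne (minNu_le e) fun e'' => e' ((s0 χ).2 ⟨e, e''.symm⟩), ?_⟩
  refine or_iff_not_imp_left.2 fun e => ?_
  rw [erase_eq_of_notMem e] at a7 a8 a9
  have b2 : n ψ = 2 := by
    by_contra e'
    refine e ((s0 _).2 ⟨mem_blockOf_self ψ, ?_⟩)
    have := ((h6 (by push_cast at a4 ⊢; omega) χ0 (sameBlock_symm b0)).2 (a3 _ ((s0 _).2 ⟨b0, b1⟩)))
    exact this.symm.trans b1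
  have b3 : ∑ χ ∈ univ.erase ψ \ S, n χ ^ 2 = 0 := by omega
  have b4 : ∑ χ ∈ S, (n χ ^ 2 - 1) = 0 := by
    rw [sum_sub_distrib]; simp only [sum_const, c6, nsmul_eq_mul]; omega
  rw [sum_eq_zero_iff_of_nonneg fun χ _ => sq_nonneg _] at b3
  rw [sum_eq_zero_iff_of_nonneg fun χ hχ => sub_nonneg.2 (a5 χ hχ)] at b4
  refine ⟨n, fun χ hχ => sq_eq_one_iff.1 (sub_eq_zero.1 (b4 χ hχ)), fun g hg => ?_⟩
  have b5 := h1 g
  rw [regPart_of_not_dvd _ hg, ← add_sum_erase _ _ (mem_univ ψ), b2, ← sum_subset (s₁ := S)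
    (s₂ := univ.erase ψ) (fun χ hχ => mem_erase.2 ⟨fun e' => e (e' ▸ hχ), mem_univ _⟩) fun χ e1 e2 => by
      rw [pow_eq_zero_iff two_ne_zero |>.1 (b3 χ (mem_sdiff.2 ⟨e1, e2⟩))]; simp] at b5
  push_cast at b5
  linear_combination b5

end Cfsg.Agent.H3
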