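import Cfsg.Agent.H3.Sq
import Cfsg.Agent.Core.Coprime

/-! Principal blocks of defect one: further numerical filters. -/

set_option autoImplicit false
set_option linter.unusedVariables false
set_option linter.unusedSectionVars false

namespace Cfsg.Agent.H3

open Finset Subgroup Cfsg.Agent.PLoc Cfsg.Agent.Char Cfsg.Agent.Blk Cfsg.Agent.Inv Cfsg.Agent.H9
  Cfsg.Agent.Gol
open scoped ComplexConjugate

universe u

def pm1 (q : ℕ) (a : ℤ) : Bool := a.natAbs % q == 1 || (a.natAbs + 1) % q == 0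

/-- Brauer–Tuan filter for a second prime dividing the order to the first power -/
def btS (q : ℕ) (L : List ℤ) : Bool := L.sublists.any fun S => (1 + S.sum) % q == 0 &&
  S.all fun a => a.natAbs % q != 0 && S.all fun b => pm1 q a || pm1 q b || a.natAbs == b.natAbs

def uqB (p q : ℕ) (L : List ℤ) : Bool :=
  L.all fun a => (L.map Int.natAbs).count a.natAbs != 1 || p * (q - 1) ≤ a.natAbs

noncomputable def forceI {β : Type} (a : ℤ) (f : ℤ → β) : β :=
  Int.rec (fun n => force n fun n => f (.ofNat n)) (fun n => force n fun n => f (.negSucc n)) a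

theorem forceI_eq {β : Type} (a : ℤ) (f : ℤ → β) : forceI a f = f a := by
  cases a <;> exact force_eq _ _

/-- search for a column with a linear and a quadratic relation -/
noncomputable def colZ (opt : ℤ → List ℤ) (ok : ℤ → ℤ → Bool) (K : ℤ) : List ℤ → ℤ → ℤ → Bool
  | [], _, _ => false
  | [d], l, q => forceI (-(d.sign * l)) fun a => bif' (ok d a) (q + a * a * (K / d) != 0) true
  | d :: L, l, q => forceI (K / d) fun k => lall (fun a => forceI (l + d.sign * a) fun l' =>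
      forceI (q + a * a * k) fun q' => colZ opt ok K L l' q') (opt d)

theorem colZ_sound {ι : Type*} {opt : ℤ → List ℤ} {ok : ℤ → ℤ → Bool} {K : ℤ} {d v : ι → ℤ}
    (m : List ι) (h : ∀ i ∈ m, d i ≠ 0 ∧ v i ∈ opt (d i) ∧ ok (d i) (v i) = true) {l q : ℤ}
    (h1 : l + (m.map fun i => (d i).sign * v i).sum = 0)
    (h2 : q + (m.map fun i => v i * v i * (K / d i)).sum = 0) : colZ opt ok K (m.map d) l q ≠ true := by
  induction m generalizing l q with
  | nil => simp [colZ]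
  | cons i m ih =>
    obtain ⟨a1, a2, a3⟩ := h i (by simp)
    cases m with
    | nil =>
      have : -((d i).sign * l) = v i := by
        rw [show l = -((d i).sign * v i) by simpa [add_eq_zero_iff_eq_neg] using h1]
        rcases lt_or_gt_of_ne a1 with e | e <;> simp [Int.sign_eq_neg_one_of_neg, e, Int.sign_eq_one_of_pos]
      simpa [colZ, forceI_eq, this, a3] using h2
    | cons j m =>
      rw [List.map_cons, List.map_cons, colZ, forceI_eq, Ne, lall_iff]
      · intro e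
        have := e _ a2
        simp only [forceI_eq] at this
        exact ih (fun k hk => h k (List.mem_cons_of_mem _ hk)) (by simpa [add_assoc] using h1)
          (by simpa [add_assoc] using h2) this
      · simp

def optM (n : ℕ) (d : ℤ) : List ℤ := (List.range (2 * d.natAbs / n)).map fun j : ℕ =>
  (d.natAbs : ℤ) - n * (j + 1)

def okM (n : ℕ) (d a : ℤ) : Bool := (d.natAbs - a) % n == 0 && a.natAbs < d.natAbs

theorem mem_optM {n : ℕ} (n0 : 0 < n) {d a : ℤ} (h1 : (n : ℤ) ∣ d.natAbs - a) (h2 : |a| < d.natAbs) :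
    a ∈ optM n d ∧ okM n d a = true := by
  obtain ⟨k, hk⟩ := id h1
  rw [abs_lt] at h2
  have k0 : 0 < k := by by_contra; nlinarith
  refine ⟨List.mem_map.2 ⟨(k - 1).toNat, List.mem_range.2 ?_, ?_⟩, by
    simp only [okM, Int.emod_eq_zero_of_dvd h1, beq_self_eq_true, Bool.true_and, decide_eq_true_eq]
    omega⟩
  · have : k.toNat ≤ 2 * d.natAbs / n := (Nat.le_div_iff_mul_le n0).2 (by
      rw [← Nat.cast_le (α := ℤ), Nat.cast_mul, Nat.cast_mul, Int.toNat_of_nonneg k0.le, Nat.cast_ofNat]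
      linarith)
    omega
  · rw [Int.toNat_of_nonneg (by omega)]
    linarith

/-- search for a column with a bound on the sum of squares -/
def colB (p : ℕ) (W : List ℤ) : List ℤ → ℤ → ℤ → Bool
  | [], b, l => l == 0
  | d :: L, b, l => W.any fun w => (w - d.natAbs) % p == 0 && w ^ 2 ≤ b &&
      colB p W L (b - w ^ 2) (l + d.sign * w)

theorem colB_sound {ι : Type*} {p : ℕ} {W : List ℤ} {B : ℤ} (hW : ∀ w, w ^ 2 ≤ B → w ∈ W) {d v : ι → ℤ}
    (m : List ι) (h : ∀ i ∈ m, (p : ℤ) ∣ v i - (d i).natAbs) {b l : ℤ} (hb : b ≤ B)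
    (h1 : l + (m.map fun i => (d i).sign * v i).sum = 0) (h2 : (m.map fun i => v i ^ 2).sum ≤ b) :
    colB p W (m.map d) b l = true := by
  induction m generalizing l b with
  | nil => simpa [colB] using h1
  | cons i m ih =>
    have h3 : 0 ≤ (m.map fun i => v i ^ 2).sum := List.sum_nonneg (by simp +contextual [sq_nonneg])
    rw [List.map_cons, List.sum_cons] at h1 h2
    simp only [List.map_cons, colB, List.any_eq_true, Bool.and_eq_true, beq_iff_eq, decide_eq_true_eq]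
    exact ⟨v i, hW _ (by omega), ⟨Int.emod_eq_zero_of_dvd (h i (by simp)), by omega⟩,
      ih (fun k hk => h k (List.mem_cons_of_mem _ hk)) (by have := sq_nonneg (v i); omega)
        (by omega) (by omega)⟩

variable {G : Type u} [Group G] [Finite G] {p : ℕ} [hp : Fact p.Prime] {x : G}

theorem PB_quad {M : Ideal AlgInt} [PMod p M] {u t : G} (hu : orderOf u = p) (hr : ¬ IsConj u u⁻¹)
    (ht : t * t = 1) : ∑ χ ∈ PB M G, χ.1 t ^ 2 / χ.1 1 * conj (χ.1 u) = 0 := by
  have := Fintype.ofFinite G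
  have h1 : ∀ a b : G, ∑ χ ∈ PB M G, (χ : G → ℂ) (a * t * a⁻¹ * (b * t * b⁻¹)) *
      conj ((χ : G → ℂ) u) = 0 := by
    intro a b
    obtain ⟨x, hx⟩ := exists_ppart hp.out (a * t * a⁻¹ * (b * t * b⁻¹))
    rw [← finsum_PB]
    refine block_orth isPBlock_principal hx (ppart_self hp.out ⟨1, by simp [hu]⟩) fun hc => hr ?_
    obtain ⟨n, hn⟩ := mem_zpowers_iff.1 (ppart_mem_zpowers hp.out hx)
    have e1 : a * t * a⁻¹ * (a * t * a⁻¹) = 1 := by rw [conj_mul, ht]; simp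
    have e2 : b * t * b⁻¹ * (b * t * b⁻¹) = 1 := by rw [conj_mul, ht]; simp
    generalize a * t * a⁻¹ = s at *
    generalize b * t * b⁻¹ = s' at *
    obtain ⟨c, rfl⟩ := isConj_iff.1 hc
    refine (Inv.isConj_conj c x).symm.trans (IsConj.trans (isConj_iff.2 ⟨s, ?_⟩)
      (conj_inv (α := G) ▸ Inv.isConj_conj c x⁻¹))
    rw [← hn, ← conj_zpow, ← inv_zpow, mul_inv_rev, inv_eq_of_mul_eq_one_right e1,
      inv_eq_of_mul_eq_one_right e2, ← mul_assoc, e1, one_mul]
  have h2 : ∑ b : G, ∑ a : G, ∑ χ ∈ PB M G, (χ : G → ℂ) (a * t * a⁻¹ * (b * t * b⁻¹)) *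
      conj ((χ : G → ℂ) u) = 0 := by simp [h1]
  rw [sum_congr rfl fun b _ => sum_comm, sum_comm, sum_congr rfl (g := fun χ : IrrCharacter G =>
    (Nat.card G : ℂ) ^ 2 * ((χ : G → ℂ) t ^ 2 / (χ : G → ℂ) 1 * conj ((χ : G → ℂ) u))) fun χ _ => by
      simp only [← sum_mul, χ.2.sum_conj_mul, χ.2.isClassFunction t, sum_const, card_univ,
        nsmul_eq_mul, Nat.card_eq_fintype_card]
      ring, ← mul_sum, mul_eq_zero, pow_eq_zero_iff two_ne_zero] at h2
  exact h2.resolve_left (card_ne_zero G)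

theorem D1_sum {M : Ideal AlgInt} [PMod p M] {h : Syl1 p x} {N : Finset (IrrCharacter G)}
    {δ : IrrCharacter G → ℤ} {ε : ℤ} {μ : (ZMod p)ˣ → IrrCharacter G} (D : D1 M h N δ ε μ)
    {F : IrrCharacter G → ℂ} (h1 : ∀ j, F (μ j) = F (μ 1))
    (h2 : ∀ i : (ZMod p)ˣ, ∑ χ ∈ PB M G, F χ * χ.1 (pw x (i : ZMod p)) = 0) :
    ∑ χ ∈ N, δ χ * F χ = ε * F (μ 1) := by
  have h3 : ∑ i : (ZMod p)ˣ, ∑ χ ∈ PB M G, F χ * χ.1 (pw x (i : ZMod p)) = 0 :=
    sum_eq_zero fun i _ => h2 i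
  rw [sum_comm, D.sum_PB _ (c := -(Nat.card (autSub h.ord) * (ε * F (μ 1)))) fun j => by
      simp only [h1 j, D.apply_exc j _ (Units.ne_zero _), ← mul_sum, sum_eta]
      ring, sum_congr rfl (g := fun χ => ((p : ℂ) - 1) * (δ χ * F χ)) fun χ hχ => by
      simp only [D.apply_N χ hχ _ (Units.ne_zero _), sum_const, card_univ,
        ZMod.card_units, nsmul_eq_mul, Nat.cast_pred hp.out.pos]
      ring, ← mul_sum, nsmul_eq_mul] at h3
  have h4 : (p : ℂ) - 1 = Nat.card (autSub h.ord) * (autSub h.ord).index := by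
    rw [sub_eq_iff_eq_add]
    exact_mod_cast (e_mul_t h.ord).symm
  refine mul_left_cancel₀ (a := (p : ℂ) - 1) (sub_ne_zero.2 (by exact_mod_cast hp.out.ne_one)) ?_
  rw [eq_neg_of_add_eq_zero_left h3, h4]
  ring

/-- the principal block, one exceptional character being listed first -/
structure TB (h : Syl1 p x) (m : List (IrrCharacter G)) (s : IrrCharacter G → ℤ) : Prop where
  nodup : (irrOne G :: m).Nodup
  sgn : ∀ χ ∈ m, s χ = 1 ∨ s χ = -1
  val : ∀ χ ∈ m.tail, ∀ g, p ∣ orderOf g → χ.1 g = s χ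
  reg : ∀ g, ¬ p ∣ orderOf g → 1 + (m.map fun χ => s χ * χ.1 g).sum = 0
  cg : ∀ χ ∈ m, ∀ w ∈ Vc p x, ∀ a : ℤ, χ.1 w = a → (p : ℤ) ∣ charDegree χ.1 - a
  rat : ∀ χ ∈ m, (∀ ψ ∈ m, charDegree ψ.1 = charDegree χ.1 → ψ = χ) → ∀ g, ¬ p ∣ orderOf g →
    ∃ a : ℤ, χ.1 g = a
  aok : ∀ χ ∈ m, aOK p (Nat.card (Vc p x)) (Nat.card (autSub h.ord)) (Nx x).index
    (s χ * charDegree χ.1) 1 = true ∨ aOK p (Nat.card (Vc p x)) (Nat.card (autSub h.ord)) (Nx x).index
    (-(s χ * charDegree χ.1)) (Nat.card (autSub h.ord)) = true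
  bt : ∀ q : ℕ, q.Prime → q ≠ p → ¬ q ∣ Nat.card (Vc p x) → q ∣ Nat.card G → ¬ q ^ 2 ∣ Nat.card G →
    btS q (m.map fun χ => s χ * charDegree χ.1) = true
  quad : ¬ IsConj x x⁻¹ → ∀ t, t * t = 1 → 1 + (m.map fun χ => s χ * (χ.1 t ^ 2 / χ.1 1)).sum = 0
  cov : SC p x → ∀ χ, χ ≠ irrOne G → ¬ p ∣ charDegree χ.1 →
    ∃ ψ ∈ m, ∀ g, ¬ p ∣ orderOf g → χ.1 g = ψ.1 g
  sqr : p ≠ 2 → ∀ t, t * t = 1 → ∃ j : ℕ, (p * Nat.card (Vc p x) * Nat.card G : ℂ) *
    (1 + (m.map fun χ => s χ * (χ.1 t ^ 2 / χ.1 1)).sum) =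
      (Nat.card (centralizer ({t} : Set G)) * j) ^ 2

variable [IsSimpleGroup G]

theorem exists_TB (hG : ¬ IsMulCommutative G) {n : ℕ} (hn : Nat.card G = n) {Dv : List ℕ}
    (hD : ∀ d, d ∣ n → d ∈ Dv) {Q R : ℕ → Bool}
    (hQ : ∀ χ : IrrCharacter G, χ ≠ irrOne G → Q (charDegree (χ : G → ℂ)) = true)
    (h : Syl1 p x) (hR : R (Nat.card (Vc p x)) = true) : ∃ m s L, TB h m s ∧
      (m.map fun χ => s χ * charDegree χ.1) = -(1 + L.sum) :: L ∧
      (Nat.card (Vc p x), Nat.card (autSub h.ord), (Nx x).index, L) ∈ trees2 n p Dv Q R := by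
  classical
  obtain ⟨M, hM⟩ := exists_PMod p
  obtain ⟨N, δ, ε, μ, D⟩ := h.exists_D1 (M := M)
  obtain ⟨L, h1, h2, hL⟩ := tree_mem2 hG hn hD hQ hR D
  obtain ⟨l, l1, l2, rfl⟩ := exists_list h1
  have l3 : ∀ χ, χ ∈ l ↔ χ ≠ irrOne G ∧ χ ∈ N := fun χ => by
    rw [← List.mem_toFinset, l2, mem_erase]
  let s : IrrCharacter G → ℤ := fun χ => if χ ∈ N then δ χ else -ε
  have s1 : s (μ 1) = -ε := if_neg (D.exc_not 1)
  have s2 : ∀ χ ∈ l, s χ = δ χ := fun χ hχ => if_pos ((l3 χ).1 hχ).2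
  have l4 : ∀ {A : Type} [CommRing A] (P : IrrCharacter G → Prop) [DecidablePred P]
      (F : IrrCharacter G → A), P (irrOne G) → F (irrOne G) = 1 →
      1 + (((μ 1 :: l).filter fun χ => decide (P χ)).map fun χ => s χ * F χ).sum =
      ∑ χ ∈ N.filter P, δ χ * F χ - if P (μ 1) then ε * F (μ 1) else 0 := fun P _ F h1 h2 => by
    rw [← add_sum_erase _ _ (mem_filter.2 ⟨D.one_mem, h1⟩), D.δ_one, h2, ← filter_erase, ← l2,
      show l.toFinset.filter P = (l.filter fun χ => decide (P χ)).toFinset by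
        simp [List.toFinset_filter], List.sum_toFinset _ (l1.filter _),
      ← List.map_congr_left (l := l.filter _) (f := fun χ => (s χ : _) * F χ) fun χ hχ => by
        rw [s2 χ (List.mem_of_mem_filter hχ)], List.filter_cons]
    by_cases e : P (μ 1) <;> simp [e, s1]
    ring
  have l5 : ∀ F : IrrCharacter G → ℂ, F (irrOne G) = 1 → ∑ χ ∈ N, δ χ * F χ = ε * F (μ 1) →
      1 + ((μ 1 :: l).map fun χ => s χ * F χ).sum = 0 := fun F h1 h2 => by
    simpa [h2] using l4 (fun _ => True) F trivial h1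
  have l6 : ∀ χ ∈ μ 1 :: l, χ ∈ PB M G := fun χ hχ => (List.mem_cons.1 hχ).elim
    (fun e => e ▸ D.exc_mem 1) fun e => D.sub ((l3 χ).1 e).2
  refine ⟨μ 1 :: l, s, _, ⟨?_, fun χ hχ => ?_, fun χ hχ g hg => ?_, fun g hg => l5 (·.1 g) rfl
    (D.reg g hg 1), fun χ hχ w hw a ha => ?_, fun χ hχ h3 g hg => ?_, fun χ hχ => ?_,
    fun q hq qp h3 h4 h5 => ?_, fun hr t ht => l5 (fun χ => χ.1 t ^ 2 / χ.1 1) (by simp) ?_,
    fun hs χ h3 h4 => ?_, fun p2 t ht => ?_⟩, ?_, hL⟩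
  · simp [l1, l3, (D.ne_one _).symm, D.exc_not]
  · have := D.ε_val
    simp only [s]
    split_ifs with e
    exacts [D.δ_val χ e, by omega]
  · rw [s2 χ hχ, D1_sing D ((l3 χ).1 hχ).2 hg]
  · obtain ⟨a1, a2⟩ := h.mem_Vc.1 hw
    have a3 := char_mul_sub_mem (M := M) χ.2.isCharacter (mem_centralizer_singleton_iff.1 a1).symm
      ⟨1, by simp [h.ord]⟩
    have a4 := char_mul_sub_mem (M := M) χ.2.isCharacter (Commute.one_right x) ⟨1, by simp [h.ord]⟩
    rw [h.PB_const (l6 χ hχ) (mem_zpowers x) h.ne_one hw, ha] at a3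
    rw [mul_one, irr_one_eq] at a4
    exact intCast_mem_LP.1 (by simpa using LP_trans (LP_symm a4) a3)
  · refine exists_int_of_fixed (χ.2.isCharacter.isIntegral g) fun σ => ?_
    have a1 : charDegree (fun g => σ (χ.1 g)) = charDegree χ.1 := charDegree_eq (by simp [irr_one_eq])
    rcases D.cases _ (PB_gal σ (l6 χ hχ)) with e | ⟨j, e⟩
    · refine congrFun (congrArg Subtype.val (h3 _ (.tail _ ((l3 _).2 ⟨fun e' => ?_, e⟩)) a1)) g
      have a2 := eq_irrOne_of_deg hG (a1.symm.trans ((congrArg (charDegree ·.1) e').trans deg_irrOne))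
      rcases List.mem_cons.1 hχ with e | e
      exacts [D.ne_one 1 (e ▸ a2), ((l3 χ).1 e).1 a2]
    · have a2 := exc_reg D hg j
      rwa [h3 (μ 1) (by simp) (by rw [← D.deg_exc_eq j, ← e]; exact a1), ← e] at a2
  · rcases List.mem_cons.1 hχ with rfl | e
    · exact .inr (by simpa [s1] using aOK_exc hG D)
    · exact .inl (s2 χ e ▸ aOK_N hG D ((l3 χ).1 e).2 ((l3 χ).1 e).1)
  · have : Fact q.Prime := ⟨hq⟩
    obtain ⟨M', hM'⟩ := exists_PMod q
    obtain ⟨y, h'⟩ := exists_syl1 h4 h5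
    obtain ⟨N', δ', ε', μ', D'⟩ := h'.exists_D1 (M := M')
    have a1 := bt_PB (M' := M') D (fun g => not_dvd_of_Vc h qp h3) (k := 1) (by simpa using h4)
    have a2 := l4 (· ∈ PB M' G) (fun χ => (charDegree χ.1 : ℤ)) (one_mem_PB q)
      (congrArg Nat.cast deg_irrOne)
    simp only [Int.cast_id] at a2
    rw [← a2, pow_one] at a1
    have a3 : ∀ χ ∈ (μ 1 :: l).filter (· ∈ PB M' G), (s χ * charDegree χ.1).natAbs % q ≠ 0 ∧
        (pm1 q (s χ * charDegree χ.1) = true ∨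
        (s χ * charDegree χ.1).natAbs = charDegree (μ' 1).1) := fun χ hχ => by
      obtain ⟨b1, b2⟩ := List.mem_filter.1 hχ
      have b3 : (s χ * charDegree χ.1).natAbs = charDegree χ.1 := natAbs_sign (by
        have := D.ε_val
        simp only [s]
        split_ifs with e
        exacts [D.δ_val χ e, by omega]) _
      replace b2 := of_decide_eq_true b2
      rw [pm1, b3]
      refine ⟨mt Nat.dvd_of_mod_eq_zero (h'.PB_not_dvd b2), ?_⟩
      rcases D'.cases χ b2 with e | ⟨j, rfl⟩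
      · by_cases e1 : χ = irrOne G
        · rw [e1, deg_irrOne]
          simp [Nat.mod_eq_of_lt hq.one_lt]
        obtain ⟨d, rfl, -, -, -, e | e⟩ := deg_N' hG D' e e1 <;> simp [e]
      · exact .inr (D'.deg_exc_eq j)
    simp only [btS, List.any_eq_true, List.mem_sublists, Bool.and_eq_true, List.all_eq_true,
      Bool.or_eq_true, beq_iff_eq, bne_iff_ne]
    refine ⟨_, (List.filter_sublist (p := (· ∈ PB M' G))).map _, Int.emod_eq_zero_of_dvd a1, ?_⟩
    simp only [List.forall_mem_map]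
    refine fun χ hχ => ⟨(a3 χ hχ).1, fun ψ hψ => ?_⟩
    rcases (a3 χ hχ).2 with e | e <;> rcases (a3 ψ hψ).2 with e' | e' <;> simp [e, e']
  · have a0 : ¬ p ∣ orderOf t := fun e => hr (by
      have := (Nat.prime_dvd_prime_iff_eq hp.out Nat.prime_two).1
        (e.trans (orderOf_dvd_of_pow_eq_one (by rw [sq, ht])))
      rw [inv_eq_of_mul_eq_one_right (show x * x = 1 by
        rw [← sq, ← this, ← h.ord, pow_orderOf_eq_one])])
    refine D1_sum D (fun j => by rw [exc_reg D (g := 1) (by simpa using hp.out.ne_one),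
      exc_reg D a0]) fun i => ?_
    · have := PB_quad (M := M) (u := (pw x (i : ZMod p))⁻¹) (by rw [orderOf_inv, orderOf_pw h.ord i.ne_zero])
        (fun e => hr ?_) ht
      · simpa only [fun χ : IrrCharacter G => χ.2.isCharacter.apply_inv (pw x (i : ZMod p)),
          Complex.conj_conj] using this
      rw [inv_inv, ← pw_neg h.ord] at e
      obtain ⟨a, a1, a2⟩ := (isConj_pw_iff h.ord (neg_ne_zero.2 i.ne_zero)).1 e
      have : IsConj x (pw x (a : ZMod p)) := a1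
      rwa [show (a : ZMod p) = -1 from mul_right_cancel₀ i.ne_zero (by linear_combination a2),
        pw_neg h.ord, pw_one h.ord] at this
  · rcases D.cases χ (PB_of_sc hs h4) with e | ⟨j, rfl⟩
    exacts [⟨χ, .tail _ ((l3 χ).2 ⟨h3, e⟩), fun _ _ => rfl⟩, ⟨μ 1, .head _, fun g hg => exc_reg D hg j⟩]
  · have := Fintype.ofFinite G
    have a1 := l4 (fun _ => True) (fun χ => χ.1 t ^ 2 / χ.1 1) trivial (by simp)
    simp only [decide_true, List.filter_true, filter_true, if_true] at a1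
    exact a1 ▸ D1_sq D p2 ht
  · rw [List.map_cons, s1, h2, neg_mul]
    exact congrArg _ (List.map_congr_left fun χ hχ => by rw [s2 χ hχ])

namespace TB
variable {h : Syl1 p x} {m : List (IrrCharacter G)} {s : IrrCharacter G → ℤ} (T : TB h m s)
include T

theorem ne {χ : IrrCharacter G} (hχ : χ ∈ m) : χ ≠ irrOne G := fun e =>
  (List.nodup_cons.1 T.nodup).1 (e ▸ hχ)

theorem uniq {χ : IrrCharacter G} (hχ : χ ∈ m) (h1 : ((m.map fun χ => s χ * charDegree χ.1).map
    Int.natAbs).count (charDegree χ.1) = 1) : ∀ ψ ∈ m, charDegree ψ.1 = charDegree χ.1 → ψ = χ :=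
  fun ψ hψ e => by
  rw [List.map_map, Function.comp_def, List.map_congr_left (g := fun χ => charDegree χ.1) fun χ hχ =>
    natAbs_sign (T.sgn χ hχ) _] at h1
  refine eq_of_count (f := fun χ => (charDegree χ.1 : ℤ)) (a := charDegree χ.1) ?_ hψ hχ
    (congrArg _ e) rfl
  rw [← h1, ← List.count_map_of_injective _ (Nat.cast : ℕ → ℤ) Nat.cast_injective, List.map_map]
  rfl

theorem uq (hG : ¬ IsMulCommutative G) {q : ℕ} (hq : q.Prime) (h1 : q ∣ Nat.card (Vc p x)) :
    uqB p q (m.map fun χ => s χ * charDegree χ.1) = true := by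
  classical
  have := Fintype.ofFinite G
  have : Fact q.Prime := ⟨hq⟩
  obtain ⟨w, hw, ho⟩ := exists_mem_orderOf_eq_prime hq h1
  simp only [uqB, List.all_eq_true, List.forall_mem_map, Bool.or_eq_true, bne_iff_ne,
    decide_eq_true_eq, ← imp_iff_not_or]
  intro χ hχ h2
  rw [natAbs_sign (T.sgn χ hχ)] at h2 ⊢
  have c1 : Nat.card (zpowers w) = q := by rw [Nat.card_zpowers, ho]
  have h3 : ∀ g ∈ (univ.filter (· ∈ zpowers w)).erase 1, ∃ a : ℤ, χ.1 g = a ∧
      a ≤ charDegree χ.1 - p * q := fun g hg => by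
    obtain ⟨g1, g2⟩ := mem_erase.1 hg
    have g3 := zpowers_le.2 hw (mem_filter.1 g2).2
    obtain ⟨a, ha⟩ := T.rat χ hχ (T.uniq hχ h2) g (h.mem_Vc.1 g3).2
    have a1 := (cong1 q χ (k := 1) ((orderOf_eq_prime (orderOf_dvd_iff_pow_eq_one.1
      (c1 ▸ orderOf_dvd_card_of_mem (mem_filter.1 g2).2)) g1).trans (pow_one q).symm) ha).neg_right
    have a2 := (abs_lt.1 (abs_lt_deg hG (T.ne hχ) g1 ha)).2
    rw [neg_sub] at a1
    have := Int.le_of_dvd (by omega) ((Nat.isCoprime_iff_coprime.2 ((Nat.coprime_primes hp.out hq).2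
      fun e => h.not_dvd_Vc (e ▸ h1))).mul_dvd (T.cg χ hχ g g3 a ha) a1)
    exact ⟨a, ha, by omega⟩
  choose! a a1 a2 using h3
  obtain ⟨k, hk⟩ := sum_nat χ.2.isCharacter (zpowers w) (T := univ.filter (· ∈ zpowers w)) (by simp)
  rw [← add_sum_erase _ _ (show (1 : G) ∈ _ by simp), sum_congr rfl a1, irr_one_eq, c1] at hk
  have a3 := sum_le_card_nsmul _ _ _ a2
  rw [card_erase_of_mem (by simp), ← Fintype.card_subtype, ← Nat.card_eq_fintype_card, c1,
    nsmul_eq_mul, Nat.cast_pred hq.pos] at a3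
  have a4 : (charDegree χ.1 : ℤ) + ∑ g ∈ (univ.filter (· ∈ zpowers w)).erase 1, a g = q * k := by exact_mod_cast hk
  have a5 : (0 : ℤ) < q := by exact_mod_cast hq.pos
  zify [hq.one_le]
  refine le_of_mul_le_mul_left ?_ a5
  nlinarith [mul_nonneg a5.le (Nat.cast_nonneg (α := ℤ) k)]

theorem colZ (hr : ¬ IsConj x x⁻¹) {t : G} (ht : t * t = 1) {opt : ℤ → List ℤ} {ok : ℤ → ℤ → Bool}
    {v : IrrCharacter G → ℤ} (hv : ∀ χ, χ.1 t = v χ) (h1 : ∀ χ ∈ m,
      v χ ∈ opt (s χ * charDegree χ.1) ∧ ok (s χ * charDegree χ.1) (v χ) = true)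
    (h2 : ¬ p ∣ orderOf t) {n : ℕ} (hn : Nat.card G = n) :
    colZ opt ok n (m.map fun χ => s χ * charDegree χ.1) 1 n ≠ true := by
  have d0 := fun χ : IrrCharacter G => (deg_pos χ).ne'
  refine colZ_sound m (fun χ hχ => ⟨by rcases T.sgn χ hχ with e | e <;> simp [e, d0], h1 χ hχ⟩)
    (Int.cast_injective (α := ℂ) ?_) (Int.cast_injective (α := ℂ) ?_)
  · push_cast [List.map_map]
    rw [← T.reg t h2]
    refine congrArg _ (congrArg _ (List.map_congr_left fun χ hχ => ?_))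
    rcases T.sgn χ hχ with e | e <;> simp [e, hv, Int.sign_natCast_of_ne_zero (d0 χ)]
  · push_cast [List.map_map]
    rw [← mul_zero (n : ℂ), ← T.quad hr t ht, mul_add, mul_one, ← List.sum_map_mul_left]
    refine congrArg _ (congrArg _ (List.map_congr_left fun χ hχ => ?_))
    obtain ⟨k, hk⟩ := hn ▸ deg_dvd χ
    have := d0 χ
    rcases T.sgn χ hχ with e | e <;> simp [e, hv, hk, irr_one_eq, d0] <;> field_simp

end TB

theorem exists_comm_inv {V : Subgroup G} {q : ℕ} [hq : Fact q.Prime]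
    (h1 : q ∣ Nat.card (normalizer (V : Set G))) (h2 : ¬ q ∣ Nat.card V)
    (h3 : ∀ k, p ^ k ∣ Nat.card V → ¬ p ∣ Nat.card V / p ^ k → p ^ k % q ≠ 1) :
    ∃ t ∈ V, ∃ y, orderOf t = p ∧ orderOf y = q ∧ Commute y t := by
  obtain ⟨y, hy, ho⟩ := exists_mem_orderOf_eq_prime hq.out h1
  obtain ⟨P, ⟨p1, p2, p3⟩, p4⟩ := Core.exists_invariant_isSylowIn (zpowers_le.2 hy)
    (by rw [Nat.card_zpowers, ho]; exact hq.out.coprime_iff_not_dvd.2 h2) (.inl inferInstance) p
  have a1 := PLoc.card_modEq_card_inf_centralizer (isPGroup_zpowers (p := q) (k := 1) (x := y)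
    (by simp [← ho])) p4
  obtain ⟨k, hk⟩ := p2.exists_card_eq
  have a2 := card_mul_relIndex p1
  obtain ⟨t, ⟨t1, t2⟩, t3⟩ := exists_mem_orderOf_eq_prime (H := P ⊓ centralizer (zpowers y : Set G))
    hp.out (((p2.to_le inf_le_left).card_eq_or_dvd).resolve_left fun e => h3 k (hk ▸ ⟨_, a2.symm⟩)
      (by rwa [← a2, hk, Nat.mul_div_cancel_left _ (pow_pos hp.out.pos k)])
      (by rw [← hk, a1, e, Nat.mod_eq_of_lt hq.out.one_lt]))
  exact ⟨t, p1 t1, y, t3, ho, t2 y (mem_zpowers y)⟩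

end Cfsg.Agent.H3
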