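import Cfsg.Agent.H3.M23n
import Cfsg.Agent.H3.M11

/-! The simple group of order `10200960`: the primes `23` and `11`. -/

set_option autoImplicit false
set_option linter.unusedVariables false
set_option linter.unusedSectionVars false

namespace Cfsg.Agent.H3

open Finset Subgroup Equiv Cfsg.Agent.PLoc Cfsg.Agent.Char Cfsg.Agent.Blk Cfsg.Agent.Inv Cfsg.Agent.H9
  Cfsg.Agent.Gol
open scoped ComplexConjugate

universe u

instance fact23 : Fact (Nat.Prime 23) := ⟨by norm_num⟩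

variable {G : Type u} [Group G] [Finite G] [IsSimpleGroup G]

theorem deg_mod_sc {p : ℕ} [hp : Fact p.Prime] {x : G} (hs : SC p x) (χ : IrrCharacter G) :
    ∃ k r : ℤ, charDegree χ.1 = p * k + r ∧ (r = 0 ∨ r = 1 ∨ r = -1 ∨
      r = Nat.card (autSub hs.ord) ∨ r = -Nat.card (autSub hs.ord)) := by
  obtain ⟨M, hM⟩ := exists_PMod p
  obtain ⟨N, δ, ε, μ, D⟩ := hs.syl1.exists_D1 (M := M)
  by_cases e : p ∣ charDegree χ.1
  · obtain ⟨k, hk⟩ := e
    exact ⟨k, 0, by simp [hk], .inl rfl⟩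
  rcases D.cases χ (PB_of_sc hs e) with e | ⟨j, rfl⟩
  · obtain ⟨m, hm, -⟩ := D.deg_N χ e
    exact ⟨_, _, hm.trans (add_comm _ _), by have := D.δ_val χ e; omega⟩
  · obtain ⟨m, hm, -⟩ := D.deg_exc j
    exact ⟨_, _, hm.trans (add_comm _ _), by rcases D.ε_val with e | e <;> simp [e]⟩

variable (h : Nat.card G = 10200960)
include h

theorem nc23 : ¬ IsMulCommutative G := not_comm_of_card h (by norm_num)

theorem m23_23 {x : G} (hx : orderOf x = 23) : SC 23 x ∧ Nat.card (autSub hx) = 11 := by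
  have hs := syl1_of_ord hx (by rw [h]; norm_num)
  have h1 : Nat.card (Vc 23 x) ∈ [1, 12, 24] := by_contra fun e => by
    obtain ⟨L, h1, -⟩ := exists_tree2 (nc23 h) h hD23 (Q := fun _ => true) (R := (· ∉ [1, 12, 24]))
      (fun _ _ => rfl) hs (decide_eq_true e)
    rw [c23a] at h1
    simp at h1
  obtain ⟨r, hr⟩ := hs.exists_r
  have h2 := hs.card_eq
  have h3 := card_autSub_dvd hx
  have h4 := Nat.le_of_dvd (by norm_num) h3
  have h5 := (Nx x).index_mul_card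
  obtain ⟨m, s, L, T, h6, -⟩ := exists_TB (nc23 h) h hD23 (Q := fun _ => true) (R := fun _ => true)
    (fun _ _ => rfl) hs rfl
  have h7 := T.aok
  simp only [List.mem_cons, List.not_mem_nil, or_false] at h1
  rw [h] at h2 h5
  have h8 : Nat.card (Vc 23 x) = 1 ∧ Nat.card (autSub hx) = 11 ∨ (Nx x).index = 1680 ∧
      (Nat.card (Vc 23 x), Nat.card (autSub hx)) ∈ [(12, 22), (24, 11)] := by
    generalize Nat.card (autSub hx) = e at *
    rcases h1 with e1 | e1 | e1 <;> rw [e1] at h2 ⊢ <;> interval_cases e <;> simp <;> omega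
  refine h8.elim (fun e => ⟨hs.sc (card_eq_one.1 e.1), e.2⟩) fun ⟨e1, e2⟩ => ?_
  obtain ⟨χ, c1, c2⟩ : ∃ χ ∈ m, ¬ 2 ∣ charDegree χ.1 := by_contra fun e => by
    push Not at e
    have : (2 : ℤ) ∣ (m.map fun χ => s χ * charDegree χ.1).sum := List.dvd_sum fun a ha => by
      obtain ⟨χ, hχ, rfl⟩ := List.mem_map.1 ha
      exact Dvd.dvd.mul_left (by exact_mod_cast e χ hχ) _
    rw [h6, List.sum_cons] at this
    omega
  have c3 := (by decide +kernel : ∀ d ∈ D23, ¬ 2 ∣ d → ∀ s ∈ [1, -1], ∀ a ∈ [(12, 22), (24, 11)],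
    aOK 23 a.1 a.2 1680 (s * d) 1 = true ∨ aOK 23 a.1 a.2 1680 (-(s * d)) a.2 = true → d = 231) _
    (hD23 _ (h ▸ deg_dvd χ)) c2 (s χ) (by simpa using T.sgn χ c1) _ e2 (e1 ▸ h7 χ c1)
  have := Nat.fact_prime_two
  have c4 : Nat.card (Vc 23 x) = 12 ∨ Nat.card (Vc 23 x) = 24 := by
    simp at e2
    omega
  obtain ⟨t, t1, y, t2, t3, t4⟩ := exists_comm_inv (p := 2) (q := 11) (V := Vc 23 x)
    (Dvd.dvd.trans (show 11 ∣ Nat.card (Nx x) by rw [e1] at h5; omega) (card_dvd_of_le hs.norm_le)) (by omega) fun k h1 h2 => by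
      have : k < 5 := (Nat.pow_lt_pow_iff_right one_lt_two).1 ((Nat.le_of_dvd (by omega) h1).trans_lt
        (by omega))
      interval_cases k <;> omega
  obtain ⟨a, a1, a2⟩ := mod4 (nc23 h) χ t2
  obtain ⟨k, a3⟩ := T.cg χ c1 t t1 a a1
  have a4 := abs_lt.1 (abs_lt_deg (nc23 h) (T.ne c1) (ne_one_of_ord2 t2) a1)
  have a5 := cong 11 χ.2.isCharacter t4 (k := 1) t3 ((defect_zero (r := 44160) fact11.out c3 h.symm
    (by decide) (by
      rw [t4.orderOf_mul_eq_mul_orderOf_of_coprime (by rw [t2, t3]; decide), t3]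
      exact dvd_mul_right _ _)).trans Int.cast_zero.symm) a1
  rw [c3] at a2 a3 a4
  have : 0 < k ∧ k < 21 := by omega
  obtain ⟨k1, k2⟩ := this
  interval_cases k <;> omega

theorem hQ23 (χ : IrrCharacter G) : Q23 (charDegree χ.1) = true := by
  obtain ⟨x, hx⟩ := exists_prime_orderOf_dvd_card' (G := G) 23 (by rw [h]; norm_num)
  obtain ⟨k, r, h1, h2⟩ := deg_mod_sc (m23_23 h hx).1 χ
  rw [(m23_23 h hx).2] at h2
  simp only [Q23, List.mem_cons, List.not_mem_nil, or_false, decide_eq_true_eq]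
  omega

theorem not23 {p : ℕ} [hp : Fact p.Prime] {y : G} (hy : Syl1 p y) (h1 : p ≠ 23) :
    Nat.card (Vc p y) % 23 ≠ 0 := fun e => isP_cent_of_sc (by norm_num)
  (fun x hx => (m23_23 h hx).1) hy.ne_one (by
    rw [hy.ord, Nat.prime_dvd_prime_iff_eq fact23.out hp.out]; omega)
  (hy.card_cent ▸ (Nat.dvd_of_mod_eq_zero e).mul_left p)

theorem m23_11 {y : G} (hy : orderOf y = 11) : SC 11 y ∧ Nat.card (autSub hy) = 5 := by
  have hs := syl1_of_ord hy (by rw [h]; norm_num)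
  have h1 : Nat.card (Vc 11 y) = 1 := by_contra fun e => by
    obtain ⟨m, s, L, T, h1, h2⟩ := exists_TB (nc23 h) h hD23 (R := fun v => v != 1 && v % 23 != 0)
      (fun χ _ => hQ23 h χ) hs (by
        simp only [Bool.and_eq_true, bne_iff_ne]; exact ⟨e, not23 h hs (by decide)⟩)
    rcases c23b _ h2 with ⟨q, q1, q2, q3⟩ | ⟨q1, q2⟩ | ⟨q1, q2, q3⟩
    · rw [← h1, T.uq (nc23 h) (by revert q1; simp; rintro (rfl | rfl) <;> norm_num) q2] at q3
      simp at q3
    · rw [← h1, T.bt 7 (by norm_num) (by norm_num) q1 (by rw [h]; norm_num) (by rw [h]; norm_num)] at q2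
      simp at q2
    dsimp only at q1 q2
    obtain ⟨t, t1, t2⟩ := exists_mem_orderOf_eq_prime (H := Vc 11 y) Nat.prime_two (q1 ▸ by decide)
    choose v v1 v2 using fun χ => mod4 (nc23 h) χ t2
    refine T.colZ (not_real hy (by decide) (q2 ▸ by decide)) (ord2_iff.1 t2).1 v1 (fun χ hχ => ?_)
      (by rw [t2]; decide) h (h1 ▸ q3)
    have a1 := T.cg χ hχ t t1 _ (v1 χ)
    have a2 := v2 χ
    exact mem_optM (by decide) (by rw [natAbs_sign (T.sgn χ hχ)]; omega) (by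
      rw [natAbs_sign (T.sgn χ hχ)]; exact abs_lt_deg (nc23 h) (T.ne hχ) (ne_one_of_ord2 t2) (v1 χ))
  obtain ⟨r, hr⟩ := hs.exists_r
  have h2 := hs.card_eq
  have h3 := card_autSub_dvd hy
  have h4 := Nat.le_of_dvd (by norm_num) h3
  refine ⟨hs.sc (card_eq_one.1 h1), ?_⟩
  rw [h, h1] at h2
  generalize Nat.card (autSub hy) = e at *
  interval_cases e <;> omega

end Cfsg.Agent.H3
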