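import Cfsg.Agent.H3.M24n
import Cfsg.Agent.H3.M23a

/-! The simple group of order `244823040`: the prime `23`. -/

set_option autoImplicit false
set_option linter.unusedVariables false
set_option linter.unusedSectionVars false

namespace Cfsg.Agent.H3

open Finset Subgroup Equiv Cfsg.Agent.PLoc Cfsg.Agent.Char Cfsg.Agent.Blk Cfsg.Agent.Inv Cfsg.Agent.H9
  Cfsg.Agent.Gol
open scoped ComplexConjugate

universe u

variable {G : Type u} [Group G] [Finite G] [IsSimpleGroup G] (h : Nat.card G = 244823040)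
include h

theorem nc24 : ¬ IsMulCommutative G := not_comm_of_card h (by norm_num)

theorem m24_23 {x : G} (hx : orderOf x = 23) : SC 23 x ∧ Nat.card (autSub hx) = 11 := by
  have hs := syl1_of_ord hx (by rw [h]; norm_num)
  have h1 : Nat.card (Vc 23 x) ∈ [1, 12, 24, 288, 576] := by_contra fun e => by
    obtain ⟨L, h1, -⟩ := exists_tree2 (nc24 h) h hD24 (Q := fun _ => true)
      (R := (· ∉ [1, 12, 24, 288, 576])) (fun _ _ => rfl) hs (decide_eq_true e)
    rw [c24a] at h1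
    simp at h1
  obtain ⟨r, hr⟩ := hs.exists_r
  have h2 := hs.card_eq
  have h3 := card_autSub_dvd hx
  have h4 := Nat.le_of_dvd (by norm_num) h3
  have h5 := (Nx x).index_mul_card
  obtain ⟨m, s, L, T, h6, -⟩ := exists_TB (nc24 h) h hD24 (Q := fun _ => true) (R := fun _ => true)
    (fun _ _ => rfl) hs rfl
  have h7 := T.aok
  simp only [List.mem_cons, List.not_mem_nil, or_false] at h1
  rw [h] at h2 h5
  have h8 : Nat.card (Vc 23 x) = 1 ∧ Nat.card (autSub hx) = 11 ∨
      (Nat.card (Vc 23 x), Nat.card (autSub hx), (Nx x).index) ∈ [(12, 22, 40320), (24, 11, 40320),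
        (288, 22, 1680), (576, 11, 1680)] := by
    generalize Nat.card (autSub hx) = e at *
    rcases h1 with e1 | e1 | e1 | e1 | e1 <;> rw [e1] at h2 ⊢ <;> interval_cases e <;> simp <;> omega
  refine h8.elim (fun e => ⟨hs.sc (card_eq_one.1 e.1), e.2⟩) fun e2 => ?_
  obtain ⟨χ, c1, c2⟩ : ∃ χ ∈ m, ¬ 2 ∣ charDegree χ.1 := by_contra fun e => by
    push Not at e
    have : (2 : ℤ) ∣ (m.map fun χ => s χ * charDegree χ.1).sum := List.dvd_sum fun a ha => by
      obtain ⟨χ, hχ, rfl⟩ := List.mem_map.1 ha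
      exact Dvd.dvd.mul_left (by exact_mod_cast e χ hχ) _
    rw [h6, List.sum_cons] at this
    omega
  have c3 := c24a' _ (hD24 _ (h ▸ deg_dvd χ)) c2 (s χ) (by simpa using T.sgn χ c1) _ e2 (h7 χ c1)
  have := Nat.fact_prime_two
  have c4 : (Nat.card (Vc 23 x) = 12 ∨ Nat.card (Vc 23 x) = 24 ∨ Nat.card (Vc 23 x) = 288 ∨
      Nat.card (Vc 23 x) = 576) ∧ ((Nx x).index = 40320 ∨ (Nx x).index = 1680) := by
    simp at e2
    omega
  obtain ⟨t, t1, y, t2, t3, t4⟩ := exists_comm_inv (p := 2) (q := 11) (V := Vc 23 x)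
    (Dvd.dvd.trans (show 11 ∣ Nat.card (Nx x) by rcases c4.2 with e | e <;> rw [e] at h5 <;> omega)
      (card_dvd_of_le hs.norm_le)) (by omega) fun k h1 h2 => by
      have : k < 10 := (Nat.pow_lt_pow_iff_right one_lt_two).1 ((Nat.le_of_dvd (by omega) h1).trans_lt
        (by omega))
      interval_cases k <;> omega
  obtain ⟨a, a1, a2⟩ := mod4 (nc24 h) χ t2
  obtain ⟨k, a3⟩ := T.cg χ c1 t t1 a a1
  have a4 := abs_lt.1 (abs_lt_deg (nc24 h) (T.ne c1) (ne_one_of_ord2 t2) a1)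
  have a6 : 11 ∣ orderOf (y * t) := by
    rw [t4.orderOf_mul_eq_mul_orderOf_of_coprime (by rw [t2, t3]; decide), t3]
    exact dvd_mul_right _ _
  have a5 := cong 11 χ.2.isCharacter t4 (k := 1) t3 (Eq.trans (c3.elim
    (fun c3 => defect_zero (r := 1059840) fact11.out c3 h.symm (by decide) a6)
    fun c3 => defect_zero (r := 494592) fact11.out c3 h.symm (by decide) a6) Int.cast_zero.symm) a1
  rcases c3 with c3 | c3 <;> rw [c3] at a2 a3 a4 <;> omega

theorem hQ23_24 (χ : IrrCharacter G) : Q23 (charDegree χ.1) = true := by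
  obtain ⟨x, hx⟩ := exists_prime_orderOf_dvd_card' (G := G) 23 (by rw [h]; norm_num)
  obtain ⟨k, r, h1, h2⟩ := deg_mod_sc (m24_23 h hx).1 χ
  rw [(m24_23 h hx).2] at h2
  simp only [Q23, List.mem_cons, List.not_mem_nil, or_false, decide_eq_true_eq]
  omega

theorem isP23_24 {g : G} (h1 : g ≠ 1) (h2 : ¬ 23 ∣ orderOf g) :
    ¬ 23 ∣ Nat.card (centralizer ({g} : Set G)) :=
  isP_cent_of_sc (by norm_num) (fun x hx => (m24_23 h hx).1) h1 h2

theorem not23_24 {p : ℕ} [hp : Fact p.Prime] {y : G} (hy : Syl1 p y) (h1 : p ≠ 23) :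
    Nat.card (Vc p y) % 23 ≠ 0 := fun e => isP23_24 h hy.ne_one (by
    rw [hy.ord, Nat.prime_dvd_prime_iff_eq fact23.out hp.out]; omega)
  (hy.card_cent ▸ (Nat.dvd_of_mod_eq_zero e).mul_left p)

end Cfsg.Agent.H3
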