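import Cfsg.Agent.H3.Tri
import Cfsg.Agent.H3.C1

/-! The Brauer–Tuan congruence modulo `27` for the characters of degree not divisible by `9`. -/

set_option autoImplicit false
set_option linter.unusedVariables false
set_option linter.unusedSectionVars false

namespace Cfsg.Agent.H3

open Cfsg Finset Subgroup Cfsg.Agent.PLoc Cfsg.Agent.Char Cfsg.Agent.Blk Cfsg.Agent.Inv Cfsg.Agent.H9
  Cfsg.Agent.Gol
open scoped ComplexConjugate

universe u

variable {G : Type u} [Group G] [Finite G]

/-- a relation on the `q`-singular elements splits along unions of blocks -/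
theorem vanish_filter {q : ℕ} [Fact q.Prime] (M : Ideal AlgInt) [PMod q M] (P : IrrCharacter G → Bool)
    (hP : ∀ χ ψ : IrrCharacter G, SameBlock M χ.1 ψ.1 → P χ = P ψ) (L : List (ℤ × IrrCharacter G))
    (hL : ∀ g, q ∣ orderOf g → (L.map fun i => (i.1 : ℂ) * i.2.1 g).sum = 0) (g : G)
    (hg : q ∣ orderOf g) : ((L.filter fun i => P i.2).map fun i => (i.1 : ℂ) * i.2.1 g).sum = 0 := by
  classical
  have := Fintype.ofFinite G
  let F : List (ℤ × IrrCharacter G) → G → ℂ := fun K g =>
    (K.map fun i => (i.1 : ℂ) * (i.2.1 g - regPart q i.2.1 g)).sum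
  have f1 : ∀ K, IsClassFunction G (F K) := fun K a b => by
    refine congrArg List.sum (List.map_congr_left fun i _ => ?_)
    rw [i.2.2.isClassFunction a b, isClassFunction_regPart (p := q) i.2.2.isClassFunction a b]
  have f2 : ∀ (K) (η : IrrCharacter G), (∀ i ∈ K, P i.2 ≠ P η) → classInner (F K) η.1 = 0 := by
    intro K η hK
    induction K with
    | nil => simp [F, classInner]
    | cons i K ih =>
      have e : F (i :: K) = (i.1 : ℂ) • (i.2.1 - regPart q i.2.1) + F K := funext fun g => by simp [F]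
      have n1 := hK i (by simp)
      rw [e, classInner_add_left, ih fun j hj => hK j (by simp [hj]), classInner_smul_left,
        classInner_sub_left, irr_classInner, if_neg (fun e => n1 (by rw [e])),
        classInner_regPart_eq_zero (M := M) fun e => n1 (hP _ _ e)]
      simp
  have f3 : ∀ K g, q ∣ orderOf g → F K g = (K.map fun i => (i.1 : ℂ) * i.2.1 g).sum := fun K g hg =>
    congrArg List.sum (List.map_congr_left fun i _ => by rw [regPart_of_dvd _ hg, sub_zero])
  have f4 : ∀ K, F K = F (K.filter fun i => P i.2) + F (K.filter fun i => !P i.2) := fun K => by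
    funext g
    induction K with
    | nil => simp [F]
    | cons i K ih =>
      simp only [F, Pi.add_apply] at ih ⊢
      cases e : P i.2 <;> simp [List.filter_cons, e, ih] <;> ring
  have f5 : F L = 0 := funext fun g => by
    by_cases e : q ∣ orderOf g
    · rw [f3 _ _ e, hL g e]; rfl
    · simp [F, regPart_of_not_dvd _ e]
  rw [← f3 _ _ hg, (f1 _).apply_eq_sum_irr g]
  refine sum_eq_zero fun η _ => ?_
  cases e : P η
  · rw [f2 _ η fun i hi => by simp [e, (List.mem_filter.1 hi).2], zero_mul]
  · have := f4 L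
    rw [f5, eq_comm, add_eq_zero_iff_eq_neg] at this
    rw [this, ← neg_one_smul ℂ, classInner_smul_left, f2 _ η fun i hi => by
      have := (List.mem_filter.1 hi).2
      simpa [e] using this]
    simp

theorem nine_dvd (M : Ideal AlgInt) [hp : PMod 3 M] {r : ℕ} (h : Nat.card G = 27 * r) (hr : ¬ 3 ∣ r)
    {χ ψ : IrrCharacter G} (e : SameBlock M χ.1 ψ.1) (h9 : 9 ∣ charDegree ψ.1) :
    9 ∣ charDegree χ.1 := by
  classical
  have := Nat.fact_prime_three
  obtain ⟨c, hc⟩ := deg_dvd ψ
  obtain ⟨d, hd⟩ := h9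
  have key : ∀ j s, j ≤ 1 → charDegree ψ.1 * 3 ^ j * s = Nat.card G → ¬ 3 ∣ s →
      (charDegree χ.1).factorization 3 = (charDegree ψ.1).factorization 3 := fun j s hj h1 h2 => by
    obtain ⟨n, -, a2, a3, a4, -, a6⟩ := exists_part M ψ h1 h2
    have b1 := single_le_sum (f := fun χ => n χ ^ 2) (fun χ _ => sq_nonneg _) (mem_univ ψ)
    have b2 := single_le_sum (f := fun χ => n χ ^ 2) (fun χ _ => sq_nonneg _) (mem_univ χ)
    rw [a2] at b1 b2
    have b3 : n ψ < 3 ∧ n χ ^ 2 < 9 := by
      interval_cases j
      · norm_num at b1 b2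
        have : n ψ ≤ 1 := by nlinarith
        exact ⟨by omega, by omega⟩
      · have := a4 one_pos
        norm_num at this b2
        exact ⟨this, by omega⟩
    obtain ⟨b4, b5⟩ := a6 (by omega) χ e
    exact b5 fun ⟨k, hk⟩ => by
      have : k ≠ 0 := fun e => b4 (by simp [hk, e])
      have : 1 ≤ k ^ 2 := (one_le_sq_iff_one_le_abs _).2 (Int.one_le_abs this)
      rw [hk] at b3
      push_cast at b3
      nlinarith [b3.2]
  have h3 : d * c = 3 * r := by
    rw [hd, h] at hc
    linarith
  have : (charDegree χ.1).factorization 3 = (charDegree ψ.1).factorization 3 := by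
    by_cases e3 : 3 ∣ c
    · obtain ⟨s, rfl⟩ := e3
      refine key 1 s le_rfl (by rw [hc]; ring) fun e => hr ?_
      rw [show r = d * s by linarith]
      exact e.mul_left d
    · exact key 0 c (by omega) (by rw [hc]; ring) e3
  have a := (Nat.prime_three.pow_dvd_iff_le_factorization (k := 2) (deg_pos ψ).ne').1 ⟨d, hd⟩
  exact (Nat.prime_three.pow_dvd_iff_le_factorization (k := 2) (deg_pos χ).ne').2 (this ▸ a)

theorem list_m27 {r : ℕ} (h : Nat.card G = 27 * r) (hr : ¬ 3 ∣ r) (L : List (ℤ × IrrCharacter G))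
    (hL : ∀ g, 3 ∣ orderOf g → (L.map fun i => (i.1 : ℂ) * i.2.1 g).sum = 0) :
    (27 : ℤ) ∣ ((L.filter fun i => charDegree i.2.1 % 9 != 0).map
      fun i => i.1 * (charDegree i.2.1 : ℤ)).sum := by
  have := Nat.fact_prime_three
  obtain ⟨M, hM⟩ := exists_PMod 3
  have v := vanish_filter M (fun χ => charDegree χ.1 % 9 != 0) (fun χ ψ e => by
    have a := nine_dvd M h hr e
    have b := nine_dvd M h hr (sameBlock_symm e)
    rw [Bool.eq_iff_iff]
    simp only [bne_iff_ne]
    omega) L hL
  generalize (L.filter fun i => charDegree i.2.1 % 9 != 0) = K at v ⊢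
  obtain ⟨Q, hQ⟩ := Sylow.exists_subgroup_card_pow_prime (G := G) 3 (n := 3) ⟨r, h⟩
  have g1 : IsGeneralizedCharacter G fun g => (K.map fun i => (i.1 : ℂ) * i.2.1 g).sum := by
    clear v
    induction K with
    | nil => convert (isGen_one (G := G)).intCast_smul 0 using 1; funext g; simp
    | cons i K ih => convert (i.2.2.isGen.intCast_smul i.1).add ih using 1; funext g; simp
  have := card_dvd_of_vanish g1 Q (fun y hy h1 => by
      obtain ⟨_ | i, hi⟩ := IsPGroup_orderOf (IsPGroup.of_card hQ) hy
      · exact absurd (orderOf_eq_one_iff.1 hi) h1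
      exact v y (hi ▸ dvd_pow_self 3 i.succ_ne_zero))
    (n := (K.map fun i => i.1 * (charDegree i.2.1 : ℤ)).sum) (by
      simp [Int.cast_list_sum, List.map_map, Function.comp_def, irr_one_eq])
  simpa [hQ] using this

/-- the test on a list of signed degrees (the trivial character left out) -/
def m27 (L : List ℤ) : Bool := (1 + (L.filter (· % 9 != 0)).sum) % 27 == 0

theorem m27_of {r : ℕ} (h : Nat.card G = 27 * r) (hr : ¬ 3 ∣ r) (L : List (ℤ × IrrCharacter G))
    (hs : ∀ i ∈ L, i.1 = 1 ∨ i.1 = -1)
    (hL : ∀ g, 3 ∣ orderOf g → 1 + (L.map fun i => (i.1 : ℂ) * i.2.1 g).sum = 0) :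
    m27 (L.map fun i => i.1 * charDegree i.2.1) = true := by
  have := list_m27 h hr ((1, irrOne G) :: L) fun g hg => by
    rw [List.map_cons, List.sum_cons, ← hL g hg, Int.cast_one, one_mul]; rfl
  rw [List.filter_cons_of_pos (by simp only [deg_irrOne]; decide), List.map_cons, List.sum_cons, deg_irrOne] at this
  rw [m27, List.filter_map, List.filter_congr (q := fun i => charDegree i.2.1 % 9 != 0) fun i hi => by
    rw [Bool.eq_iff_iff]
    simp only [Function.comp, bne_iff_ne]
    rcases hs i hi with e | e <;> rw [e] <;> omega]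
  simpa using Int.emod_eq_zero_of_dvd this

theorem T2.m27 {p : ℕ} [hp : Fact p.Prime] {l : List (IrrCharacter G)} {s : IrrCharacter G → ℤ} {ε : ℤ}
    {μ ν : IrrCharacter G} (T : T2 p l s ε μ ν) (p3 : p ≠ 3) {r : ℕ} (h : Nat.card G = 27 * r)
    (hr : ¬ 3 ∣ r) : m27 (-(1 + (l.map fun χ => s χ * charDegree χ.1).sum) ::
      l.map fun χ => s χ * charDegree χ.1) = true := by
  have := m27_of h hr ((-ε, μ) :: l.map fun χ => (s χ, χ)) (by
    have := T.eps
    rw [List.forall_mem_cons, List.forall_mem_map]
    exact ⟨by dsimp only; omega, T.sgn⟩) fun g hg => by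
      have := (T.reg g fun e => p3 ((Nat.prime_dvd_prime_iff_eq Nat.prime_three hp.out).1
        (e ▸ hg)).symm).1
      simp only [List.map_cons, List.sum_cons, List.map_map, Function.comp_def]
      push_cast
      linear_combination this
  simpa only [List.map_cons, List.map_map, Function.comp_def, T.deg.1, neg_mul] using this

theorem C1.m27 {p : ℕ} {x : G} {m : List (IrrCharacter G)} {w : IrrCharacter G → ℤ} (C : C1 p x m w)
    (hp : ∀ g : G, 3 ∣ orderOf g → ¬ p ∣ orderOf g) {r : ℕ} (h : Nat.card G = 27 * r) (hr : ¬ 3 ∣ r) :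
    m27 (m.map fun χ => w χ * charDegree χ.1) = true := by
  have := m27_of h hr (m.map fun χ => (w χ, χ)) (by
    rw [List.forall_mem_map]
    exact fun χ hχ => (C.val χ hχ).1) fun g hg => by
      simpa only [List.map_map, Function.comp_def] using C.reg g (hp g hg)
  simpa only [List.map_map, Function.comp_def] using this

end Cfsg.Agent.H3
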