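import Cfsg.Agent.H3.M24k
import Cfsg.Agent.H3.M24a
import Cfsg.Agent.H3.Col2
import Cfsg.Agent.H3.M27

/-! Tools for the column of an involution on a principal block. -/

set_option autoImplicit false
set_option linter.unusedVariables false
set_option linter.unusedSectionVars false

namespace Cfsg.Agent.H3

open Finset Subgroup Equiv Cfsg.Agent.PLoc Cfsg.Agent.Char Cfsg.Agent.Blk Cfsg.Agent.Inv Cfsg.Agent.H9
  Cfsg.Agent.Gol Cfsg.Agent.H3.K
open scoped ComplexConjugate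

universe u

theorem gc_nat {ι : Type*} (f : ι → ℂ) (K : List ι) (h : ∀ i ∈ K, ∃ k : ℕ, f i = k) :
    ∃ k : ℕ, (K.map f).sum = k := by
  induction K with
  | nil => exact ⟨0, by simp⟩
  | cons i K ih =>
    obtain ⟨k, hk⟩ := h i (by simp)
    obtain ⟨l, hl⟩ := ih fun j hj => h j (by simp [hj])
    exact ⟨k + l, by simp [hk, hl]⟩

theorem gc_swap {ι κ : Type*} [Fintype κ] (f : ι → κ → ℂ) (K : List ι) :
    ∑ j, (K.map fun i => f i j).sum = (K.map fun i => ∑ j, f i j).sum := by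
  induction K with
  | nil => simp
  | cons i K ih => simp [sum_add_distrib, ih]

variable {G : Type u} [Group G] [Finite G] {p : ℕ} [hp : Fact p.Prime] {x : G}

theorem exists_comm_inv2 {V : Subgroup G} {q : ℕ} [hq : Fact q.Prime] {y : G}
    (hy : y ∈ normalizer (V : Set G)) (ho : orderOf y = q) (h2 : ¬ q ∣ Nat.card V)
    (h3 : ∀ k, p ^ k ∣ Nat.card V → ¬ p ∣ Nat.card V / p ^ k → p ^ k % q ≠ 1) :
    ∃ t ∈ V, orderOf t = p ∧ Commute y t := by
  obtain ⟨P, ⟨p1, p2, p3⟩, p4⟩ := Core.exists_invariant_isSylowIn (zpowers_le.2 hy)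
    (by rw [Nat.card_zpowers, ho]; exact hq.out.coprime_iff_not_dvd.2 h2) (.inl inferInstance) p
  have a1 := PLoc.card_modEq_card_inf_centralizer (isPGroup_zpowers (p := q) (k := 1) (x := y)
    (by simp [← ho])) p4
  obtain ⟨k, hk⟩ := p2.exists_card_eq
  have a2 := card_mul_relIndex p1
  obtain ⟨t, ⟨t1, t2⟩, t3⟩ := exists_mem_orderOf_eq_prime (H := P ⊓ centralizer (zpowers y : Set G))
    hp.out (((p2.to_le inf_le_left).card_eq_or_dvd).resolve_left fun e => h3 k (hk ▸ ⟨_, a2.symm⟩)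
      (by rwa [← a2, hk, Nat.mul_div_cancel_left _ (pow_pos hp.out.pos k)])
      (by rw [← hk, a1, e, Nat.mod_eq_of_lt hq.out.one_lt]))
  exact ⟨t, p1 t1, t3, t2 y (mem_zpowers y)⟩

theorem PB_cg {M : Ideal AlgInt} [PMod p M] (h : Syl1 p x) {χ : IrrCharacter G} (hχ : χ ∈ PB M G)
    {w : G} (hw : w ∈ Vc p x) {a : ℤ} (ha : χ.1 w = a) : (p : ℤ) ∣ charDegree χ.1 - a := by
  obtain ⟨a1, a2⟩ := h.mem_Vc.1 hw
  have a3 := char_mul_sub_mem (M := M) χ.2.isCharacter (mem_centralizer_singleton_iff.1 a1).symm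
    ⟨1, by simp [h.ord]⟩
  have a4 := char_mul_sub_mem (M := M) χ.2.isCharacter (Commute.one_right x) ⟨1, by simp [h.ord]⟩
  rw [h.PB_const hχ (mem_zpowers x) h.ne_one hw, ha] at a3
  rw [mul_one, irr_one_eq] at a4
  exact intCast_mem_LP.1 (by simpa using LP_trans (LP_symm a4) a3)

variable [IsSimpleGroup G]

/-- some member of the tree for `p` lies in the principal `q`-block, with the opposite sign -/
theorem TB.cross {h : Syl1 p x} {m : List (IrrCharacter G)} {s : IrrCharacter G → ℤ} (T : TB h m s)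
    (hG : ¬ IsMulCommutative G) {q : ℕ} [hq : Fact q.Prime] {y : G} (h' : Syl1 q y)
    (hpq : ∀ g : G, q ∣ orderOf g → ¬ p ∣ orderOf g) : ∃ χ ∈ m,
      aok2 q (Nat.card (Vc q y)) (Nat.card (autSub h'.ord)) (Nx y).index
        (-(s χ * charDegree χ.1)) = true ∧
      ∀ w ∈ Vc q y, ∀ a : ℤ, χ.1 w = a → (q : ℤ) ∣ charDegree χ.1 - a := by
  classical
  obtain ⟨M, hM⟩ := exists_PMod q
  obtain ⟨N, δ, ε, μ, D⟩ := h'.exists_D1 (M := M)
  by_contra hn
  have h1 := vanish_filter (q := q) M (fun χ => decide (χ ∈ PB M G)) (fun χ ψ e => by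
      simp only [mem_PB, decide_eq_decide]
      exact ⟨fun a => sameBlock_trans a e, fun a => sameBlock_trans a (sameBlock_symm e)⟩)
    ((1, irrOne G) :: m.map fun χ => (s χ, χ)) (fun g hg => by
      have := T.reg g (hpq g hg)
      simpa [List.map_map, Function.comp_def] using this)
  have h2 : ∑ j : (ZMod q)ˣ, ((((1, irrOne G) :: m.map fun χ => (s χ, χ)).filter
      fun i : ℤ × IrrCharacter G => decide (i.2 ∈ PB M G)).map
      fun i => (i.1 : ℂ) * i.2.1 (pw y (j : ZMod q))).sum = 0 :=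
    sum_eq_zero fun j _ => h1 _ (orderOf_pw h'.ord j.ne_zero).symm.dvd
  rw [gc_swap (fun (i : ℤ × IrrCharacter G) (j : (ZMod q)ˣ) => (i.1 : ℂ) * i.2.1 (pw y (j : ZMod q))),
    List.filter_cons_of_pos (by simpa using one_mem_PB q), List.map_cons, List.sum_cons] at h2
  obtain ⟨k, hk⟩ := gc_nat (fun i : ℤ × IrrCharacter G => ∑ j : (ZMod q)ˣ,
      (i.1 : ℂ) * i.2.1 (pw y (j : ZMod q))) ((m.map fun χ => (s χ, χ)).filter
      fun i : ℤ × IrrCharacter G => decide (i.2 ∈ PB M G)) fun i hi => by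
    obtain ⟨b1, b2⟩ := List.mem_filter.1 hi
    obtain ⟨χ, b3, rfl⟩ := List.mem_map.1 b1
    replace b2 : χ ∈ PB M G := of_decide_eq_true b2
    have b4 : aok2 q (Nat.card (Vc q y)) (Nat.card (autSub h'.ord)) (Nx y).index
        (-(s χ * charDegree χ.1)) ≠ true := fun e => hn ⟨χ, b3, e, fun w hw a ha => PB_cg h' b2 hw ha⟩
    simp only [aok2, ne_eq, Bool.or_eq_true, not_or, neg_neg] at b4
    rw [← mul_sum]
    rcases D.cases χ b2 with e | ⟨j, rfl⟩
    · have b5 := aOK_N hG D e (T.ne b3)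
      have b6 : s χ = δ χ := by_contra fun e' => b4.1 (by
        rwa [show -(s χ * charDegree χ.1) = δ χ * charDegree χ.1 by
          rw [show δ χ = -s χ by have := T.sgn χ b3; have := D.δ_val χ e; omega, neg_mul]])
      refine ⟨Fintype.card (ZMod q)ˣ, ?_⟩
      simp only [D.apply_N χ e _ (Units.ne_zero _), sum_const, card_univ, nsmul_eq_mul, b6]
      rcases D.δ_val χ e with e | e <;> simp [e]
    · have b5 := aOK_exc hG D
      rw [← D.deg_exc_eq j] at b5
      have b6 : s (μ j) = -ε := by_contra fun e' => b4.2 (by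
        rwa [show s (μ j) = ε by have := T.sgn _ b3; have := D.ε_val; omega])
      refine ⟨Nat.card (autSub h'.ord), ?_⟩
      simp only [D.apply_exc j _ (Units.ne_zero _), ← mul_sum, sum_eta, b6]
      rcases D.ε_val with e | e <;> simp [e]
  rw [hk] at h2
  have h3 : ∑ j : (ZMod q)ˣ, ((1 : ℤ) : ℂ) * (irrOne G).1 (pw y (j : ZMod q)) =
      (Fintype.card (ZMod q)ˣ : ℕ) := by
    have : ∀ g, (irrOne G).1 g = 1 := fun _ => rfl
    simp [this]
  have h4 := Fintype.card_pos (α := (ZMod q)ˣ)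
  rw [show (∑ j : (ZMod q)ˣ, ((((1 : ℤ), irrOne G) : ℤ × IrrCharacter G).1 : ℂ) *
    (((1 : ℤ), irrOne G) : ℤ × IrrCharacter G).2.1 (pw y (j : ZMod q))) = _ from h3] at h2
  have : Fintype.card (ZMod q)ˣ + k = 0 := by exact_mod_cast h2
  omega

theorem TB.toTC {h : Syl1 p x} {m : List (IrrCharacter G)} {s : IrrCharacter G → ℤ} (T : TB h m s)
    (p2 : p ≠ 2) {m' : List (IrrCharacter G)} (e2 : m'.Perm m) :
    TC (G := G) p (Nat.card (Vc p x), Nat.card (autSub h.ord),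
      m'.map fun χ => s χ * charDegree χ.1) m' s := by
  refine ⟨(e2.cons _).nodup_iff.2 T.nodup, fun χ hχ => ⟨T.sgn χ (e2.subset hχ), fun e => ?_⟩,
    rfl, fun g hg => by rw [(e2.map _).sum_eq, T.reg g hg], fun e χ a1 a2 => ?_, fun e => ?_,
    fun t ht => ?_, fun t ht e χ hχ a ha => ?_, fun e t ht => by
      rw [(e2.map _).sum_eq, T.quad (not_real h.ord p2 (Nat.odd_iff.2 (Nat.mod_two_ne_zero.1 e))) t ht],
    fun t ht => by rw [(e2.map _).sum_eq]; exact T.sqr p2 t ht⟩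
  · have a1 := T.aok χ (e2.subset hχ)
    have a2 : (p : ℤ) ∣ s χ * charDegree χ.1 := (Int.natCast_dvd_natCast.2 e).mul_left _
    have a3 := hp.out.one_lt
    simp only [aOK, Bool.and_eq_true, decide_eq_true_eq, ← Int.dvd_iff_emod_eq_zero] at a1
    rcases a1 with a1 | a1
    · exact a3.ne' (Nat.dvd_one.1 (Int.natCast_dvd_natCast.1 ((dvd_sub_right a2).1 a1.1.2)))
    · exact Nat.not_dvd_of_pos_of_lt Nat.card_pos (Nat.lt_of_le_sub_one (by omega) (Nat.le_of_dvd
        (by omega) (card_autSub_dvd h.ord))) (Int.natCast_dvd_natCast.1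
        ((dvd_sub_right a2.neg_right).1 a1.1.2))
  · obtain ⟨ψ, a3, a4⟩ := T.cov (h.sc (card_eq_one.1 e)) χ a1 a2
    exact ⟨ψ, e2.symm.subset a3, a4⟩
  · obtain ⟨t, t1, t2⟩ := exists_mem_orderOf_eq_prime Nat.prime_two (Nat.dvd_of_mod_eq_zero e)
    exact ⟨t, t2, h.ord ▸ orderOf_dvd_card_of_mem (mem_centralizer_singleton_iff.2
      (mem_centralizer_singleton_iff.1 (h.mem_Vc.1 t1).1).symm)⟩
  · simp only [H3.okc, bif'_eq, Nat.beq_eq, force_eq]
    split_ifs with e e'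
    · obtain ⟨v, v1, v2⟩ := conj_Vc h p2 ht (Nat.dvd_of_mod_eq_zero e)
      have x1 : x ∈ centralizer {v} := mem_centralizer_singleton_iff.2
        (mem_centralizer_singleton_iff.1 (h.mem_Vc.1 v1).1).symm
      obtain ⟨k, k1, k2⟩ := card_over h x1
      obtain ⟨i, hi⟩ : 4 * p ∣ Nat.card ↥(Nx x ⊓ centralizer {v}) := Nat.Coprime.mul_dvd_of_dvd_of_dvd
        (Nat.Coprime.pow_left 2 ((Nat.coprime_primes Nat.prime_two hp.out).2 p2.symm))
        ((four_dvd v1 (ord_conj v2 ▸ ht) (Nat.dvd_of_mod_eq_zero e')).trans (card_dvd_of_le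
          (inf_le_inf_right _ ((pPrimeCoreOf_le _).trans h.cent_le))))
        (h.ord ▸ orderOf_dvd_card_of_mem ⟨le_normalizer (mem_zpowers x), x1⟩)
      have a1 : 4 * p * i ∣ p * Nat.card (Vc p x) * Nat.card (autSub h.ord) := by
        rw [← hi, Nat.eq_of_mul_eq_mul_right (index_pos' (Nx x))
          (h.card_eq.symm.trans (Nx x).card_mul_index.symm)]
        exact card_dvd_of_le inf_le_left
      have a2 : 0 < 4 * p * i := hi ▸ Nat.card_pos
      refine nany_iff.2 ⟨i, Nat.lt_succ_of_le ((Nat.le_div_iff_mul_le (by decide)).2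
        (Nat.le_of_mul_le_mul_left (c := p) ?_ hp.out.pos)), ?_⟩
      · have := Nat.le_of_dvd (Nat.mul_pos (Nat.mul_pos hp.out.pos Nat.card_pos) Nat.card_pos) a1
        linarith
      · simp only [card_centralizer_of_isConj v2, k1, hi, Nat.mul_mod_right, Nat.mul_div_cancel_left _ a2,
          k2, Nat.mod_eq_zero_of_dvd a1, if_true]
        rfl
    · obtain ⟨v, v1, v2⟩ := conj_Vc h p2 ht (Nat.dvd_of_mod_eq_zero e)
      exact Nat.beq_eq.mpr (Nat.mod_eq_zero_of_dvd (ht ▸ ord_conj v2 ▸ orderOf_dvd_card_of_mem v1))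
    · rfl
  · obtain ⟨v, v1, v2⟩ := conj_Vc h p2 ht e
    exact T.cg χ (e2.subset hχ) v v1 a (by rw [← χ.2.isClassFunction.of_isConj v2, ha])

/-- soundness of the search `gcol` -/
theorem TC.gcol {U : ℕ × ℕ × List ℤ} {m : List (IrrCharacter G)} {s : IrrCharacter G → ℤ}
    (T : TC p U m s) (hG : ¬ IsMulCommutative G) {n : ℕ} (hn : Nat.card G = n) (p2 : p ≠ 2) {t : G}
    (ht : orderOf t = 2) {w : IrrCharacter G → ℤ} (hw : ∀ χ, χ.1 t = w χ ∧ 4 ∣ charDegree χ.1 - w χ)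
    {md : ℕ → ℕ} (hmd : ∀ χ ∈ m, 0 < md (charDegree χ.1) ∧
      (md (charDegree χ.1) : ℤ) ∣ charDegree χ.1 - w χ)
    {k : List (ℤ × ℤ) → Bool} (hk : k (ent s w m).reverse = true) :
    K.gcol n p U.1 U.2.1 U.2.2 (Nat.card (centralizer ({t} : Set G))) md k = true := by
  obtain ⟨a1, a2, a3, a4⟩ := T.aux hG hn p2 ht hw
  have a5 := nq_le T.nodup fun χ => (hw χ).1
  simp only [K.gcol, force_eq, ← T.fst w]
  refine ann_sound (P := (· = true)) (fun _ B r e => by simp [forceI_eq, bif'_eq, e]) _ a1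
    (List.forall_mem_map.2 fun χ hχ => ⟨(a4 χ hχ).1, ?_⟩) (b' := Nat.card (centralizer ({t} : Set G)) -
      1 - nq w m) a2 ?_ (fun r => ?_) _
  · have b1 := hmd χ hχ
    rw [← natAbs_sign (T.sgn χ hχ).1 (charDegree χ.1)] at b1
    refine (a4 χ hχ).2 _ _ b1.1 (by simpa only [natAbs_sign (T.sgn χ hχ).1] using b1.2) ?_
    have : _ ≤ nq w m := List.le_sum_of_mem (List.mem_map_of_mem hχ)
    omega
  · simp only [ent, List.map_map, Function.comp_def, one_mul]
    exact (Nat.sub_add_cancel (show nq w m ≤ _ by omega)).symm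
  · obtain ⟨j, hj⟩ := T.sqr t (ord2_iff.1 ht).1
    rw [forceI_eq, hk]
    by_cases e : U.2.1 % 2 = 0
    · rw [show ((p * U.1 : ℕ) : ℤ) * qs n (ent s w m).reverse =
        (Nat.card (centralizer ({t} : Set G)) * j : ℕ) ^ 2 from Int.cast_injective (α := ℂ) (by
          push_cast
          rw [a3, ← hj, hn, mul_assoc (_ * _)]), sqT_sq _ _ Nat.card_pos, e]
      rfl
    · rw [show qs n (ent s w m).reverse = 0 from Int.cast_injective (α := ℂ) (by
        rw [a3, T.quad e t (ord2_iff.1 ht).1, mul_zero, Int.cast_zero]), Nat.mod_two_ne_zero.1 e]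
      rfl

/-- an involution of `V` commuting with an element of order `5`, and its centraliser order -/
theorem ct24 (h : Nat.card G = 244823040) {y : G} (hs : Syl1 11 y)
    (hv : (Nat.card (Vc 11 y), Nat.card (autSub hs.ord)) ∈ [(288, 5), (24, 5), (2, 5), (12, 10)]) :
    ∃ t ∈ Vc 11 y, ∃ z, orderOf t = 2 ∧ orderOf z = 5 ∧ Commute z t ∧
      Nat.card (centralizer ({t} : Set G)) ∈ Ct24 (Nat.card (Vc 11 y)) := by
  have := Nat.fact_prime_two
  have : Fact (Nat.Prime 5) := ⟨by norm_num⟩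
  have a0 : Nat.card (Nx y) = 11 * Nat.card (Vc 11 y) * Nat.card (autSub hs.ord) :=
    (Nat.eq_of_mul_eq_mul_right (index_pos' (Nx y))
      (hs.card_eq.symm.trans (Nx y).card_mul_index.symm)).symm
  have hv' := hv
  simp only [List.mem_cons, Prod.mk.injEq, List.not_mem_nil, or_false] at hv'
  obtain ⟨z, z1, z2⟩ := exists_mem_orderOf_eq_prime (H := Nx y) (p := 5) (by norm_num)
    (by rw [a0]; rcases hv' with e | e | e | e <;> rw [e.1, e.2] <;> norm_num)
  obtain ⟨t, t1, t2, t3⟩ := exists_comm_inv2 (p := 2) (q := 5) (V := Vc 11 y) (hs.norm_le z1) z2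
    (by omega) fun k h1 h2 => by
      have : k < 10 := (Nat.pow_lt_pow_iff_right one_lt_two).1 ((Nat.le_of_dvd (by omega) h1).trans_lt
        (by omega))
      interval_cases k <;> omega
  refine ⟨t, t1, z, t2, z2, t3, ?_⟩
  have x1 : y ∈ centralizer {t} := mem_centralizer_singleton_iff.2
    (mem_centralizer_singleton_iff.1 (hs.mem_Vc.1 t1).1).symm
  obtain ⟨k, k1, k2⟩ := card_over hs x1
  have b1 : 11 ∣ Nat.card ↥(Nx y ⊓ centralizer {t}) :=
    hs.ord ▸ orderOf_dvd_card_of_mem ⟨le_normalizer (mem_zpowers y), x1⟩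
  have b2 : 5 ∣ Nat.card ↥(Nx y ⊓ centralizer {t}) :=
    z2 ▸ orderOf_dvd_card_of_mem ⟨z1, mem_centralizer_singleton_iff.2 t3⟩
  have b3 : 2 ∣ Nat.card ↥(Nx y ⊓ centralizer {t}) :=
    t2 ▸ orderOf_dvd_card_of_mem ⟨hs.cent_le (hs.mem_Vc.1 t1).1, mem_centralizer_singleton_iff.2 rfl⟩
  obtain ⟨i, hi⟩ : 110 ∣ Nat.card ↥(Nx y ⊓ centralizer {t}) := by omega
  have b4 : 110 * i ∣ 11 * Nat.card (Vc 11 y) * Nat.card (autSub hs.ord) := by
    rw [← hi, ← a0]
    exact card_dvd_of_le inf_le_left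
  have b5 : 0 < 110 * i := hi ▸ Nat.card_pos
  refine c24t _ hv i ?_ b4 _ (hD24 _ (h ▸ card_subgroup_dvd_card _)) ⟨k, by rw [k1, hi]⟩
    (by rw [k1, hi, Nat.mul_div_cancel_left _ b5, k2])
    (isP23_24 h (ne_one_of_ord2 t2) (by rw [t2]; norm_num))
  have := Nat.le_of_dvd (Nat.mul_pos (Nat.mul_pos (by norm_num) Nat.card_pos) Nat.card_pos) b4
  rcases hv' with e | e | e | e <;> rw [e.1, e.2] at this <;> omega

end Cfsg.Agent.H3
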