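import Cfsg.Agent.H3.M24a
import Cfsg.Agent.H3.Col2

/-! The simple group of order `244823040`: two values on an involution. -/

set_option autoImplicit false
set_option linter.unusedVariables false
set_option linter.unusedSectionVars false

namespace Cfsg.Agent.H3

open Finset Subgroup Equiv Cfsg.Agent.PLoc Cfsg.Agent.Char Cfsg.Agent.Blk Cfsg.Agent.Inv Cfsg.Agent.H9
  Cfsg.Agent.Gol
open scoped ComplexConjugate

universe u

theorem c24k : ∀ c ∈ D24, ¬ 23 ∣ c → ∀ i < 41, (5544 : ℤ) ∣ (244823040 / c : ℕ) * (5544 - 220 * (i : ℕ) : ℤ) →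
    ∀ j < 33, (3840 : ℤ) ∣ (244823040 / c : ℕ) * (3840 - 220 * (j : ℕ) : ℤ) →
      (c : ℤ) < 1 + (5544 - 220 * (i : ℕ) : ℤ) ^ 2 + (3840 - 220 * (j : ℕ) : ℤ) ^ 2 := by
  decide +kernel

variable {G : Type u} [Group G] [Fintype G] [IsSimpleGroup G] (h : Nat.card G = 244823040)
include h

theorem kill12 {t : G} (ht : orderOf t = 2) {c ψ : IrrCharacter G} (hc : charDegree c.1 = 5544)
    (hψ : charDegree ψ.1 = 3840) {a b : ℤ} (ha : c.1 t = a) (hb : ψ.1 t = b) (h1 : 220 ∣ 5544 - a)
    (h2 : 220 ∣ 3840 - b) : False := by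
  classical
  have c1 := isP23_24 h (ne_one_of_ord2 ht) (by rw [ht]; decide)
  have c2 := card_subgroup_dvd_card (centralizer ({t} : Set G))
  have a2 := dvd_index_mul c ha
  have b2 := dvd_index_mul ψ hb
  have o1 := deg_irrOne (G := G)
  have n1 : ψ ≠ c := by rintro rfl; omega
  have n2 : irrOne G ≠ c := by rintro rfl; omega
  have n3 : irrOne G ≠ ψ := by rintro rfl; omega
  have a3 := sq_le (l := [irrOne G, c, ψ]) (by simp [n1.symm, n2, n3]) (g := t)
    (w := fun χ => if χ = c then a else if χ = ψ then b else 1) (by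
      simp only [List.forall_mem_cons, if_neg n1, if_neg n2, if_neg n3, if_true, ha, hb]
      simp [irrOne])
  simp only [List.map_cons, List.map_nil, List.sum_cons, List.sum_nil, if_neg n1, if_neg n2, if_neg n3,
    if_true] at a3
  rw [h] at c2 a2 b2
  rw [hc] at a2
  rw [hψ] at b2
  generalize Nat.card (centralizer ({t} : Set G)) = m at *
  have m1 : m ∣ 10644480 := ((fact23.out.coprime_iff_not_dvd.2 c1).symm).dvd_of_dvd_mul_right c2
  have m2 : (m : ℤ) ≤ 10644480 := by exact_mod_cast Nat.le_of_dvd (by norm_num) m1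
  have a4 : -3300 < a ∧ a < 3300 := ⟨by nlinarith [sq_nonneg b], by nlinarith [sq_nonneg b]⟩
  have b4 : -3300 < b ∧ b < 3300 := ⟨by nlinarith [sq_nonneg a], by nlinarith [sq_nonneg a]⟩
  obtain ⟨i, hi⟩ := h1
  obtain ⟨j, hj⟩ := h2
  lift i to ℕ using by omega
  lift j to ℕ using by omega
  obtain rfl : a = 5544 - 220 * i := by omega
  obtain rfl : b = 3840 - 220 * j := by omega
  have := c24k m (hD24 m c2) c1 i (by omega) a2 j (by omega) b2
  linarith

end Cfsg.Agent.H3
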