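import Cfsg.Agent.H3.T2
import Cfsg.Agent.H3.M11

/-! The simple group of order `95040`: the primes `11` and `5`. -/

set_option autoImplicit false
set_option linter.unusedVariables false
set_option linter.unusedSectionVars false

namespace Cfsg.Agent.H3

open Finset Subgroup Equiv Cfsg.Agent.PLoc Cfsg.Agent.Char Cfsg.Agent.Blk Cfsg.Agent.Inv Cfsg.Agent.H9
  Cfsg.Agent.Gol
open scoped ComplexConjugate

universe u

def D12 : List ℕ := dl [(2, 6), (3, 3), (5, 1), (11, 1)]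

theorem hD12 (d : ℕ) (hd : d ∣ 95040) : d ∈ D12 := mem_dl _ (by norm_num) hd

variable {G : Type u} [Group G] [Finite G] [IsSimpleGroup G]

theorem pow11_of_index (hG : ¬ IsMulCommutative G) {x w : G} (h : Syl1 11 x) {H : Subgroup G}
    (hH : H.index = 12) (hc : w * x = x * w) : w ^ 11 = 1 := by
  obtain ⟨y, a, h1, h2⟩ := exists_act' hG h
  obtain ⟨φ, p1, p2, -⟩ := exists_label hH h.ord h1 h2
  have := allC_sound (rp := 352) (tr := 36028797018963968) (tk := 11584701642934304) (n := 2)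
    (ok := fun _ _ => true) (f := fun c => Nat.beq (powS 12 c 10) (idP 12)) (by norm_num)
    (σ := φ w) (Y := φ x) (Z := φ x) (by rw [← map_mul, hc, map_mul]) (fun _ _ => rfl)
    (by rw [p2]; decide +kernel)
  rw [powS_eq (by norm_num), ← encP_one, Nat.beq_eq] at this
  exact p1 (by rw [map_pow, encP_inj (by norm_num) this, map_one])

variable (h : Nat.card G = 95040)
include h

theorem nc12 : ¬ IsMulCommutative G := not_comm_of_card h (by norm_num)

theorem m12_11 {x : G} (hx : orderOf x = 11) : SC 11 x ∧ Nat.card (autSub hx) = 5 := by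
  have hs := syl1_of_ord hx (by rw [h]; norm_num)
  obtain ⟨L, h1, -⟩ := exists_tree2 (nc12 h) h hD12 (Q := fun _ => true) (R := fun _ => true)
    (fun _ _ => rfl) hs rfl
  refine ((by decide +kernel : ∀ T ∈ trees2 95040 11 D12 (fun _ => true) (fun _ => true),
    (T.1 = 1 ∧ T.2.1 = 5) ∨ T.1 = 6 ∧ T.2.2.1 = 144) _ h1).elim
    (fun e => ⟨hs.sc (card_eq_one.1 e.1), e.2⟩) fun ⟨e1, e2⟩ => ?_
  dsimp only at e1 e2
  have := Nat.fact_prime_three
  obtain ⟨w, hw, w3⟩ := exists_mem_orderOf_eq_prime (H := Vc 11 x) Nat.prime_three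
    (by rw [e1]; decide)
  have c3 : Nat.card (zpowers w) = 3 ^ 1 := by rw [Nat.card_zpowers, w3]; rfl
  have a1 : Nx x ≤ Nx w := fun g hg => mem_normalizer_of_cj_le (by
    rw [cj_zpowers, zpowers_le]
    have i1 := card_mul_relIndex (zpowers_le.2 hw)
    have i2 := mul_self_mem_of_index_two (H := (zpowers w).subgroupOf (Vc 11 x))
      (show relIndex _ _ = 2 by rw [c3] at i1; omega) ⟨(g * w * g⁻¹) ^ 2, pow_mem ((mem_normalizer_iff.1
        (hs.norm_le hg) w).1 hw) 2⟩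
    rwa [mem_subgroupOf, MulMemClass.coe_mul, ← pow_add, conj_pow, pow_succ,
      show w ^ (2 + 1) = 1 from orderOf_dvd_iff_pow_eq_one.1 w3.dvd, one_mul] at i2)
  obtain ⟨m, a2, a3⟩ := card_over hs (a1 (le_normalizer (mem_zpowers x)))
  have a4 := Sylow.prime_pow_dvd_card_normalizer (n := 1) (by rw [h]; decide) c3
  have a5 := (Nx x).index_mul_card
  have a6 := (Nx w).index_mul_card
  rw [inf_eq_left.2 a1, show Nat.card (Nx x) = 660 by rw [e2] at a5; omega] at a2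
  rw [a2] at a4 a6
  have a7 : m ∣ 144 := Dvd.intro_left (Nx w).index (by linarith)
  have := Nat.le_of_dvd (by norm_num) a7
  have a8 : (Nx w).index = 12 ∨ (Nx w).index = 1 := by interval_cases m <;> omega
  rcases a8 with e | e
  · have := orderOf_dvd_of_pow_eq_one (pow11_of_index (nc12 h) hs e
      (mem_centralizer_singleton_iff.1 (hs.mem_Vc.1 hw).1))
    exact absurd (w3 ▸ this) (by decide)
  · rcases (normalizer_eq_top_iff.1 (index_eq_one.1 e)).eq_bot_or_eq_top with e | e <;>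
      simp [e, h] at c3

theorem ord11 {g : G} (hg : 11 ∣ orderOf g) : orderOf g = 11 :=
  ord_eq_of_sc (fun x hx => (m12_11 h hx).1) hg

theorem no10 {β : IrrCharacter G} (hd : charDegree β.1 = 10)
    (hu : ∀ ψ : IrrCharacter G, charDegree ψ.1 = 10 → ψ = β) {y : G} (hy : Syl1 5 y)
    (hv : Nat.card (Vc 5 y) % 2 = 0 ∨ Nat.card (Vc 5 y) = 9 ∨ Nat.card (Vc 5 y) = 27) : False := by
  choose b hb using int_of_uniq fun ψ e => hu ψ (e.trans hd)
  have h1 : β ≠ irrOne G := by rintro rfl; exact absurd (deg_irrOne.symm.trans hd) (by decide)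
  have h2 : ∀ w ∈ Vc 5 y, w ≠ 1 → 5 ∣ 0 - b w ∧ |b w| < 10 := fun w hw w1 => by
    obtain ⟨a1, a2⟩ := hy.mem_Vc.1 hw
    have hc : Commute y w := (mem_centralizer_singleton_iff.1 a1).symm
    refine ⟨cong 5 β.2.isCharacter hc (k := 1) hy.ord ((defect_zero (r := 9504) fact5.out hd h.symm
      (by decide) ?_).trans Int.cast_zero.symm) (hb w), by simpa [hd] using abs_lt_deg (nc12 h) h1 w1 (hb w)⟩
    rw [hc.orderOf_mul_eq_mul_orderOf_of_coprime (hy.ord ▸ fact5.out.coprime_iff_not_dvd.2 a2), hy.ord]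
    exact dvd_mul_right _ _
  have := Nat.fact_prime_two
  have := Nat.fact_prime_three
  rcases hv with e | e
  · obtain ⟨z, hz, z2⟩ := exists_mem_orderOf_eq_prime (H := Vc 5 y) Nat.prime_two
      (Nat.dvd_of_mod_eq_zero e)
    obtain ⟨a, a1, a2⟩ := mod4 (nc12 h) β z2
    have a3 := h2 z hz (ne_one_of_ord2 z2)
    rw [hb, Int.cast_inj] at a1
    rw [abs_lt, a1] at a3
    omega
  obtain ⟨n, ρ, -, hρ⟩ := id β.2
  have h3 := fd_step ρ (bot_le (a := Vc 5 y)) (c := -5) (fun w hw w1 => by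
    obtain ⟨k, hk⟩ := IsPGroup_orderOf (p := 3) (e.elim (fun e => IsPGroup.of_card (n := 2) e)
      fun e => IsPGroup.of_card (n := 3) e) hw
    have a1 := cong1 3 β hk (hb w)
    have a2 := h2 w hw w1
    rw [abs_lt] at a2
    rw [hρ, hb, show b w = -5 by omega]) card_bot rfl
  have h4 := fd_bot ρ
  rw [hρ, irr_one_eq, Nat.cast_inj] at h4
  rcases e with e | e <;> rw [e] at h3 <;> omega

/-- The principal `11`-block. -/
theorem m12_tree {y : G} (hy : orderOf y = 5) : Nat.card (Vc 5 y) = 2 ∧ Nat.card (autSub hy) = 4 ∧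
    ∃ (l : List (IrrCharacter G)) (s : IrrCharacter G → ℤ) (ε : ℤ) (μ ν : IrrCharacter G),
      T2 11 l s ε μ ν ∧ (l.map fun χ => s χ * charDegree χ.1) = [45, -54, -120, 144] := by
  obtain ⟨x, hx⟩ := exists_prime_orderOf_dvd_card' (G := G) 11 (by rw [h]; norm_num)
  obtain ⟨h1, h2⟩ := m12_11 h hx
  obtain ⟨l, s, ε, μ, ν, T, h3⟩ := exists_T2 (nc12 h) h hD12 (Q := fun _ => true) (fun _ _ => rfl) h1
    (by rw [h2])
  have hs := syl1_of_ord hy (by rw [h]; norm_num)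
  have h4 := isP_cent_of_sc (by norm_num) (fun x hx => (m12_11 h hx).1) hs.ne_one (by simp [hy])
  obtain ⟨L', h5, -⟩ := exists_tree2 (nc12 h) h hD12 (R := fun v => v % 11 != 0)
    (Q := fun d => d % 11 == 0 || d ∈ degs (l.map fun χ => s χ * charDegree χ.1))
    (fun _ => T.mem_degs) hs (by
      rw [hs.card_cent] at h4
      simpa using fun e => h4 ((Nat.dvd_of_mod_eq_zero e).mul_left 5))
  obtain ⟨h6, h7⟩ := (by decide +kernel : ∀ T ∈ trees2 95040 11 D12 (fun _ => true) (· == 1),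
    btB 2 (2 ^ 6) T.2.2.2 (1 + T.2.2.2.sum) = true →
    1 + (T.2.2.2.filter (0 < ·)).sum ≤ (1 + T.2.2.2.sum) ^ 2 → ∀ U ∈ trees2 95040 5 D12
      (fun d => d % 11 == 0 || d ∈ degs T.2.2.2) (· % 11 != 0), (U.1 % 2 = 0 ∨ U.1 = 9 ∨ U.1 = 27) ∧
      (1 + T.2.2.2.sum = 5 ∨ ((degs T.2.2.2).count 10 = 1 ∧ (1 + T.2.2.2.sum).natAbs ≠ 10) ∨
      (U.2.1 = 4 ∧ (U.1 = 2 ∨ U.1 % 3 = 0) ∧
        (T.2.2.2 = [-54, 144, -32, -32] ∨ T.2.2.2 = [45, -54, -120, 144])))) _ h3
    (T.deg.1 ▸ T.btB Nat.prime_two (by decide) (by rw [h]; decide)) (T.deg.1 ▸ T.size) _ h5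
  dsimp only at h6 h7
  rw [T.deg.1, natAbs_sign T.eps] at h7
  rcases h7 with e | ⟨e, e'⟩ | ⟨h7, h8, h9⟩
  · have := card_Vc_sc (sc_of_deg (nc12 h) hs (sign_deg T.eps e).1)
    omega
  · obtain ⟨β, b1, b2, b3⟩ := T.uniq (by decide) (by decide) e
    exact (no10 h b2 (b3 ((List.mem_cons.1 b1).resolve_left fun e => e' (e ▸ b2))) hs h6).elim
  obtain ⟨s', -, -, -, -, c1, -⟩ := col hs (by rw [h7])
  have h10 : Nat.card (Vc 5 y) = 2 := h8.resolve_right fun e => by
    obtain ⟨β, b1, b2⟩ := List.mem_map.1 (show -54 ∈ l.map fun χ => s χ * charDegree χ.1 by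
      rcases h9 with e | e <;> simp [e])
    obtain ⟨b3, -, b4⟩ := sign_deg (T.sgn β b1) b2
    obtain ⟨k, m, -, b5, b6, b7⟩ := fdN h1 h2 β (T.val β b1) (c1 β)
    have := Nat.fact_prime_three
    obtain ⟨w, hw, w3⟩ := exists_mem_orderOf_eq_prime (H := Vc 5 y) Nat.prime_three
      (Nat.dvd_of_mod_eq_zero e)
    have hc : Commute w y := mem_centralizer_singleton_iff.1 (hs.mem_Vc.1 hw).1
    have b8 := cong 3 β.2.isCharacter hc (k := 1) w3 ((defect_zero (r := 1760) Nat.prime_three b3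
      h.symm (by decide) (by
        rw [hc.orderOf_mul_eq_mul_orderOf_of_coprime (by rw [hy, w3]; decide), hy, w3]
        decide)).trans Int.cast_zero.symm) (c1 β y hy)
    rw [b3, b4 (by decide)] at b6
    omega
  refine ⟨h10, h7, l, s, ε, μ, ν, T, h9.resolve_left fun e => ?_⟩
  have d1 := T.deg.1
  rw [e] at d1
  simp only [List.map_eq_cons_iff, List.map_eq_nil_iff] at e
  obtain ⟨α, _, rfl, -, β, _, rfl, -, γ, _, rfl, a1, δ, _, rfl, a2, rfl⟩ := e
  have a3 := sq_le (T.nodup.sublist (l₁ := [μ, γ, δ])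
    (.cons _ (.cons_cons _ (.cons _ (.cons _ (.cons _ (.refl _)))))))  fun χ _ => c1 χ y hy
  have a4 := cong1 5 μ (k := 1) hy (c1 μ y hy)
  have a5 := cong1 5 γ (k := 1) hy (c1 γ y hy)
  have a6 := cong1 5 δ (k := 1) hy (c1 δ y hy)
  rw [(sign_deg T.eps d1.symm).1] at a4
  rw [(sign_deg (T.sgn γ (by simp)) a1).1] at a5
  rw [(sign_deg (T.sgn δ (by simp)) a2).1] at a6
  have k : ∀ a : ℤ, 5 ∣ a - 32 → 4 ≤ a ^ 2 := fun a ha => by
    rcases (by omega : a ≤ -2 ∨ 2 ≤ a) with e | e <;> nlinarith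
  have := k _ a5
  have := k _ a6
  have := k (s' μ) (by simp at a4; omega)
  simp [hs.card_cent, h10] at a3
  omega

end Cfsg.Agent.H3
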