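import Cfsg.Agent.H3.M12a

/-! The simple group of order `95040`: a real character of degree `11`. -/

set_option autoImplicit false
set_option linter.unusedVariables false
set_option linter.unusedSectionVars false

namespace Cfsg.Agent.H3

open Finset Subgroup Equiv Cfsg.Agent.PLoc Cfsg.Agent.Char Cfsg.Agent.Blk Cfsg.Agent.Inv Cfsg.Agent.H9
  Cfsg.Agent.Gol
open scoped ComplexConjugate

universe u

variable {G : Type u} [Group G] [Finite G] [IsSimpleGroup G] [Fintype G]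

structure H12 (α β γ κ μ ν : IrrCharacter G) : Prop where
  dg : charDegree α.1 = 45 ∧ charDegree β.1 = 54 ∧ charDegree γ.1 = 120 ∧ charDegree κ.1 = 144 ∧
    charDegree μ.1 = 16 ∧ charDegree ν.1 = 16
  ne : μ ≠ ν
  cases : ∀ χ, χ = irrOne G ∨ χ = α ∨ χ = β ∨ χ = γ ∨ χ = κ ∨ χ = μ ∨ χ = ν ∨
    (11 ∣ charDegree χ.1 ∧ ∀ g, orderOf g = 11 → χ.1 g = 0)
  v11 : ∀ g, orderOf g = 11 → α.1 g = 1 ∧ β.1 g = -1 ∧ κ.1 g = 1 ∧ μ.1 g + ν.1 g = -1 ∧
    μ.1 g * ν.1 g = 3
  bar : ∀ g, conj (μ.1 g) = ν.1 g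
  reg : ∀ g, orderOf g ≠ 11 → ν.1 g = μ.1 g
  inv : ∀ t, orderOf t = 2 → κ.1 t = μ.1 t ∧ β.1 t = 6 ∧
    ((α.1 t = -3 ∧ μ.1 t = 0) ∨ (α.1 t = 5 ∧ (μ.1 t = 4 ∨ μ.1 t = -4)))
  theta : IsCharacter G (fun g => μ.1 g * ν.1 g - 1 - α.1 g - κ.1 g) ∧
    classInner (fun g => μ.1 g * ν.1 g - 1 - α.1 g - κ.1 g) (fun _ => 1) = 0

theorem nat_add_zero {φ ψ χ : G → ℂ} (h1 : IsCharacter G φ) (h2 : IsCharacter G ψ)
    (h3 : IsCharacter G χ) (h : classInner (φ + ψ) χ = 0) :
    classInner φ χ = 0 ∧ classInner ψ χ = 0 :=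
  ⟨by_contra fun e => classInner_add_ne_zero_left h1 h2 h3 e h,
    by_contra fun e => classInner_add_ne_zero_left h2 h1 h3 e (add_comm φ ψ ▸ h)⟩

theorem sym_add_alt (χ : G → ℂ) : ((fun g => (χ g ^ 2 + χ (g * g)) / 2) +
    fun g => (χ g ^ 2 - χ (g * g)) / 2) = χ * χ := by
  ext; simp; ring

variable (h : Nat.card G = 95040)
include h

theorem m12_H : ∃ α β γ κ μ ν : IrrCharacter G, H12 α β γ κ μ ν := by
  classical
  obtain ⟨y, hy⟩ := exists_prime_orderOf_dvd_card' (G := G) 5 (by rw [h]; norm_num)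
  obtain ⟨x, hx⟩ := exists_prime_orderOf_dvd_card' (G := G) 11 (by rw [h]; norm_num)
  obtain ⟨-, -, l, s, ε, μ, ν, T, e⟩ := m12_tree h hy
  obtain ⟨d1, d2⟩ := T.deg
  rw [e] at d1
  obtain ⟨d3, d4, -⟩ := sign_deg T.eps d1.symm
  obtain rfl := d4 (by decide)
  simp only [List.map_eq_cons_iff, List.map_eq_nil_iff] at e
  obtain ⟨α, _, rfl, a1, β, _, rfl, b1, γ, _, rfl, c1, κ, _, rfl, k1, rfl⟩ := e
  obtain ⟨a2, a3, -⟩ := sign_deg (T.sgn α (by simp)) a1
  obtain ⟨b2, -, b3⟩ := sign_deg (T.sgn β (by simp)) b1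
  obtain ⟨c2, -, c3⟩ := sign_deg (T.sgn γ (by simp)) c1
  obtain ⟨k2, k3, -⟩ := sign_deg (T.sgn κ (by simp)) k1
  replace a3 := a3 (by decide)
  replace b3 := b3 (by decide)
  replace c3 := c3 (by decide)
  replace k3 := k3 (by decide)
  rw [d3] at d2
  change _ = 16 at d2 d3
  change _ = 45 at a2
  change _ = 54 at b2
  change _ = 120 at c2
  change _ = 144 at k2
  have nd := T.nodup
  simp only [List.nodup_cons, List.mem_cons, not_or] at nd
  have cs : ∀ χ, χ = irrOne G ∨ χ = α ∨ χ = β ∨ χ = γ ∨ χ = κ ∨ χ = μ ∨ χ = ν ∨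
      (11 ∣ charDegree χ.1 ∧ ∀ g, orderOf g = 11 → χ.1 g = 0) := fun χ => by
    have := T.out χ
    simp only [List.mem_cons, List.not_mem_nil] at this
    tauto
  have o1 := deg_irrOne (G := G)
  have c16 : ∀ χ : IrrCharacter G, charDegree χ.1 = 16 → χ = μ ∨ χ = ν := fun χ e => by
    rcases cs χ with rfl | rfl | rfl | rfl | rfl | rfl | rfl | e' <;> first | omega | simp
  have nr : ∀ g : G, orderOf g = 11 → ¬ IsConj g g⁻¹ := fun g hg =>
    not_real hg (by decide) (by rw [(m12_11 h hg).2]; decide)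
  have v1 : ∀ g, orderOf g = 11 → μ.1 g ^ 2 + ν.1 g ^ 2 = -5 := fun g hg => by
    have := sum_irr_mul_conj g g⁻¹
    simp only [fun χ : IrrCharacter G => χ.2.isCharacter.apply_inv g, Complex.conj_conj, if_neg (nr g hg),
      T.sum hg, List.map_cons, List.sum_cons, T.val α (by simp) g hg, T.val β (by simp) g hg,
      T.val γ (by simp) g hg, T.val κ (by simp) g hg, a3, b3, c3, k3] at this
    simp at this
    linear_combination this
  have br : bar μ = ν := (c16 _ ((deg_bar μ).trans d3)).resolve_left fun e => by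
    have e1 : conj (μ.1 x) = μ.1 x := congrFun (congrArg Subtype.val e) x
    have e2 : ν.1 x = -1 - μ.1 x := by linear_combination (exp := 1) T.add hx
    have := sum_irr_mul_conj_self x
    simp only [T.sum hx, List.map_cons, List.sum_cons, T.val α (by simp) x hx, T.val β (by simp) x hx,
      T.val γ (by simp) x hx, T.val κ (by simp) x hx, a3, b3, c3, k3, (m12_11 h hx).1.cent,
      (m12_11 h hx).1.card_P, e1, e2] at this
    have e3 := v1 x hx
    simp [e1, e2] at this e3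
    exact absurd (show (0 : ℂ) = 11 by linear_combination this - e3) (by norm_num)
  have br' : ∀ g, conj (μ.1 g) = ν.1 g := fun g => congrFun (congrArg Subtype.val br) g
  have br2 : (fun g => conj (ν.1 g)) = μ.1 := funext fun g => by rw [← br', Complex.conj_conj]
  have th := T.theta
  have e1 : (μ.1 * fun g => conj (μ.1 g)) - ((irrOne G :: [α, β, γ, κ].filter (s · = 1)).map (·.1)).sum =
      fun g => μ.1 g * ν.1 g - 1 - α.1 g - κ.1 g := by
    ext g
    simp [a3, b3, c3, k3, br']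
    ring
  refine ⟨α, β, γ, κ, μ, ν, ⟨a2, b2, c2, k2, d3, d2⟩, nd.2.1.1, cs, fun g hg => ⟨by
    simp [T.val α _ g hg, a3], by simp [T.val β _ g hg, b3], by simp [T.val κ _ g hg, k3], by
    simpa using T.add hg, by
    linear_combination (μ.1 g + ν.1 g - 1) / 2 * T.add hg - 1 / 2 * v1 g hg⟩, br', fun g hg => (T.reg g hg).2, fun t ht => ?_, e1 ▸ th, ?_⟩
  swap
  · rw [← e1, classInner_sub_left, T.inner_one.1, List.map_cons, List.sum_cons, classInner_add_left]
    have i1 := inner_list (χ := irrOne G) (l := [α, β, γ, κ].filter (s · = 1)) fun e =>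
      (List.nodup_cons.1 T.nodup).1 (.tail _ (.tail _ (List.mem_of_mem_filter e)))
    exact sub_eq_zero.2 ((congrArg₂ _ isIrrCharacter_one.classInner_self i1).trans (add_zero 1)).symm
  obtain ⟨a, ha, -⟩ := mod4 (nc12 h) α ht
  obtain ⟨b, hb, -⟩ := mod4 (nc12 h) β ht
  obtain ⟨c, hc, -⟩ := mod4 (nc12 h) γ ht
  obtain ⟨m, hm, -⟩ := mod4 (nc12 h) μ ht
  obtain ⟨r1, r2⟩ := T.reg t (by omega)
  have r3 : 1 + a - b - c = 0 := by
    obtain ⟨P, p1, p2, p3⟩ := T.bt 2 6 Nat.prime_two (by decide) (by rw [h]; decide)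
    have := p2 t ht.symm.dvd
    have p4 : P μ = false := by simpa using mt (p1 μ (Ne.symm nd.1.1)) (by rw [d3]; decide)
    cases e1 : P α <;> cases e2 : P β <;> cases e3 : P γ <;> cases e4 : P κ <;>
      simp [e1, e2, e3, e4, p4, a1, b1, c1, k1] at p3 this <;> try omega
    apply Int.cast_injective (α := ℂ)
    simp [a3, b3, c3, ha, hb, hc] at this ⊢
    linear_combination this
  have r4 : κ.1 t = m := by
    have : ((1 + a - b - c : ℤ) : ℂ) = 0 := by rw [r3]; simp
    simp [a3, b3, c3, k3, ha, hb, hc, hm] at r1 this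
    linear_combination r1 - this
  have r5 : 1080 + 24 * a ^ 2 - 20 * b ^ 2 - 9 * c ^ 2 - 60 * m ^ 2 = 0 := by
    have e2 := pairs (ord2_iff.1 ht).1 x
    rw [show card _ = 0 from by_contra fun e => by
      obtain ⟨-, u, -, hu⟩ := pairs_le (y := x) (ord2_iff.1 ht).1 e
      exact nr x hx (isConj_iff.2 ⟨u, hu⟩)] at e2
    have e3 := T.add (g := x⁻¹) (by simpa using hx)
    simp only [T.sum (g := x⁻¹) (by simpa using hx), List.map_cons, List.sum_cons, a3, b3, c3, k3, ha,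
      hb, hc, hm, r2, r4, irr_one_eq, a2, b2, c2, k2, d2, d3, o1, h] at e2
    apply Int.cast_injective (α := ℂ)
    simp at e2 e3 ⊢
    linear_combination 1080 * e2 - 135 / 2 * m ^ 2 * e3
  have r6 : c = (m ^ 2 - 16) / 2 ∨ c = (m ^ 2 + 16) / 2 - m := by
    have i1 := T.trick (χ := γ) (by simp)
    have i2 := T.inner_one.2
    obtain ⟨k, hk⟩ := (μ.2.isCharacter.mul μ.2.isCharacter.conj).classInner_nat γ.2.isCharacter
    rw [br2, ← sym_add_alt] at i1 i2
    have tt : t * t = 1 := (ord2_iff.1 ht).1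
    by_cases e : classInner (fun g => (μ.1 g ^ 2 - μ.1 (g * g)) / 2) γ.1 = 0
    · rw [hk, c3, classInner_add_left, e] at i1
      have i3 := μ.2.isCharacter.sym.sub_irr γ.2 fun e => by
        rw [e] at i1
        norm_cast at i1
      obtain ⟨l, l1, l2, l3, -⟩ := exists_dec i3 (n := 16) (by norm_num [irr_one_eq, d3, c2])
        (C := [16, 11]) fun χ h1 h2 => by
          have := deg_pos χ
          rcases cs χ with rfl | rfl | rfl | rfl | rfl | rfl | rfl | e' <;> try (simp; omega)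
          refine absurd ?_ h1
          rw [classInner_sub_left, irr_classInner, if_neg (by rintro rfl; omega), sub_zero]
          exact (nat_add_zero μ.2.isCharacter.sym μ.2.isCharacter.alt isCharacter_one i2).1
      obtain ⟨χ, rfl, l4⟩ := List.map_eq_singleton_iff.1 (List.mem_singleton.1 l3)
      have l5 : χ.1 t = m := by rcases c16 χ l4 with rfl | rfl <;> simp [r2, hm]
      have := l1 t
      simp [l5, hm, tt, irr_one_eq, d3, hc] at this
      have : 2 * c = m ^ 2 + 16 - 2 * m := by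
        apply Int.cast_injective (α := ℂ); push_cast; linear_combination -2 * this
      omega
    · have := congrFun (μ.2.isCharacter.alt.eq_of_constituent_of_one_eq γ.2 e
        (by norm_num [irr_one_eq, d3, c2])) t
      simp [hm, tt, irr_one_eq, d3, hc] at this
      have : 2 * c = m ^ 2 - 16 := by
        apply Int.cast_injective (α := ℂ); push_cast; linear_combination -2 * this
      omega
  have t1 := ne_one_of_ord2 ht
  have r7 := abs_lt_deg (nc12 h) (Ne.symm nd.1.1) t1 hm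
  have r8 := abs_lt_deg (nc12 h) (Ne.symm nd.1.2.2.2.1) t1 hb
  rw [abs_lt] at r7 r8
  obtain rfl : a = b + c - 1 := by omega
  have r9 := (by decide +kernel : ∀ m ∈ (List.range 31).map fun i : ℕ => (i : ℤ) - 15,
    ∀ b ∈ (List.range 107).map fun i : ℕ => (i : ℤ) - 53, ∀ c ∈ [(m ^ 2 - 16) / 2, (m ^ 2 + 16) / 2 - m],
    1080 + 24 * (b + c - 1) ^ 2 - 20 * b ^ 2 - 9 * c ^ 2 - 60 * m ^ 2 = 0 → b = 6 ∧
      (c = -8 ∧ m = 0 ∨ c = 0 ∧ (m = 4 ∨ m = -4))) m
    (List.mem_map.2 ⟨(m + 15).toNat, by simp; omega, by omega⟩) b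
    (List.mem_map.2 ⟨(b + 53).toNat, by simp; omega, by omega⟩) c (by simpa using r6) r5
  rw [r4, hm, ha, hb]
  rcases r9 with ⟨rfl, ⟨rfl, rfl⟩ | ⟨rfl, rfl | rfl⟩⟩ <;> norm_num

end Cfsg.Agent.H3
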