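import Cfsg.Agent.H3.M12b

/-! The simple group of order `95040`: the `5`-blocks. -/

set_option autoImplicit false
set_option linter.unusedVariables false
set_option linter.unusedSectionVars false

namespace Cfsg.Agent.H3

open Finset Subgroup Equiv Cfsg.Agent.PLoc Cfsg.Agent.Char Cfsg.Agent.Blk Cfsg.Agent.Inv Cfsg.Agent.H9
  Cfsg.Agent.Gol
open scoped ComplexConjugate

universe u

def wv (d : ℕ) : ℤ := if d % 5 = 1 then 1 else if d % 5 = 4 then -1 else 0

def Xv (d : ℕ) : ℤ :=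
  if d = 16 then -1 else if d % 11 = 1 then 2 else if d % 11 = 10 then -2 else 0

def C5 : List ℤ := (cand2 95040 D12 fun d => d % 11 == 0 || d ∈ [16, 45, 54, 120, 144]).filter
  fun a => (a - 1) % 5 == 0

variable {G : Type u} [Group G] [Finite G] [IsSimpleGroup G] [Fintype G]

/-- signed degree -/
noncomputable abbrev sd (χ : IrrCharacter G) : ℤ := wv (charDegree χ.1) * charDegree χ.1

structure K12 (y z : G) (l l' : List (IrrCharacter G)) : Prop where
  z2 : orderOf z = 2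
  comm : Commute y z
  nodup : (irrOne G :: (l ++ l')).Nodup
  val : ∀ (χ : IrrCharacter G) g, orderOf g = 5 → χ.1 g = wv (charDegree χ.1)
  mod : ∀ χ : IrrCharacter G, charDegree χ.1 % 5 ≠ 2 ∧ charDegree χ.1 % 5 ≠ 3
  b0 : ∀ χ ∈ l, bar χ ∈ l ∧ χ.1 (y * z) = wv (charDegree χ.1)
  b1 : ∀ χ ∈ l', χ.1 (y * z) = (-wv (charDegree χ.1) : ℤ)
  out : ∀ χ ∉ irrOne G :: (l ++ l'), wv (charDegree χ.1) = 0 ∧ χ.1 (y * z) = 0
  reg : ∀ g, ¬ 5 ∣ orderOf g → 1 + (l.map fun χ => (wv (charDegree χ.1) : ℂ) * χ.1 g).sum = 0 ∧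
    (l'.map fun χ => (wv (charDegree χ.1) : ℂ) * χ.1 g).sum = 0
  e0 : l.map sd ∈ [[-99, 66, 176, -144], [-99, 66, 16, 16], [11, -44, 176, -144], [11, -44, 16, 16],
    [11, 66, 66, -144]]
  e1 : l'.map sd ∈ [[66, -54, -44, 176, -144], [66, -54, -44, 16, 16], [66, 66, 66, -54, -144],
    [11, 11, -54, 176, -144], [11, 11, -54, 16, 16]]

theorem sum_deg {l : List (IrrCharacter G)} {s : IrrCharacter G → ℤ} {a : ℤ}
    (h : a + (l.map fun χ => s χ * χ.1 1).sum = 0) :
    a + (l.map fun χ => s χ * charDegree χ.1).sum = 0 := by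
  apply Int.cast_injective (α := ℂ)
  simpa [List.map_map, Function.comp_def, irr_one_eq] using h

variable (h : Nat.card G = 95040) {α β γ κ μ ν : IrrCharacter G} (H : H12 α β γ κ μ ν)
include h H

theorem m12_K {y : G} (hy : orderOf y = 5) : ∃ z l l', K12 y z l l' := by
  classical
  obtain ⟨h1, h2, -⟩ := m12_tree h hy
  have hs := syl1_of_ord hy (by rw [h]; norm_num)
  obtain ⟨s, l, l', z, z2, hc, nd, len, b0, b1, sq, out, val, reg⟩ := col2 hs (by rw [h2]) h1
  obtain ⟨d1, d2, d3, d4, d5, d6⟩ := H.dg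
  have cg : ∀ χ : IrrCharacter G, 5 ∣ s χ - charDegree χ.1 := fun χ =>
    cong1 5 χ (k := 1) hy (val χ y hy)
  have nd' := List.nodup_cons.1 nd
  have hC : ∀ χ, χ ≠ irrOne G → (s χ = 1 ∨ s χ = -1) → s χ * charDegree χ.1 ∈ C5 := fun χ h1 h2 => by
    refine List.mem_filter.2 ⟨mem_cand2 (nc12 h) h hD12 h1 ?_ h2, ?_⟩
    · rcases H.cases χ with e | rfl | rfl | rfl | rfl | rfl | rfl | e
      · exact absurd e h1
      all_goals simp [*]
      omega
    · have := cg χ
      rcases h2 with e | e <;> rw [e] at this ⊢ <;> simp <;> omega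
  obtain ⟨m, m1, m2⟩ := exists_sorted (List.Nodup.of_append_left nd'.2) (fun χ hχ => (b0 χ hχ).1)
    fun χ hχ => hC χ (fun e => nd'.1 (e ▸ List.mem_append_left _ hχ)) (b0 χ hχ).1
  rw [len, h] at m2
  have r1 := reg 1 (by simp)
  have m3 := (by decide +kernel : ∀ L ∈ enum C5 4 95040, 1 + L.sum = 0 → L ∈
    [[-99, 66, 176, -144], [-99, 66, 16, 16], [11, -44, 176, -144], [11, -44, 16, 16],
      [11, 66, 66, -144]]) _ m2 (by
    rw [(m1.map _).sum_eq]; exact sum_deg (a := 1) (by simpa using r1.1))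
  have k1 : ∀ χ : IrrCharacter G, charDegree χ.1 % 5 ≠ 0 → charDegree χ.1 ≠ 1 →
      charDegree χ.1 ∉ (m.map fun χ => s χ * charDegree χ.1).map Int.natAbs → χ ∈ l' :=
    fun χ h1 h2 h3 => by_contra fun e => by
      have := (out χ (by
        simp only [List.mem_cons, List.mem_append, e, or_false, not_or]
        exact ⟨fun e => h2 (e ▸ deg_irrOne), fun e => h3 (List.mem_map.2 ⟨_, List.mem_map_of_mem
          (m1.symm.subset e), natAbs_sign (b0 χ e).1 _⟩)⟩)).1
      have := cg χ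
      omega
  have k2 : β ∈ l' := k1 β (by omega) (by omega) (by
    simp only [List.mem_cons, List.not_mem_nil, or_false] at m3
    rcases m3 with e | e | e | e | e <;> rw [e, d2] <;> decide)
  obtain ⟨ψ, k3, k4⟩ : ∃ ψ ∈ l', charDegree ψ.1 = 144 ∨ charDegree ψ.1 = 16 := by
    simp only [List.mem_cons, List.not_mem_nil, or_false] at m3
    rcases m3 with e | e | e | e | e
    iterate 2
      exact ⟨μ, k1 μ (by omega) (by omega) (by rw [e, d5]; decide), .inr d5⟩
      exact ⟨κ, k1 κ (by omega) (by omega) (by rw [e, d4]; decide), .inl d4⟩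
    exact ⟨μ, k1 μ (by omega) (by omega) (by rw [e, d5]; decide), .inr d5⟩
  have nl := List.Nodup.of_append_right nd'.2
  have key : ∀ A : Finset (IrrCharacter G), (∀ χ ∈ A, χ ∈ l') → ∑ χ ∈ A, s χ ^ 2 ≤ 5 := fun A hA => by
    rw [← List.sum_toFinset _ nl] at sq
    exact (sum_le_sum_of_subset_of_nonneg (fun χ hχ => List.mem_toFinset.2 (hA χ hχ))
      fun _ _ _ => sq_nonneg _).trans sq.le
  have k5 : β ≠ ψ := by rintro rfl; omega
  have k6 : ∀ χ ∈ l', 1 ≤ s χ ^ 2 := fun χ hχ => (one_le_sq_iff_one_le_abs _).2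
    (Int.one_le_abs (b1 χ hχ).1)
  have k7 : ∀ a : ℤ, a ^ 2 ≤ 4 → -2 ≤ a ∧ a ≤ 2 := fun a ha => abs_le.1
    (abs_le_of_sq_le_sq' (by linarith) (by norm_num) |> abs_le.2)
  have sg : ∀ χ ∈ l', s χ = 1 ∨ s χ = -1 := fun χ hχ => by
    have a1 := key {β, ψ} (by simp [k2, k3])
    rw [sum_pair k5] at a1
    have a2 := k6 β k2
    have a3 := k6 ψ k3
    have a4 := cg χ
    by_cases e1 : χ = β
    · have := k7 (s β) (by omega)
      subst e1; omega
    by_cases e2 : χ = ψ
    · have := k7 (s ψ) (by omega)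
      subst e2; omega
    have a5 := key {χ, β, ψ} (by simp [k2, k3, hχ])
    rw [sum_insert (by simp [e1, e2]), sum_pair k5] at a5
    have a6 := (b1 χ hχ).1
    have a7 := k7 (s χ) (by omega)
    rcases (by omega : s χ = 1 ∨ s χ = -1 ∨ s χ = 2 ∨ s χ = -2) with e | e | e | e <;>
      rw [e] at a5 <;> omega
  have sw : s = fun χ => wv (charDegree χ.1) := funext fun χ => by
    have := cg χ
    have : s χ = 0 ∨ s χ = 1 ∨ s χ = -1 := by
      by_cases e : χ ∈ irrOne G :: (l ++ l')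
      · rcases List.mem_cons.1 e with rfl | e
        · exact .inr (.inl (Int.cast_injective (α := ℂ) ((val _ y hy).symm.trans Int.cast_one.symm)))
        · exact .inr ((List.mem_append.1 e).elim (fun e => (b0 χ e).1) (sg χ))
      · exact .inl (out χ e).1
    unfold wv
    split_ifs <;> omega
  obtain ⟨m', n1, n2⟩ := exists_sorted nl sg
    fun χ hχ => hC χ (fun e => nd'.1 (e ▸ List.mem_append_right _ hχ)) (sg χ hχ)
  rw [List.map_congr_left (g := fun _ => 1) fun χ hχ => by rcases sg χ hχ with e | e <;> simp [e]] at sq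
  rw [show l'.length = 5 by simp at sq; omega, h] at n2
  have n3 := (by decide +kernel : ∀ L ∈ enum C5 5 95040, 0 + L.sum = 0 → -54 ∈ L → L ∈
    [[66, -54, -44, 176, -144], [66, -54, -44, 16, 16], [66, 66, 66, -54, -144],
      [11, 11, -54, 176, -144], [11, 11, -54, 16, 16]]) _ n2 (by
    rw [(n1.map _).sum_eq]; exact sum_deg (a := 0) (by simpa using r1.2))
    (List.mem_map.2 ⟨β, n1.symm.subset k2, by simp [sw, d2, wv]⟩)
  subst sw
  have p := (m1.append n1).cons (irrOne G)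
  refine ⟨z, m, m', z2, hc, p.nodup_iff.2 nd, val, fun χ => ?_, fun χ hχ => ⟨m1.symm.subset
    (b0 χ (m1.subset hχ)).2.1, (b0 χ (m1.subset hχ)).2.2⟩, fun χ hχ => (b1 χ (n1.subset hχ)).2,
    fun χ hχ => out χ (mt p.mem_iff.2 hχ), fun g hg => ?_, m3, n3⟩
  · have := cg χ
    simp only [wv] at this
    split_ifs at this <;> omega
  · rw [(m1.map _).sum_eq, (n1.map _).sum_eq]
    exact reg g hg

variable {y z : G} (hy : orderOf y = 5) {l l' : List (IrrCharacter G)} (K : K12 y z l l')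
include hy K

theorem K12.pairs {t : G} (ht : orderOf t = 2) : ∃ k k' : ℕ, k' ≤ k ∧ k ≤ 10 ∧
    190080 * (1 + (l.map fun χ => (wv (charDegree χ.1) : ℂ) * (χ.1 t ^ 2 / χ.1 1)).sum) =
      (Nat.card (centralizer ({t} : Set G)) : ℂ) ^ 2 * (k + k') ∧
    190080 * (l'.map fun χ => (wv (charDegree χ.1) : ℂ) * (χ.1 t ^ 2 / χ.1 1)).sum =
      (Nat.card (centralizer ({t} : Set G)) : ℂ) ^ 2 * (k - k') := by
  classical
  have tt := (ord2_iff.1 ht).1
  have e1 := H3.pairs tt y
  have e2 := H3.pairs tt (y * z)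
  have sm : ∀ f : IrrCharacter G → ℂ, (∀ χ ∉ irrOne G :: (l ++ l'), f χ = 0) →
      ∑ χ, f χ = f (irrOne G) + ((l.map f).sum + (l'.map f).sum) := fun f hf => by
    rw [← sum_subset (subset_univ (irrOne G :: (l ++ l')).toFinset) fun χ _ h =>
      hf χ (mt List.mem_toFinset.2 h), List.sum_toFinset _ K.nodup]
    simp
  simp only [K.val _ y⁻¹ (by simpa using hy)] at e1
  simp only [fun χ : IrrCharacter G => χ.2.isCharacter.apply_inv (y * z)] at e2
  rw [sm _ fun χ hχ => by simp [K.out χ hχ], h] at e1 e2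
  rw [List.map_congr_left (l := l) (g := fun χ => wv (charDegree χ.1) * (χ.1 t ^ 2 / χ.1 1))
    fun χ hχ => by simp [(K.b0 χ hχ).2], List.map_congr_left (l := l') (g := fun χ =>
    -1 * (wv (charDegree χ.1) * (χ.1 t ^ 2 / χ.1 1))) fun χ hχ => by simp [K.b1 χ hχ],
    List.sum_map_mul_left] at e2
  rw [deg_irrOne, show wv 1 = 1 from rfl] at e1
  have o : ∀ g, (irrOne G).1 g = 1 := fun _ => rfl
  simp only [o, map_one, Int.cast_one, Nat.cast_ofNat] at e1 e2
  refine ⟨_, _, pairs_sub tt (by rw [hy]; decide) (K.z2 ▸ pow_orderOf_eq_one z) K.comm, ?_,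
    by linear_combination e1 + e2,
    by linear_combination e1 - e2⟩
  by_contra e
  have := (pairs_le (y := y) tt fun e' => e (e' ▸ Nat.zero_le _)).1
  rw [(syl1_of_ord hy (by rw [h]; norm_num)).card_cent, (m12_tree h hy).1] at this
  exact e this

theorem dec12 {x : G} (hx : orderOf x = 11) {σ : G → ℂ} (hσ : IsCharacter G σ) {n : ℕ}
    (hn : σ 1 = n) (n1 : n ≤ 66) (h1 : classInner σ (fun _ => 1) = 0) {X w : ℤ}
    (hX : σ x + σ x⁻¹ = X) (hw : σ y = w) : ∃ L : List (IrrCharacter G),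
      (∀ g, σ g = (L.map (·.1 g)).sum) ∧ L.map (charDegree ·.1) ∈ (parts [66, 55, 54, 45, 44, 16, 11]
        n).filter fun P => (P.map Xv).sum = X ∧ (P.map wv).sum = w := by
  obtain ⟨d1, d2, d3, d4, d5, d6⟩ := H.dg
  obtain ⟨L, l1, l2, l3, l4⟩ := exists_dec hσ hn (C := [66, 55, 54, 45, 44, 16, 11]) fun χ e1 e2 => by
    have := deg_pos χ
    have := K.mod χ
    simp only [List.mem_cons, List.not_mem_nil, or_false]
    rcases H.cases χ with rfl | rfl | rfl | rfl | rfl | rfl | rfl | ⟨⟨k, hk⟩, -⟩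
    · exact absurd h1 e1
    iterate 6 omega
    have : k ≤ 6 := by omega
    interval_cases k <;> omega
  refine ⟨L, l1, List.mem_filter.2 ⟨l3, decide_eq_true ⟨?_, ?_⟩⟩⟩ <;> apply Int.cast_injective (α := ℂ)
  · rw [← hX, l1, l1, ← List.sum_map_add, Int.cast_list_sum, List.map_map, List.map_map]
    refine congrArg _ (List.map_congr_left fun χ hχ => ?_)
    obtain ⟨a1, a2, -, a3, -⟩ := H.v11 x hx
    obtain ⟨b1, b2, -, b3, -⟩ := H.v11 x⁻¹ (by simpa using hx)
    have c1 := μ.2.isCharacter.apply_inv x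
    have c2 := ν.2.isCharacter.apply_inv x
    have := List.le_sum_of_mem (List.mem_map_of_mem (f := fun χ : IrrCharacter G => charDegree χ.1) hχ)
    rw [← H.bar x, Complex.conj_conj] at c2
    rw [H.bar] at c1
    rcases H.cases χ with rfl | rfl | rfl | rfl | rfl | rfl | rfl | e'
    · exact (l2 (irrOne G) hχ h1).elim
    · norm_num [Xv, d1, a1, b1]
    · norm_num [Xv, d2, a2, b2]
    · omega
    · omega
    · norm_num [Xv, d5, c1, a3]
    · simp [Xv, d6, c2, ← a3, add_comm]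
    · simp only [Function.comp, Xv, e'.2 x hx, e'.2 x⁻¹ (by simpa using hx)]
      split_ifs <;> first | omega | simp
  · rw [← hw, l1, Int.cast_list_sum, List.map_map, List.map_map]
    exact congrArg _ (List.map_congr_left fun χ hχ => (K.val χ y hy).symm)

end Cfsg.Agent.H3
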