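import Cfsg.Agent.H3.Rec
import Cfsg.Agent.Char.PF1

/-! Spherical functions, and congruences for character values. -/

set_option autoImplicit false
set_option linter.unusedVariables false
set_option linter.unusedSectionVars false

namespace Cfsg.Agent.H3

open Finset Subgroup Cfsg.Agent.PLoc Cfsg.Agent.Char Cfsg.Agent.Blk Cfsg.Agent.Inv Cfsg.Agent.H9
open scoped ComplexConjugate

universe u

variable {G : Type u} [Group G]

theorem rank_one {V : Type*} [AddCommGroup V] [Module ℂ V] [FiniteDimensional ℂ V]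
    {Q : V →ₗ[ℂ] V} (h : Q * Q = Q) (h1 : LinearMap.trace ℂ V Q = 1) :
    ∃ (φ : V →ₗ[ℂ] ℂ) (u : V), Q = φ.smulRight u := by
  have h2 := (LinearMap.IsIdempotentElem.isProj_range Q h).trace
  rw [h1, eq_comm, Nat.cast_eq_one] at h2
  obtain ⟨u, u0, hu⟩ := finrank_eq_one_iff'.1 h2
  choose c hc using hu
  have h3 : ∀ v, c ⟨Q v, v, rfl⟩ • (u : V) = Q v := fun v => congrArg Subtype.val (hc _)
  have h4 := smul_left_injective ℂ (show (u : V) ≠ 0 by simpa using u0)
  exact ⟨⟨⟨fun v => c ⟨Q v, v, rfl⟩, fun a b => h4 (by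
    beta_reduce; rw [add_smul, h3, h3, h3, map_add])⟩, fun a b => h4 (by
    simp only [RingHom.id_apply]; rw [smul_eq_mul, mul_smul, h3, h3, map_smul])⟩, u,
    LinearMap.ext fun v => (h3 v).symm⟩

theorem rank_one_mul {V : Type*} [AddCommGroup V] [Module ℂ V] [FiniteDimensional ℂ V]
    {Q : V →ₗ[ℂ] V} (h : Q * Q = Q) (h1 : LinearMap.trace ℂ V Q = 1) (X : V →ₗ[ℂ] V) :
    Q * X * Q = LinearMap.trace ℂ V (X * Q) • Q := by
  obtain ⟨φ, u, rfl⟩ := rank_one h h1
  rw [show X * φ.smulRight u = φ.smulRight (X u) by ext; simp, LinearMap.trace_smulRight]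
  ext v
  simp [smul_smul, mul_comm]

/-- average over a subgroup -/
noncomputable def avg {V : Type*} [AddCommGroup V] [Module ℂ V] (ρ : Representation ℂ G V)
    (N : Subgroup G) : V →ₗ[ℂ] V := (Nat.card N : ℂ)⁻¹ • ∑ᶠ n : N, ρ n

/-- the spherical function -/
noncomputable def sph (N : Subgroup G) (χ : G → ℂ) (g : G) : ℂ :=
  (Nat.card N : ℂ)⁻¹ * ∑ᶠ n : N, χ (n * g)

variable [Finite G]

section avg
variable {V : Type*} [AddCommGroup V] [Module ℂ V] (ρ : Representation ℂ G V) (N : Subgroup G)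

theorem avg_mul_of {X : V →ₗ[ℂ] V} (h : ∀ n ∈ N, ρ n * X = X) : avg ρ N * X = X := by
  have := Fintype.ofFinite N
  rw [avg, finsum_eq_sum_of_fintype, smul_mul_assoc, sum_mul, sum_congr rfl fun (n : N) _ => h n n.2,
    sum_const, card_univ, ← Nat.card_eq_fintype_card, ← Nat.cast_smul_eq_nsmul ℂ,
    inv_smul_smul₀ (card_ne_zero N)]

theorem mul_avg_of {X : V →ₗ[ℂ] V} (h : ∀ n ∈ N, X * ρ n = X) : X * avg ρ N = X := by
  have := Fintype.ofFinite N
  rw [avg, finsum_eq_sum_of_fintype, mul_smul_comm, mul_sum, sum_congr rfl fun (n : N) _ => h n n.2,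
    sum_const, card_univ, ← Nat.card_eq_fintype_card, ← Nat.cast_smul_eq_nsmul ℂ,
    inv_smul_smul₀ (card_ne_zero N)]

theorem mul_avg {n : G} (hn : n ∈ N) : ρ n * avg ρ N = avg ρ N := by
  have := Fintype.ofFinite N
  simp only [avg, finsum_eq_sum_of_fintype, mul_smul_comm, mul_sum, ← map_mul]
  exact congrArg _ (Equiv.sum_comp (Equiv.mulLeft (⟨n, hn⟩ : N)) fun m : N => ρ m)

theorem avg_mul {n : G} (hn : n ∈ N) : avg ρ N * ρ n = avg ρ N := by
  have := Fintype.ofFinite N
  simp only [avg, finsum_eq_sum_of_fintype, smul_mul_assoc, sum_mul, ← map_mul]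
  exact congrArg _ (Equiv.sum_comp (Equiv.mulRight (⟨n, hn⟩ : N)) fun m : N => ρ m)

theorem avg_avg : avg ρ N * avg ρ N = avg ρ N := avg_mul_of ρ N fun n hn => mul_avg ρ N hn

theorem avg_comm {X : V →ₗ[ℂ] V} (h : ∀ n ∈ N, X * ρ n = ρ n * X) : X * avg ρ N = avg ρ N * X := by
  have := Fintype.ofFinite N
  simp only [avg, finsum_eq_sum_of_fintype, smul_mul_assoc, sum_mul, mul_smul_comm, mul_sum,
    fun n : N => h n n.2]

theorem trace_avg [FiniteDimensional ℂ V] (X : V →ₗ[ℂ] V) (g : G) :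
    LinearMap.trace ℂ V (ρ g * X * avg ρ N) =
      sph N (fun g => LinearMap.trace ℂ V (ρ g * X)) g := by
  have := Fintype.ofFinite N
  rw [LinearMap.trace_mul_comm]
  simp only [avg, sph, finsum_eq_sum_of_fintype, smul_mul_assoc, sum_mul, map_smul, map_sum,
    map_mul, mul_assoc, smul_eq_mul]

theorem trace_avg' [FiniteDimensional ℂ V] (g : G) :
    LinearMap.trace ℂ V (ρ g * avg ρ N) = sph N ρ.character g := by
  have := trace_avg ρ N 1 g
  simp only [mul_one] at this
  exact this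

end avg

theorem sph_add (N : Subgroup G) (χ ψ : G → ℂ) (g : G) :
    sph N (χ + ψ) g = sph N χ g + sph N ψ g := by
  have := Fintype.ofFinite N
  simp only [sph, finsum_eq_sum_of_fintype, Pi.add_apply, sum_add_distrib, mul_add]

theorem sph_const (N : Subgroup G) (c : ℂ) (g : G) : sph N (fun _ => c) g = c := by
  have := Fintype.ofFinite N
  rw [sph, finsum_eq_sum_of_fintype, sum_const, card_univ, ← Nat.card_eq_fintype_card, nsmul_eq_mul,
    inv_mul_cancel_left₀ (card_ne_zero N)]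

theorem sph_zero (N : Subgroup G) {χ : G → ℂ} (h : IsCharacter G χ) (h0 : sph N χ 1 = 0) (g : G) :
    sph N χ g = 0 := by
  have := Fintype.ofFinite N
  simp only [sph, finsum_eq_sum_of_fintype, mul_one, mul_eq_zero, inv_eq_zero, Char.card_ne_zero,
    false_or] at h0 ⊢
  exact sum_mul_eq_zero h N h0 g

theorem sph_top [Fintype G] (χ : G → ℂ) (g : G) : sph ⊤ χ g = classInner χ fun _ => 1 := by
  have := Fintype.ofFinite (⊤ : Subgroup G)
  rw [sph, classInner_one_right, card_top, finsum_eq_sum_of_fintype,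
    ← Equiv.sum_comp (topEquiv.toEquiv.trans (Equiv.mulRight g))]
  rfl

theorem sph_fd {n : ℕ} (ρ : Representation ℂ G (Fin n → ℂ)) (N : Subgroup G) :
    sph N ρ.character 1 = fd ρ N := by
  classical
  have := Fintype.ofFinite G
  have := Fintype.ofFinite N
  rw [sph, finsum_eq_sum_of_fintype, inv_mul_eq_iff_eq_mul₀ (card_ne_zero N),
    ← sum_fd ρ N (T := univ.filter (· ∈ N)) (by simp), sum_subtype (p := (· ∈ N)) (F := this) _ (by simp)]
  simp

theorem sph_alg {V : Type*} [AddCommGroup V] [Module ℂ V] [FiniteDimensional ℂ V]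
    (R : Representation ℂ G V) (N : Subgroup G) {p P : V →ₗ[ℂ] V} (hc : ∀ g, p * R g = R g * p)
    (hp : p * p = p) (p1 : p * P = P ∧ P * p = P) (p4 : ∀ n ∈ N, R n * P = P)
    (p5 : ∀ n ∈ N, P * R n = P) {b : G → ℂ} (hb : b 1 = 1)
    (ht : ∀ g, sph N (fun g => LinearMap.trace ℂ V (R g * p)) g -
      sph ⊤ (fun g => LinearMap.trace ℂ V (R g * p)) g = b g) :
    ∃ A B : ℂ, ∀ g, LinearMap.trace ℂ V (R g * P) = A + B * b g := by
  have p2 := avg_mul_of R N p4
  have p3 := mul_avg_of R N p5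
  have c1 := avg_comm R N fun n _ => hc n
  have c2 := avg_comm R ⊤ fun n _ => hc n
  have c3 : avg R N * avg R ⊤ = avg R ⊤ := avg_mul_of R N fun n _ => mul_avg R ⊤ (mem_top n)
  have c4 : avg R ⊤ * avg R N = avg R ⊤ := mul_avg_of R N fun n _ => avg_mul R ⊤ (mem_top n)
  have c5 := avg_avg R ⊤
  have c6 := avg_avg R N
  have c7 := fun g => avg_mul R ⊤ (mem_top g)
  have c8 := fun g => mul_avg R ⊤ (mem_top g)
  have t1 : ∀ g, LinearMap.trace ℂ _ (R g * (p * avg R N - p * avg R ⊤)) = b g := fun g => by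
    rw [mul_sub, map_sub, ← mul_assoc, ← mul_assoc, trace_avg, trace_avg, ht]
  generalize avg R N = E, avg R ⊤ = F at *
  have k : ∀ {A B : V →ₗ[ℂ] V}, p * A = A * p → p * A * (p * B) = p * (A * B) := fun h => by
    rw [mul_assoc, ← mul_assoc _ p, ← h, ← mul_assoc, ← mul_assoc, hp, mul_assoc]
  have q1 : (p * E - p * F) * (p * E - p * F) = p * E - p * F := by
    rw [sub_mul, mul_sub, mul_sub, k c1, k c1, k c2, k c2, c3, c4, c5, c6, sub_self, sub_zero]
  have q2 := rank_one_mul q1 (by simpa using (t1 1).trans hb)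
  refine ⟨LinearMap.trace ℂ _ (F * P), LinearMap.trace ℂ _ ((p * E - p * F) * P), fun g => ?_⟩
  have q3 : (p * E - p * F) * R g * (p * E - p * F) * P = p * E * R g * P - p * F * P := by
    have a1 : p * E * P = P := by rw [mul_assoc, p2, p1.1]
    have a3 : ∀ A, A * R g * (p * F) = A * (p * F) := fun A => by
      rw [mul_assoc, ← mul_assoc (R g), ← hc, mul_assoc p, c8]
    rw [mul_sub, a3, sub_mul _ _ (p * F), k c1, k c2, c3, c5, sub_self, sub_zero, mul_assoc, a1,
      sub_mul, sub_mul, mul_assoc p F (R g), c7]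
  have q4 := congrArg (LinearMap.trace ℂ _) q3
  rw [q2, t1, smul_mul_assoc, map_smul, map_sub, mul_assoc (p * E),
    LinearMap.trace_mul_comm ℂ (p * E), mul_assoc, ← mul_assoc P, p1.2, p3,
    show p * F * P = F * P by rw [c2, mul_assoc, p1.1], smul_eq_mul] at q4
  linear_combination -q4

theorem sph_sq [Fintype G] {N : Subgroup G} {χ β ψ : G → ℂ} (hχ : IsCharacter G χ)
    (h1 : sph N χ 1 = 1) (hσ : (fun g => (χ g ^ 2 + χ (g * g)) / 2) = (fun _ => 1) + β + ψ)
    (hψ : IsCharacter G ψ) (h2 : sph N ψ 1 = 0) (h3 : sph N β 1 = 1)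
    (h4 : classInner β (fun _ => 1) = 0) :
    ∃ A B : ℂ, ∀ g, sph N χ g ^ 2 = A + B * sph N β g := by
  obtain ⟨n, ρ, rfl⟩ := hχ
  let τ := (TensorProduct.comm ℂ (Fin n → ℂ) (Fin n → ℂ)).toLinearMap
  let R := ρ.tprod ρ
  let p := (2 : ℂ)⁻¹ • (1 + τ)
  have hτ : τ * τ = 1 := by ext; simp [τ]
  have hc : ∀ g, p * R g = R g * p := fun g => by
    have : τ * R g = R g * τ := by ext; simp [τ, R]
    simp only [p, smul_mul_assoc, mul_smul_comm, add_mul, mul_add, one_mul, mul_one, this]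
  have hp : p * p = p := by
    simp only [p, smul_mul_smul_comm, add_mul, mul_add, one_mul, mul_one, hτ]
    module
  have ht : (fun g => LinearMap.trace ℂ _ (R g * p)) = (fun _ => 1) + β + ψ := by
    rw [← hσ]
    ext g
    have e1 : LinearMap.trace ℂ _ (R g) = ρ.character g * ρ.character g :=
      congrFun (Representation.char_tensor ρ ρ) g
    have e2 : LinearMap.trace ℂ _ (R g * τ) = ρ.character (g * g) := by
      rw [Representation.character, map_mul ρ]; exact trace_map_mul_comm (ρ g)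
    simp only [p, mul_smul_comm, mul_add, mul_one, map_smul, map_add, smul_eq_mul, e1, e2]
    ring
  let P := TensorProduct.map (avg ρ N) (avg ρ N)
  have hP : ∀ g, LinearMap.trace ℂ _ (R g * P) = sph N ρ.character g ^ 2 := fun g => by
    rw [show R g * P = TensorProduct.map (ρ g * avg ρ N) (ρ g * avg ρ N) from
      (TensorProduct.map_mul _ _ _ _).symm, LinearMap.trace_tensorProduct', trace_avg', sq]
  have p1 : p * P = P ∧ P * p = P := by
    obtain ⟨φ, u, e⟩ := rank_one (avg_avg ρ N) (by simpa using (trace_avg' ρ N 1).trans h1)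
    have : τ * P = P ∧ P * τ = P := by
      constructor <;> ext <;> simp [τ, P, e, TensorProduct.smul_tmul', smul_smul, mul_comm]
    simp only [p, smul_mul_assoc, mul_smul_comm, add_mul, mul_add, one_mul, mul_one, this]
    constructor <;> module
  simp only [← hP]
  refine sph_alg R N hc hp p1 (fun n hn => (TensorProduct.map_mul _ _ _ _).symm.trans
    (by rw [mul_avg ρ N hn])) (fun n hn => (TensorProduct.map_mul _ _ _ _).symm.trans
    (by rw [avg_mul ρ N hn])) h3 fun g => ?_
  rw [ht]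
  simp only [sph_add, sph_const, sph_zero N hψ h2, sph_top, h4]
  obtain ⟨m, κ, rfl⟩ := hψ
  rw [sph_fd, Nat.cast_eq_zero] at h2
  have := fd_anti κ (le_top (a := N))
  rw [← sph_top _ 1, sph_fd, show fd κ ⊤ = 0 by omega]
  simp

theorem sph_conv [Fintype G] (N : Subgroup G) (χ ψ : IrrCharacter G) (g : G) :
    ∑ k, sph N ψ k⁻¹ * sph N χ (k * g) =
      if χ = ψ then Nat.card G * sph N χ g / χ.1 1 else 0 := by
  have := Fintype.ofFinite N
  have h1 : ∀ m n : N, ∑ k, ψ.1 (m * k⁻¹) * χ.1 (n * (k * g)) =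
      if χ = ψ then Nat.card G * χ.1 (m * (g * n)) / χ.1 1 else 0 := fun m n => by
    rw [← Equiv.sum_comp (Equiv.mulRight (m : G))]
    simp only [Equiv.coe_mulRight, χ.2.isClassFunction.mul_comm n, ψ.2.isClassFunction.mul_comm m,
      mul_inv_rev, mul_assoc]
    simp only [fun a : G => ψ.2.isClassFunction.mul_comm (m : G)⁻¹ (a⁻¹ * m), mul_inv_cancel_right]
    split_ifs with e
    · exact e ▸ χ.2.sum_inv_mul_mul _
    · exact χ.2.sum_inv_mul_mul_of_ne ψ.2 (fun e' => e (Subtype.ext e')) _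
  have h2 : ∀ n : N, ∑ m : N, χ.1 (m * (g * n)) = ∑ m : N, χ.1 (m * g) := fun n => by
    rw [← Equiv.sum_comp (Equiv.mulLeft n) fun m : N => χ.1 (m * g)]
    simp only [Equiv.coe_mulLeft, Subgroup.coe_mul, ← mul_assoc, χ.2.isClassFunction.mul_comm _ n]
  simp only [sph, finsum_eq_sum_of_fintype, mul_mul_mul_comm _ (∑ _, _)]
  rw [← mul_sum]
  simp only [sum_mul_sum, sum_comm (s := (univ : Finset G)), h1]
  split_ifs
  · rw [sum_comm]
    simp only [← sum_div, ← mul_sum, h2, sum_const, card_univ, ← Nat.card_eq_fintype_card,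
      nsmul_eq_mul]
    have := card_ne_zero N
    field_simp
  · simp

theorem sph_real (N : Subgroup G) {χ : G → ℂ} (h : ∀ g, conj (χ g) = χ g) (g : G) :
    conj (sph N χ g) = sph N χ g := by
  have := Fintype.ofFinite N
  simp [sph, finsum_eq_sum_of_fintype, h]

theorem sph_inv (N : Subgroup G) {χ : G → ℂ} (hχ : IsCharacter G χ) (h : ∀ g, conj (χ g) = χ g)
    (g : G) : sph N χ g⁻¹ = sph N χ g := by
  have := Fintype.ofFinite N
  simp only [sph, finsum_eq_sum_of_fintype]
  rw [← Equiv.sum_comp (Equiv.inv N)]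
  simp only [Equiv.inv_apply, Subgroup.coe_inv, ← mul_inv_rev, hχ.apply_inv, h,
    hχ.isClassFunction.mul_comm g]

/-- A family of characters closed under taking the second spherical constituent of the symmetric
square yields a doubly transitive action. -/
theorem sph_index (N : Subgroup G) {d : ℕ} (hd : 3 < d) (S : IrrCharacter G → Prop)
    (h : ∀ χ, S χ → charDegree χ.1 = d ∧ (∀ g, conj (χ.1 g) = χ.1 g) ∧ sph N χ 1 = 1 ∧
      ∃ β, S β ∧ ∃ ψ, IsCharacter G ψ ∧ sph N ψ 1 = 0 ∧
        (fun g => (χ.1 g ^ 2 + χ.1 (g * g)) / 2) = (fun _ => 1) + β.1 + ψ)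
    {χ : IrrCharacter G} (hχ : S χ) : ∃ H : Subgroup G, H.index = d + 1 := by
  classical
  have := Fintype.ofFinite G
  have d0 : (d : ℂ) ≠ 0 := by norm_cast; omega
  have d1 : (d : ℂ) - 1 ≠ 0 := by rw [sub_ne_zero]; norm_cast; omega
  have g0 := card_ne_zero G
  have h0 : ∀ χ, S χ → χ ≠ irrOne G := fun χ hχ e => by
    have := (h χ hχ).1
    rw [e, deg_irrOne] at this; omega
  have h1 : ∀ χ, S χ → ∑ k, sph N χ k = 0 := fun χ hχ => by
    simpa [h0 χ hχ, sph_const] using sph_conv N χ (irrOne G) 1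
  have h2 : ∀ χ ψ, S χ → S ψ → ∑ k, sph N ψ k * sph N χ k =
      if χ = ψ then Nat.card G / (d : ℂ) else 0 := fun χ ψ hχ hψ => by
    have := sph_conv N χ ψ 1
    simpa only [sph_inv N ψ.2.isCharacter (h ψ hψ).2.1, mul_one, (h χ hχ).2.2.1, irr_one_eq,
      (h χ hχ).1] using this
  have h3 : ∀ χ, S χ → ∃ β, S β ∧ ∀ g, d * sph N χ g ^ 2 = 1 + (d - 1) * sph N β g := fun χ hχ => by
    obtain ⟨-, -, a1, β, a2, ψ, a3, a4, a5⟩ := h χ hχ
    obtain ⟨A, B, a6⟩ := sph_sq χ.2.isCharacter a1 a5 a3 a4 (h β a2).2.2.1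
      (β.2.classInner_of_ne isIrrCharacter_one (irr_ne_one (h0 β a2)))
    have a7 := h2 χ χ hχ hχ
    simp only [← sq, a6, sum_add_distrib, ← mul_sum, h1 β a2, if_true, sum_const, card_univ,
      ← Nat.card_eq_fintype_card, nsmul_eq_mul] at a7
    have a8 := a6 1
    rw [a1, (h β a2).2.2.1] at a8
    have a9 : d * A = 1 := mul_left_cancel₀ g0 (by field_simp at a7; linear_combination a7)
    exact ⟨β, a2, fun g => by rw [a6]; linear_combination (1 - sph N β g) * a9 - d * sph N β g * a8⟩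
  obtain ⟨β, b1, b2⟩ := h3 χ hχ
  obtain ⟨γ, c1, c2⟩ := h3 β b1
  obtain rfl : γ = β := by_contra fun e => by
    have a1 : (0 : ℝ) ≤ ∑ g, d * (sph N χ g).re ^ 2 * ((sph N β g).re - 1) ^ 2 :=
      sum_nonneg fun g _ => by positivity
    have a2 : ((∑ g, d * (sph N χ g).re ^ 2 * ((sph N β g).re - 1) ^ 2 : ℝ) : ℂ) =
        ((Nat.card G * (3 - d) / d : ℝ) : ℂ) := by
      push_cast
      simp only [Complex.conj_eq_iff_re.1 (sph_real N (h χ hχ).2.1 _),
        Complex.conj_eq_iff_re.1 (sph_real N (h β b1).2.1 _), b2]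
      rw [sum_congr rfl (g := fun g => 1 + ((d - 1) / d + (d - 3)) * sph N β g +
        (3 - 2 * d) * (sph N β g * sph N β g) + (d - 1) ^ 2 / d * (sph N β g * sph N γ g))
        fun g _ => by field_simp; linear_combination (d - 1) * sph N β g * c2 g]
      simp only [sum_add_distrib, ← mul_sum, h1 β b1, h2 β β b1 b1, h2 γ β c1 b1, if_neg e, if_true,
        sum_const, card_univ, ← Nat.card_eq_fintype_card, nsmul_eq_mul]
      field_simp
      ring
    rw [Complex.ofReal_injective a2] at a1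
    have : (3 : ℝ) < d := by exact_mod_cast hd
    have : (0 : ℝ) < Nat.card G := by exact_mod_cast Nat.card_pos
    exact absurd a1 (not_le.2 (div_neg_of_neg_of_pos (by nlinarith) (by linarith)))
  have e1 : ∀ g, 1 + d * sph N γ g = if sph N γ g = 1 then (d : ℂ) + 1 else 0 := fun g => by
    split_ifs with e
    · rw [e]; ring
    · exact mul_left_cancel₀ (sub_ne_zero.2 e) (by linear_combination c2 g)
  have e2 : ∀ g, ∑ k, (1 + d * sph N γ k) * (1 + d * sph N γ (k * g)) =
      Nat.card G * (1 + d * sph N γ g) := fun g => by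
    have a1 := sph_conv N γ γ g
    have a2 : ∑ k, sph N γ (k * g) = 0 := (Equiv.sum_comp (Equiv.mulRight g) _).trans (h1 γ b1)
    simp only [sph_inv N γ.2.isCharacter (h γ b1).2.1, irr_one_eq, (h γ b1).1, if_true] at a1
    simp only [add_mul, mul_add, one_mul, mul_one, mul_mul_mul_comm (d : ℂ) _ (d : ℂ),
      sum_add_distrib, ← mul_sum, h1 γ b1, a1, a2, sum_const, card_univ,
      ← Nat.card_eq_fintype_card, nsmul_eq_mul]
    field_simp
    ring
  let H : Subgroup G :=
    { carrier := {g | sph N γ g = 1}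
      one_mem' := (h γ b1).2.2.1
      inv_mem' := fun {a} ha => (sph_inv N γ.2.isCharacter (h γ b1).2.1 a).trans ha
      mul_mem' := fun {a b} ha hb => by_contra fun e => by
        have a1 := e2 (a * b)
        simp only [e1, if_neg (show ¬ sph N γ (a * b) = 1 from e), mul_zero] at a1
        norm_cast at a1
        have a2 := sum_eq_zero_iff.1 a1 a⁻¹ (mem_univ _)
        rw [inv_mul_cancel_left, sph_inv N γ.2.isCharacter (h γ b1).2.1, if_pos (show sph N γ a = 1 from ha),
          if_pos (show sph N γ b = 1 from hb)] at a2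
        simp at a2 }
  refine ⟨H, Nat.eq_of_mul_eq_mul_right (Nat.card_pos (α := H)) ?_⟩
  have a1 : ∑ g, (1 + d * sph N γ g) = Nat.card G := by
    simp [sum_add_distrib, ← mul_sum, h1 γ b1]
  simp only [e1, ← sum_filter, sum_const, nsmul_eq_mul] at a1
  rw [index_mul_card, Nat.card_eq_fintype_card (α := H), Fintype.card_subtype, mul_comm]
  exact_mod_cast a1.symm

end Cfsg.Agent.H3
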