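import Cfsg.Agent.H3.M12c
import Cfsg.Agent.H3.Sph
import Cfsg.Agent.Char.Misc

/-! The simple group of order `95040`: a subgroup of index `12`. -/

set_option autoImplicit false
set_option linter.unusedVariables false
set_option linter.unusedSectionVars false

namespace Cfsg.Agent.H3

open Finset Subgroup Equiv Cfsg.Agent.PLoc Cfsg.Agent.Char Cfsg.Agent.Blk Cfsg.Agent.Inv Cfsg.Agent.H9
  Cfsg.Agent.Gol
open scoped ComplexConjugate

universe u

theorem sd_deg {d : ℕ} {a : ℤ} (h : wv d * d = a) (ha : a ≠ 0) : d = a.natAbs := by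
  unfold wv at h
  split_ifs at h <;> omega

variable {G : Type u} [Group G] [Finite G] [IsSimpleGroup G] [Fintype G]

theorem real_of_bar {χ : IrrCharacter G} (h : bar χ = χ) (g : G) : conj (χ.1 g) = χ.1 g :=
  congrFun (congrArg Subtype.val h) g

variable {y z : G} (hy : orderOf y = 5) {l l' : List (IrrCharacter G)} (K : K12 y z l l')

include K in
theorem K12.mem (χ : IrrCharacter G) {d : ℕ} (hd : charDegree χ.1 = d) (h1 : d ≠ 1) (h2 : wv d ≠ 0) :
    χ ∈ l ∧ wv d * d ∈ l.map sd ∨ χ ∈ l' ∧ wv d * d ∈ l'.map sd := by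
  subst hd
  have := mt (fun e => (K.out χ e).1) h2
  simp only [List.mem_cons, List.mem_append, not_not] at this
  rcases this with rfl | e | e
  · exact absurd deg_irrOne h1
  · exact .inl ⟨e, List.mem_map_of_mem e⟩
  · exact .inr ⟨e, List.mem_map_of_mem e⟩

include hy K in
theorem K12.ord : orderOf (y * z) = 10 := by
  rw [K.comm.orderOf_mul_eq_mul_orderOf_of_coprime (by rw [hy, K.z2]; decide), hy, K.z2]

variable (h : Nat.card G = 95040) {α β γ κ μ ν : IrrCharacter G} (H : H12 α β γ κ μ ν)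
include h H hy K

theorem K12.c16 {χ : IrrCharacter G} (e : charDegree χ.1 = 16) {g : G} (hg : orderOf g ≠ 11) :
    χ.1 g = μ.1 g := by
  obtain ⟨d1, d2, d3, d4, d5, d6⟩ := H.dg
  have := deg_irrOne (G := G)
  rcases H.cases χ with rfl | rfl | rfl | rfl | rfl | rfl | rfl | e' <;>
    first | omega | rfl | exact H.reg g hg

theorem K12.notA : l.map sd ≠ [-99, 66, 16, 16] := fun e => by
  simp only [List.map_eq_cons_iff, List.map_eq_nil_iff] at e
  obtain ⟨a, _, rfl, a1, b, _, rfl, b1, c, _, rfl, c1, d, _, rfl, d1, rfl⟩ := e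
  replace a1 : _ = 99 := sd_deg a1 (by decide)
  replace b1 : _ = 66 := sd_deg b1 (by decide)
  replace c1 : _ = 16 := sd_deg c1 (by decide)
  replace d1 : _ = 16 := sd_deg d1 (by decide)
  have z2 := K.z2
  have c2 := (K.b0 c (by simp)).2
  rw [K.c16 hy h H c1 (by rw [K.ord hy]; decide), c1] at c2
  have m1 : μ.1 z = -4 := by
    have f := fun b : ℤ => cong 5 μ.2.isCharacter K.comm (k := 1) hy c2 (b := b)
    rcases (H.inv z z2).2.2 with ⟨-, e⟩ | ⟨-, e | e⟩
    · exact absurd (f 0 (by simpa using e)) (by decide)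
    · exact absurd (f 4 (by simpa using e)) (by decide)
    · exact e
  have c3 := (K.c16 hy h H c1 (g := z) (by omega)).trans m1
  have d3 := (K.c16 hy h H d1 (g := z) (by omega)).trans m1
  obtain ⟨p, hp, p4⟩ := mod4 (nc12 h) b z2
  have r := (K.reg z (by omega)).1
  obtain ⟨k, k', k1, k2, k3, -⟩ := K.pairs h H hy z2
  simp [a1, b1, c1, d1, c3, d3, hp, wv, irr_one_eq] at r k3
  have a2 : a.1 z = (p - 7 : ℤ) := by push_cast; linear_combination -r
  have nd := K.nodup
  simp only [List.cons_append, List.nodup_cons, List.mem_cons, not_or] at nd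
  have s := sq_le (l := [a, b]) (g := z) (by simp [nd.2.1.1])
    (w := fun χ => if charDegree χ.1 = 99 then p - 7 else p) (by simp [a1, b1, a2, hp])
  have p1 := abs_lt.1 (abs_lt_deg (nc12 h) (Ne.symm nd.1.2.1) (ne_one_of_ord2 z2) hp)
  simp [a1, b1] at s p1 p4
  refine (by decide +kernel : ∀ c ∈ D12, ∀ p ∈ (List.range 33).map fun i : ℕ => 4 * (i : ℤ) - 62,
    (p - 7) ^ 2 + p ^ 2 ≤ c → ∀ k ≤ 20, 570240 + 2880 * p ^ 2 - 1920 * (p - 7) ^ 2 ≠ c ^ 2 * (k : ℕ)) _
    (hD12 _ (h ▸ card_subgroup_dvd_card _)) p (List.mem_map.2 ⟨((p + 62) / 4).toNat, by simp; omega,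
      by omega⟩) s (k + k') (by omega) (Int.cast_injective (α := ℂ) ?_)
  rw [a2] at k3
  push_cast at k3 ⊢
  linear_combination k3

theorem K12.c54 {χ : IrrCharacter G} (e : charDegree χ.1 = 54) : χ = β := by
  obtain ⟨d1, d2, d3, d4, d5, d6⟩ := H.dg
  have := deg_irrOne (G := G)
  rcases H.cases χ with rfl | rfl | rfl | rfl | rfl | rfl | rfl | e' <;> first | omega | rfl

theorem K12.notB (e : l.map sd = [-99, 66, 176, -144]) : ∃ χ : IrrCharacter G,
    charDegree χ.1 = 11 ∧ bar χ = χ := by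
  obtain ⟨d1, d2, d3, d4, d5, d6⟩ := H.dg
  obtain ⟨Q⟩ : Nonempty (Sylow 2 G) := inferInstance
  obtain ⟨u, -, u1, u2⟩ := exists_central_order_p Q.isPGroup' (Q.ne_bot_of_dvd_card (by rw [h]; decide))
  have u3 := index_cent_coprime Q (mem_centralizer_iff.1 u1)
  have u4 : 64 ∣ Nat.card (centralizer ({u} : Set G)) :=
    (Nat.Coprime.pow_left 6 (Nat.prime_two.coprime_iff_not_dvd.2 u3)).dvd_of_dvd_mul_left
      (by rw [index_mul_card, h]; decide)
  have m0 : μ.1 u = 0 := eq_zero_of_coprime (nc12 h) (fun e => by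
    have := deg_irrOne (G := G); rw [← e] at this; omega) (ne_one_of_ord2 u2)
    (d5 ▸ Nat.Coprime.pow_left 4 (Nat.prime_two.coprime_iff_not_dvd.2 u3))
  obtain ⟨k0, b0, a0⟩ := H.inv u u2
  replace a0 := (a0.resolve_right fun e => by rw [m0] at e; norm_num at e).1
  have r := (K.reg u (by omega)).2
  obtain ⟨k, k', k1, k2, -, k3⟩ := K.pairs h H hy u2
  have m1 := (K.mem μ d5 (by decide) (by decide)).resolve_left fun e' => by
    rw [e] at e'; exact absurd e'.2 (by decide)
  have e1 := K.e1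
  simp only [List.mem_cons, List.not_mem_nil, or_false] at e1
  rcases e1 with e1 | e1 | e1 | e1 | e1
  all_goals try exact absurd (e1 ▸ m1.2) (by decide)
  all_goals
    have e2 := e1
    simp only [List.map_eq_cons_iff, List.map_eq_nil_iff] at e1
    obtain ⟨a, _, rfl, a1, b, _, rfl, b1, c, _, rfl, c1, d, _, rfl, f1, f, _, rfl, g1, rfl⟩ := e1
    have f2 := (K.c16 hy h H (sd_deg f1 (by decide)) (g := u) (by omega)).trans m0
    have g2 := (K.c16 hy h H (sd_deg g1 (by decide)) (g := u) (by omega)).trans m0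
    replace a1 := sd_deg a1 (by decide)
    replace b1 := sd_deg b1 (by decide)
    replace c1 := sd_deg c1 (by decide)
    have nd := K.nodup
    simp only [List.nodup_cons, List.mem_cons, not_or, List.mem_append] at nd
  · obtain rfl := K.c54 hy h H b1
    obtain ⟨p, hp, -⟩ := mod4 (nc12 h) a u2
    simp [a1, b1, c1, f2, g2, hp, b0, wv, irr_one_eq] at r k3
    have c2 : c.1 u = (p - 6 : ℤ) := by push_cast; linear_combination -r
    have s := sq_le (l := [a]) (g := u) (by simp) (w := fun _ => p) (by simp [hp])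
    have p1 := abs_lt.1 (abs_lt_deg (nc12 h) (Ne.symm nd.1.2.1) (ne_one_of_ord2 u2) hp)
    simp [a1] at s p1
    refine ((by decide +kernel : ∀ c ∈ D12, 64 ∣ c → ∀ p ∈ (List.range 131).map fun i : ℕ => (i : ℤ) - 65,
      p ^ 2 ≤ c → ∀ k ≤ 10, 2880 * p ^ 2 - 126720 - 4320 * (p - 6) ^ 2 ≠ c ^ 2 * (k : ℕ)) _
      (hD12 _ (h ▸ card_subgroup_dvd_card _)) u4 p (List.mem_map.2 ⟨(p + 65).toNat, by simp; omega,
        by omega⟩) s (k - k') (by omega) (Int.cast_injective (α := ℂ) ?_)).elim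
    rw [c2] at k3
    push_cast [k1] at k3 ⊢
    linear_combination k3
  obtain rfl := K.c54 hy h H c1
  by_contra hn
  push Not at hn
  have c11 : ∀ χ : IrrCharacter G, charDegree χ.1 = 11 → χ = a ∨ χ = b := fun χ hχ => by
    have := ((K.mem χ hχ (by decide) (by decide)).resolve_left fun e' => by
      rw [e] at e'; exact absurd e'.2 (by decide)).1
    replace f1 := sd_deg f1 (by decide)
    replace g1 := sd_deg g1 (by decide)
    simp only [List.mem_cons, List.not_mem_nil, or_false] at this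
    rcases this with rfl | rfl | rfl | rfl | rfl <;> simp_all
  obtain rfl : bar a = b := (c11 _ ((deg_bar a).trans a1)).resolve_left (hn a a1)
  obtain ⟨p, hp, -⟩ := mod4 (nc12 h) a u2
  have b2 : (bar a).1 u = p := (congrArg conj hp).trans (map_intCast _ p)
  simp [a1, b1, c1, f2, g2, hp, b2, b0, wv] at r
  obtain ⟨x, hx⟩ := exists_prime_orderOf_dvd_card' (G := G) 11 (by rw [h]; norm_num)
  obtain ⟨χ, hχ, c2⟩ : ∃ χ ∈ l, sd χ = 66 := List.mem_map.1 (e ▸ by decide)
  have key : ∀ σ : G → ℂ, IsCharacter G σ → σ 1 = 66 → classInner σ (fun _ => 1) = 0 →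
      σ x + σ x⁻¹ = 0 → σ y = 1 → σ (y * z) = 1 → σ u = χ.1 u := fun σ s1 s2 s3 s4 s5 s6 => by
    obtain ⟨L, l1, l2⟩ := dec12 h H hy K hx s1 (n := 66) s2 le_rfl s3 (X := 0) (w := 1)
      (by simpa using s4) (by simpa using s5)
    rw [show List.filter _ _ = [[44, 11, 11], [55, 11], [66]] by decide +kernel] at l2
    simp only [List.mem_cons, List.not_mem_nil, or_false, List.map_eq_cons_iff,
      List.map_eq_nil_iff] at l2
    rcases l2 with ⟨i, _, rfl, i1, -⟩ | ⟨i, _, rfl, i1, j, _, rfl, j1, rfl⟩ | ⟨i, _, rfl, i1, rfl⟩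
    · rcases K.mem i i1 (by decide) (by decide) with e' | e'
      · exact absurd (e ▸ e'.2) (by decide)
      · exact absurd (e2 ▸ e'.2) (by decide)
    · have j2 := K.b1 j (by rcases c11 j j1 with rfl | rfl <;> simp)
      have i2 := (K.out i fun e' => by
        simp only [List.mem_cons (a := i) (b := irrOne G), List.mem_append] at e'
        rcases e' with rfl | e' | e'
        · exact absurd (i1.symm.trans deg_irrOne) (by decide)
        · exact absurd (e ▸ List.mem_map_of_mem (f := sd) e') (by rw [sd, i1]; decide)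
        · exact absurd (e2 ▸ List.mem_map_of_mem (f := sd) e') (by rw [sd, i1]; decide)).2
      rw [l1] at s6
      norm_num [i2, j2, j1, wv] at s6
    · rcases K.mem i i1 (by decide) (by decide) with e' | e'
      · rw [l1, eq_of_count (f := sd) (a := 66) (by rw [e]; decide) hχ e'.1 c2 (by rw [sd, i1]; rfl)]
        simp
      · exact absurd (e2 ▸ e'.2) (by decide)
  have o := K.ord hy
  have t1 := key _ H.theta.1 (by norm_num [irr_one_eq, d1, d4, d5, d6]) H.theta.2 (by
    obtain ⟨a1, -, a2, -, a3⟩ := H.v11 x hx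
    obtain ⟨b1, -, b2, -, b3⟩ := H.v11 x⁻¹ (by simpa using hx)
    simp only [a1, a2, a3, b1, b2, b3]
    norm_num) (by norm_num [K.val _ y hy, d1, d4, d5, d6, wv]) (by
    have i1 := K.b1 μ m1.1
    have i2 := (K.b0 κ ((K.mem κ d4 (by decide) (by decide)).resolve_right fun e' =>
      absurd (e2 ▸ e'.2) (by decide)).1).2
    have i3 := (K.out α fun e' => by
      simp only [List.mem_cons (a := α) (b := irrOne G), List.mem_append] at e'
      rcases e' with rfl | e' | e'
      · exact absurd (d1.symm.trans deg_irrOne) (by decide)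
      · exact absurd (e ▸ List.mem_map_of_mem (f := sd) e') (by rw [sd, d1]; decide)
      · exact absurd (e2 ▸ List.mem_map_of_mem (f := sd) e') (by rw [sd, d1]; decide)).2
    norm_num [H.reg _ (show orderOf (y * z) ≠ 11 by omega), i1, i2, i3, d4, d5, wv])
  have x0 : ∀ g, orderOf g = 11 → a.1 g = 0 := fun g hg =>
    defect_zero (r := 8640) fact11.out a1 h.symm (by norm_num) hg.symm.dvd
  have o2 : ∀ g : G, Odd (orderOf g) → orderOf (g * g) = orderOf g := fun g hg => by
    rw [← sq, Nat.Coprime.orderOf_pow (by simpa using hg)]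
  obtain ⟨i, j, -, i1, i2, -⟩ := a.2.frobenius_schur
  rw [if_neg fun e => hn a a1 (Subtype.ext (funext fun g => Complex.conj_eq_iff_im.2 (e g)))] at i1
  have hx' : orderOf x⁻¹ = 11 := by simpa using hx
  have t2 := key _ a.2.isCharacter.sym (by norm_num [irr_one_eq, a1]) (by rw [i2]; simp; omega)
    (by simp [x0 _ hx, x0 _ hx', x0 _ ((o2 x (by rw [hx]; decide)).trans hx),
      x0 _ ((o2 x⁻¹ (by rw [hx']; decide)).trans hx')])
    (by norm_num [K.val _ y hy, K.val _ _ ((o2 y (by rw [hy]; decide)).trans hy), a1, wv]) (by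
      rw [K.comm.symm.mul_mul_mul_comm, (ord2_iff.1 K.z2).1]
      norm_num [K.b1 a (by simp), K.val _ _ ((o2 y (by rw [hy]; decide)).trans hy), a1, wv])
  rw [← t1, (ord2_iff.1 u2).1, hp, show (p : ℂ) = 3 by linear_combination r / 2] at t2
  norm_num [irr_one_eq, a1, m0, k0, a0] at t2

theorem K12.real11 : ∃ χ : IrrCharacter G, charDegree χ.1 = 11 ∧ bar χ = χ := by
  have e := K.e0
  simp only [List.mem_cons, List.not_mem_nil, or_false] at e
  rcases e with e | e | e | e | e
  · exact K.notB hy h H e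
  · exact absurd e (K.notA hy h H)
  all_goals
    obtain ⟨χ, h1, h2⟩ : ∃ χ ∈ l, sd χ = 11 := List.mem_map.1 (e ▸ by decide)
    exact ⟨χ, sd_deg h2 (by decide), eq_of_count (f := sd) (a := 11) (by rw [e]; decide)
      (K.b0 χ h1).1 h1 (by rw [sd, deg_bar]; exact h2) h2⟩

theorem K12.index : ∃ M : Subgroup G, M.index = 12 := by
  obtain ⟨x, hx⟩ := exists_prime_orderOf_dvd_card' (G := G) 11 (by rw [h]; norm_num)
  obtain ⟨χ, hχ⟩ := K.real11 hy h H
  obtain ⟨s1, s2⟩ := m12_11 h hx
  obtain ⟨d1, d2, d3, d4, d5, d6⟩ := H.dg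
  refine sph_index (d := 11) (Nx x) (by decide) (fun χ => charDegree χ.1 = 11 ∧ bar χ = χ) ?_ hχ
  rintro χ ⟨a1, a2⟩
  have x0 : ∀ g, orderOf g = 11 → χ.1 g = 0 := fun g hg =>
    defect_zero (r := 8640) fact11.out a1 h.symm (by norm_num) hg.symm.dvd
  have o2 : ∀ g : G, Odd (orderOf g) → orderOf (g * g) = orderOf g := fun g hg => by
    rw [← sq, Nat.Coprime.orderOf_pow (by simpa using hg)]
  have hx' : orderOf x⁻¹ = 11 := by simpa using hx
  have x1 := x0 _ ((o2 x (by rw [hx]; decide)).trans hx)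
  have x2 := x0 _ ((o2 x⁻¹ (by rw [hx']; decide)).trans hx')
  have y1 := K.val χ y hy
  have y2 := K.val χ _ ((o2 y (by rw [hy]; decide)).trans hy)
  have a3 := real_of_bar a2
  refine ⟨a1, a3, ?_, ?_⟩
  · obtain ⟨k, m, k1, k2, k3, k4⟩ := fdN s1 s2 χ (a := 0) (by simpa using x0) (K.val χ)
    rw [a1, show wv 11 = 1 from rfl] at *
    rw [k1, show k = 1 by omega, Nat.cast_one]
  obtain ⟨i, j, -, i1, i2, i3⟩ := χ.2.frobenius_schur
  rw [if_pos fun g => Complex.conj_eq_iff_im.1 (a3 g)] at i1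
  have one := isIrrCharacter_one (G := G)
  rcases (by omega : i = 0 ∧ j = 1 ∨ i = 1 ∧ j = 0) with ⟨rfl, rfl⟩ | ⟨rfl, rfl⟩
  · obtain ⟨L, l1, l2⟩ := dec12 h H hy K hx (χ.2.isCharacter.alt.sub_irr one (by simp [i3])) (n := 54)
      (by norm_num [irr_one_eq, a1]) (by decide)
      (by rw [classInner_sub_left, i3, one.classInner_self]; simp) (X := -2) (w := -1)
      (by norm_num [x0 _ hx, x0 _ hx', x1, x2]) (by norm_num [y1, y2, a1, wv])
    rw [show List.filter _ _ = [[54]] by decide +kernel] at l2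
    obtain ⟨ψ, rfl, l3⟩ := List.map_eq_singleton_iff.1 (List.mem_singleton.1 l2)
    obtain rfl := K.c54 hy h H l3
    obtain ⟨p, hp, -⟩ := mod4 (nc12 h) χ K.z2
    have e := l1 z
    simp [(H.inv z K.z2).2.1, (ord2_iff.1 K.z2).1, hp, irr_one_eq, a1] at e
    have e1 : p ^ 2 = 5 ^ 2 := Int.cast_injective (α := ℂ) (by push_cast; linear_combination 2 * e)
    have f := fun (b : ℤ) hb => cong 5 χ.2.isCharacter K.comm (k := 1) hy (a := b) hb hp
    rcases K.mem χ a1 (by decide) (by decide) with e' | e'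
    · have := f _ (K.b0 χ e'.1).2
      rw [a1, show wv 11 = 1 from rfl] at this
      rcases sq_eq_sq_iff_eq_or_eq_neg.1 e1 with rfl | rfl <;> omega
    · have := f _ (K.b1 χ e'.1)
      rw [a1, show wv 11 = 1 from rfl] at this
      rcases sq_eq_sq_iff_eq_or_eq_neg.1 e1 with rfl | rfl <;> omega
  obtain ⟨L, l1, l2⟩ := dec12 h H hy K hx (χ.2.isCharacter.sym.sub_irr one (by simp [i2])) (n := 65)
    (by norm_num [irr_one_eq, a1]) (by decide)
    (by rw [classInner_sub_left, i2, one.classInner_self]; simp) (X := -2) (w := 0)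
    (by norm_num [x0 _ hx, x0 _ hx', x1, x2]) (by norm_num [y1, y2, a1, wv])
  rw [show List.filter _ _ = [[54, 11]] by decide +kernel] at l2
  simp only [List.mem_singleton, List.map_eq_cons_iff, List.map_eq_nil_iff] at l2
  obtain ⟨ψ, _, rfl, l3, φ, _, rfl, l4, rfl⟩ := l2
  have b1 : ∀ g, conj (ψ.1 g) = ψ.1 g := real_of_bar ((K.c54 hy h H ((deg_bar ψ).trans l3)).trans
    (K.c54 hy h H l3).symm)
  obtain rfl := K.c54 hy h H l3
  refine ⟨φ, ⟨l4, Subtype.ext (funext fun g => ?_)⟩, ψ.1, ψ.2.isCharacter, ?_, funext fun g => ?_⟩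
  · have e := l1 g
    have e' := congrArg conj e
    simp [a3, b1, map_ofNat] at e e'
    exact add_left_cancel (e'.symm.trans e)
  · obtain ⟨k, m, k1, k2, k3, k4⟩ := fdN s1 s2 ψ (a := -1) (fun g hg => by simp [(H.v11 g hg).2.1])
      (K.val ψ)
    rw [d2, show wv 54 = -1 from rfl] at *
    rw [k1, show k = 0 by omega, Nat.cast_zero]
  · have e := l1 g
    simp at e ⊢
    linear_combination e

end Cfsg.Agent.H3
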