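import Cfsg.Agent.H3.Rec2

/-! The simple group of order `443520`: the action on `22` points, numerical part. -/

set_option autoImplicit false
set_option linter.unusedVariables false
set_option linter.unusedSectionVars false

namespace Cfsg.Agent.H3

open Finset Subgroup Equiv Cfsg.Agent.PLoc Cfsg.Agent.Char Cfsg.Agent.Blk Cfsg.Agent.Inv Cfsg.Agent.H9
  Cfsg.Agent.Gol

noncomputable section

def allW (m : ℕ) (ok : ℕ → ℕ → ℕ → Bool) (n : ℕ) : (ℕ → Bool) → Bool :=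
  Nat.rec (fun k => k 0) (fun j ih k => ih fun v => nall (fun a => bif' (ok j a v)
    (force (Nat.add (Nat.shiftLeft a (Nat.mul 5 j)) v) k) true) m) n

theorem allW_sound {m : ℕ} {ok : ℕ → ℕ → ℕ → Bool} {g : ℕ → ℕ} {n : ℕ}
    (hg : ∀ j < n, g j < m ∧ ok j (g j) (pack 5 g j) = true) {k : ℕ → Bool} (h : allW m ok n k = true) :
    k (pack 5 g n) = true := by
  induction n generalizing k with
  | zero => unfold pack; exact h
  | succ n ih =>
    have := nall_iff.1 (ih (k := fun v => nall (fun a => bif' (ok n a v)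
      (force (Nat.add (Nat.shiftLeft a (Nat.mul 5 n)) v) k) true) m)
      (fun j hj => hg j (by omega)) h) _ (hg n (by omega)).1
    rw [(hg n (by omega)).2, bif'_true, force_eq] at this
    rw [pack_succ, ← Nat.shiftLeft_eq]
    exact this

/-- all bijections intertwining `y` and `z` pass the test `f` -/
def allD (m y z rp tr tk n o : ℕ) (ok : ℕ → ℕ → Bool) (f : ℕ → Bool) : Bool :=
  nall (fun j => Nat.blt (ap rp j) m && nall (fun i => nall (fun k =>
    !Nat.beq (itr y k (ap rp i)) (ap rp j)) o) j) n &&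
  nall (fun i => Nat.blt (ap tr i) n && Nat.beq (itr y (ap tk i) (ap rp (ap tr i))) i) m &&
  allW m (fun j a v => bif' (ok j a) (bif' (Nat.beq (ap z a) a == Nat.beq (ap y (ap rp j)) (ap rp j))
    (nall (fun i => nall (fun k => !Nat.beq (itr z k (ap v i)) a) o) j) false) false) n
    fun v => force (pack 5 (fun i => itr z (ap tk i) (ap v (ap tr i))) m) f

theorem allD_sound {m rp tr tk n o : ℕ} (hm : m ≤ 32) {σ Y Z : Perm (Fin m)} (e : σ * Y = Z * σ)
    {ok : ℕ → ℕ → Bool} (hok : ∀ j < n, ok j (ap (encP σ) (ap rp j)) = true) {f : ℕ → Bool}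
    (h : allD m (encP Y) (encP Z) rp tr tk n o ok f = true) : f (encP σ) = true := by
  simp only [allD, Bool.and_eq_true, nall_iff, Nat.blt_eq, Nat.beq_eq, Bool.not_eq_true',
    Bool.eq_false_iff, ne_eq] at h
  obtain ⟨⟨h1, h2⟩, h3⟩ := h
  have h4 := allW_sound (g := fun j => ap (encP σ) (ap rp j)) (fun j hj => ?_) h3
  · rw [force_eq] at h4
    rw [← h4]
    congr 1
    refine encP_eq fun i => ?_
    obtain ⟨h5, h6⟩ := h2 i i.2
    have h7 := itr_eq hm Y (ap tk i) ⟨_, (h1 _ h5).1⟩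
    rw [ap_eq (pack _ _ _), dig_pack (fun _ _ => ap_lt _ _) h5, ap_encP hm σ (h1 _ h5).1, itr_eq hm,
      ← Perm.mul_apply, ← (SemiconjBy.pow_right e _).eq, Perm.mul_apply,
      ← Fin.ext (h6.symm.trans h7)]
  · rw [hok j hj, bif'_true, ap_encP hm σ (h1 j hj).1, ap_encP hm Y (h1 j hj).1,
      ap_encP hm Z (Fin.is_lt _), Fin.eta, ← Perm.mul_apply, ← e, Perm.mul_apply,
      beq_iff_eq.2 (Bool.eq_iff_iff.2 (by
        rw [Nat.beq_eq, Nat.beq_eq, Fin.val_inj, σ.injective.eq_iff, Fin.ext_iff])), bif'_true]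
    refine ⟨Fin.is_lt _, nall_iff.2 fun i hi => nall_iff.2 fun k hk => ?_⟩
    have h5 := (h1 i (hi.trans hj)).1
    rw [ap_eq (pack _ _ _), dig_pack (fun _ _ => ap_lt _ _) hi, ap_encP hm σ h5, itr_eq hm,
      ← Perm.mul_apply, ← (SemiconjBy.pow_right e _).eq, Perm.mul_apply, Bool.not_eq_true',
      Bool.eq_false_iff, Ne, Nat.beq_eq, Fin.val_inj, σ.injective.eq_iff, Fin.ext_iff, ← itr_eq hm]
    exact (h1 j hj).2 i hi k hk

def X22 : ℕ := 473650193886733377473815086500929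

def Y22 : ℕ := 791555669292345000431759352174688

def g22 : List ℕ := [X22, Y22, 860003882193581392688794907754539]

/-- two commuting elements of order three fixing two points -/
def nine (gs : List ℕ) : Bool := lany (fun w => force (evw 22 gs w.1) fun u => force (evw 22 gs w.2)
  fun v => lall (fun z => Nat.beq (powS 22 z 2) (idP 22) && Nat.beq (ap z 0) 0 && Nat.beq (ap z 11) 11 &&
    !Nat.beq z (idP 22)) [u, v] && Nat.beq (mulP 22 u v) (mulP 22 v u) && !Nat.beq u v &&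
    !Nat.beq (mulP 22 u u) v)
  [([0, 1, 0, 2, 0, 0], [0, 2, 2, 0, 0, 1]), ([0, 0, 1, 0, 0, 2, 0], [0, 2, 2, 1, 0, 0])]

theorem chk22 : allD 22 Y22 (powS 22 Y22 1) 448857440 208099156963773338931726536215616
  124390733492173589819517382459392 6 5 (fun j b => j != 2 || b ∈ [1, 2, 12, 13]) (fun c =>
    bif' (Nat.beq (powS 22 c 3) (idP 22)) (bif'
      (finC 22 [X22, Y22, c] g22 [[10], [6], [4], [1, 1, 1, 1, 1, 1, 1, 2, 2]]
      [[0, 2], [0, 1, 2], [0, 2, 1], [0, 0, 2], [0, 0, 1, 2], [0, 2, 2, 2], [0, 0, 2, 1]] []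
      [(860003882193581392688794907754539, idP 22, [[0], [1], [2]]),
       (390596291240582182450257928456619, 834765741764234560086155674718272, [[0, 0], [1], [2]])])
      true (nine [X22, Y22, c])) true) = true := by decide +kernel

theorem card_g22 : 443520 ≤ Nat.card (KP 22 g22) := card_KP_ge (ls :=
  [(0, [[], [0], [2], [0, 0], [1, 0], [0, 2], [1, 0, 0], [2, 0, 0], [0, 1, 0], [1, 1, 0], [0, 0, 2], [1, 0, 2], [2, 0, 2], [0, 2, 0, 0], [1, 2, 0, 0], [2, 2, 0, 0], [0, 0, 1, 0], [2, 0, 0, 2], [1, 1, 0, 2], [2, 1, 0, 2], [2, 0, 2, 0, 0], [1, 2, 0, 0, 2]], [[0, 1, 2, 0, 2], [1]]),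
   (1, [[], [0], [1], [0, 0], [1, 0], [0, 1], [1, 1], [0, 0, 0], [1, 0, 0], [0, 1, 0], [0, 0, 1], [1, 0, 1], [0, 1, 1], [1, 1, 1], [1, 0, 0, 0], [0, 1, 0, 0], [1, 1, 0, 0], [0, 0, 1, 0], [1, 0, 1, 0], [0, 1, 0, 1], [1, 1, 1, 1]], [[0, 0, 1, 1, 0], [0, 1, 0, 0, 1]]),
   (2, [[], [0], [1], [0, 0], [1, 0], [1, 1], [1, 0, 0], [0, 1, 0], [1, 1, 0], [0, 1, 1], [0, 1, 0, 0], [1, 1, 0, 0], [1, 0, 1, 0], [0, 1, 1, 0], [0, 0, 1, 1], [0, 0, 1, 0, 0], [1, 0, 1, 0, 0], [1, 1, 0, 1, 0], [0, 0, 1, 1, 0], [1, 0, 0, 1, 0, 0]], [[1, 1, 0, 0, 1, 1, 1, 1, 0], [1, 0, 0, 1, 0, 1, 1], [1, 0, 1, 0, 1, 1, 0, 1, 0]]),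
   (3, [[], [0], [1], [2], [0, 0], [2, 0], [2, 1], [0, 2], [1, 2], [2, 2], [2, 0, 0], [1, 2, 0], [2, 2, 0], [0, 2, 1], [1, 2, 1], [0, 0, 2]], [[0, 1, 1]]),
   (4, [[], [0], [0, 0]], [])]) (by norm_num)
  (by decide +kernel)

end

end Cfsg.Agent.H3
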