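import Cfsg.Agent.H3.M22c
import Cfsg.Agent.H3.M22p
import Cfsg.Agent.H3.Deg11

/-! The simple group of order `443520` is unique. -/

set_option autoImplicit false
set_option linter.unusedVariables false
set_option linter.unusedSectionVars false

namespace Cfsg.Agent.H3

open Finset Subgroup Equiv Cfsg.Agent.PLoc Cfsg.Agent.Char Cfsg.Agent.Blk Cfsg.Agent.Inv Cfsg.Agent.H9
  Cfsg.Agent.Gol MulAction

universe u

theorem card_modEq_fixedBy {K X : Type*} [Group K] [Finite X] [MulAction K X] {p : ℕ} [Fact p.Prime]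
    {g : K} (hg : g ^ p = 1) : Nat.card X ≡ Nat.card (fixedBy X g) [MOD p] := by
  have := (isPGroup_zpowers (p := p) (k := 1) (x := g) (by simpa using hg)).card_modEq_card_fixedPoints X
  rwa [show fixedPoints (zpowers g) X = fixedBy X g from Set.ext fun a =>
    ⟨fun h => h ⟨g, mem_zpowers g⟩, fun h k => zpowers_le (H := stabilizer K a).2 h k.2⟩] at this

theorem label22 {X Y : Perm (Fin 22)} (hX : X ^ 11 = 1) (h0 : ∀ w, X w ≠ w) (hY : Y * X * Y⁻¹ = X ^ 3)
    (h5 : Y ^ 5 = 1) : ∃ τ : Perm (Fin 22), encP (τ⁻¹ * X * τ) = X22 ∧ encP (τ⁻¹ * Y * τ) = Y22 := by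
  have h1 : ∀ i : ℕ, X ^ i = X ^ (i % 11) := (pow_eq_pow_mod · hX)
  have h2 : ∀ j, Y * X ^ j = X ^ (3 * j) * Y := fun j => by
    rw [pow_mul, ← hY, conj_pow, inv_mul_cancel_right]
  have h3 : ∀ (i : ℕ) w, (X ^ i) w = w → 11 ∣ i := fun i w e => by_contra fun e' => by
    obtain ⟨k, hk⟩ := exists_pow_eq_self_of_coprime (x := X) (n := i) ((fact11.out.coprime_iff_not_dvd.2
      e').symm.of_dvd_right (orderOf_dvd_of_pow_eq_one hX))
    exact h0 w (hk ▸ Perm.pow_apply_eq_self_of_apply_eq_self e k)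
  have h4 := card_modEq_fixedBy (X := Fin 22) h5
  obtain ⟨⟨a, ha⟩, ⟨b, hb⟩, ab⟩ := (Finite.one_lt_card_iff_nontrivial (α := fixedBy (Fin 22) Y)).1 (by
      simp only [Nat.card_fin, Nat.ModEq] at h4
      omega)
  let f : ℕ → Fin 22 := fun i => (X ^ i) (if i < 11 then a else b)
  have h6 : ∀ {i j : ℕ} {c d : Fin 22}, (X ^ i) c = (X ^ j) d → (X ^ (i + 10 * j)) c = d := fun e => by
    rw [add_comm, pow_add, Perm.mul_apply, e, ← Perm.mul_apply, ← pow_add, h1]
    simp [← Nat.succ_mul]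
  have h7 : ∀ i j, (X ^ i) a ≠ (X ^ j) b := fun i j e => by
    have e1 := h6 e
    generalize i + 10 * j = k at e1
    obtain ⟨l, rfl⟩ : 11 ∣ k := by
      have := h3 _ a (h6 (i := 3 * k) (j := k) (by
        rw [e1, ← show Y b = b from hb, ← e1, ← Perm.mul_apply Y, h2, Perm.mul_apply, show Y a = a from ha]))
      omega
    exact ab (Subtype.ext (by simpa [pow_mul, hX] using e1))
  have h8 : Function.Injective fun i : Fin 22 => f i := fun i j e => by
    simp only [f] at e
    split_ifs at e with e1 e2 e2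
    exacts [by have := h3 _ _ (h6 e); omega, absurd e (h7 _ _), absurd e.symm (h7 _ _),
      by have := h3 _ _ (h6 e); omega]
  have h9 : ∀ (Z : Perm (Fin 22)) (g : ℕ → ℕ), (∀ i w, Y w = w → Z ((X ^ i) w) = (X ^ g i) w) →
      encP ((Equiv.ofBijective _ (Finite.injective_iff_bijective.1 h8))⁻¹ * Z *
        Equiv.ofBijective _ (Finite.injective_iff_bijective.1 h8)) =
      pack 5 (fun i => g i % 11 + i / 11 * 11) 22 := fun Z g z => encP_eq fun i => by
    refine congrArg Fin.val (?_ : _ = (⟨g i % 11 + i / 11 * 11, by omega⟩ : Fin 22))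
    rw [Perm.mul_apply, Perm.mul_apply, Perm.inv_eq_iff_eq]
    show Z (f i) = f (g i % 11 + i / 11 * 11)
    simp only [f, show g i % 11 + i / 11 * 11 < 11 ↔ (i : ℕ) < 11 by omega]
    rw [z _ _ (by split_ifs; exacts [ha, hb]), h1, h1 (_ + _)]
    simp
  exact ⟨_, (h9 X (· + 1) fun i w _ => by rw [pow_succ', Perm.mul_apply]).trans (by decide +kernel),
    (h9 Y (3 * ·) fun i w e => by rw [← Perm.mul_apply, h2, Perm.mul_apply, e]).trans (by decide +kernel)⟩

variable {G : Type u} [Group G] [Finite G]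

theorem nine_sound {φ : G →* Perm (Fin 22)} (hφ : Function.Injective φ) {l : List G}
    (h : nine (l.map fun g => encP (φ g)) = true) :
    9 ∣ Nat.card ↥((stabilizer (Perm (Fin 22)) (0 : Fin 22) ⊓ stabilizer _ (11 : Fin 22)).comap φ) := by
  obtain ⟨w, -, h⟩ := lany_iff.1 h
  have m : 22 ≤ 32 := by decide
  simp only [force_eq, evw_map m, lall_iff, List.forall_mem_cons, Bool.and_eq_true, Nat.beq_eq,
    Bool.not_eq_true', Bool.eq_false_iff, ne_eq, powS_eq m, ← encP_mul m, ← encP_one,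
    (show Function.Injective (encP (m := 22)) from fun _ _ => encP_inj m).eq_iff, ← map_mul, ← map_pow,
    hφ.eq_iff, hφ.eq_iff' (map_one φ), ap_encP m _ (show 0 < 22 by decide),
    ap_encP m _ (show 11 < 22 by decide)] at h
  generalize (w.1.map (l.getD · 1)).prod = u, (w.2.map (l.getD · 1)).prod = v at h
  obtain ⟨⟨⟨⟨⟨⟨⟨u1, u2⟩, u3⟩, u4⟩, ⟨⟨⟨v1, v2⟩, v3⟩, v4⟩, -⟩, c⟩, n1⟩, n2⟩ := h
  have := Nat.fact_prime_three
  have ou := orderOf_eq_prime (p := 3) u1 u4
  have := card_sup_of_disjoint (H := zpowers v) (N := zpowers u) (zpowers_le.2 (centralizer_le_normalizer _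
    (by rw [centralizer_zpowers, mem_centralizer_singleton_iff, c])))
    (Core.zpowers_inf_eq_bot_of_pow_prime Nat.prime_three v1 fun e => by
      classical
      rw [mem_zpowers_iff_mem_range_orderOf, ou] at e
      simp [range_add_one, sq] at e
      tauto)
  rw [Nat.card_zpowers, Nat.card_zpowers, ou, orderOf_eq_prime (p := 3) v1 v4] at this
  exact this.symm.dvd.trans (card_dvd_of_le (sup_le (zpowers_le.2 ⟨Fin.ext v2, Fin.ext v3⟩)
    (zpowers_le.2 ⟨Fin.ext u2, Fin.ext u3⟩)))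

variable [IsSimpleGroup G] (h : Nat.card G = 443520)
include h

theorem fix7 (H : H22 G) [MulAction G (Fin 22)] [FaithfulSMul G (Fin 22)] {z : G} (hz : orderOf z = 7) :
    Nat.card (fixedBy (Fin 22) z) = 1 := by
  have := Fintype.ofFinite G
  obtain ⟨L, l1, -, l2, -⟩ := exists_dec (isCharacter_perm (G := G) (Fin 22)) (n := 22) (by simp)
    (C := [21, 1]) fun χ _ e => by
      have := H.deg χ
      simp at *
      omega
  rw [show parts [21, 1] 22 = [List.replicate 22 1, [21, 1]] by decide +kernel] at l2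
  simp only [List.mem_cons, List.not_mem_nil, or_false, List.map_eq_cons_iff, List.map_eq_nil_iff,
    List.eq_replicate_iff, List.forall_mem_map, List.length_map] at l2
  rcases l2 with ⟨a1, a2⟩ | ⟨χ, _, rfl, a1, ψ, _, rfl, a2, rfl⟩
  · have := l1 z
    rw [List.map_congr_left (g := fun _ => 1) fun χ hχ => by
      rw [eq_irrOne_of_deg (nc22 h) (a2 χ hχ)]; rfl, List.map_const', List.sum_replicate, a1] at this
    have : fixedBy (Fin 22) z = Set.univ := (Set.eq_univ_iff_ncard _).2 (by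
      rw [Nat.card_fin, ← Nat.card_coe_set_eq]
      exact Nat.cast_injective (R := ℂ) (this.trans (by simp)))
    rw [fixedBy_eq_univ_iff_eq_one.1 this, orderOf_one] at hz
    omega
  · simpa [eq_irrOne_of_deg (nc22 h) a2, defect_zero (r := 21120) fact7.out a1 h.symm (by decide) hz.symm.dvd]
      using l1 z

theorem not9 (H : H22 G) [MulAction G (Fin 22)] [FaithfulSMul G (Fin 22)] [IsPretransitive G (Fin 22)]
    {y : G} (hy : y ^ 5 = 1) {a b : Fin 22} (ab : a ≠ b) (h1 : ∀ i, y • i = i ↔ i = a ∨ i = b) :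
    ¬ 9 ∣ Nat.card ↥(stabilizer G a ⊓ stabilizer G b) := fun e => by
  have c1 := (stabilizer G a).index_mul_card
  rw [index_stabilizer_of_transitive, Nat.card_fin, h] at c1
  obtain ⟨z, hz⟩ := exists_prime_orderOf_dvd_card' (G := stabilizer G a) 7 (by omega)
  have c2 : ∀ i : orbit (stabilizer G a) b, (i : Fin 22) ≠ a := fun ⟨_, g, e⟩ e' =>
    ab ((smul_left_cancel g (g.2.trans (e.trans e').symm)))
  have c3 := card_modEq_fixedBy (X := orbit (stabilizer G a) b) (orderOf_dvd_iff_pow_eq_one.1 hz.dvd)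
  have c4 := card_modEq_fixedBy (X := orbit (stabilizer G a) b) (g := (⟨y, (h1 a).2 (.inl rfl)⟩ :
    stabilizer G a)) (Subtype.ext hy)
  rw [show fixedBy _ z = ∅ from Set.eq_empty_of_forall_notMem fun i hi => c2 i (congrArg Subtype.val
    ((Nat.card_eq_one_iff_unique.1 (fix7 h H ((Subgroup.orderOf_coe z).trans hz))).1.elim
      ⟨i, congrArg Subtype.val hi⟩ ⟨a, z.2⟩))] at c3
  rw [show fixedBy _ _ = {⟨b, mem_orbit_self b⟩} from Set.ext fun i => Subtype.ext_iff.trans
    ((h1 i).trans ((or_iff_right (c2 i)).trans (Subtype.ext_iff (a2 := ⟨b, _⟩)).symm))] at c4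
  have c5 := (stabilizer (stabilizer G a) b).index_mul_card
  have c6 : (orbit (stabilizer G a) b).ncard ≤ 22 := by
    simpa using Set.ncard_le_card (orbit (stabilizer G a) b)
  rw [index_stabilizer, show stabilizer (stabilizer G a) b = (stabilizer G b).subgroupOf _ from rfl,
    ← inf_subgroupOf_left, card_subgroupOf_of_le inf_le_left] at c5
  simp only [Nat.card_coe_set_eq, Set.ncard_empty, Set.ncard_singleton, Nat.ModEq] at c3 c4
  rw [show (orbit (stabilizer G a) b).ncard = 21 by omega] at c5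
  omega

theorem m22_equiv : Nonempty (G ≃* KP 22 g22) := by
  have H := m22_H h
  obtain ⟨x, hx⟩ := exists_prime_orderOf_dvd_card' (G := G) 11 (by rw [h]; norm_num)
  obtain ⟨z, hz⟩ := exists_prime_orderOf_dvd_card' (G := G) 7 (by rw [h]; norm_num)
  obtain ⟨h1, h2⟩ := m22_11 h hx
  obtain ⟨y, e1, hy⟩ := exists_y5 h1 h2
  obtain ⟨-, -, -, -, -, -, -, -, -, -, h3, h4⟩ := m22_TC h hz hy
  obtain ⟨M, hM⟩ := have := Fintype.ofFinite G; H.index h
  have m : 22 ≤ 32 := by decide
  obtain ⟨φ, p1, p2, p3, p4⟩ : ∃ φ : G →* Perm (Fin 22), Function.Injective φ ∧ encP (φ x) = X22 ∧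
      encP (φ y) = Y22 ∧ ∀ i j, ∃ g, φ g i = j := by
    have e : (G ⧸ M) ≃ Fin 22 := Finite.equivFinOfCardEq (M.index_eq_card.symm.trans hM)
    let ψ := e.permCongrHom.toMonoidHom.comp (MulAction.toPermHom G (G ⧸ M))
    have h1 : Function.Injective ψ := by
      refine e.permCongrHom.injective.comp ?_
      rw [← MonoidHom.ker_eq_bot_iff, ← normalCore_eq_ker]
      refine M.normalCore_normal.eq_bot_or_eq_top.resolve_right fun h => ?_
      rw [eq_top_iff.2 (h.ge.trans M.normalCore_le), index_top] at hM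
      omega
    obtain ⟨τ, h2⟩ := label22 (X := ψ x) (Y := ψ y) (by rw [← map_pow, ← hx, pow_orderOf_eq_one, map_one])
      (fun w hw => by
        have a1 := (stabilizer G (e.symm w)).index_mul_card
        have a2 := orderOf_dvd_card_of_mem (show x ∈ stabilizer G (e.symm w) from
          e.injective (hw.trans (e.apply_symm_apply w).symm))
        rw [index_stabilizer_of_transitive, ← index_eq_card, hM, h] at a1
        rw [hx] at a2
        omega)
      (by rw [← map_inv, ← map_mul, ← map_mul, e1, map_pow])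
      (by rw [← map_pow, ← hy, pow_orderOf_eq_one, map_one])
    refine ⟨(MulAut.conj τ⁻¹).toMonoidHom.comp ψ, (MulAut.conj τ⁻¹).injective.comp h1,
      by simpa using h2.1, by simpa using h2.2, fun i j => ?_⟩
    obtain ⟨g, hg⟩ := MulAction.exists_smul_eq G (e.symm (τ i)) (e.symm (τ j))
    exact ⟨g, by simp [ψ, hg]⟩
  obtain ⟨s, e2, e3⟩ : ∃ s, s * y * s⁻¹ = y ^ 2 ∧ ap (encP (φ s)) 1 ∈ [1, 2, 12, 13] := by
    obtain ⟨s, e2⟩ := isConj_iff.1 (conj_of_ord h3.syl1 (by rw [h4]) (g := y ^ 2)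
      (by rw [Nat.Coprime.orderOf_pow (by rw [hy]; decide), hy]))
    obtain ⟨k, -, hk⟩ := (by decide +kernel : ∀ i : Fin 22, ap Y22 i ≠ i → ∃ k < 5,
      itr Y22 k i ∈ [1, 2, 12, 13]) (φ s 1) fun e => by
        rw [← p3, ap_encP m _ (Fin.is_lt _), Fin.eta, Fin.val_inj] at e
        have : φ (y ^ 2) (φ s 1) = φ s 1 := by rw [map_pow, sq, Perm.mul_apply, e, e]
        rw [← e2, ← Perm.mul_apply, ← map_mul, inv_mul_cancel_right, map_mul, Perm.mul_apply,
          (φ s).injective.eq_iff, Fin.ext_iff, ← ap_encP m _ (Fin.is_lt 1), p3] at this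
        exact absurd this (by decide +kernel)
    refine ⟨y ^ k * s, by rw [mul_inv_rev, mul_assoc, mul_assoc, ← mul_assoc y, ← mul_assoc s,
      ← mul_assoc s, e2, ← mul_assoc, pow_mul_comm, mul_inv_cancel_right], ?_⟩
    rwa [← p3, itr_eq m, ← map_pow, ← Perm.mul_apply, ← map_mul, ← ap_encP m _ (Fin.is_lt 1)] at hk
  have := allD_sound m (σ := φ s) (Y := φ y) (Z := φ y ^ 2) (by
    rw [← map_pow, ← map_mul, ← map_mul, ← e2, inv_mul_cancel_right]) (rp := 448857440) (n := 6)
    (ok := fun j b => j != 2 || b ∈ [1, 2, 12, 13]) (fun j hj => by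
      by_cases e : j = 2
      · subst e; simpa [show ap 448857440 2 = 1 by decide +kernel] using e3
      · simp [e]) (by rw [← powS_eq m, p3]; exact chk22)
  rw [powS_eq m, ← map_pow, sc_pow h3 e2 (by decide) (by decide), map_one, encP_one, Nat.beq_refl,
    bif'_true, ← p2, ← p3, bif'_eq] at this
  split_ifs at this with e
  · refine finC_sound (l := [x, y, s]) m p1 (fun g => ?_) (h ▸ card_g22) (by simp) e
    simp only [← orderOf_dvd_iff_pow_eq_one]
    by_cases h5 : 5 ∣ orderOf g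
    · exact ⟨[4], by simp, (ord_eq_of_sc (fun x hx => by
        obtain ⟨-, -, -, -, -, -, -, -, -, -, h3, -⟩ := m22_TC h hz hx
        exact h3) h5).dvd⟩
    by_cases h11 : 11 ∣ orderOf g
    · exact ⟨[10], by simp, (ord_eq_of_sc (fun x hx => (m22_11 h hx).1) h11).dvd⟩
    by_cases h7 : 7 ∣ orderOf g
    · exact ⟨[6], by simp, (ord_eq_of_sc (fun x hx => by
        obtain ⟨-, -, -, -, -, -, -, -, -, h3, -⟩ := m22_TC h hx hy
        exact h3.1) h7).dvd⟩
    exact ⟨[1, 1, 1, 1, 1, 1, 1, 2, 2], by simp,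
      ((fact5.out.coprime_iff_not_dvd.2 h5).symm).dvd_of_dvd_mul_right
      (((fact11.out.coprime_iff_not_dvd.2 h11).symm).dvd_of_dvd_mul_right
        (((fact7.out.coprime_iff_not_dvd.2 h7).symm).dvd_of_dvd_mul_right
        ((orderOf_dvd_natCard g).trans (by rw [h]; decide))))⟩
  let _ := MulAction.compHom (Fin 22) φ
  have : FaithfulSMul G (Fin 22) := ⟨fun e => p1 (Equiv.ext e)⟩
  have : IsPretransitive G (Fin 22) := ⟨p4⟩
  refine (not9 h H (orderOf_dvd_iff_pow_eq_one.1 hy.dvd) (a := 0) (b := 11) (by decide) (fun i => ?_)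
    (nine_sound p1 (l := [x, y, s]) (by assumption))).elim
  rw [← (by decide +kernel : ∀ i : Fin 22, ap Y22 i = i ↔ i = 0 ∨ i = 11), ← p3,
    ap_encP m _ (Fin.is_lt _), Fin.val_inj]
  rfl

end Cfsg.Agent.H3
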