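import Cfsg.Agent.H3.M22n

/-! The simple group of order `443520`: columns of involutions. -/

set_option autoImplicit false
set_option linter.unusedVariables false
set_option linter.unusedSectionVars false

namespace Cfsg.Agent.H3

open Finset Subgroup Equiv Cfsg.Agent.PLoc Cfsg.Agent.Char Cfsg.Agent.Blk Cfsg.Agent.Inv Cfsg.Agent.H9
  Cfsg.Agent.Gol

theorem c22h : lall st22 ((S22.drop 20).take 10) = true := by decide +kernel

theorem c22i : lall st22 (S22.drop 30) = true := by decide +kernel

theorem c22j : ∀ M ∈ S22, st22 M = true := fun M h => by
  rw [← List.take_append_drop 20 S22, ← List.take_append_drop 10 (S22.drop 20), List.drop_drop,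
    List.mem_append, List.mem_append] at h
  exact h.elim (lall_iff.1 c22f M) fun h => h.elim (lall_iff.1 c22h M) (lall_iff.1 c22i M)

end Cfsg.Agent.H3
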