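import Cfsg.Agent.H3.M23n

/-! The simple group of order `10200960`: more numerical checks. -/

set_option autoImplicit false
set_option linter.unusedVariables false
set_option linter.unusedSectionVars false

namespace Cfsg.Agent.H3

open Finset Subgroup Equiv Cfsg.Agent.PLoc Cfsg.Agent.Char Cfsg.Agent.Blk Cfsg.Agent.Inv Cfsg.Agent.H9
  Cfsg.Agent.Gol
open scoped ComplexConjugate

universe u

def Q11 (d : ℕ) : Bool := d % 11 ∈ [0, 1, 10, 5, 6]

def Q23' (d : ℕ) : Bool := Q23 d && d != 11 && d != 12 && Q11 d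

def Q23'' (d : ℕ) : Bool := Q23' d && (d % 11 == 0 || d ∈ [45, 483, 1288, 230, 1035, 896])

theorem c23c : trees2 10200960 23 D23 (fun d => Q11 d && (d % 23 == 0 || d ≤ 156)) (· == 1) = [] := by
  decide +kernel

theorem c23d : ∀ T ∈ trees2 10200960 11 D23 Q23' (· == 1), ∀ U ∈ trees2 10200960 5 D23
    (fun d => Q23' d && (d % 11 == 0 || d ∈ degs T.2.2.2)) (fun v => v % 11 != 0 && v % 23 != 0),
    T.2.2.2 ∈ [[45, 45, -483, 1288], [45, 45, -230, 1035]] ∧ U.1 = 3 ∧ U.2.1 = 4 ∧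
      2024 ∈ degs U.2.2.2 := by decide +kernel

theorem c23e : ∀ T ∈ trees2 10200960 23 D23 Q23'' (· == 1),
    colB 5 [-3, -2, -1, 0, 1, 2, 3] (-(1 + T.2.2.2.sum) :: T.2.2.2) 14 1 = true →
    ((1 + T.2.2.2.sum).natAbs :: degs T.2.2.2).count 45 = 2 →
    1 + sqs T.2.2.2 + 2024 ^ 2 ≤ 10200960 → (degs T.2.2.2).count 22 = 1 ∧ 1 + T.2.2.2.sum = 770 := by
  decide +kernel

theorem c23f : ∀ d ∈ D23, degOK 10200960 d = true → Q23'' d = true → d ≤ 253 →
    d ∈ [22, 45, 230, 231, 253] := by decide +kernel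

end Cfsg.Agent.H3
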