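import Cfsg.Agent.H3.M23a
import Cfsg.Agent.H3.M23m

/-! The simple group of order `10200960`: a rational character of degree `22`. -/

set_option autoImplicit false
set_option linter.unusedVariables false
set_option linter.unusedSectionVars false

namespace Cfsg.Agent.H3

open Finset Subgroup Equiv Cfsg.Agent.PLoc Cfsg.Agent.Char Cfsg.Agent.Blk Cfsg.Agent.Inv Cfsg.Agent.H9
  Cfsg.Agent.Gol
open scoped ComplexConjugate

universe u

theorem le_pos_sum (L : List ℤ) : 0 ≤ (L.filter (0 < ·)).sum ∧ L.sum ≤ (L.filter (0 < ·)).sum ∧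
    ∀ a ∈ L, a ≤ (L.filter (0 < ·)).sum ∧ L.sum - (L.filter (0 < ·)).sum ≤ a := by
  induction L with
  | nil => simp
  | cons b L ih =>
    obtain ⟨h1, h2, h3⟩ := ih
    rw [List.forall_mem_cons, List.filter_cons, List.sum_cons]
    by_cases e : 0 < b
    · simp only [e, decide_true, if_true, List.sum_cons]
      exact ⟨by omega, by omega, by omega, fun a ha => by have := h3 a ha; omega⟩
    · simp only [e, decide_false, Bool.false_eq_true, if_false]
      exact ⟨by omega, by omega, by omega, fun a ha => by have := h3 a ha; omega⟩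

/-- the value of a non-exceptional character on a self-centralising element of order `p` -/
def sv (p d : ℕ) : ℤ := if d % p = 1 then 1 else if d % p = 0 then 0 else -1

variable {G : Type u} [Group G] [Finite G]

/-- number of irreducible characters of a given degree -/
noncomputable def cnt (G : Type u) [Group G] [Finite G] (d : ℕ) : ℕ :=
  (univ.filter fun χ : IrrCharacter G => charDegree χ.1 = d).card

namespace T2
variable {p : ℕ} [hp : Fact p.Prime] {l : List (IrrCharacter G)} {s : IrrCharacter G → ℤ} {ε : ℤ}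
  {μ ν : IrrCharacter G} (T : T2 p l s ε μ ν)
include T

theorem cnt_eq {d : ℕ} (h1 : d ≠ 1) (h2 : ¬ p ∣ d) : cnt G d =
    ((1 + (l.map fun χ => s χ * charDegree χ.1).sum).natAbs ::
      degs (l.map fun χ => s χ * charDegree χ.1)).count d := by
  classical
  rw [degs, T.deg.1, natAbs_sign T.eps, List.map_map, Function.comp_def, List.map_congr_left
    (g := fun χ => charDegree χ.1) fun χ h => natAbs_sign (T.sgn χ h) _]
  nth_rw 2 [← T.deg.2]
  rw [← List.map_cons (f := fun χ : IrrCharacter G => charDegree χ.1), ← List.map_cons (f := fun χ :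
    IrrCharacter G => charDegree χ.1), List.count_eq_countP, List.countP_map,
    List.countP_eq_length_filter, ← List.toFinset_card_of_nodup (T.nodup.of_cons.filter _), cnt]
  refine congrArg _ (Finset.ext fun χ => ?_)
  simp only [mem_filter, mem_univ, true_and, List.mem_toFinset, List.mem_filter, Function.comp,
    beq_iff_eq, iff_and_self]
  refine fun e => by_contra fun e' => h2 (e ▸ (T.out χ fun h => e' ((List.mem_cons.1 h).resolve_left ?_)).1)
  rintro rfl
  exact h1 (e.symm.trans deg_irrOne)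

theorem value (p2 : 2 < p) {χ : IrrCharacter G} (h : charDegree χ.1 ≠ charDegree μ.1) {g : G}
    (hg : orderOf g = p) : χ.1 g = sv p (charDegree χ.1) := by
  by_cases e : χ ∈ irrOne G :: μ :: ν :: l
  · simp only [List.mem_cons] at e
    rcases e with rfl | rfl | rfl | e
    · rw [deg_irrOne, sv, if_pos (Nat.mod_eq_of_lt (by omega)), Int.cast_one]
      rfl
    · exact absurd rfl h
    · exact absurd T.deg.2 h
    have a1 := Int.emod_eq_emod_iff_emod_sub_eq_zero.2
      (Int.emod_eq_zero_of_dvd (cong1 p χ (k := 1) (by simpa using hg) (T.val χ e g hg)))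
    rw [T.val χ e g hg, sv]
    rcases T.sgn χ e with e | e <;> rw [e] at a1 ⊢
    · rw [Int.emod_eq_of_lt (a := 1) (by omega) (by omega)] at a1
      rw [if_pos (by exact_mod_cast a1.symm)]
    · rw [← Int.add_emod_right (-1), Int.emod_eq_of_lt (a := -1 + p) (by omega) (by omega)] at a1
      rw [if_neg (by omega), if_neg (by omega)]
  · rw [(T.out χ e).2 g hg, sv, Nat.mod_eq_zero_of_dvd (T.out χ e).1]
    simp

theorem colB {q k : ℕ} [Fact q.Prime] {g : G} (hg : orderOf g = q ^ k) (hp : orderOf g ≠ p)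
    {w : IrrCharacter G → ℤ} (hw : ∀ χ, χ.1 g = w χ) {B : ℤ}
    (hB : Nat.card (centralizer ({g} : Set G)) ≤ B + 1) {W : List ℤ} (hW : ∀ w, w ^ 2 ≤ B → w ∈ W) :
    colB q W (-(1 + (l.map fun χ => s χ * charDegree χ.1).sum) ::
      l.map fun χ => s χ * charDegree χ.1) B 1 = true := by
  have d0 := fun χ : IrrCharacter G => (deg_pos χ).ne'
  have a1 : ∀ i ∈ (μ, -ε) :: l.map fun χ => (χ, s χ), i.2 = 1 ∨ i.2 = -1 := by
    have := T.eps
    rw [List.forall_mem_cons, List.forall_mem_map]
    exact ⟨by dsimp only; omega, T.sgn⟩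
  have := colB_sound (p := q) hW (d := fun i : IrrCharacter G × ℤ => i.2 * charDegree i.1.1)
    (v := fun i => w i.1) ((μ, -ε) :: l.map fun χ => (χ, s χ)) (fun i hi => by
      rw [natAbs_sign (a1 i hi)]; exact cong1 q _ hg (hw _)) le_rfl (l := 1) (by
      rw [List.map_congr_left (g := fun i => i.2 * w i.1) fun i hi => by
        rcases a1 i hi with e | e <;> simp [e, Int.sign_natCast_of_ne_zero (d0 _)]]
      apply Int.cast_injective (α := ℂ)
      have := (T.reg g hp).1
      simp only [hw] at this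
      simp only [List.map_cons, List.sum_cons, List.map_map, Function.comp_def]
      push_cast [List.map_map, Function.comp_def]
      linear_combination this) (by
      have := sq_le (T.nodup.sublist (((List.Sublist.refl l).cons ν).cons_cons μ |>.cons_cons _))
        fun χ _ => hw χ
      have a2 : w (irrOne G) = 1 := Int.cast_injective (α := ℂ) ((hw _).symm.trans Int.cast_one.symm)
      simp only [List.map_cons, List.sum_cons, List.map_map, Function.comp_def, a2] at this ⊢
      omega)
  simpa only [List.map_cons, List.map_map, Function.comp_def, T.deg.1, neg_mul] using this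

end T2

variable [IsSimpleGroup G] (h : Nat.card G = 10200960)
include h

theorem hQ11 (χ : IrrCharacter G) : Q11 (charDegree χ.1) = true := by
  obtain ⟨x, hx⟩ := exists_prime_orderOf_dvd_card' (G := G) 11 (by rw [h]; norm_num)
  obtain ⟨k, r, h1, h2⟩ := deg_mod_sc (m23_11 h hx).1 χ
  rw [(m23_11 h hx).2] at h2
  simp only [Q11, List.mem_cons, List.not_mem_nil, or_false, decide_eq_true_eq]
  omega

theorem hQ23' (χ : IrrCharacter G) : Q23' (charDegree χ.1) = true := by
  simp only [Q23', hQ23 h, hQ11 h, Bool.true_and, Bool.and_true, Bool.and_eq_true, bne_iff_ne]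
  by_contra e
  obtain ⟨x, hx⟩ := exists_prime_orderOf_dvd_card' (G := G) 23 (by rw [h]; norm_num)
  obtain ⟨h1, h2⟩ := m23_23 h hx
  obtain ⟨l, s, ε, μ, ν, T, -⟩ := exists_T2 (nc23 h) h hD23 (Q := fun _ => true) (fun _ _ => rfl) h1
    (by rw [h2])
  have a1 : charDegree χ.1 = charDegree μ.1 := by_contra fun e' => by
    have := cong1 23 χ (k := 1) hx (T.value (by decide) e' hx)
    unfold sv at this
    split_ifs at this <;> omega
  obtain ⟨L, a2, -⟩ := exists_tree2 (nc23 h) h hD23 (R := (· == 1))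
    (Q := fun d => Q11 d && (d % 23 == 0 || d ≤ 156)) (fun ψ hψ => by
      have b1 := T.mem_degs hψ
      have b2 := T.size
      have b3 := T.deg.1
      obtain ⟨-, -, b4⟩ := le_pos_sum (l.map fun χ => s χ * charDegree χ.1)
      simp only [degs, Bool.or_eq_true, beq_iff_eq, decide_eq_true_eq, List.mem_cons,
        List.mem_map (f := Int.natAbs), hQ11 h, Bool.true_and] at b1 ⊢
      have b5 : charDegree μ.1 = 11 ∨ charDegree μ.1 = 12 := a1 ▸ by_contra fun e' => e (not_or.1 e')
      refine b1.imp_right ?_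
      rintro (b | ⟨a, b, b'⟩)
      · rw [b, b3, natAbs_sign T.eps]
        omega
      · have := b4 a b
        generalize (l.map fun χ => s χ * charDegree χ.1) = L at *
        rcases T.eps with rfl | rfl <;> rcases b5 with e | e <;> rw [e] at b2 b3 <;> omega)
    h1.syl1 (by simp [card_Vc_sc h1])
  rw [c23c] at a2
  simp at a2

structure H23 (χ μ ν : IrrCharacter G) : Prop where
  d22 : charDegree χ.1 = 22
  uniq : ∀ ψ : IrrCharacter G, charDegree ψ.1 = 22 → ψ = χ
  dμ : charDegree μ.1 = 896 ∧ charDegree ν.1 = 896 ∧ μ ≠ ν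
  small : ∀ ψ : IrrCharacter G, charDegree ψ.1 ≤ 253 → ψ = irrOne G ∨
    charDegree ψ.1 ∈ [22, 45, 230, 231, 253]
  val : ∀ ψ : IrrCharacter G, charDegree ψ.1 ≤ 253 → ∀ g, (orderOf g = 23 →
    ψ.1 g = sv 23 (charDegree ψ.1)) ∧ (orderOf g = 11 → ψ.1 g = sv 11 (charDegree ψ.1))
  five : ∀ g : G, orderOf g = 5 → Nat.card (centralizer ({g} : Set G)) = 15
  int : ∃ w : IrrCharacter G → ℤ, ∀ ψ g, orderOf g = 5 → ψ.1 g = w ψ

theorem m23_H : ∃ χ μ ν : IrrCharacter G, H23 χ μ ν := by
  classical
  obtain ⟨x, hx⟩ := exists_prime_orderOf_dvd_card' (G := G) 23 (by rw [h]; norm_num)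
  obtain ⟨y, hy⟩ := exists_prime_orderOf_dvd_card' (G := G) 11 (by rw [h]; norm_num)
  obtain ⟨h1, h2⟩ := m23_23 h hx
  obtain ⟨h3, h4⟩ := m23_11 h hy
  obtain ⟨l, s, ε, μ, ν, T, h5⟩ := exists_T2 (nc23 h) h hD23 (fun χ _ => hQ23' h χ) h3 (by rw [h4])
  have h6 : ∀ z : G, (hz : orderOf z = 5) → (l.map fun χ => s χ * charDegree χ.1) ∈
      [[45, 45, -483, 1288], [45, 45, -230, 1035]] ∧ Nat.card (Vc 5 z) = 3 ∧
      Nat.card (autSub hz) = 4 ∧ ∃ χ : IrrCharacter G, charDegree χ.1 = 2024 := fun z hz => by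
    have hs := syl1_of_ord hz (by rw [h]; norm_num)
    obtain ⟨L, a1, a2, -⟩ := exists_tree2 (nc23 h) h hD23 (R := fun v => v % 11 != 0 && v % 23 != 0)
      (Q := fun d => Q23' d && (d % 11 == 0 || d ∈ degs (l.map fun χ => s χ * charDegree χ.1)))
      (fun χ hχ => by rw [hQ23' h, T.mem_degs hχ]; rfl) hs (by
        simp only [Bool.and_eq_true, bne_iff_ne]
        exact ⟨fun e => isP_cent_of_sc (by norm_num) (fun x hx => (m23_11 h hx).1) hs.ne_one
          (by simp [hz]) (hs.card_cent ▸ (Nat.dvd_of_mod_eq_zero e).mul_left 5),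
          not23 h hs (by decide)⟩)
    obtain ⟨a3, a4, a5, a6⟩ := c23d _ h5 _ a1
    exact ⟨a3, a4, a5, (a2 _ a6).imp fun _ h => h.2⟩
  obtain ⟨z, hz⟩ := exists_prime_orderOf_dvd_card' (G := G) 5 (by rw [h]; norm_num)
  obtain ⟨h7, h8, h9, κ, h10⟩ := h6 z hz
  have hs := syl1_of_ord hz (by rw [h]; norm_num)
  obtain ⟨w, -, -, -, -, hw, -⟩ := col hs (by rw [h9])
  have d1 := T.deg.1
  have c1 := T.cnt_eq (d := 45) (by decide) (by decide)
  have hQ : ∀ χ : IrrCharacter G, χ ≠ irrOne G → Q23'' (charDegree χ.1) = true := fun χ hχ => by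
    have := T.mem_degs hχ
    simp only [List.mem_cons, List.not_mem_nil, or_false] at h7
    rw [Q23'', hQ23' h]
    rcases h7 with e | e <;> rw [e] at this <;> simp [degs] at this ⊢ <;> omega
  obtain ⟨d2, c2⟩ : charDegree μ.1 = 896 ∧ cnt G 45 = 2 := by
    simp only [List.mem_cons, List.not_mem_nil, or_false] at h7
    rcases h7 with e | e <;> rw [e] at d1 c1 <;> exact ⟨(sign_deg T.eps d1.symm).1, c1⟩
  obtain ⟨l', s', ε', μ', ν', T', h11⟩ := exists_T2 (nc23 h) h hD23 hQ h1 (by rw [h2])
  obtain ⟨h12, h13⟩ := c23e _ h11 (T'.colB (k := 1) hz (by omega) (hw · z hz)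
    (by rw [hs.card_cent, h8]; decide) fun a ha => by
      have : -4 < a ∧ a < 4 := ⟨by nlinarith, by nlinarith⟩
      simp
      omega) (c2 ▸ (T'.cnt_eq (by decide) (by decide)).symm) (by
    have nd : (irrOne G :: κ :: l').Nodup := by
      have := T'.nodup
      simp only [List.nodup_cons, List.mem_cons, not_or] at this ⊢
      refine ⟨⟨fun e => ?_, this.1.2.2⟩, fun e => ?_, this.2.2.2⟩
      · rw [← e, deg_irrOne] at h10
        omega
      · have a1 := cong1 23 κ (k := 1) hx (T'.val κ e x hx)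
        have := T'.sgn κ e
        omega
    have := sum_deg_sq_le (irrOne G :: κ :: l').toFinset
    rw [List.sum_toFinset _ nd, List.map_cons, List.map_cons, deg_irrOne, h10, h] at this
    rw [sqs, List.map_map, List.map_congr_left (g := fun χ => charDegree χ.1 ^ 2) fun χ hχ => by
      simp only [Function.comp, natAbs_sign (T'.sgn χ hχ)]]
    simp only [List.sum_cons] at this
    omega)
  have d3 := (sign_deg T'.eps (T'.deg.1.symm.trans h13)).1
  obtain ⟨χ, e1, e2, e3⟩ := T'.uniq (by decide) (by decide) h12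
  refine ⟨χ, μ, ν, e2, e3 ((List.mem_cons.1 e1).resolve_left fun e => by rw [e] at e2; omega),
    ⟨d2, T.deg.2.trans d2, fun e => by simpa [e] using T.nodup⟩, fun ψ hψ => or_iff_not_imp_left.2
      fun e => c23f _ (hD23 _ (h ▸ deg_dvd ψ)) (h ▸ degOK_deg (nc23 h) e) (hQ ψ e) hψ,
    fun ψ hψ g => ⟨T'.value (by decide) (by omega), T.value (by decide) (by omega)⟩,
    fun g hg => by rw [(syl1_of_ord hg (by rw [h]; norm_num)).card_cent, (h6 g hg).2.1], w, hw⟩

end Cfsg.Agent.H3
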