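import Cfsg.Agent.H3.M22m
import Cfsg.Agent.H3.M22o
import Cfsg.Agent.H3.M23b

/-! The simple group of order `443520`: the principal blocks. -/

set_option autoImplicit false
set_option linter.unusedVariables false
set_option linter.unusedSectionVars false

namespace Cfsg.Agent.H3

open Finset Subgroup Equiv Cfsg.Agent.PLoc Cfsg.Agent.Char Cfsg.Agent.Blk Cfsg.Agent.Inv Cfsg.Agent.H9
  Cfsg.Agent.Gol
open scoped ComplexConjugate

universe u

variable {G : Type u} [Group G] [Finite G] [IsSimpleGroup G] (h : Nat.card G = 443520)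
include h

theorem nc22 : ¬ IsMulCommutative G := not_comm_of_card h (by norm_num)

theorem m22_11 {x : G} (hx : orderOf x = 11) : SC 11 x ∧ Nat.card (autSub hx) = 5 := by
  have hs := syl1_of_ord hx (by rw [h]; norm_num)
  have h1 : Nat.card (Vc 11 x) = 1 := by_contra fun e => by
    obtain ⟨m, s, L, T, h1, h2⟩ := exists_TB (nc22 h) h hD22 (Q := fun _ => true) (R := (· != 1))
      (fun _ _ => rfl) hs (bne_iff_ne.2 e)
    obtain ⟨h3, h4⟩ := c22a _ h2
    obtain ⟨χ, c1, c2⟩ := List.mem_map.1 (h1 ▸ List.mem_cons_of_mem _ h4 : _ ∈ m.map _)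
    replace c2 := (sign_deg (T.sgn χ c1) c2).1
    obtain ⟨w, w1, w2⟩ := exists_mem_orderOf_eq_prime (H := Vc 11 x) fact7.out (Dvd.intro 4 h3.symm)
    have hw := syl1_of_ord w2 (by rw [h]; norm_num)
    have h5 : 11 ∣ 7 * Nat.card (Vc 7 w) := hw.card_cent ▸ hx ▸ orderOf_dvd_card_of_mem
      (mem_centralizer_singleton_iff.2 (mem_centralizer_singleton_iff.1 (hs.mem_Vc.1 w1).1).symm)
    by_cases e : Nat.card (Vc 7 w) % 7 = 4
    · obtain ⟨r, hr⟩ := hw.exists_r
      have h6 := hw.card_eq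
      have h7 := Nat.le_of_dvd (by norm_num) (card_autSub_dvd w2)
      have h8 : Nat.card (autSub w2) + 1 = 7 := by
        have h9 := congrArg (· % 49) h6
        rw [h, hr, ← Nat.div_add_mod (Nat.card (Vc 7 w)) 7, e] at h9
        generalize Nat.card (autSub w2) = a at *
        generalize Nat.card (Vc 7 w) / 7 = b at *
        rw [show 7 * (7 * b + 4) * a * (1 + r * 7) = 28 * a + 49 * (b * a * (1 + r * 7) + 4 * a * r) by
          ring] at h9
        omega
      obtain ⟨s, l, -, -, -, h9, -⟩ := col hw h8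
      have a1 := T.cg χ c1 w w1 _ (h9 χ w w2)
      have a2 := cong1 7 χ (k := 1) w2 (h9 χ w w2)
      have a3 := abs_lt.1 (abs_lt_deg (nc22 h) (T.ne c1) hw.ne_one (h9 χ w w2))
      rw [c2] at a1 a2 a3
      omega
    obtain ⟨m, s, L, T, h1, h2⟩ := exists_TB (nc22 h) h hD22 (Q := fun _ => true)
      (R := fun v => v % 11 == 0 && v % 7 != 4) (fun _ _ => rfl) hw (by simp; omega)
    have := c22b _ h2
    rw [← h1, T.uq (nc22 h) fact11.out (by omega)] at this
    simp at this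
  obtain ⟨r, hr⟩ := hs.exists_r
  have h2 := hs.card_eq
  have h3 := card_autSub_dvd hx
  have h4 := Nat.le_of_dvd (by norm_num) h3
  refine ⟨hs.sc (card_eq_one.1 h1), ?_⟩
  rw [h, h1] at h2
  generalize Nat.card (autSub hx) = e at *
  interval_cases e <;> omega

theorem cent22 {t : G} (ht : orderOf t = 2) {k : ℕ} (hk : k ∣ Nat.card (centralizer ({t} : Set G)))
    {C : List ℕ} (hC : ∀ c ∈ D22, ¬ 11 ∣ c → 4 ∣ c → k ∣ c → c ∈ C) :
    Nat.card (centralizer ({t} : Set G)) ∈ C := hC _ (hD22 _ (h ▸ card_subgroup_dvd_card _))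
  (isP_cent_of_sc fact11.out (fun x hx => (m22_11 h hx).1) (ne_one_of_ord2 ht) (by rw [ht]; decide))
  (by simpa using four_dvd (V := ⊤) trivial ht (by rw [card_top, h]; decide)) hk

theorem m22_TC {y z : G} (hy : orderOf y = 7) (hz : orderOf z = 5) : ∃ m0 s0 m s m' s',
    TC (G := G) 11 (1, 5, [-280, 210, 45, 45, -21]) m0 s0 ∧ TC (G := G) 7 (1, 3, [-45, 99, -55]) m s ∧
    TC (G := G) 5 (1, 4, [21, 231, -154, -99]) m' s' ∧ (SC 7 y ∧ Nat.card (autSub hy) = 3) ∧
    SC 5 z ∧ Nat.card (autSub hz) = 4 := by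
  obtain ⟨x, hx⟩ := exists_prime_orderOf_dvd_card' (G := G) 11 (by rw [h]; norm_num)
  obtain ⟨h1, h2⟩ := m22_11 h hx
  obtain ⟨m0, s0, L0, T0, h3⟩ := exists_TC (nc22 h) h hD22 (Q := fun _ => true) (R := (· == 1))
    (fun _ _ => rfl) h1.syl1 (by simp [card_Vc_sc h1]) (by decide) 11
  rw [card_Vc_sc h1, h2] at T0
  obtain ⟨Q⟩ : Nonempty (Sylow 2 G) := inferInstance
  obtain ⟨u, -, u1, u2⟩ := exists_central_order_p Q.isPGroup' (Q.ne_bot_of_dvd_card (by rw [h]; decide))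
  have u3 : Nat.card (centralizer ({u} : Set G)) ∈ C22c := cent22 h u2 ((Nat.Coprime.pow_left 7
    (Nat.prime_two.coprime_iff_not_dvd.2 (index_cent_coprime Q (mem_centralizer_iff.1 u1)))).dvd_of_dvd_mul_left
      (by rw [index_mul_card, h]; decide)) (by decide +kernel)
  have h4 : srt 11 L0 ∈ S22 := by
    choose w w1 w2 using fun χ => mod4 (nc22 h) χ u2
    simpa [forceL_eq, List.isEmpty_eq_false_iff.2 (List.ne_nil_of_mem (T0.cols (nc22 h) h (by decide) u2
      (fun χ => ⟨w1 χ, w2 χ⟩) (show 5 % 2 ≠ 0 by decide) u3))] using lall_iff.1 c22g _ h3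
  have hQ : ∀ χ : IrrCharacter G, χ ≠ irrOne G →
      (charDegree χ.1 % 11 == 0 || charDegree χ.1 ∈ U22) = true := fun χ hχ => by
    simp only [Bool.or_eq_true, beq_iff_eq, decide_eq_true_eq, or_iff_not_imp_left]
    intro e
    obtain ⟨ψ, a1, a2⟩ := T0.cov rfl χ hχ (mt Nat.mod_eq_zero_of_dvd e)
    rw [charDegree_eq ((a2 1 (by simp)).trans (irr_one_eq ψ)), ← natAbs_sign (T0.sgn ψ a1).1 (charDegree ψ.1)]
    exact (by decide +kernel : ∀ M ∈ S22, ∀ a ∈ M, a.natAbs ∈ U22) _ h4 _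
      (by rw [show srt 11 L0 = _ from T0.deg.symm]; exact List.mem_map_of_mem a1)
  have hR : ∀ {p : ℕ} [Fact p.Prime] {y : G}, Syl1 p y → p ≠ 11 →
      (Nat.card (Vc p y) % 11 != 0) = true := fun {p} hp y hy e => bne_iff_ne.2 fun e' =>
    isP_cent_of_sc fact11.out (fun x hx => (m22_11 h hx).1) hy.ne_one (by
      rw [hy.ord, Nat.prime_dvd_prime_iff_eq fact11.out hp.out]; omega)
      (hy.card_cent ▸ (Nat.dvd_of_mod_eq_zero e').mul_left p)
  have sy := syl1_of_ord hy (by rw [h]; norm_num)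
  have sz := syl1_of_ord hz (by rw [h]; norm_num)
  obtain ⟨m, s, L, T, h5⟩ := exists_TC (nc22 h) h hD22 (Q := fun d => d % 11 == 0 || d ∈ U22)
    (R := (· % 11 != 0)) hQ sy (hR sy (by decide))
    (by decide) 11
  obtain ⟨m', s', L', T', h6⟩ := exists_TC (nc22 h) h hD22 (Q := fun d => d % 11 == 0 || d ∈ U22)
    (R := (· % 11 != 0)) hQ sz (hR sz (by decide))
    (by decide) 11
  have := T.stage (nc22 h) h T' T0 rfl (show 5 % 2 ≠ 0 by decide) (by decide) (by decide) (by decide)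
    (fun t ht e => cent22 h ht e (by decide +kernel)) (fun t ht e => cent22 h ht e (by decide +kernel))
    ⟨u, u2, u3⟩ (of_decide_eq_true (lall_iff.1 c22c _ h5)) (of_decide_eq_true (lall_iff.1 c22d _ h6))
    (c22j _ h4)
  simp only [good22, Bool.and_eq_true, beq_iff_eq] at this
  obtain ⟨⟨e1, e2⟩, e3⟩ := this
  rw [e1] at T0
  refine ⟨_, _, _, _, _, _, T0, e2 ▸ T, e3 ▸ T', ?_⟩
  simp only [Prod.mk.injEq] at e2 e3
  exact ⟨⟨sy.sc (card_eq_one.1 e2.1), e2.2.1⟩, sz.sc (card_eq_one.1 e3.1), e3.2.1⟩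

end Cfsg.Agent.H3
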