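import Cfsg.Agent.H3.M22a

/-! The simple group of order `443520`: the degrees and the column of the involutions. -/

set_option autoImplicit false
set_option linter.unusedVariables false
set_option linter.unusedSectionVars false

namespace Cfsg.Agent.H3

open Finset Subgroup Equiv Cfsg.Agent.PLoc Cfsg.Agent.Char Cfsg.Agent.Blk Cfsg.Agent.Inv Cfsg.Agent.H9
  Cfsg.Agent.Gol
open scoped ComplexConjugate

universe u

variable {G : Type u} [Group G] [Finite G] [IsSimpleGroup G]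

theorem sum_cnt {A : Type} [AddCommMonoid A] {D : List ℕ} (h0 : D.Nodup)
    (hD : ∀ χ : IrrCharacter G, charDegree χ.1 ∈ D) (f : ℕ → A) :
    ∑ χ : IrrCharacter G, f (charDegree χ.1) = (D.map fun d => cnt G d • f d).sum := by
  rw [← sum_fiberwise_of_maps_to' (t := D.toFinset) (fun χ _ => List.mem_toFinset.2 (hD χ)),
    List.sum_toFinset _ h0]
  simp only [sum_const, cnt]

theorem eq_of_cnt {d : ℕ} (h : cnt G d = 1) {χ ψ : IrrCharacter G} (h1 : charDegree χ.1 = d)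
    (h2 : charDegree ψ.1 = d) : χ = ψ :=
  card_le_one.1 h.le χ (mem_filter.2 ⟨mem_univ _, h1⟩) ψ (mem_filter.2 ⟨mem_univ _, h2⟩)

namespace TC
variable {p : ℕ} [hp : Fact p.Prime] {U : ℕ × ℕ × List ℤ} {m : List (IrrCharacter G)}
  {s : IrrCharacter G → ℤ} (T : TC p U m s) (h0 : U.1 = 1)
include T h0

theorem cov' {χ : IrrCharacter G} (h1 : χ ≠ irrOne G) (h2 : ¬ p ∣ charDegree χ.1) : ∃ ψ ∈ m,
    charDegree ψ.1 = charDegree χ.1 ∧ ∀ g, ¬ p ∣ orderOf g → χ.1 g = ψ.1 g := by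
  obtain ⟨ψ, a1, a2⟩ := T.cov h0 χ h1 h2
  exact ⟨ψ, a1, (charDegree_eq ((a2 1 (by simpa using hp.out.ne_one)).trans (irr_one_eq ψ))).symm, a2⟩

theorem degs : U.2.2.map Int.natAbs = m.map (charDegree ·.1) := by
  rw [← T.deg, List.map_map]
  exact List.map_congr_left fun χ hχ => natAbs_sign (T.sgn χ hχ).1 _

theorem mem_deg {χ : IrrCharacter G} (h1 : χ ≠ irrOne G) :
    (charDegree χ.1 % p == 0 || charDegree χ.1 ∈ U.2.2.map Int.natAbs) = true := by
  simp only [Bool.or_eq_true, beq_iff_eq, decide_eq_true_eq, or_iff_not_imp_left, T.degs h0]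
  intro e
  obtain ⟨ψ, a1, a2, -⟩ := T.cov' h0 h1 (mt Nat.mod_eq_zero_of_dvd e)
  exact a2 ▸ List.mem_map_of_mem a1

theorem eq_of_deg {d : ℕ} (h1 : d ≠ 1) (h2 : ¬ p ∣ d) 
    (h3 : (U.2.2.map fun a => (a.natAbs : ℤ)).count (d : ℤ) = 1)
    {χ ψ : IrrCharacter G} (h4 : charDegree χ.1 = d) (h5 : charDegree ψ.1 = d) {g : G}
    (hg : ¬ p ∣ orderOf g) : χ.1 g = ψ.1 g := by
  have k : ∀ χ : IrrCharacter G, charDegree χ.1 = d → χ ≠ irrOne G := fun χ e e' =>
    h1 (by rw [← e, e', deg_irrOne])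
  obtain ⟨χ', a1, a2, a3⟩ := T.cov' h0 (k χ h4) (h4 ▸ h2)
  obtain ⟨ψ', b1, b2, b3⟩ := T.cov' h0 (k ψ h5) (h5 ▸ h2)
  rw [← Function.comp_def, ← List.map_map, T.degs h0, List.map_map] at h3
  rw [a3 g hg, b3 g hg, eq_of_count h3.le a1 b1 (congrArg _ (a2.trans h4)) (congrArg _ (b2.trans h5))]

omit h0 in
theorem rel {g : G} (hg : ¬ p ∣ orderOf g) {W : ℕ → ℤ} (hW : ∀ χ : IrrCharacter G,
    χ.1 g = W (charDegree χ.1)) : 1 + (U.2.2.map fun a => a.sign * W a.natAbs).sum = 0 := by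
  apply Int.cast_injective (α := ℂ)
  push_cast [← T.deg, List.map_map]
  rw [← T.reg g hg]
  refine congrArg _ (congrArg _ (List.map_congr_left fun χ hχ => ?_))
  rcases (T.sgn χ hχ).1 with e | e <;> simp [e, hW, Int.sign_natCast_of_ne_zero (deg_pos χ).ne']

end TC

def Q22 (p : ℕ) (L : List ℕ) (d : ℕ) : Bool := d % p == 0 || d ∈ L

structure H22 (G : Type u) [Group G] [Finite G] : Prop where
  deg : ∀ χ : IrrCharacter G, charDegree χ.1 ∈ [1, 21, 45, 55, 99, 154, 210, 231, 280, 385]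
  c21 : cnt G 21 = 1
  sum : ∀ f : ℕ → ℂ, ∑ χ : IrrCharacter G, f (charDegree χ.1) =
    f 1 + f 21 + 2 * f 45 + f 55 + f 99 + f 154 + f 210 + f 231 + 2 * f 280 + f 385
  val : ∀ χ : IrrCharacter G, charDegree χ.1 ≠ 280 → ∀ g, orderOf g = 11 →
    χ.1 g = sv 11 (charDegree χ.1)
  reg : ∀ g : G, orderOf g = 4 → ∃ W : ℕ → ℤ, (∀ χ : IrrCharacter G, χ.1 g = W (charDegree χ.1)) ∧
    1 - W 280 + W 210 + 2 * W 45 - W 21 = 0 ∧ 1 - W 45 + W 99 - W 55 = 0 ∧
    1 + W 21 + W 231 - W 154 - W 99 = 0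
  inv : ∀ t : G, orderOf t = 2 → Nat.card (centralizer ({t} : Set G)) = 384 ∧
    ∀ χ : IrrCharacter G, χ.1 t = tv22 (charDegree χ.1)

theorem m22_H (h : Nat.card G = 443520) : H22 G := by
  classical
  obtain ⟨x, hx⟩ := exists_prime_orderOf_dvd_card' (G := G) 11 (by rw [h]; norm_num)
  obtain ⟨y, hy⟩ := exists_prime_orderOf_dvd_card' (G := G) 7 (by rw [h]; norm_num)
  obtain ⟨z, hz⟩ := exists_prime_orderOf_dvd_card' (G := G) 5 (by rw [h]; norm_num)
  obtain ⟨m0, s0, m, s, m', s', T0, T, T', ⟨y1, y2⟩, z1, z2⟩ := m22_TC h hy hz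
  obtain ⟨x1, x2⟩ := m22_11 h hx
  have hD : ∀ χ : IrrCharacter G, charDegree χ.1 ∈ [1, 21, 45, 55, 99, 154, 210, 231, 280, 385] :=
    fun χ => by
      by_cases e : χ = irrOne G
      · rw [e, deg_irrOne]
        decide
      have := sum_deg_sq_le {χ}
      rw [sum_singleton, h] at this
      exact (by decide +kernel : ∀ d ∈ D22, d ^ 2 ≤ 443520 → Q22 11 [280, 210, 45, 45, 21] d = true →
        Q22 7 [45, 99, 55] d = true → Q22 5 [21, 231, 154, 99] d = true → d ∈ _) _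
        (hD22 _ (h ▸ deg_dvd χ)) this (T0.mem_deg rfl e) (T.mem_deg rfl e) (T'.mem_deg rfl e)
  obtain ⟨l, σ, ε, μ, ν, S, a1⟩ := exists_T2 (nc22 h) h hD22 (Q := Q22 11 [280, 210, 45, 45, 21])
    (fun χ => T0.mem_deg rfl) x1 (by rw [x2])
  obtain ⟨l', σ', ε', μ', ν', S', a2⟩ := exists_T2 (nc22 h) h hD22 (Q := Q22 7 [45, 99, 55])
    (fun χ => T.mem_deg rfl) y1 (by rw [y2])
  replace a1 := (by decide +kernel : ∀ T ∈ trees2 443520 11 D22 _ _, T.2.2.2 = [-21, 45, 45, 210]) _ a1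
  replace a2 := (by decide +kernel : ∀ T ∈ trees2 443520 7 D22 _ _, T.2.2.2 = [-55, 99]) _ a2
  dsimp only at a1 a2
  have c1 : cnt G 1 = 1 := card_eq_one.2 ⟨irrOne G, Finset.ext fun χ => by
    simpa using ⟨eq_irrOne_of_deg (nc22 h), fun e => e ▸ deg_irrOne⟩⟩
  have c21 : cnt G 21 = 1 := (S.cnt_eq (by decide) (by decide)).trans (by rw [a1]; decide)
  have c45 : cnt G 45 = 2 := (S.cnt_eq (by decide) (by decide)).trans (by rw [a1]; decide)
  have c210 : cnt G 210 = 1 := (S.cnt_eq (by decide) (by decide)).trans (by rw [a1]; decide)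
  have c280 : cnt G 280 = 2 := (S.cnt_eq (by decide) (by decide)).trans (by rw [a1]; decide)
  have c55 : cnt G 55 = 1 := (S'.cnt_eq (by decide) (by decide)).trans (by rw [a2]; decide)
  have c99 : cnt G 99 = 1 := (S'.cnt_eq (by decide) (by decide)).trans (by rw [a2]; decide)
  obtain ⟨c154, c231, c385⟩ : cnt G 154 = 1 ∧ cnt G 231 = 1 ∧ cnt G 385 = 1 := by
    obtain ⟨w, -, -, -, -, hw, -⟩ := col z1.syl1 (by rw [z2])
    have b1 := sq_le (nodup_toList univ) fun χ _ => hw χ z hz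
    rw [z1.syl1.card_cent, card_Vc_sc z1, sum_map_toList] at b1
    have b2 := (sum_le_sum fun χ _ => show (if 5 ∣ charDegree χ.1 then 0 else 1 : ℤ) ≤ w χ ^ 2 by
      have := cong1 5 χ (k := 1) hz (hw χ z hz)
      split_ifs
      exacts [sq_nonneg _, (one_le_sq_iff_one_le_abs _).2 (Int.one_le_abs (by omega))]).trans b1
    have b3 := sum_irr_one_sq (G := G)
    simp only [irr_one_eq] at b3
    rw [sum_cnt (by decide) hD fun d => if 5 ∣ d then 0 else 1] at b2
    rw [sum_cnt (by decide) hD fun d => (d : ℂ) ^ 2, h] at b3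
    norm_num [c1, c21, c45, c210, c280, c55, c99] at b2 b3
    norm_cast at b3
    generalize cnt G 154 = a at *
    have : a ≤ 2 := by omega
    interval_cases a <;> omega
  have hs : ∀ f : ℕ → ℂ, ∑ χ : IrrCharacter G, f (charDegree χ.1) =
      f 1 + f 21 + 2 * f 45 + f 55 + f 99 + f 154 + f 210 + f 231 + 2 * f 280 + f 385 := fun f => by
    simp [sum_cnt (by decide) hD f, c1, c21, c45, c210, c280, c55, c99, c154, c231, c385, add_assoc]
  have hW : ∀ g : G, orderOf g ∣ 4 → ∃ W : ℕ → ℤ, ∀ χ : IrrCharacter G,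
      χ.1 g = W (charDegree χ.1) := fun g hg => by
    have b1 : ∀ χ ψ : IrrCharacter G, charDegree ψ.1 = charDegree χ.1 → ψ.1 g = χ.1 g := fun χ ψ e => by
      have := hD χ
      simp only [List.mem_cons, List.not_mem_nil, or_false] at this
      rcases this with e' | e' | e' | e' | e' | e' | e' | e' | e' | e'
      all_goals first
        | rw [eq_of_cnt (by assumption) (e.trans e') e']
        | exact T.eq_of_deg rfl (by decide) (by decide) (by decide) (e.trans e') e'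
            fun h => absurd (h.trans hg) (by decide)
        | exact T0.eq_of_deg rfl (by decide) (by decide) (by decide) (e.trans e') e'
            fun h => absurd (h.trans hg) (by decide)
    choose a ha using fun χ : IrrCharacter G => exists_int_of_fixed (χ.2.isCharacter.isIntegral g)
      fun σ => b1 χ ⟨_, χ.2.map_ringHom σ⟩ (charDegree_eq (by simp [irr_one_eq]))
    refine ⟨fun d => if e : ∃ χ : IrrCharacter G, charDegree χ.1 = d then a e.choose else 0, fun χ => ?_⟩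
    have e : ∃ ψ : IrrCharacter G, charDegree ψ.1 = charDegree χ.1 := ⟨χ, rfl⟩
    simp only [dif_pos e, ← ha, b1 χ _ e.choose_spec]
  refine ⟨hD, c21, hs, fun χ e g => S.value (by decide) (by
    rwa [(sign_deg S.eps (S.deg.1.symm.trans (by rw [a1]))).1]), fun g hg => ?_, fun t ht => ?_⟩
  · obtain ⟨W, hW⟩ := hW g hg.dvd
    have b1 := T0.rel (by rw [hg]; decide) hW
    have b2 := T.rel (by rw [hg]; decide) hW
    have b3 := T'.rel (by rw [hg]; decide) hW
    norm_num [Int.sign_eq_one_of_pos] at b1 b2 b3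
    exact ⟨W, hW, by omega, by omega, by omega⟩
  choose w w1 w2 using fun χ => mod4 (nc22 h) χ ht
  have b1 := T0.cols (nc22 h) h (by decide) ht (fun χ => ⟨w1 χ, w2 χ⟩) (show 5 % 2 ≠ 0 by decide)
    (cent22 h ht (one_dvd _) (C := C22d) (by decide +kernel))
  have b2 := mt (fun e => lany_iff.2 ⟨_, b1, T.tri (nc22 h) h (by decide) ht (fun χ => ⟨w1 χ, w2 χ⟩)
    T0 T' rfl (by decide) (by decide) rfl e⟩) (Bool.eq_false_iff.1 c22e)
  simp only [Bool.not_eq_true', Bool.not_eq_false, Bool.and_eq_true, beq_iff_eq, List.all_eq_true,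
    List.mem_append, List.mem_reverse, or_imp, forall_and, ent, List.forall_mem_map] at b2
  obtain ⟨b2, ⟨b3, b4⟩, b5⟩ := b2
  have b6 : ∀ χ : IrrCharacter G, charDegree χ.1 ≠ 385 → χ.1 t = tv22 (charDegree χ.1) := fun χ e => by
    by_cases e1 : χ = irrOne G
    · rw [e1, deg_irrOne]
      exact Int.cast_one.symm
    by_cases e2 : 11 ∣ charDegree χ.1
    · by_cases e3 : 7 ∣ charDegree χ.1
      · have := hD χ
        obtain ⟨ψ, f1, f2, f3⟩ := T'.cov' rfl e1 (by simp at this; omega)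
        rw [f3 t (by rw [ht]; decide), w1, b5 ψ f1, natAbs_sign (T'.sgn ψ f1).1, f2]
      · obtain ⟨ψ, f1, f2, f3⟩ := T.cov' rfl e1 e3
        rw [f3 t (by rw [ht]; decide), w1, b4 ψ f1, natAbs_sign (T.sgn ψ f1).1, f2]
    · obtain ⟨ψ, f1, f2, f3⟩ := T0.cov' rfl e1 e2
      rw [f3 t (by rw [ht]; decide), w1, b3 ψ f1, natAbs_sign (T0.sgn ψ f1).1, f2]
  refine ⟨b2, fun χ => by_contra fun e => ?_⟩
  have b7 := by_contra fun e' => e (b6 χ e')
  have b8 := sum_irr_one_mul t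
  rw [if_neg (ne_one_of_ord2 ht), sum_congr rfl (g := fun ψ => (fun d : ℕ => (d : ℂ) *
    if d = 385 then χ.1 t else tv22 d) (charDegree ψ.1)) fun ψ _ => by
      rw [irr_one_eq]
      dsimp only
      split_ifs with e'
      exacts [by rw [eq_of_cnt c385 e' b7], by rw [b6 ψ e']], hs fun d => (d : ℂ) * if d = 385 then χ.1 t else tv22 d] at b8
  rw [b7] at e
  simp [tv22, List.lookup] at b8 e
  exact e (by linear_combination b8 / 385)

end Cfsg.Agent.H3
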