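import Cfsg.Agent.H3.M22b
import Cfsg.Agent.H3.Alg

/-! The simple group of order `443520`: a subgroup of index `22`. -/

set_option autoImplicit false
set_option linter.unusedVariables false
set_option linter.unusedSectionVars false

namespace Cfsg.Agent.H3

open Finset Subgroup Equiv Cfsg.Agent.PLoc Cfsg.Agent.Char Cfsg.Agent.Blk Cfsg.Agent.Inv Cfsg.Agent.H9
  Cfsg.Agent.Gol
open scoped ComplexConjugate

universe u

def R20 : List ℤ := (List.range 39).map fun i : ℕ => (i : ℤ) - 19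

theorem mem_R20 {a : ℤ} (h : a ^ 2 ≤ 384) : a ∈ R20 := by
  have : -20 < a ∧ a < 20 := ⟨by nlinarith, by nlinarith⟩
  exact List.mem_map.2 ⟨(a + 19).toNat, by simp; omega, by omega⟩

theorem alt22 : ∀ a ∈ R20, a % 2 = 1 → ∀ m ∈ R20, ∀ c ∈ [(a ^ 2 - 5) / 2 - a - 2 * m],
    1 + a ^ 2 + 2 * m ^ 2 + (1 + c - m) ^ 2 + c ^ 2 ≤ 384 → ∀ d ∈ R20,
    ∀ N ∈ [1 + a ^ 2 + 2 * m ^ 2 + (1 + c - m) ^ 2 + c ^ 2 + d ^ 2 + (a - 3 * m + c + d - 1) ^ 2 +
      (c + d - 1 - a) ^ 2 + 2 * (c + d - m) ^ 2 + (1 + 3 * m - 3 * c - 3 * d) ^ 2],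
      N ∣ 384 → ¬ 99 ∣ 443520 / N * c := by decide +kernel

variable {G : Type u} [Group G] [Fintype G] [IsSimpleGroup G] (h : Nat.card G = 443520) (H : H22 G)
include h H

theorem H22.four : ∃ g : G, orderOf g = 4 := by
  classical
  obtain ⟨Q⟩ : Nonempty (Sylow 2 G) := inferInstance
  have c1 : Nat.card Q = 128 := by rw [Q.card_eq_multiplicity, h]; decide +kernel
  obtain ⟨χ, c2⟩ := card_pos.1 (H.c21.symm ▸ one_pos : 0 < cnt G 21)
  replace c2 := (mem_filter.1 c2).2
  by_contra e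
  obtain ⟨k, hk⟩ := sum_nat χ.2.isCharacter Q (T := univ.filter (· ∈ (Q : Subgroup G))) (by simp)
  rw [← add_sum_erase _ _ (show (1 : G) ∈ _ by simp), sum_congr rfl (g := fun _ => 5) fun g hg => ?_,
    sum_const, card_erase_of_mem (by simp), ← Fintype.card_subtype, ← Nat.card_eq_fintype_card, c1,
    irr_one_eq, c2] at hk
  · norm_num at hk
    norm_cast at hk
    omega
  obtain ⟨g1, g2⟩ := mem_erase.1 hg
  obtain ⟨i, -, hi⟩ := (Nat.dvd_prime_pow Nat.prime_two).1 (show orderOf g ∣ 2 ^ 7 from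
    (orderOf_dvd_card_of_mem (mem_filter.1 g2).2).trans c1.dvd)
  rcases i with _ | _ | i
  · exact absurd (orderOf_eq_one_iff.1 hi) g1
  · rw [(H.inv g hi).2, c2]
    rfl
  · exact absurd ⟨_, orderOf_pow_orderOf_div (orderOf_pos g).ne' ⟨2 ^ i, by rw [hi]; ring⟩⟩ e

theorem H22.dec {x t : G} (hx : orderOf x = 11) (ht : orderOf t = 2) {σ : G → ℂ}
    (hσ : IsCharacter G σ) {n : ℕ} (hn : σ 1 = n) (n1 : n ≤ 230)
    (h1 : classInner σ (fun _ => 1) = 0) {X Y : ℤ} (hX : σ x = X) (hY : σ t = Y) :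
    ∃ L : List (IrrCharacter G), (∀ g, σ g = (L.map (·.1 g)).sum) ∧ (∀ χ ∈ L, classInner σ χ ≠ 0) ∧
      L.map (charDegree ·.1) ∈ (parts [210, 154, 99, 55, 45, 21] n).filter fun P =>
        (P.map (sv 11)).sum = X ∧ (P.map tv22).sum = Y := by
  obtain ⟨L, l1, l2, l3, l4⟩ := exists_dec hσ hn (C := [210, 154, 99, 55, 45, 21]) fun χ e1 e2 => by
    have := H.deg χ
    have := mt (eq_irrOne_of_deg (nc22 h) (χ := χ)) fun e => e1 (e ▸ h1)
    simp at *
    omega
  refine ⟨L, l1, l2, List.mem_filter.2 ⟨l3, decide_eq_true ⟨?_, ?_⟩⟩⟩ <;>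
    apply Int.cast_injective (α := ℂ)
  · rw [← hX, l1, Int.cast_list_sum, List.map_map, List.map_map]
    exact congrArg _ (List.map_congr_left fun ψ hψ => (H.val ψ (by
      have := List.le_sum_of_mem (List.mem_map_of_mem (f := (charDegree ·.1)) hψ); omega) x hx).symm)
  · rw [← hY, l1, Int.cast_list_sum, List.map_map, List.map_map]
    exact congrArg _ (List.map_congr_left fun ψ hψ => ((H.inv t ht).2 ψ).symm)

theorem H22.index : ∃ M : Subgroup G, M.index = 22 := by
  classical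
  obtain ⟨x, hx⟩ := exists_prime_orderOf_dvd_card' (G := G) 11 (by rw [h]; norm_num)
  obtain ⟨g, hg⟩ := H.four h
  have ht : orderOf (g * g) = 2 := by rw [← sq, orderOf_pow, hg]; rfl
  obtain ⟨χ, d⟩ := card_pos.1 (H.c21.symm ▸ one_pos : 0 < cnt G 21)
  replace d := (mem_filter.1 d).2
  have r : ∀ g, conj (χ.1 g) = χ.1 g := fun g =>
    congrFun (congrArg Subtype.val (eq_of_cnt H.c21 ((deg_bar χ).trans d) d)) g
  have x1 := H.val χ (by omega) x hx
  have x2 := H.val χ (by omega) (x * x) (by rw [← sq, Nat.Coprime.orderOf_pow (by rw [hx]; decide), hx])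
  have y1 := (H.inv _ ht).2 χ
  have y2 := (ord2_iff.1 ht).1
  rw [d] at x1 x2 y1
  replace y1 : χ.1 (g * g) = 5 := y1
  obtain ⟨i, j, -, i1, i2, i3⟩ := χ.2.frobenius_schur
  rw [if_pos fun g => Complex.conj_eq_iff_im.1 (r g)] at i1
  have one := isIrrCharacter_one (G := G)
  have o1 := deg_irrOne (G := G)
  rcases (by omega : i = 0 ∧ j = 1 ∨ i = 1 ∧ j = 0) with ⟨rfl, rfl⟩ | ⟨rfl, rfl⟩
  · obtain ⟨L, -, -, l2⟩ := H.dec h hx ht (χ.2.isCharacter.alt.sub_irr one (by simp [i3])) (n := 209)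
      (by norm_num [irr_one_eq, d]) (by decide)
      (by rw [classInner_sub_left, i3, one.classInner_self]; simp) (X := 0) (Y := 1)
      (by norm_num [x1, x2, sv]) (by norm_num [y1, y2, irr_one_eq, d])
    rw [show List.filter _ _ = [] by decide +kernel] at l2
    simp at l2
  obtain ⟨L, -, l1, l2⟩ := H.dec h hx ht (χ.2.isCharacter.sym.sub_irr one (by simp [i2])) (n := 230)
    (by norm_num [irr_one_eq, d]) (by decide)
    (by rw [classInner_sub_left, i2, one.classInner_self]; simp) (X := -1) (Y := 22)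
    (by norm_num [x1, x2, sv]) (by norm_num [y1, y2, irr_one_eq, d])
  obtain ⟨L', l3, -, l4⟩ := H.dec h hx ht χ.2.isCharacter.alt (n := 210)
    (by norm_num [irr_one_eq, d]) (by decide) (by simpa using i3) (X := 1) (Y := 2)
    (by norm_num [x1, x2, sv]) (by norm_num [y1, y2, irr_one_eq, d])
  obtain ⟨ψ, a1, a2⟩ := List.mem_map.1 ((by decide +kernel : ∀ P ∈ List.filter _ _, 21 ∈ P) _ l2)
  obtain rfl := eq_of_cnt H.c21 a2 d
  rw [show List.filter _ _ = [[99, 45, 45, 21], [210]] by decide +kernel] at l4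
  simp only [List.mem_cons, List.not_mem_nil, or_false, List.map_eq_cons_iff,
    List.map_eq_nil_iff] at l4
  rcases l4 with ⟨α, _, rfl, b1, β, _, rfl, b2, γ, _, rfl, b3, δ, _, rfl, b4, rfl⟩ | ⟨θ, _, rfl, b1, rfl⟩
  · exfalso
    obtain ⟨W, w1, w2, w3, w4⟩ := H.reg g hg
    have c1 := l3 g
    have c2 := sum_irr_one_mul g
    have c3 := sum_irr_mul_conj g (g * g)
    have c4 := sum_irr_mul_conj_self g
    have c5 := dvd_index_mul α (w1 α)
    have c6 : Nat.card (centralizer ({g} : Set G)) ∣ 384 := (H.inv _ ht).1 ▸ card_dvd_of_le fun a ha =>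
      mem_centralizer_singleton_iff.2 (Commute.mul_right (mem_centralizer_singleton_iff.1 ha)
        (mem_centralizer_singleton_iff.1 ha))
    rw [if_neg (by rintro rfl; simp at hg)] at c2
    rw [if_neg fun e => by have := ord_conj e; omega] at c3
    simp only [y1, w1, List.map_cons, List.sum_cons, b1, b2, b3, b4, d, List.map_nil, List.sum_nil] at c1
    simp only [irr_one_eq, w1, (H.inv _ ht).2, map_intCast] at c2 c3 c4
    have c7 : W 1 = 1 := Int.cast_injective (α := ℂ) (by rw [← o1, ← w1]; exact Int.cast_one.symm)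
    rw [H.sum fun d => d * W d] at c2
    rw [H.sum fun d => W d * tv22 d] at c3
    rw [H.sum fun d => W d * W d] at c4
    rw [b1, h] at c5
    simp [tv22, List.lookup, c7, -Nat.card_eq_fintype_card] at c2 c3 c4
    replace c1 : W 21 ^ 2 - 5 = 2 * (W 99 + 2 * W 45 + W 21) := Int.cast_injective (α := ℂ) (by
      push_cast; linear_combination 2 * c1)
    replace c2 : 1 + 21 * W 21 + 90 * W 45 + 55 * W 55 + 99 * W 99 + 154 * W 154 + 210 * W 210 +
      231 * W 231 + 560 * W 280 + 385 * W 385 = 0 := Int.cast_injective (α := ℂ) (by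
        push_cast; linear_combination c2)
    replace c3 : 1 + 5 * W 21 - 6 * W 45 + 7 * W 55 + 3 * W 99 + 10 * W 154 + 2 * W 210 + 7 * W 231 -
      16 * W 280 + W 385 = 0 := Int.cast_injective (α := ℂ) (by push_cast; linear_combination c3)
    norm_cast at c4
    have c8 := Nat.le_of_dvd (by decide) c6
    generalize Nat.card (centralizer {g}) = N at *
    have c9 : W 55 = 1 + W 99 - W 45 ∧ W 210 = W 21 - 3 * W 45 + W 99 + W 154 - 1 ∧
        W 231 = W 99 + W 154 - 1 - W 21 ∧ W 280 = W 99 + W 154 - W 45 ∧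
        W 385 = 1 + 3 * W 45 - 3 * W 99 - 3 * W 154 := by omega
    obtain ⟨e1, e2, e3, e4, e5⟩ := c9
    simp only [← sq] at c4
    rw [e1, e2, e3, e4, e5] at c4
    have p := fun d => sq_nonneg (W d)
    have := And.intro (p 21) (And.intro (p 45) (p 154))
    have := sq_nonneg (W 99)
    generalize W 21 = a, W 45 = m, W 99 = c, W 154 = d at *
    have := And.intro (sq_nonneg (1 + c - m)) (And.intro (sq_nonneg (a - 3 * m + c + d - 1)) (And.intro
      (sq_nonneg (c + d - 1 - a)) (And.intro (sq_nonneg (c + d - m))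
        (sq_nonneg (1 + 3 * m - 3 * c - 3 * d)))))
    refine alt22 a (mem_R20 (by omega)) (Int.odd_iff.1 ((Int.odd_pow' two_ne_zero).1 (Int.odd_iff.2
      (by omega)))) m (mem_R20 (by omega)) c (List.mem_singleton.2 (by omega)) (by omega) d
      (mem_R20 (by omega)) N (List.mem_singleton.2 (by omega)) (by exact_mod_cast c6)
      (by exact_mod_cast c5)
  refine alg_index (ψ := θ) d (by decide) (by simp [i2]) ?_ (fun g => by simpa using l3 g)
    (by rintro rfl; omega)
  have := l1 _ a1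
  rwa [classInner_sub_left, show (fun _ => 1) = (irrOne G).1 from rfl, irr_classInner,
    if_neg (by rintro rfl; omega), sub_zero] at this

end Cfsg.Agent.H3
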