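import Cfsg.Agent.H3.M22n

/-! The simple group of order `443520`: the column of a central involution. -/

set_option autoImplicit false
set_option linter.unusedVariables false
set_option linter.unusedSectionVars false

namespace Cfsg.Agent.H3

open Finset Subgroup Equiv Cfsg.Agent.PLoc Cfsg.Agent.Char Cfsg.Agent.Blk Cfsg.Agent.Inv Cfsg.Agent.H9
  Cfsg.Agent.Gol

theorem c22g : lall (fun T => forceL (srt 11 T.2.2.2) fun M => bif' (cols 443520 M C22c).isEmpty true
    (M ∈ S22)) (trees2 443520 11 D22 (fun _ => true) (· == 1)) = true := by decide +kernel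

end Cfsg.Agent.H3
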