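import Cfsg.Agent.H3.Col2

/-! The simple group of order `443520`: numerical data. -/

set_option autoImplicit false
set_option linter.unusedVariables false
set_option linter.unusedSectionVars false

namespace Cfsg.Agent.H3

open Finset Subgroup Equiv Cfsg.Agent.PLoc Cfsg.Agent.Char Cfsg.Agent.Blk Cfsg.Agent.Inv Cfsg.Agent.H9
  Cfsg.Agent.Gol

def D22 : List ℕ :=
  [1, 2, 3, 4, 5, 6, 7, 8, 9, 10, 11, 12, 14, 15, 16, 18, 20, 21, 22, 24, 28, 30, 32, 33, 35, 36,
  40, 42, 44, 45, 48, 55, 56, 60, 63, 64, 66, 70, 72, 77, 80, 84, 88, 90, 96, 99, 105, 110, 112,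
  120, 126, 128, 132, 140, 144, 154, 160, 165, 168, 176, 180, 192, 198, 210, 220, 224, 231, 240,
  252, 264, 280, 288, 308, 315, 320, 330, 336, 352, 360, 384, 385, 396, 420, 440, 448, 462, 480,
  495, 504, 528, 560, 576, 616, 630, 640, 660, 672, 693, 704, 720, 770, 792, 840, 880, 896, 924,
  960, 990, 1008, 1056, 1120, 1152, 1155, 1232, 1260, 1320, 1344, 1386, 1408, 1440, 1540, 1584,
  1680, 1760, 1848, 1920, 1980, 2016, 2112, 2240, 2310, 2464, 2520, 2640, 2688, 2772, 2880, 3080,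
  3168, 3360, 3465, 3520, 3696, 3960, 4032, 4224, 4480, 4620, 4928, 5040, 5280, 5544, 5760, 6160,
  6336, 6720, 6930, 7040, 7392, 7920, 8064, 9240, 9856, 10080, 10560, 11088, 12320, 12672, 13440,
  13860, 14784, 15840, 18480, 20160, 21120, 22176, 24640, 27720, 29568, 31680, 36960, 40320,
  44352, 49280, 55440, 63360, 73920, 88704, 110880, 147840, 221760, 443520]

def S22 : List (List ℤ) :=
  [[-252, 210, -120, 105, 56], [-280, 210, 144, -120, 45], [320, -126, -120, -120, 45], [210,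
  -120, -120, 45, -16], [210, -192, -120, 56, 45], [144, -126, -120, 56, 45], [-126, 56, 56, 45,
  -32], [-384, 320, 210, -126, -21], [-384, 210, 210, -21, -16], [-280, 210, 210, -120, -21],
  [336, -252, -120, 56, -21], [210, -126, -120, 56, -21], [-280, 210, 45, 45, -21], [-126, 56, 45,
  45, -21], [-60, 56, 56, -32, -21], [336, -252, -32, -32, -21], [210, -126, -32, -32, -21],
  [-384, 320, 105, -21, -21], [-120, 105, 56, -21, -21], [-60, 56, 45, -21, -21], [105, -32, -32,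
  -21, -21], [56, -21, -21, -21, 6], [-120, 56, 56, 12, -5], [144, -120, -32, 12, -5], [45, -32,
  -21, 12, -5], [144, -120, -120, 105, -10], [210, -126, -120, 45, -10], [144, -120, -60, 45,
  -10], [-126, 45, 45, 45, -10], [-120, 105, 56, -32, -10], [-60, 56, 45, -32, -10], [-120, 105,
  45, -21, -10], [-60, 45, 45, -21, -10], [-120, 72, 45, 12, -10], [-120, 105, 12, 12, -10], [-60,
  45, 12, 12, -10], [144, -120, -10, -10, -5], [56, -32, -10, -10, -5], [12, 12, -10, -10, -5],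
  [45, -16, -10, -10, -10]]

def U22 : List ℕ :=
  [5, 6, 10, 12, 16, 21, 32, 45, 56, 60, 72, 105, 120, 126, 144, 192, 210, 252, 280, 320, 336,
  384]

def T22a : List (ℕ × ℕ × List ℤ) :=
  [(64, 3, [-45, 99, -55]), (64, 3, [-45, 22, 22]), (8, 3, [-45, 176, -132]), (8, 3, [120, -220,
  99]), (8, 3, [120, -66, -55]), (8, 3, [-45, 99, -55]), (8, 3, [-45, 22, 22]), (4, 6, [120, -440,
  330, 176, -132, -55]), (4, 6, [120, -440, 176, 176, -132, 99]), (4, 6, [120, 330, -132, -132,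
  -132, -55]), (4, 6, [120, 176, -132, -132, -132, 99]), (4, 6, [120, -440, 330, -132, 99, 22]),
  (4, 6, [120, -440, 176, 99, 99, -55]), (4, 6, [120, -132, -132, 99, 99, -55]), (4, 6, [120,
  -440, 99, 99, 99, 22]), (4, 6, [120, -440, 176, 176, -55, 22]), (4, 6, [120, 176, -132, -132,
  -55, 22]), (4, 6, [120, -440, 330, 99, -55, -55]), (4, 6, [120, 176, -132, -55, -55, -55]), (4,
  6, [120, -132, 99, -55, -55, 22]), (4, 6, [120, 99, -55, -55, -55, -55]), (4, 6, [120, -440,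
  176, 99, 22, 22]), (4, 6, [120, -132, -132, 99, 22, 22]), (4, 6, [120, -440, 330, -55, 22, 22]),
  (4, 6, [120, -55, -55, -55, 22, 22]), (4, 6, [120, -132, -55, 22, 22, 22]), (1, 3, [-45, 176,
  -132]), (1, 3, [120, -132, 11]), (1, 3, [32, -132, 99]), (1, 3, [120, -220, 99]), (1, 3, [120,
  -66, -55]), (1, 3, [-45, 99, -55]), (1, 3, [32, -55, 22]), (1, 3, [-45, 22, 22]), (1, 3, [60,
  -6, -55]), (1, 3, [-6, -6, 11])]

def T22b : List (ℕ × ℕ × List ℤ) :=
  [(672, 2, [-12, 11]), (126, 4, [16, 16, -44, 11]), (192, 2, [21, -22]), (96, 4, [21, -154, 66,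
  66]), (96, 4, [21, 66, -44, -44]), (96, 4, [21, -44, 11, 11]), (112, 2, [-12, 11]), (56, 4,
  [-144, 396, -264, 11]), (56, 4, [-144, 176, -99, 66]), (56, 4, [-144, 66, 66, 11]), (56, 4,
  [-144, 176, -44, 11]), (56, 4, [16, 16, -99, 66]), (56, 4, [16, 16, -44, 11]), (36, 4, [16, 16,
  -44, 11]), (42, 2, [-12, 11]), (21, 4, [16, 16, -44, 11]), (32, 2, [21, -22]), (32, 2, [-12,
  11]), (16, 4, [21, 396, -264, -154]), (16, 4, [126, 126, -264, 11]), (16, 4, [126, 126, -154,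
  -99]), (16, 4, [21, 231, -154, -99]), (16, 4, [21, -154, 66, 66]), (16, 4, [21, 66, -44, -44]),
  (16, 4, [21, -264, 231, 11]), (16, 4, [21, -99, 66, 11]), (16, 4, [56, 21, 21, -99]), (16, 4,
  [21, -44, 11, 11]), (12, 2, [21, -22]), (12, 2, [-12, 11]), (6, 4, [21, -264, 176, 66]), (6, 4,
  [21, -154, 66, 66]), (6, 4, [21, 176, -154, -44]), (6, 4, [21, 66, -44, -44]), (6, 4, [21, -264,
  231, 11]), (6, 4, [16, 16, -264, 231]), (6, 4, [16, 16, -44, 11]), (6, 4, [21, -44, 11, 11]),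
  (7, 2, [-12, 11]), (2, 2, [21, -22]), (2, 2, [-12, 11]), (1, 4, [-144, -264, 231, 176]), (1, 4,
  [21, 396, -264, -154]), (1, 4, [-144, 396, -264, 11]), (1, 4, [-144, 396, -154, -99]), (1, 4,
  [-144, 231, -154, 66]), (1, 4, [-144, -144, 56, 231]), (1, 4, [126, 126, -264, 11]), (1, 4,
  [126, 126, -154, -99]), (1, 4, [21, 231, -154, -99]), (1, 4, [-144, 231, -99, 11]), (1, 4,
  [-144, 176, -99, 66]), (1, 4, [21, 176, -99, -99]), (1, 4, [21, -264, 176, 66]), (1, 4, [21,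
  -154, 66, 66]), (1, 4, [-144, 66, 66, 11]), (1, 4, [-144, 56, 21, 66]), (1, 4, [21, 176, -154,
  -44]), (1, 4, [-144, 231, -44, -44]), (1, 4, [-144, 176, -44, 11]), (1, 4, [126, 16, -99, -44]),
  (1, 4, [21, 66, -44, -44]), (1, 4, [21, -264, 231, 11]), (1, 4, [126, 21, 6, -154]), (1, 4, [21,
  -99, 66, 11]), (1, 4, [56, 21, 21, -99]), (1, 4, [16, 16, -264, 231]), (1, 4, [126, 16, -154,
  11]), (1, 4, [16, 16, -99, 66]), (1, 4, [21, 16, 6, -44]), (1, 4, [16, 16, -44, 11]), (1, 4,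
  [-144, 126, 6, 11]), (1, 4, [21, -44, 11, 11])]

def C22a : List ℕ :=
  [28, 56, 84, 112, 140, 168, 224, 252, 280, 336, 420, 448, 504, 560, 672, 840, 896, 1008, 1120,
  1260, 1344, 1680, 2016, 2240, 2520, 2688, 3360, 4032, 4480, 5040, 6720, 8064, 10080, 13440,
  20160, 40320]

def C22b : List ℕ :=
  [20, 40, 60, 80, 120, 140, 160, 180, 240, 280, 320, 360, 420, 480, 560, 640, 720, 840, 960,
  1120, 1260, 1440, 1680, 1920, 2240, 2520, 2880, 3360, 4480, 5040, 5760, 6720, 10080, 13440,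
  20160, 40320]

def C22c : List ℕ :=
  [128, 384, 640, 896, 1152, 1920, 2688, 4480, 5760, 8064, 13440, 40320]

def C22d : List ℕ :=
  [4, 8, 12, 16, 20, 24, 28, 32, 36, 40, 48, 56, 60, 64, 72, 80, 84, 96, 112, 120, 128, 140, 144,
  160, 168, 180, 192, 224, 240, 252, 280, 288, 320, 336, 360, 384, 420, 448, 480, 504, 560, 576,
  640, 672, 720, 840, 896, 960, 1008, 1120, 1152, 1260, 1344, 1440, 1680, 1920, 2016, 2240, 2520,
  2688, 2880, 3360, 4032, 4480, 5040, 5760, 6720, 8064, 10080, 13440, 20160, 40320]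

theorem hD22 (d : ℕ) (hd : d ∣ 443520) : d ∈ D22 :=
  (by decide +kernel : ∀ d ∈ dl [(2, 7), (3, 2), (5, 1), (7, 1), (11, 1)], d ∈ D22) d
    (mem_dl _ (by norm_num) hd)

def good22 (M : List ℤ) (U W : ℕ × ℕ × List ℤ) : Bool := M == [-280, 210, 45, 45, -21] &&
  U == (1, 3, [-45, 99, -55]) && W == (1, 4, [21, 231, -154, -99])

noncomputable def st22 (M : List ℤ) : Bool := stage 443520 11 7 5 C22a C22b C22c T22a T22b (good22 M) M

def tv22 (d : ℕ) : ℤ := ([(1, 1), (21, 5), (45, -3), (55, 7), (99, 3), (154, 10), (210, 2), (231, 7),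
  (280, -8)].lookup d).getD 1

theorem c22a : ∀ T ∈ trees2 443520 11 D22 (fun _ => true) (· != 1), T.1 = 28 ∧ -32 ∈ T.2.2.2 := by
  decide +kernel

theorem c22b : ∀ T ∈ trees2 443520 7 D22 (fun _ => true) (fun v => v % 11 == 0 && v % 7 != 4),
    uqB 7 11 (-(1 + T.2.2.2.sum) :: T.2.2.2) = false := by decide +kernel

theorem c22c : lall (fun T => (T.1, T.2.1, srt 11 T.2.2.2) ∈ T22a)
  (trees2 443520 7 D22 (fun d => d % 11 == 0 || d ∈ U22) (· % 11 != 0)) = true := by decide +kernel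

theorem c22d : lall (fun T => (T.1, T.2.1, srt 11 T.2.2.2) ∈ T22b)
  (trees2 443520 5 D22 (fun d => d % 11 == 0 || d ∈ U22) (· % 11 != 0)) = true := by decide +kernel

theorem c22e : lany (tri 443520 11 7 5 (1, 3, [-45, 99, -55]) (1, 4, [21, 231, -154, -99]) fun x B C =>
    !(x.1 == 384 && (x.2.2 ++ B ++ C).all fun e => e.2 == tv22 e.1.natAbs))
    (cols 443520 [-280, 210, 45, 45, -21] C22d) = false := by decide +kernel

theorem c22f : lall st22 (S22.take 20) = true := by decide +kernel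

end Cfsg.Agent.H3
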