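import Cfsg.Agent.H3.M23c
import Cfsg.Agent.H3.Deg11

/-! The simple group of order `10200960` is unique. -/

set_option autoImplicit false
set_option linter.unusedVariables false
set_option linter.unusedSectionVars false

namespace Cfsg.Agent.H3

open Finset Subgroup Equiv Cfsg.Agent.PLoc Cfsg.Agent.Char Cfsg.Agent.Blk Cfsg.Agent.Inv Cfsg.Agent.H9
  Cfsg.Agent.Gol

universe u

def g23 : List ℕ := [956302485175575353788796878166559809, 983435072843990828779021698901151808, 970459361523271695787015306425278496]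

theorem chk23 : allC 24 (Yc 23 2) (powS 24 (Yc 23 2) 2) 165600 45558216358317871524697707378706496
    6736580137028735938643161793168384 4 (fun j a => j != 1 || a == 23) (fun c =>
      finC 24 [Xc 23, Yc 23 2, c] g23 [[22], [10], [14], [1, 1, 1, 1, 1, 1, 1, 2, 2, 6]]
      [[0, 0, 0, 2, 0, 2, 2], [0, 0, 2, 1, 1, 0, 1], [0, 1, 2], [0, 2, 1]] [] (([(970459361523271695787015306425278496, true, 0),
      (982945561401482283687190022953508896, false, 10),
      (984573014673175146587997007573696576, true, 10),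
      (980623609459526869007865668563124288, false, 9),
      (978329930829287779853295586954839136, false, 2),
      (968831900483021157457398538231481440, true, 3),
      (975074988045564389163915942232073344, false, 8),
      (982945552743155205048692816444138624, true, 9),
      (970459356583600482093655223947004096, false, 1),
      (982251082544672643558577621061109952, true, 2),
      (980623620615494437327650338233436416, true, 8),
      (964881579205832726456276468256524544, false, 7),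
      (962588783226814494170565913959894304, false, 5),
      (964881566828850631422085576588168480, true, 6),
      (984573033238649150947703430751261056, false, 0),
      (978329933299122975683446603816964480, true, 1),
      (982251081295852822993034928044847520, false, 3),
      (962588790636320930210487642771108256, true, 4),
      (975074981857073328387818560804173312, true, 7),
      (974380507050165498716199169578055168, false, 6),
      (968831885636203018043613190851500608, false, 4),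
      (974380510768821363662145534143076928, true, 5)] : List (ℕ × Bool × ℕ)).map fun d =>
        (d.1, bif d.2.1 then idP 24 else 956765793662171983829532039519557312,
          [List.replicate (bif d.2.1 then 1 else 22) 0, [1], List.replicate d.2.2 1 ++ [2]]))) = true := by
  decide +kernel

theorem card_g23 : 10200960 ≤ Nat.card (KP 24 g23) := card_KP_ge (ls :=
  [(0, [[], [0], [0, 0], [0, 0, 0], [1, 0, 0], [2, 0, 0], [1, 0, 0, 0], [0, 1, 0, 0], [2, 1, 0, 0], [0, 2, 0, 0], [1, 2, 0, 0], [0, 1, 0, 0, 0], [1, 1, 0, 0, 0], [1, 0, 1, 0, 0], [0, 2, 1, 0, 0], [1, 2, 1, 0, 0], [0, 1, 2, 0, 0], [1, 0, 1, 0, 0, 0], [2, 0, 1, 0, 0, 0], [0, 1, 0, 1, 0, 0], [1, 1, 0, 1, 0, 0], [1, 0, 2, 1, 0, 0], [1, 2, 0, 1, 0, 0, 0]], [[2], [0, 2, 0, 1, 0, 0, 0]]),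
   (1, [[], [1], [0, 1], [1, 1], [0, 0, 1], [1, 0, 1], [0, 1, 1], [1, 1, 1], [0, 0, 0, 1], [1, 0, 0, 1], [0, 1, 0, 1], [1, 1, 0, 1], [1, 0, 1, 1], [0, 1, 1, 1], [0, 0, 0, 0, 1], [0, 1, 0, 0, 1], [0, 0, 1, 0, 1], [1, 0, 1, 0, 1], [0, 1, 1, 0, 1], [1, 1, 0, 1, 1], [0, 0, 1, 1, 1], [1, 0, 0, 1, 0, 1]], [[1, 0, 1, 1, 0, 1], [0]]),
   (2, [[], [0], [1], [0, 0], [1, 0], [0, 1], [1, 1], [1, 0, 0], [1, 1, 0], [0, 1, 1], [1, 1, 1], [0, 1, 0, 0], [1, 1, 0, 0], [0, 1, 1, 0], [1, 1, 1, 0], [0, 0, 1, 1], [1, 0, 1, 1], [0, 1, 1, 0, 0], [1, 1, 1, 0, 0], [0, 0, 1, 1, 0], [1, 0, 1, 1, 0, 0]], [[0, 1, 0], [0, 1, 1, 0, 0, 1, 1]]),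
   (3, [[], [0], [1], [0, 0], [0, 1], [1, 1], [0, 0, 0], [1, 0, 0], [0, 0, 1], [0, 1, 1], [0, 0, 0, 0], [1, 0, 0, 0], [0, 1, 0, 0], [0, 0, 0, 1], [0, 0, 1, 1], [1, 0, 1, 1], [1, 1, 0, 0, 0], [1, 0, 1, 0, 0], [0, 0, 0, 0, 1], [0, 1, 0, 1, 1]], [[0, 1, 0, 0, 0, 1], [0, 1, 0, 0, 1, 1, 0, 0], [1, 0]]),
   (4, [[], [0], [1], [0, 0], [1, 0], [0, 1], [2, 1], [1, 0, 0], [2, 0, 0], [0, 1, 0], [2, 1, 0], [1, 0, 1], [1, 2, 1], [2, 1, 0, 0], [1, 2, 0, 0], [2, 2, 1, 0]], [[2]]),
   (5, [[], [0], [0, 0]], [])]) (by norm_num)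
  (by decide +kernel)

variable {G : Type u} [Group G] [Finite G]

theorem conj2 {x : G} (hx : orderOf x = 23) (h2 : Nat.card (autSub hx) = 11) : IsConj x (x ^ 2) := by
  have k : ∀ a : (ZMod 23)ˣ, a ^ 11 = 1 → a ≠ 1 → ∃ k < 11, ((a ^ k : (ZMod 23)ˣ) : ZMod 23) = 2 := by
    decide +kernel
  obtain ⟨a, a1, a2⟩ := exists_ne_one (H := autSub hx) fun e => by simp [e] at h2
  obtain ⟨k, -, hk⟩ := k a (orderOf_dvd_iff_pow_eq_one.1 (h2 ▸ orderOf_dvd_card_of_mem a1)) a2
  have : IsConj x (pw x _) := pow_mem a1 k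
  rwa [hk] at this

theorem exists_y11 {x : G} (h1 : SC 23 x) (h2 : Nat.card (autSub h1.ord) = 11) :
    ∃ y, y * x * y⁻¹ = x ^ 2 ∧ orderOf y = 11 := by
  obtain ⟨y, e1⟩ := isConj_iff.1 (conj2 h1.ord h2)
  refine ⟨y, e1, orderOf_eq_prime (sc_pow h1 e1 (by decide) (by decide)) fun e => ?_⟩
  rw [e, one_mul, inv_one, mul_one, ← pow_one x, ← pow_mul, pow_eq_pow_iff_modEq, h1.ord] at e1
  exact absurd e1 (by decide)

variable [IsSimpleGroup G] (h : Nat.card G = 10200960)
include h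

theorem m23_equiv : Nonempty (G ≃* KP 24 g23) := by
  have := Fintype.ofFinite G
  obtain ⟨x, hx⟩ := exists_prime_orderOf_dvd_card' (G := G) 23 (by rw [h]; norm_num)
  obtain ⟨h1, h2⟩ := m23_23 h hx
  obtain ⟨y, e1, hy⟩ := exists_y11 h1 h2
  obtain ⟨s, e2, -⟩ := exists_y5 (m23_11 h hy).1 (m23_11 h hy).2
  obtain ⟨χ, μ, ν, H⟩ := m23_H h
  obtain ⟨M, hM⟩ := H.index h
  obtain ⟨φ, p1, p2, p3, p4⟩ := exists_label_index (by norm_num) (by decide +kernel) hM hx e1 (by decide)
  have := allC_sound (by norm_num) (σ := φ s) (Y := φ y) (Z := φ y ^ 3) (by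
    rw [← map_pow, ← map_mul, ← map_mul, ← e2, inv_mul_cancel_right]) (rp := 165600) (n := 4)
    (ok := fun j a => j != 1 || a == 23) (fun j hj => by
      by_cases e : j = 1
      · subst e; simpa [show ap 165600 1 = 23 by decide +kernel] using p4 s
      · simp [e]) (by rw [← powS_eq (by norm_num), p3]; exact chk23)
  rw [← p2, ← p3] at this
  refine finC_sound (l := [x, y, s]) (by norm_num) p1 (fun g => ?_) (h ▸ card_g23) (by simp) this
  simp only [← orderOf_dvd_iff_pow_eq_one]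
  by_cases h5 : 5 ∣ orderOf g
  · exact ⟨[14], by simp, (orderOf_dvd_card_of_mem (mem_centralizer_singleton_iff.2
      ((Commute.refl g).pow_right (orderOf g / 5)))).trans
        (H.five _ (orderOf_pow_orderOf_div (orderOf_pos g).ne' h5)).dvd⟩
  by_cases h11 : 11 ∣ orderOf g
  · exact ⟨[10], by simp, (ord_eq_of_sc (fun x hx => (m23_11 h hx).1) h11).dvd⟩
  by_cases h23 : 23 ∣ orderOf g
  · exact ⟨[22], by simp, (ord_eq_of_sc (fun x hx => (m23_23 h hx).1) h23).dvd⟩
  exact ⟨[1, 1, 1, 1, 1, 1, 1, 2, 2, 6], by simp,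
    ((fact5.out.coprime_iff_not_dvd.2 h5).symm).dvd_of_dvd_mul_right
    (((fact11.out.coprime_iff_not_dvd.2 h11).symm).dvd_of_dvd_mul_right
      (((fact23.out.coprime_iff_not_dvd.2 h23).symm).dvd_of_dvd_mul_right
      ((orderOf_dvd_natCard g).trans (by rw [h]; decide))))⟩

end Cfsg.Agent.H3
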