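import Cfsg.Agent.H3.M23b
import Cfsg.Agent.H3.Alg

/-! The simple group of order `10200960`: a subgroup of index `23`. -/

set_option autoImplicit false
set_option linter.unusedVariables false
set_option linter.unusedSectionVars false

namespace Cfsg.Agent.H3

open Finset Subgroup Equiv Cfsg.Agent.PLoc Cfsg.Agent.Char Cfsg.Agent.Blk Cfsg.Agent.Inv Cfsg.Agent.H9
  Cfsg.Agent.Gol
open scoped ComplexConjugate

universe u

variable {G : Type u} [Group G] [Fintype G]

theorem ord_sq {g : G} {n : ℕ} (h : orderOf g = n) (hn : Odd n) : orderOf (g * g) = n := by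
  rw [← sq, Nat.Coprime.orderOf_pow (by simpa [h] using hn), h]

/-- a symplectic character does not occur in its symmetric square in this way -/
theorem not_sympl {χ θ η : IrrCharacter G} (h0 : ∀ g, conj (χ.1 g) = χ.1 g)
    (h1 : ∀ g, (χ.1 g ^ 2 + χ.1 (g * g)) / 2 = θ.1 g + χ.1 g)
    (h2 : ∀ g, (χ.1 g ^ 2 - χ.1 (g * g)) / 2 = 1 + η.1 g) (h3 : [irrOne G, χ, θ, η].Nodup) : False := by
  classical
  simp only [List.nodup_cons, List.mem_cons, not_or, List.not_mem_nil] at h3
  obtain ⟨⟨n1, n2, n3, -⟩, ⟨n4, n5, -⟩, ⟨n6, -⟩, -⟩ := h3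
  obtain ⟨a, b, a1, a2, a3, a4⟩ := χ.2.frobenius_schur
  obtain ⟨c, d, b1, b2, -⟩ := θ.2.frobenius_schur
  obtain ⟨e, f, c1, c2, -⟩ := η.2.frobenius_schur
  have o : (fun _ => 1) = (irrOne G).1 := rfl
  rw [show (fun g => _) = θ.1 + χ.1 from funext h1, o, classInner_add_left] at a3
  rw [show (fun g => _) = (irrOne G).1 + η.1 from funext h2, o, classInner_add_left] at a4
  have e1 : classInner (θ.1 + χ.1 - ((irrOne G).1 + η.1)) (θ.1 + χ.1 - ((irrOne G).1 + η.1)) = 4 := by
    simp only [classInner_sub_left, classInner_sub_right, classInner_add_left, classInner_add_right,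
      irr_classInner, n1, n2, n3, n4, n5, n6, Ne.symm n1, Ne.symm n2, Ne.symm n3, Ne.symm n4, Ne.symm n5,
      Ne.symm n6, if_true, if_false]
    norm_num
  simp only [irr_classInner, Ne.symm n1, Ne.symm n2, Ne.symm n3, if_true, if_false] at a3 a4
  rw [show θ.1 + χ.1 - ((irrOne G).1 + η.1) = fun g => χ.1 (g * g) from funext fun g => by
    show θ.1 g + χ.1 g - (1 + η.1 g) = _
    linear_combination h2 g - h1 g, classInner_def, sum_congr rfl (g := fun g => θ.1 (g * g) +
      χ.1 (g * g) + 1 + η.1 (g * g)) fun g _ => by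
        rw [h0]; linear_combination h1 (g * g) + h2 (g * g)] at e1
  simp only [sum_add_distrib, mul_add, a1, b1, c1, ← a3, ← a4, sum_const, card_univ, nsmul_eq_mul,
    ← Nat.card_eq_fintype_card, mul_one, inv_mul_cancel₀ (card_ne_zero G)] at e1
  have : (c : ℤ) - d + (e - f) = 4 := Int.cast_injective (α := ℂ) (by
    push_cast; linear_combination e1)
  split_ifs at b2 c2 <;> omega

variable [IsSimpleGroup G] (h : Nat.card G = 10200960) {χ μ ν : IrrCharacter G} (H : H23 χ μ ν)
include h H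

theorem H23.dec {x y : G} (hx : orderOf x = 23) (hy : orderOf y = 11) {σ : G → ℂ}
    (hσ : IsCharacter G σ) {n : ℕ} (hn : σ 1 = n) (n1 : n ≤ 253)
    (h1 : classInner σ (fun _ => 1) = 0) {X Y : ℤ} (hX : σ x = X) (hY : σ y = Y) :
    ∃ L : List (IrrCharacter G), (∀ g, σ g = (L.map (·.1 g)).sum) ∧ L.map (charDegree ·.1) ∈
      (parts [253, 231, 230, 45, 22] n).filter fun P =>
        (P.map (sv 23)).sum = X ∧ (P.map (sv 11)).sum = Y := by
  obtain ⟨L, l1, l2, l3, l4⟩ := exists_dec hσ hn (C := [253, 231, 230, 45, 22]) fun χ e1 e2 => by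
    have := (H.small χ (by omega)).resolve_left fun e => e1 (e ▸ h1)
    simp at this ⊢
    omega
  have l5 : ∀ ψ ∈ L, charDegree ψ.1 ≤ 253 := fun ψ hψ =>
    (List.le_sum_of_mem (List.mem_map_of_mem hψ)).trans (l4.le.trans n1)
  refine ⟨L, l1, List.mem_filter.2 ⟨l3, decide_eq_true ⟨?_, ?_⟩⟩⟩ <;> apply Int.cast_injective (α := ℂ)
  · rw [← hX, l1, Int.cast_list_sum, List.map_map, List.map_map]
    exact congrArg _ (List.map_congr_left fun ψ hψ => ((H.val ψ (l5 ψ hψ) x).1 hx).symm)
  · rw [← hY, l1, Int.cast_list_sum, List.map_map, List.map_map]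
    exact congrArg _ (List.map_congr_left fun ψ hψ => ((H.val ψ (l5 ψ hψ) y).2 hy).symm)

theorem H23.index : ∃ M : Subgroup G, M.index = 23 := by
  classical
  obtain ⟨x, hx⟩ := exists_prime_orderOf_dvd_card' (G := G) 23 (by rw [h]; norm_num)
  obtain ⟨y, hy⟩ := exists_prime_orderOf_dvd_card' (G := G) 11 (by rw [h]; norm_num)
  have d := H.d22
  have r : ∀ g, conj (χ.1 g) = χ.1 g := fun g =>
    congrFun (congrArg Subtype.val (H.uniq _ ((deg_bar χ).trans d))) g
  have x1 := (H.val χ (by omega) x).1 hx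
  have x2 := (H.val χ (by omega) _).1 (ord_sq hx (by decide))
  have y1 := (H.val χ (by omega) y).2 hy
  have y2 := (H.val χ (by omega) _).2 (ord_sq hy (by decide))
  rw [d] at x1 x2 y1 y2
  obtain ⟨i, j, -, i1, i2, i3⟩ := χ.2.frobenius_schur
  rw [if_pos fun g => Complex.conj_eq_iff_im.1 (r g)] at i1
  have one := isIrrCharacter_one (G := G)
  have o1 := deg_irrOne (G := G)
  rcases (by omega : i = 0 ∧ j = 1 ∨ i = 1 ∧ j = 0) with ⟨rfl, rfl⟩ | ⟨rfl, rfl⟩
  · obtain ⟨L, l1, l2⟩ := H.dec h hx hy (χ.2.isCharacter.alt.sub_irr one (by simp [i3])) (n := 230)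
      (by norm_num [irr_one_eq, d]) (by decide)
      (by rw [classInner_sub_left, i3, one.classInner_self]; simp) (X := 0) (Y := -1)
      (by norm_num [x1, x2, sv]) (by norm_num [y1, y2, sv])
    obtain ⟨L', l3, l4⟩ := H.dec h hx hy χ.2.isCharacter.sym (n := 253)
      (by norm_num [irr_one_eq, d]) (by decide) (by simpa using i2) (X := 0) (Y := 0)
      (by norm_num [x1, x2, sv]) (by norm_num [y1, y2, sv])
    rw [show List.filter _ _ = [[230]] by decide +kernel] at l2
    rw [show List.filter _ _ = [[231, 22], [253]] by decide +kernel] at l4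
    simp only [List.mem_cons, List.not_mem_nil, or_false, List.map_eq_cons_iff,
      List.map_eq_nil_iff] at l2 l4
    obtain ⟨η, _, rfl, a1, rfl⟩ := l2
    rcases l4 with ⟨θ, _, rfl, b1, ψ, _, rfl, b2, rfl⟩ | ⟨θ, _, rfl, b1, rfl⟩
    · obtain rfl := H.uniq ψ b2
      refine (not_sympl r (θ := θ) (η := η) (fun g => by simpa using l3 g)
        (fun g => by simpa [sub_eq_iff_eq_add'] using l1 g) (.of_map (charDegree ·.1) ?_)).elim
      simp only [List.map_cons, List.map_nil, o1, a1, b1, b2]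
      decide
    obtain ⟨w, hw⟩ := H.int
    obtain ⟨z, hz⟩ := exists_prime_orderOf_dvd_card' (G := G) 5 (by rw [h]; norm_num)
    obtain ⟨k, m, -, -, c1, c2⟩ := fdN (m23_11 h hy).1 (m23_11 h hy).2 χ (H.val χ (by omega) · |>.2)
      (hw χ)
    obtain ⟨d1, d2, d3⟩ := H.dμ
    have c3 := sq_le (l := [irrOne G, χ, θ, μ, ν]) (by
      simp only [List.nodup_cons, List.mem_cons, not_or, List.not_mem_nil, d3]
      refine ⟨⟨?_, ?_, ?_, ?_, id⟩, ⟨?_, ?_, ?_, id⟩, ⟨?_, ?_, id⟩, by simp⟩ <;> rintro rfl <;> omega)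
      fun ψ _ => hw ψ z hz
    have c4 : w (irrOne G) = 1 := Int.cast_injective (α := ℂ) ((hw _ z hz).symm.trans Int.cast_one.symm)
    have c5 := cong1 5 μ (k := 1) hz (hw μ z hz)
    have c6 := cong1 5 ν (k := 1) hz (hw ν z hz)
    have c7 := cong1 5 χ (k := 1) hz (hw χ z hz)
    have c8 := l3 z
    have k1 : ∀ a : ℤ, a ≠ 0 → 1 ≤ a ^ 2 := fun a ha => (one_le_sq_iff_one_le_abs _).2 (Int.one_le_abs ha)
    have c9 := k1 (w μ) (by omega)
    have c10 := k1 (w ν) (by omega)
    simp only [List.map_cons, List.sum_cons, H.five z hz, c4, List.map_nil, List.sum_nil] at c3 c8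
    rw [d, show sv 11 22 = 0 from rfl] at c1
    have c11 : w χ = 2 := by
      have k2 : ∀ a : ℤ, a ^ 2 < 49 → a < 7 := fun a ha => by nlinarith
      have := sq_nonneg (w θ)
      have := k2 (w χ) (by push_cast at c3; omega)
      omega
    rw [hw χ z hz, hw χ _ (ord_sq hz (by decide)), hw θ z hz, c11] at c8
    rw [c11, show w θ = 3 from Int.cast_injective (α := ℂ) (by
      push_cast at c8 ⊢; linear_combination -c8)] at c3
    omega
  obtain ⟨L, l1, l2⟩ := H.dec h hx hy (χ.2.isCharacter.sym.sub_irr one (by simp [i2])) (n := 252)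
    (by norm_num [irr_one_eq, d]) (by decide)
    (by rw [classInner_sub_left, i2, one.classInner_self]; simp) (X := -1) (Y := -1)
    (by norm_num [x1, x2, sv]) (by norm_num [y1, y2, sv])
  obtain ⟨L', l3, l4⟩ := H.dec h hx hy χ.2.isCharacter.alt (n := 231)
    (by norm_num [irr_one_eq, d]) (by decide) (by simpa using i3) (X := 1) (Y := 0)
    (by norm_num [x1, x2, sv]) (by norm_num [y1, y2, sv])
  rw [show List.filter _ _ = [[230, 22]] by decide +kernel] at l2
  rw [show List.filter _ _ = [[231]] by decide +kernel] at l4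
  simp only [List.mem_cons, List.not_mem_nil, or_false, List.map_eq_cons_iff,
    List.map_eq_nil_iff] at l2 l4
  obtain ⟨η, _, rfl, a1, ψ, _, rfl, a2, rfl⟩ := l2
  obtain ⟨θ, _, rfl, b1, rfl⟩ := l4
  obtain rfl := H.uniq ψ a2
  refine alg_index (ψ := θ) d (by decide) (by simp [i2]) ?_ (fun g => by simpa using l3 g)
    (by rintro rfl; omega)
  rw [show (fun g => _) = (irrOne G).1 + (η.1 + ψ.1) from funext fun g => by
    simpa [sub_eq_iff_eq_add'] using l1 g, classInner_add_left, classInner_add_left, irr_classInner,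
    irr_classInner, irr_classInner, if_neg (by rintro rfl; omega), if_neg (by rintro rfl; omega)]
  simp

end Cfsg.Agent.H3
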