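import Cfsg.Agent.H3.Fx

/-! The simple group of order `10200960`: numerical checks. -/

set_option autoImplicit false
set_option linter.unusedVariables false
set_option linter.unusedSectionVars false

namespace Cfsg.Agent.H3

open Finset Subgroup Equiv Cfsg.Agent.PLoc Cfsg.Agent.Char Cfsg.Agent.Blk Cfsg.Agent.Inv Cfsg.Agent.H9
  Cfsg.Agent.Gol
open scoped ComplexConjugate

universe u

def D23 : List ℕ :=
  [1, 2, 3, 4, 5, 6, 7, 8, 9, 10, 11, 12, 14, 15, 16, 18, 20, 21, 22, 23, 24, 28, 30, 32, 33, 35,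
  36, 40, 42, 44, 45, 46, 48, 55, 56, 60, 63, 64, 66, 69, 70, 72, 77, 80, 84, 88, 90, 92, 96, 99,
  105, 110, 112, 115, 120, 126, 128, 132, 138, 140, 144, 154, 160, 161, 165, 168, 176, 180, 184,
  192, 198, 207, 210, 220, 224, 230, 231, 240, 252, 253, 264, 276, 280, 288, 308, 315, 320, 322,
  330, 336, 345, 352, 360, 368, 384, 385, 396, 414, 420, 440, 448, 460, 462, 480, 483, 495, 504,
  506, 528, 552, 560, 576, 616, 630, 640, 644, 660, 672, 690, 693, 704, 720, 736, 759, 770, 792,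
  805, 828, 840, 880, 896, 920, 924, 960, 966, 990, 1008, 1012, 1035, 1056, 1104, 1120, 1152,
  1155, 1232, 1260, 1265, 1288, 1320, 1344, 1380, 1386, 1408, 1440, 1449, 1472, 1518, 1540, 1584,
  1610, 1656, 1680, 1760, 1771, 1840, 1848, 1920, 1932, 1980, 2016, 2024, 2070, 2112, 2208, 2240,
  2277, 2310, 2415, 2464, 2520, 2530, 2576, 2640, 2688, 2760, 2772, 2880, 2898, 2944, 3036, 3080,
  3168, 3220, 3312, 3360, 3465, 3520, 3542, 3680, 3696, 3795, 3864, 3960, 4032, 4048, 4140, 4224,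
  4416, 4480, 4554, 4620, 4830, 4928, 5040, 5060, 5152, 5280, 5313, 5520, 5544, 5760, 5796, 6072,
  6160, 6336, 6440, 6624, 6720, 6930, 7040, 7084, 7245, 7360, 7392, 7590, 7728, 7920, 8064, 8096,
  8280, 8832, 8855, 9108, 9240, 9660, 9856, 10080, 10120, 10304, 10560, 10626, 11040, 11088,
  11385, 11592, 12144, 12320, 12672, 12880, 13248, 13440, 13860, 14168, 14490, 14720, 14784,
  15180, 15456, 15840, 15939, 16192, 16560, 17710, 18216, 18480, 19320, 20160, 20240, 20608,
  21120, 21252, 22080, 22176, 22770, 23184, 24288, 24640, 25760, 26496, 26565, 27720, 28336,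
  28980, 29568, 30360, 30912, 31680, 31878, 32384, 33120, 35420, 36432, 36960, 38640, 40320,
  40480, 42504, 44160, 44352, 45540, 46368, 48576, 49280, 51520, 53130, 55440, 56672, 57960,
  60720, 61824, 63360, 63756, 66240, 70840, 72864, 73920, 77280, 79695, 80960, 85008, 88704,
  91080, 92736, 97152, 103040, 106260, 110880, 113344, 115920, 121440, 127512, 132480, 141680,
  145728, 147840, 154560, 159390, 161920, 170016, 182160, 185472, 212520, 221760, 226688, 231840,
  242880, 255024, 283360, 291456, 309120, 318780, 340032, 364320, 425040, 443520, 463680, 485760,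
  510048, 566720, 637560, 680064, 728640, 850080, 927360, 1020096, 1133440, 1275120, 1457280,
  1700160, 2040192, 2550240, 3400320, 5100480, 10200960]

theorem hD23 (d : ℕ) (hd : d ∣ 10200960) : d ∈ D23 :=
  (by decide +kernel : ∀ d ∈ dl [(2, 7), (3, 2), (5, 1), (7, 1), (11, 1), (23, 1)], d ∈ D23) d
    (mem_dl _ (by norm_num) hd)

def Q23 (d : ℕ) : Bool := d % 23 ∈ [0, 1, 22, 11, 12]

theorem c23a : trees2 10200960 23 D23 (fun _ => true) (· ∉ [1, 12, 24]) = [] := by decide +kernel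

theorem c23b : ∀ T ∈ trees2 10200960 11 D23 Q23 (fun v => v != 1 && v % 23 != 0),
    (∃ q ∈ [5, 7], q ∣ T.1 ∧ uqB 11 q (-(1 + T.2.2.2.sum) :: T.2.2.2) = false) ∨
    (¬ 7 ∣ T.1 ∧ btS 7 (-(1 + T.2.2.2.sum) :: T.2.2.2) = false) ∨ (T.1 = 12 ∧ T.2.1 = 5 ∧
      colZ (optM 44) (okM 44) (10200960 : ℕ) (-(1 + T.2.2.2.sum) :: T.2.2.2) 1 (10200960 : ℕ) = true) := by
  decide +kernel

end Cfsg.Agent.H3
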