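import Cfsg.Agent.H3.M24mA

/-! The simple group of order `244823040`: numerical checks for the prime `11`. -/

set_option autoImplicit false
set_option linter.unusedVariables false
set_option linter.unusedSectionVars false

namespace Cfsg.Agent.H3

open Finset Subgroup Equiv Cfsg.Agent.PLoc Cfsg.Agent.Char Cfsg.Agent.Blk Cfsg.Agent.Inv Cfsg.Agent.H9
  Cfsg.Agent.Gol
open scoped ComplexConjugate

universe u

theorem c24e3 : allT6 244823040 5 D24 Q23 (· == 12)
    (gT5 12 10 185472 [443520, 887040]) = true := by decide +kernel

end Cfsg.Agent.H3
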