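import Cfsg.Agent.H3.M24m4
import Cfsg.Agent.H3.M24m8
import Cfsg.Agent.H3.M24mB
import Cfsg.Agent.H3.M24a
import Cfsg.Agent.H3.Col2

/-! The simple group of order `244823040`: the prime `11`. -/

set_option autoImplicit false
set_option linter.unusedVariables false
set_option linter.unusedSectionVars false

namespace Cfsg.Agent.H3

open Finset Subgroup Equiv Cfsg.Agent.PLoc Cfsg.Agent.Char Cfsg.Agent.Blk Cfsg.Agent.Inv Cfsg.Agent.H9
  Cfsg.Agent.Gol
open scoped ComplexConjugate

universe u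

variable {G : Type u} [Group G] [Finite G]

theorem dvd_Vc_of {p q : ℕ} [hp : Fact p.Prime] (hq : q.Prime) (hne : q ≠ p) {x g : G} (h : Syl1 p x)
    (h1 : p ∣ orderOf g) (h2 : q ∣ orderOf g) : q ∣ Nat.card (Vc p x) := by
  obtain ⟨i, i0, v, hv, e⟩ := h.exists_conj h1
  have c' : Commute (pw x i) v := (show Commute x v from
    (mem_centralizer_singleton_iff.1 (h.mem_Vc.1 hv).1).symm).pow_left _
  have a1 := c'.orderOf_mul_dvd_mul_orderOf
  rw [← ord_conj e, orderOf_pw h.ord i0] at a1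
  exact (((Nat.coprime_primes hq hp.out).2 hne).dvd_of_dvd_mul_left (h2.trans a1)).trans
    (orderOf_dvd_card_of_mem hv)

theorem ord_mul_of {p q : ℕ} (hp : p.Prime) (hq : q.Prime) (hne : p ≠ q) {a b : G} (c : Commute a b)
    (ha : orderOf a = p) (hb : orderOf b = q) : orderOf (a * b) = p * q := by
  rw [c.orderOf_mul_eq_mul_orderOf_of_coprime (by rw [ha, hb]; exact (Nat.coprime_primes hp hq).2 hne),
    ha, hb]

theorem exists_comm_inv' {p : ℕ} [hp : Fact p.Prime] {V : Subgroup G} {q : ℕ} [hq : Fact q.Prime]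
    {y : G} (hy : y ∈ normalizer (V : Set G)) (ho : orderOf y = q) (h2 : ¬ q ∣ Nat.card V)
    (h3 : ∀ k, p ^ k ∣ Nat.card V → ¬ p ∣ Nat.card V / p ^ k → p ^ k % q ≠ 1) :
    ∃ t ∈ V, orderOf t = p ∧ Commute y t := by
  obtain ⟨P, ⟨p1, p2, p3⟩, p4⟩ := Core.exists_invariant_isSylowIn (zpowers_le.2 hy)
    (by rw [Nat.card_zpowers, ho]; exact hq.out.coprime_iff_not_dvd.2 h2) (.inl inferInstance) p
  have a1 := PLoc.card_modEq_card_inf_centralizer (isPGroup_zpowers (p := q) (k := 1) (x := y)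
    (by simp [← ho])) p4
  obtain ⟨k, hk⟩ := p2.exists_card_eq
  have a2 := card_mul_relIndex p1
  obtain ⟨t, ⟨t1, t2⟩, t3⟩ := exists_mem_orderOf_eq_prime (H := P ⊓ centralizer (zpowers y : Set G))
    hp.out (((p2.to_le inf_le_left).card_eq_or_dvd).resolve_left fun e => h3 k (hk ▸ ⟨_, a2.symm⟩)
      (by rwa [← a2, hk, Nat.mul_div_cancel_left _ (pow_pos hp.out.pos k)])
      (by rw [← hk, a1, e, Nat.mod_eq_of_lt hq.out.one_lt]))
  exact ⟨t, p1 t1, t3, t2 y (mem_zpowers y)⟩

theorem TB.meet {p q : ℕ} [Fact p.Prime] [Fact q.Prime] {x y : G} {h : Syl1 p x} {h' : Syl1 q y}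
    {m m' : List (IrrCharacter G)} {s s' : IrrCharacter G → ℤ} (T : TB h m s) (T' : TB h' m' s')
    (hg : ∀ g : G, p ∣ orderOf g → ¬ q ∣ orderOf g) : ∃ χ ∈ m, χ ∈ m' ∧ s' χ = -s χ := by
  classical
  have := Fintype.ofFinite G
  by_contra e
  push Not at e
  let a : IrrCharacter G → ℤ := fun χ => if χ = irrOne G then 1 else s χ
  let b : IrrCharacter G → ℤ := fun χ => if χ = irrOne G then 1 else s' χ
  have k : ∀ {l : List (IrrCharacter G)} {r : IrrCharacter G → ℤ}, (irrOne G :: l).Nodup → ∀ g,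
      ∑ χ ∈ (irrOne G :: l).toFinset, ((if χ = irrOne G then 1 else r χ : ℤ) : ℂ) * χ.1 g =
        1 + (l.map fun χ => r χ * χ.1 g).sum := fun {l r} hl g => by
    rw [List.sum_toFinset _ hl, List.map_cons, List.sum_cons, if_pos rfl,
      List.map_congr_left (g := fun χ => r χ * χ.1 g) fun χ hχ => by
        rw [if_neg fun e : χ = irrOne G => (List.nodup_cons.1 hl).1 (e ▸ hχ)]]
    simp [show (irrOne G).1 g = 1 from rfl]
  have h1 : ∑ g, (∑ χ ∈ (irrOne G :: m).toFinset, (a χ : ℂ) * χ.1 g) *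
      conj (∑ χ ∈ (irrOne G :: m').toFinset, (b χ : ℂ) * χ.1 g) = 0 :=
    sum_eq_zero fun g _ => by
      by_cases e : p ∣ orderOf g
      · rw [k T'.nodup, T'.reg g (hg g e), map_zero, mul_zero]
      · rw [k T.nodup, T.reg g e, zero_mul]
  have h2 : ∑ χ ∈ (irrOne G :: m).toFinset, ∑ ψ ∈ (irrOne G :: m').toFinset,
      (if χ = ψ then a χ * b ψ else 0 : ℤ) = 0 := by
    apply Int.cast_injective (α := ℂ)
    rw [Int.cast_zero, ← mul_zero (Nat.card G : ℂ)⁻¹, ← h1]
    simp only [map_sum, sum_mul_sum, map_mul, map_intCast]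
    rw [sum_comm (s := univ), mul_sum, Int.cast_sum]
    refine sum_congr rfl fun χ _ => ?_
    rw [sum_comm (s := univ), mul_sum, Int.cast_sum]
    refine sum_congr rfl fun ψ _ => ?_
    have := irr_classInner χ ψ
    rw [classInner_def] at this
    rw [sum_congr rfl (g := fun g => (a χ * b ψ : ℂ) * (χ.1 g * conj (ψ.1 g))) fun g _ => by ring,
      ← mul_sum, mul_left_comm, this]
    split_ifs <;> simp
  have h3 : ∀ χ ∈ (irrOne G :: m).toFinset, ∀ ψ ∈ (irrOne G :: m').toFinset,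
      0 ≤ (if χ = ψ then a χ * b ψ else 0 : ℤ) := fun χ hχ ψ hψ => by
    split_ifs with e1
    · subst e1
      simp only [a, b]
      split_ifs with e2
      · simp
      · simp only [List.mem_toFinset, List.mem_cons, e2, false_or] at hχ hψ
        have := e χ hχ hψ
        rcases T.sgn χ hχ with e3 | e3 <;> rcases T'.sgn χ hψ with e4 | e4 <;> simp [e3, e4] at this ⊢
    · rfl
  have h4 := (sum_eq_zero_iff_of_nonneg (h3 _ (by simp))).1 ((sum_eq_zero_iff_of_nonneg
    fun χ hχ => sum_nonneg (h3 χ hχ)).1 h2 (irrOne G) (by simp)) (irrOne G) (by simp)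
  simp [a, b] at h4

variable [IsSimpleGroup G]

theorem TB.gcol {p : ℕ} [hp : Fact p.Prime] {x : G} {h : Syl1 p x} {m0 m : List (IrrCharacter G)}
    {s : IrrCharacter G → ℤ} (T : TB h m0 s) (hm : m.Perm m0) (hG : ¬ IsMulCommutative G) {n : ℕ}
    (hn : Nat.card G = n) (p2 : p ≠ 2) {t : G} (ht : orderOf t = 2) {w : IrrCharacter G → ℤ}
    (hw : ∀ χ, χ.1 t = w χ) {md : ℕ → ℕ} (h0 : ∀ d, 0 < md d)
    (hd : ∀ χ ∈ m0, (md (charDegree χ.1) : ℤ) ∣ charDegree χ.1 - w χ) {k : List (ℤ × ℤ) → Bool}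
    (hk : k (ent s w m).reverse = true) : gcol n p (Nat.card (Vc p x)) (Nat.card (autSub h.ord))
      (m.map fun χ => s χ * charDegree χ.1) (Nat.card (centralizer ({t} : Set G))) md k = true := by
  have d0 := fun χ : IrrCharacter G => (deg_pos χ).ne'
  have sg : ∀ χ ∈ m, s χ = 1 ∨ s χ = -1 := fun χ hχ => T.sgn χ (hm.subset hχ)
  have h1 := T.reg t (by rwa [ht, Nat.prime_dvd_prime_iff_eq hp.out Nat.prime_two])
  rw [← (hm.map _).sum_eq] at h1
  have a3 : (qs n (ent s w m).reverse : ℂ) =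
      n * (1 + (m0.map fun χ => s χ * (χ.1 t ^ 2 / χ.1 1)).sum) := by
    rw [← (hm.map _).sum_eq, qs_eq, List.map_reverse, List.sum_reverse]
    push_cast [ent, List.map_map]
    rw [mul_add, mul_one, ← List.sum_map_mul_left]
    refine congrArg _ (congrArg _ (List.map_congr_left fun χ hχ => ?_))
    obtain ⟨k, hk⟩ := hn ▸ deg_dvd χ
    have := d0 χ
    rcases sg χ hχ with e | e <;> simp [e, hw, hk, irr_one_eq, d0] <;> field_simp
  have a5 := nq_le ((hm.cons _).nodup_iff.2 T.nodup) hw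
  have a6 : (m.map fun χ => s χ * charDegree χ.1) = (ent s w m).map (·.1) := by
    rw [ent, List.map_map]
    rfl
  simp only [H3.gcol, force_eq, a6]
  refine ann_sound (P := (· = true)) (fun _ B r e => by simp [forceI_eq, bif'_eq, e]) (ent s w m)
    (fun e => by simp [List.map_eq_nil_iff.1 e] at h1)
    (List.forall_mem_map.2 fun χ hχ => ⟨by rcases sg χ hχ with e | e <;> simp [e, d0], ?_⟩)
    (b' := Nat.card (centralizer ({t} : Set G)) - 1 - nq w m) (Int.cast_injective (α := ℂ) ?_) ?_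
    (fun r => ?_) _
  · rw [natAbs_sign (sg χ hχ)]
    have := abs_lt_deg hG (T.ne (hm.subset hχ)) (ne_one_of_ord2 ht) (hw χ)
    refine mem_opt (h0 _) (hd χ (hm.subset hχ)) (hn ▸ dvd_index_mul χ (hw χ))
      (by rwa [← Int.natCast_natAbs, Nat.cast_lt] at this) ?_
    have : _ ≤ nq w m := List.le_sum_of_mem (List.mem_map_of_mem hχ)
    dsimp only
    omega
  · push_cast [ent, List.map_map]
    rw [← h1]
    refine congrArg _ (congrArg _ (List.map_congr_left fun χ hχ => ?_))
    rcases sg χ hχ with e | e <;> simp [e, hw, Int.sign_natCast_of_ne_zero (d0 χ)]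
  · simp only [ent, List.map_map, Function.comp_def, one_mul]
    exact (Nat.sub_add_cancel (show nq w m ≤ _ by omega)).symm
  · obtain ⟨j, hj⟩ := T.sqr p2 t (ord2_iff.1 ht).1
    rw [forceI_eq, hk]
    by_cases e : Nat.card (autSub h.ord) % 2 = 0
    · rw [show ((p * Nat.card (Vc p x) : ℕ) : ℤ) * qs n (ent s w m).reverse =
        (Nat.card (centralizer ({t} : Set G)) * j : ℕ) ^ 2 from Int.cast_injective (α := ℂ) (by
          push_cast
          rw [a3, ← hj, hn, mul_assoc (_ * _)]), sqT_sq _ _ Nat.card_pos, e]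
      rfl
    · rw [show qs n (ent s w m).reverse = 0 from Int.cast_injective (α := ℂ) (by
        rw [a3, T.quad (not_real h.ord p2 (Nat.odd_iff.2 (Nat.mod_two_ne_zero.1 e))) t
          (ord2_iff.1 ht).1, mul_zero, Int.cast_zero]), Nat.mod_two_ne_zero.1 e]
      rfl

variable (h : Nat.card G = 244823040)
include h

theorem not7_24 {y : G} (hs : Syl1 11 y) : Nat.card (Vc 11 y) % 7 ≠ 0 := fun e => by
  obtain ⟨w, w1, w2⟩ := exists_mem_orderOf_eq_prime (H := Vc 11 y) fact7.out (Nat.dvd_of_mod_eq_zero e)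
  have hw := syl1_of_ord w2 (by rw [h]; norm_num)
  have a1 := ord_mul_of fact7.out fact11.out (by decide)
    (mem_centralizer_singleton_iff.1 (hs.mem_Vc.1 w1).1) w2 hs.ord
  have h5 := dvd_Vc_of fact11.out (by decide) hw (a1 ▸ dvd_mul_right 7 11) (a1 ▸ dvd_mul_left 11 7)
  obtain ⟨m, s, L, T, h1, h2⟩ := exists_TB (nc24 h) h hD24 (R := fun _ => true)
    (fun χ _ => hQ23_24 h χ) hw rfl
  have := allT6_sound c24b h2 (by
      simp only [Bool.and_eq_true, bne_iff_ne, beq_iff_eq]
      exact ⟨by omega, not23_24 h hw (by decide)⟩)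
  rw [← h1, T.uq (nc24 h) fact11.out h5] at this
  simp at this

theorem st1_24 {y : G} (hs : Syl1 11 y) (h1 : Nat.card (Vc 11 y) ≠ 1) : ∃ m s, TB hs m s ∧
    (Nat.card (Vc 11 y) = 12 ∧ Nat.card (autSub hs.ord) = 10 ∨
    (Nat.card (Vc 11 y), Nat.card (autSub hs.ord)) ∈ [(288, 5), (24, 5), (2, 5)] ∧
      ∀ c ∈ Ct24 (Nat.card (Vc 11 y)), gcol 244823040 11 (Nat.card (Vc 11 y)) (Nat.card (autSub hs.ord))
        (m.map fun χ => s χ * charDegree χ.1) c (fun _ => 44) (fun _ => true) = true →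
        Nat.card (Vc 11 y) = 2 ∧ c ∈ [73920, 887040]) := by
  by_cases e : Nat.card (Vc 11 y) = 12
  · obtain ⟨m, s, L, T, -⟩ := exists_TB (nc24 h) h hD24 (Q := fun _ => true) (R := fun _ => true)
      (fun _ _ => rfl) hs rfl
    refine ⟨m, s, T, .inl ⟨e, ?_⟩⟩
    obtain ⟨r, hr⟩ := hs.exists_r
    have h2 := hs.card_eq
    have h4 := Nat.le_of_dvd (by norm_num) (card_autSub_dvd hs.ord)
    rw [h, e] at h2
    generalize Nat.card (autSub hs.ord) = e at *
    interval_cases e <;> omega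
  obtain ⟨m, s, L, T, h2, h3⟩ := exists_TB (nc24 h) h hD24
    (R := fun _ => true) (fun χ _ => hQ23_24 h χ) hs rfl
  have a1 : gT11 (Nat.card (Vc 11 y)) (Nat.card (autSub hs.ord)) (-(1 + L.sum) :: L) = true := by
    by_cases e1 : Nat.card (Vc 11 y) = 24
    · exact allT6_sound c24c2 h3 (beq_iff_eq.2 e1)
    by_cases e2 : Nat.card (Vc 11 y) = 2
    · exact allT6_sound c24c3 h3 (beq_iff_eq.2 e2)
    exact allT6_sound c24c1 h3 (by simp [h1, e, e1, e2, not7_24 h hs, not23_24 h hs (by decide)])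
  rw [gT11, ← h2, T.bt 7 (by norm_num) (by norm_num) (mt Nat.mod_eq_zero_of_dvd (not7_24 h hs))
    (by rw [h]; norm_num) (by rw [h]; norm_num), bif'_true, bif'_eq] at a1
  split_ifs at a1 with a2
  refine ⟨m, s, T, .inr ⟨of_decide_eq_true a2, fun c hc a3 => ?_⟩⟩
  have := lall_iff.1 a1 c hc
  rw [a3, bif'_true] at this
  simpa using this

theorem no55_24 (g : G) (h1 : 11 ∣ orderOf g) : ¬ 5 ∣ orderOf g := fun h2 => by
  obtain ⟨y, hy⟩ := exists_prime_orderOf_dvd_card' (G := G) 11 (by rw [h]; norm_num)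
  have hs := syl1_of_ord hy (by rw [h]; norm_num)
  have a1 := dvd_Vc_of (q := 5) (by norm_num) (by decide) hs h1 h2
  obtain ⟨m, s, -, ⟨e, -⟩ | ⟨e, -⟩⟩ := st1_24 h hs (by omega)
  · omega
  · simp at e
    omega

theorem m24_11 {y : G} (hy : orderOf y = 11) : SC 11 y ∧ Nat.card (autSub hy) = 10 := by
  have hs := syl1_of_ord hy (by rw [h]; norm_num)
  obtain ⟨r, hr⟩ := hs.exists_r
  have h2 := hs.card_eq
  have h1 : Nat.card (Vc 11 y) = 1 := by_contra fun e => by
    have := Nat.fact_prime_two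
    have := Nat.fact_prime_three
    obtain ⟨m, s, T, h3⟩ := st1_24 h hs e
    have h4 : (Nat.card (Vc 11 y), Nat.card (autSub hy)) ∈ [(288, 5), (24, 5), (2, 5), (12, 10)] := by
      rcases h3 with ⟨e1, e2⟩ | ⟨e1, -⟩
      · rw [e1, e2]; decide
      · exact List.mem_append_left [(12, 10)] e1
    have h5 : Nat.card (Nx y) = 11 * Nat.card (Vc 11 y) * Nat.card (autSub hy) :=
      (Nat.eq_of_mul_eq_mul_right (index_pos' (Nx y))
          (hs.card_eq.symm.trans (Nx y).card_mul_index.symm)).symm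
    have h4' := h4
    simp only [List.mem_cons, Prod.mk.injEq, List.not_mem_nil, or_false] at h4'
    obtain ⟨z, z1, z2⟩ := exists_mem_orderOf_eq_prime (H := Nx y) fact5.out (by
      rw [h5]; exact Dvd.dvd.mul_left (by omega) _)
    obtain ⟨t, t1, t2, t3⟩ := exists_comm_inv' (p := 2) (hs.norm_le z1) z2 (by omega) fun k h1 h2 => by
      have : k < 9 := (Nat.pow_lt_pow_iff_right one_lt_two).1 ((Nat.le_of_dvd (by omega) h1).trans_lt
        (by omega))
      interval_cases k <;> omega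
    have cy : Commute y t := (mem_centralizer_singleton_iff.1 (hs.mem_Vc.1 t1).1).symm
    have x1 : y ∈ centralizer {t} := mem_centralizer_singleton_iff.2 cy
    obtain ⟨k, k1, k2⟩ := card_over hs x1
    have t4 : t ∈ Nx y := hs.cent_le (hs.mem_Vc.1 t1).1
    obtain ⟨i, hi⟩ : 110 ∣ Nat.card ↥(Nx y ⊓ centralizer {t}) := by
      have b1 := orderOf_dvd_card_of_mem (H := Nx y ⊓ centralizer {t})
        ⟨le_normalizer (mem_zpowers y), x1⟩
      have b2 := orderOf_dvd_card_of_mem (H := Nx y ⊓ centralizer {t})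
        ⟨z1, mem_centralizer_singleton_iff.2 t3⟩
      have b3 := orderOf_dvd_card_of_mem (H := Nx y ⊓ centralizer {t})
        ⟨t4, mem_centralizer_singleton_iff.2 rfl⟩
      rw [hy] at b1
      rw [z2] at b2
      rw [t2] at b3
      omega
    have a1 : 110 * i ∣ 11 * Nat.card (Vc 11 y) * Nat.card (autSub hy) :=
      hi ▸ h5 ▸ card_dvd_of_le inf_le_left
    have a2 : 0 < 110 * i := hi ▸ Nat.card_pos
    have a3 := c24t _ h4 i (by
      have := Nat.le_of_dvd (h5 ▸ Nat.card_pos) a1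
      rcases h4' with e | e | e | e <;> rw [e.1, e.2] at this <;> omega) a1 _
      (hD24 _ (h ▸ card_subgroup_dvd_card (centralizer {t}))) (by rw [k1, hi]; exact dvd_mul_right _ _)
      (by rw [k1, hi, Nat.mul_div_cancel_left _ a2, k2])
      (isP23_24 h (ne_one_of_ord2 t2) (by rw [t2]; decide))
    choose w w1 w2 using fun χ => mod4 (nc24 h) χ t2
    have a4 : ∀ χ ∈ m, (44 : ℤ) ∣ charDegree χ.1 - w χ := fun χ hχ => by
      have a1 := T.cg χ hχ t t1 _ (w1 χ)
      have a2 := w2 χ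
      omega
    have a5 : Nat.card (Vc 11 y) = 2 ∧ Nat.card (autSub hy) = 5 ∧ (Nx y).index = 2225664 ∧
        Nat.card (centralizer ({t} : Set G)) ∈ [73920, 887040] ∨ Nat.card (Vc 11 y) = 12 ∧
        Nat.card (autSub hy) = 10 ∧ (Nx y).index = 185472 ∧
        Nat.card (centralizer ({t} : Set G)) ∈ C12 := by
      rcases h3 with ⟨e1, e2⟩ | ⟨e1, e2⟩
      · have e3 : (Nx y).index = 185472 := by
          rw [h, e1, e2] at h2
          omega
        refine .inr ⟨e1, e2, e3, ?_⟩
        obtain ⟨x, hx⟩ := exists_prime_orderOf_dvd_card' (G := G) 23 (by rw [h]; norm_num)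
        obtain ⟨x1, x2⟩ := m24_23 h hx
        obtain ⟨m', s', L', T', -⟩ := exists_TB (nc24 h) h hD24 (Q := fun _ => true)
          (R := fun _ => true) (fun _ _ => rfl) x1.syl1 rfl
        obtain ⟨χ, c1, c2, c3⟩ := T.meet T' fun g g1 g2 => by
          have := dvd_Vc_of fact23.out (by decide) hs g1 g2
          omega
        have b1 := T.aok χ c1
        have b2 := T'.aok χ c2
        have b3 := x1.syl1.card_eq
        rw [h, card_Vc_sc x1, x2] at b3
        rw [e1, e2, e3] at b1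
        rw [card_Vc_sc x1, x2, show (Nx x).index = 967680 by omega, c3] at b2
        have b4 := abs_lt_deg (nc24 h) (T.ne c1) (ne_one_of_ord2 t2) (w1 χ)
        refine c24u _ (hD24 _ (h ▸ deg_dvd χ)) (fun e => T.ne c1 (eq_irrOne_of_deg (nc24 h) e)) (s χ)
          (by simpa using T.sgn χ c1) (Bool.or_eq_true_iff.2 b1) (Bool.or_eq_true_iff.2 b2) _ (e1 ▸ a3)
          (List.ne_nil_of_mem (mem_opt (by decide) (a4 χ c1) (h ▸ dvd_index_mul χ (w1 χ))
            (by rwa [← Int.natCast_natAbs, Nat.cast_lt] at b4) ?_))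
        have b5 := nq_le T.nodup w1
        have : _ ≤ nq w m := List.le_sum_of_mem (List.mem_map_of_mem c1)
        omega
      · obtain ⟨e3, e4⟩ := e2 _ a3 (T.gcol (.refl _) (nc24 h) h (by decide) t2 w1
          (fun _ => by decide) a4 rfl)
        have e5 : Nat.card (autSub hy) = 5 := by omega
        refine .inl ⟨e3, e5, ?_, e4⟩
        rw [h, e3, e5] at h2
        omega
    have hz := syl1_of_ord z2 (by rw [h]; norm_num)
    have t5' : t ∈ Vc 5 z := hz.mem_Vc.2 ⟨mem_centralizer_singleton_iff.2 t3.symm, by rw [t2]; decide⟩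
    have n11 : ¬ 11 ∣ Nat.card (Vc 5 z) := fun e => by
      obtain ⟨u, u1, u2⟩ := exists_mem_orderOf_eq_prime fact11.out e
      have a1 := ord_mul_of fact11.out fact5.out (by decide)
        (mem_centralizer_singleton_iff.1 (hz.mem_Vc.1 u1).1) u2 z2
      exact no55_24 h _ (a1 ▸ dvd_mul_right 11 5) (a1 ▸ dvd_mul_left 5 11)
    have u4 : Nat.card (Vc 11 y) = 12 → 3 ∣ Nat.card (Vc 5 z) := fun e1 => by
      obtain ⟨u, u1, u2, u3⟩ := exists_comm_inv' (p := 3) (hs.norm_le z1) z2 (by omega)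
        fun k h1 h2 => by
        have : k < 3 := (Nat.pow_lt_pow_iff_right (by decide : 1 < 3)).1
          ((Nat.le_of_dvd (by omega) h1).trans_lt (by omega))
        interval_cases k <;> omega
      exact u2 ▸ orderOf_dvd_card_of_mem (hz.mem_Vc.2
        ⟨mem_centralizer_singleton_iff.2 u3.symm, by rw [u2]; decide⟩)
    obtain ⟨m', s', L, T', b1, b2⟩ := exists_TB (nc24 h) h hD24
      (R := fun _ => true) (fun χ _ => hQ23_24 h χ) hz rfl
    have n2 := t2 ▸ orderOf_dvd_card_of_mem t5'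
    have n23 := not23_24 h hz (by decide)
    obtain ⟨χ, c1, c2, c3⟩ := T.meet T' (no55_24 h)
    obtain ⟨l, l1, l2⟩ := (congrFun₂ (List.eq_map_comp_perm fun χ => s' χ * charDegree χ.1)
      (srt2 (m'.map fun χ => s' χ * charDegree χ.1)) m').mpr (List.perm_insertionSort _ _)
    have c4 : aok2 11 (Nat.card (Vc 11 y)) (Nat.card (autSub hy)) (Nx y).index
        (-(s' χ * charDegree χ.1)) = true := by
      rw [c3, neg_mul, neg_neg]
      exact Bool.or_eq_true_iff.2 (T.aok χ c1)
    have b3 : ∀ C, Nat.card (centralizer ({t} : Set G)) ∈ C → t5 (Nat.card (Vc 11 y))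
        (Nat.card (autSub hy)) (Nx y).index C (Nat.card (Vc 5 z), Nat.card (autSub hz.ord),
        m'.map fun χ => s' χ * charDegree χ.1) = true := fun C hC => by
      rw [t5, lany_iff.2 ⟨_, List.mem_map_of_mem c2, c4⟩, bif'_true, forceL_eq, l1]
      refine lany_iff.2 ⟨_, hC, T'.gcol l2 (nc24 h) h (by decide) t2 w1 (fun d => by
        rw [md5, bif'_eq]; split_ifs <;> decide) (fun ψ hψ => ?_) (lany_iff.2
          ⟨(s' χ * charDegree χ.1, w χ), List.mem_reverse.2 (List.mem_map_of_mem (l2.symm.subset c2)), ?_⟩)⟩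
      · have d1 := T'.cg ψ hψ t t5' _ (w1 ψ)
        have d2 := w2 ψ
        simp only [md5, bif'_eq, Nat.beq_eq]
        split_ifs with e
        · obtain ⟨r, hr⟩ := h ▸ deg_dvd ψ
          have := cong 11 ψ.2.isCharacter cy (k := 1) hy ((defect_zero (r := r) fact11.out rfl
            (hr.symm.trans h.symm) (fun e' => by
              have := Nat.mul_dvd_mul (Nat.dvd_of_mod_eq_zero e) e'
              rw [← hr] at this
              omega) (by
              rw [ord_mul_of fact11.out Nat.prime_two (by decide) cy hy t2]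
              exact dvd_mul_right _ _)).trans Int.cast_zero.symm) (w1 ψ)
          omega
        · omega
      · have := a4 χ c1
        rw [c4, bif'_true, natAbs_sign (T'.sgn χ c2), beq_iff_eq]
        omega
    have b4 : f5 (Nat.card (Vc 5 z)) (m'.map fun χ => s' χ * charDegree χ.1) = true := by
      simp only [f5, Bool.and_eq_true, Bool.or_eq_true, beq_iff_eq, List.all_eq_true, bne_iff_ne,
        ← imp_iff_not_or, or_iff_not_imp_left (a := _ = 0)]
      exact ⟨⟨fun e => T'.bt 7 (by norm_num) (by norm_num) (by omega) (by rw [h]; norm_num)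
        (by rw [h]; norm_num), T'.bt 11 (by norm_num) (by norm_num) n11 (by rw [h]; norm_num)
        (by rw [h]; norm_num)⟩, fun q hq e => T'.uq (nc24 h)
          (by revert hq; simp; rintro (rfl | rfl | rfl) <;> norm_num) (Nat.dvd_of_mod_eq_zero e)⟩
    have b5 : ∀ C, Nat.card (centralizer ({t} : Set G)) ∈ C → gT5 (Nat.card (Vc 11 y))
        (Nat.card (autSub hy)) (Nx y).index C (Nat.card (Vc 5 z)) (Nat.card (autSub hz.ord))
        (-(1 + L.sum) :: L) ≠ true := fun C hC => by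
      rw [gT5, ← b1, b4, b3 C hC]
      simp
    rcases a5 with ⟨e1, e2, e3, e4⟩ | ⟨e1, e2, e3, e4⟩
    · rw [e1, e2, e3] at b5
      refine b5 _ e4 ?_
      by_cases f1 : Nat.card (Vc 5 z) = 2
      · exact allT6_sound c24d1 b2 (beq_iff_eq.2 f1)
      by_cases f2 : Nat.card (Vc 5 z) = 12
      · exact allT6_sound c24d2 b2 (beq_iff_eq.2 f2)
      exact allT6_sound c24d3 b2 (by
        simp only [Bool.and_eq_true, bne_iff_ne, beq_iff_eq, decide_eq_true_eq, List.mem_cons,
          List.not_mem_nil, or_false, not_or]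
        omega)
    · have := u4 e1
      rw [e1, e2, e3] at b5
      by_cases f2 : Nat.card (Vc 5 z) = 12
      · rcases (by decide : ∀ c ∈ C12, c ∈ [15840, 18480, 36960, 47520] ∨
          c ∈ [147840, 221760, 295680] ∨ c ∈ [443520, 887040]) _ e4 with e5 | e5 | e5
        exacts [b5 _ e5 (allT6_sound c24e1 b2 (beq_iff_eq.2 f2)),
          b5 _ e5 (allT6_sound c24e2 b2 (beq_iff_eq.2 f2)),
          b5 _ e5 (allT6_sound c24e3 b2 (beq_iff_eq.2 f2))]
      exact b5 _ e4 (allT6_sound c24e0 b2 (by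
        simp only [Bool.and_eq_true, bne_iff_ne, beq_iff_eq]
        omega))
  have h3 := card_autSub_dvd hy
  have h4 := Nat.le_of_dvd (by norm_num) h3
  refine ⟨hs.sc (card_eq_one.1 h1), ?_⟩
  rw [h, h1] at h2
  generalize Nat.card (autSub hy) = e at *
  interval_cases e <;> omega

theorem hQ11_24 (χ : IrrCharacter G) : charDegree χ.1 % 11 ∈ [0, 1, 10] := by
  obtain ⟨x, hx⟩ := exists_prime_orderOf_dvd_card' (G := G) 11 (by rw [h]; norm_num)
  obtain ⟨k, r, h1, h2⟩ := deg_mod_sc (m24_11 h hx).1 χ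
  rw [(m24_11 h hx).2] at h2
  simp only [List.mem_cons, List.not_mem_nil, or_false]
  omega

end Cfsg.Agent.H3
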