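import Cfsg.Agent.H3.M23c

/-! The simple group of order `244823040`: from a character of degree `23` to a subgroup of
index `24`. -/

set_option autoImplicit false
set_option linter.unusedVariables false
set_option linter.unusedSectionVars false

namespace Cfsg.Agent.H3

open Finset Subgroup Equiv Cfsg.Agent.PLoc Cfsg.Agent.Char Cfsg.Agent.Blk Cfsg.Agent.Inv Cfsg.Agent.H9
  Cfsg.Agent.Gol
open scoped ComplexConjugate TensorProduct

universe u

variable {G : Type u} [Group G] [Fintype G]

/-- a symplectic irreducible character has even degree -/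
theorem even_of_sympl {χ : IrrCharacter G}
    (h : classInner (fun g => (χ.1 g ^ 2 - χ.1 (g * g)) / 2) (fun _ => 1) ≠ 0) :
    Even (charDegree χ.1) := by
  obtain ⟨n, ρ, hi, hρ⟩ := id χ.2
  have hn : Module.finrank ℂ (Fin n → ℂ) = charDegree χ.1 := Nat.cast_injective (R := ℂ) (by
    rw [← irr_one_eq, ← hρ, Representation.char_one])
  rw [Module.finrank_fin_fun] at hn
  obtain ⟨-, hU⟩ := (isIrreducible_iff ρ).1 hi
  have hs : ∀ g, Function.Surjective (ρ g) := fun g v => ⟨ρ g⁻¹ v, by
    rw [← Module.End.mul_apply, ← map_mul, mul_inv_cancel, map_one]; rfl⟩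
  obtain ⟨f, f0, f1, f2⟩ := form_ex (sp_comm ρ (-1)) (sp_idem (n := n) (ε := -1) (by simp)) rfl
    (by simpa only [sp_trace, neg_one_mul, ← sub_eq_add_neg, hρ] using h)
  let B := TensorProduct.curry f
  have b0 : B ≠ 0 := fun e => f0 (TensorProduct.ext' fun a b => LinearMap.congr_fun₂ e a b)
  have b1 : ∀ g a b, B (ρ g a) (ρ g b) = B a b := fun g a b => LinearMap.congr_fun (f1 g) (a ⊗ₜ b)
  have b2 : ∀ a b, B a b = -B b a := fun a b => by
    have := sp_fix.1 f2 a b
    simp only [neg_smul, one_smul] at this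
    exact this.symm
  have i1 : LinearMap.ker B = ⊥ := (hU _ fun g v hv =>
    LinearMap.ext fun w => by
      obtain ⟨w, rfl⟩ := hs g w
      exact (b1 g v w).trans (LinearMap.congr_fun hv w)).resolve_right
    fun e => b0 (LinearMap.ker_eq_top.1 e)
  have i2 : (LinearMap.toMatrix₂' ℂ B).det ≠ 0 :=
    LinearMap.separatingLeft_toLinearMap₂'_iff_det_ne_zero.1 (by
      rw [Matrix.toLinearMap₂'_toMatrix']
      exact LinearMap.separatingLeft_iff_ker_eq_bot.2 i1)
  rw [← hn]
  by_contra ho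
  have e : (LinearMap.toMatrix₂' ℂ B).transpose = -LinearMap.toMatrix₂' ℂ B := by
    ext i j
    simp only [Matrix.transpose_apply, Matrix.neg_apply, LinearMap.toMatrix₂'_apply]
    exact b2 _ _
  have e2 := Matrix.det_transpose (LinearMap.toMatrix₂' ℂ B)
  rw [e, Matrix.det_neg, Fintype.card_fin, (Nat.not_even_iff_odd.1 ho).neg_one_pow] at e2
  exact i2 (by linear_combination (-1 / 2 : ℂ) * e2)

/-- what is needed from the tree search -/
structure H24 (χ : IrrCharacter G) : Prop where
  d23 : charDegree χ.1 = 23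
  uniq : ∀ ψ : IrrCharacter G, charDegree ψ.1 = 23 → ψ = χ
  small : ∀ ψ : IrrCharacter G, charDegree ψ.1 ≤ 275 → ψ = irrOne G ∨
    charDegree ψ.1 ∈ [23, 45, 231, 252, 253]
  val : ∀ ψ : IrrCharacter G, charDegree ψ.1 ≤ 275 → ∀ g, orderOf g = 11 →
    ψ.1 g = sv 11 (charDegree ψ.1)

variable {χ : IrrCharacter G} (H : H24 χ)
include H

theorem H24.dec {y : G} (hy : orderOf y = 11) {σ : G → ℂ}
    (hσ : IsCharacter G σ) {n : ℕ} (hn : σ 1 = n) (n1 : n ≤ 275)
    (h1 : classInner σ (fun _ => 1) = 0) {Y : ℤ} (hY : σ y = Y) :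
    ∃ L : List (IrrCharacter G), (∀ g, σ g = (L.map (·.1 g)).sum) ∧ L.map (charDegree ·.1) ∈
      (parts [253, 252, 231, 45, 23] n).filter fun P => (P.map (sv 11)).sum = Y := by
  obtain ⟨L, l1, l2, l3, l4⟩ := exists_dec hσ hn (C := [253, 252, 231, 45, 23]) fun χ e1 e2 => by
    have := (H.small χ (by omega)).resolve_left fun e => e1 (e ▸ h1)
    simp at this ⊢
    omega
  have l5 : ∀ ψ ∈ L, charDegree ψ.1 ≤ 275 := fun ψ hψ =>
    (List.le_sum_of_mem (List.mem_map_of_mem hψ)).trans (l4.le.trans n1)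
  refine ⟨L, l1, List.mem_filter.2 ⟨l3, decide_eq_true ?_⟩⟩
  apply Int.cast_injective (α := ℂ)
  rw [← hY, l1, Int.cast_list_sum, List.map_map, List.map_map]
  exact congrArg _ (List.map_congr_left fun ψ hψ => (H.val ψ (l5 ψ hψ) y hy).symm)

theorem H24.index (h : Nat.card G = 244823040) : ∃ M : Subgroup G, M.index = 24 := by
  classical
  obtain ⟨y, hy⟩ := exists_prime_orderOf_dvd_card' (G := G) 11 (by rw [h]; norm_num)
  have d := H.d23
  have r : ∀ g, conj (χ.1 g) = χ.1 g := fun g =>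
    congrFun (congrArg Subtype.val (H.uniq _ ((deg_bar χ).trans d))) g
  have y1 := H.val χ (by omega) y hy
  have y2 := H.val χ (by omega) _ (ord_sq hy (by decide))
  rw [d] at y1 y2
  obtain ⟨i, j, -, i1, i2, i3⟩ := χ.2.frobenius_schur
  rw [if_pos fun g => Complex.conj_eq_iff_im.1 (r g)] at i1
  have one := isIrrCharacter_one (G := G)
  have o1 := deg_irrOne (G := G)
  rcases (by omega : i = 0 ∧ j = 1 ∨ i = 1 ∧ j = 0) with ⟨rfl, rfl⟩ | ⟨rfl, rfl⟩
  · exact absurd (d ▸ even_of_sympl (χ := χ) (by simp [i3])) (by decide)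
  obtain ⟨L, l1, l2⟩ := H.dec hy (χ.2.isCharacter.sym.sub_irr one (by simp [i2])) (n := 275)
    (by norm_num [irr_one_eq, d]) (by decide)
    (by rw [classInner_sub_left, i2, one.classInner_self]; simp) (Y := 0)
    (by norm_num [y1, y2, sv])
  obtain ⟨L', l3, l4⟩ := H.dec hy χ.2.isCharacter.alt (n := 253)
    (by norm_num [irr_one_eq, d]) (by decide) (by simpa using i3) (Y := 0)
    (by norm_num [y1, y2, sv])
  rw [show List.filter _ _ = [[252, 23]] by decide +kernel] at l2
  rw [show List.filter _ _ = [[253]] by decide +kernel] at l4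
  simp only [List.mem_cons, List.not_mem_nil, or_false, List.map_eq_cons_iff,
    List.map_eq_nil_iff] at l2 l4
  obtain ⟨η, _, rfl, a1, ψ, _, rfl, a2, rfl⟩ := l2
  obtain ⟨θ, _, rfl, b1, rfl⟩ := l4
  obtain rfl := H.uniq ψ a2
  refine alg_index (ψ := θ) d (by decide) (by simp [i2]) ?_ (fun g => by simpa using l3 g)
    (by rintro rfl; omega)
  rw [show (fun g => _) = (irrOne G).1 + (η.1 + ψ.1) from funext fun g => by
    simpa [sub_eq_iff_eq_add'] using l1 g, classInner_add_left, classInner_add_left, irr_classInner,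
    irr_classInner, irr_classInner, if_neg (by rintro rfl; omega), if_neg (by rintro rfl; omega)]
  simp

end Cfsg.Agent.H3
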