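import Cfsg.Agent.H3.M24n
import Cfsg.Agent.H3.C1

/-! The simple group of order `244823040`: numerical checks for the prime `5`. -/

set_option autoImplicit false

namespace Cfsg.Agent.H3

open Cfsg.Agent.H9

def Q11x (d : ℕ) : Bool := d % 11 ∈ [0, 1, 10]

def Q24 (d : ℕ) : Bool := Q23 d && Q11x d && d != 11 && d != 12

theorem c24qc : trees2 244823040 23 D24 (fun d => Q11x d && (d % 23 == 0 || d ≤ 156)) (· == 1) = [] := by
  decide +kernel

theorem c24qd : ∀ U ∈ trees2 244823040 5 D24 Q24 (fun v => v % 11 != 0 && v % 23 != 0),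
    U.2.1 = 4 ∧ U.1 ∈ [2, 7, 12, 32, 192] ∧ (btU 23 (-(1 + U.2.2.2.sum) :: U.2.2.2) = true →
      U.1 ≠ 7 ∧ (btU 7 (-(1 + U.2.2.2.sum) :: U.2.2.2) = true →
      (-(1 + U.2.2.2.sum) :: U.2.2.2).Perm [1771, -2024, -5544, 5796] ∨ U.1 ∈ [2, 32] ∧
      (-(1 + U.2.2.2.sum) :: U.2.2.2).Perm [-5544, 5796, 6831, -7084] ∨ U.1 ∈ [2, 32] ∧
      (-(1 + U.2.2.2.sum) :: U.2.2.2).Perm [-5544, 736, -2024, 6831])) := by decide +kernel

end Cfsg.Agent.H3
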