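import Cfsg.Agent.H3.BT
import Cfsg.Agent.Blk.BS1
import Cfsg.Agent.H9.Sm2

/-! Characters whose degree misses only a small part of the power of `p` in the group order. -/

set_option autoImplicit false
set_option linter.unusedVariables false
set_option linter.unusedSectionVars false

namespace Cfsg.Agent.H3

open Cfsg Finset Subgroup Cfsg.Agent.PLoc Cfsg.Agent.Char Cfsg.Agent.Blk Cfsg.Agent.H9
open scoped ComplexConjugate

universe u

variable {G : Type u} [Group G] [Finite G]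

/-- the partners of `ψ` -/
theorem exists_part {p : ℕ} [Fact p.Prime] (M : Ideal AlgInt) [hp : PMod p M] (ψ : IrrCharacter G)
    {j r : ℕ} (h : charDegree ψ.1 * p ^ j * r = Nat.card G) (hr : ¬ p ∣ r) :
    ∃ n : IrrCharacter G → ℤ, (∀ g, (p : ℂ) ^ j * regPart p ψ.1 g = ∑ χ, n χ * χ.1 g) ∧
      ∑ χ, n χ ^ 2 = p ^ j * n ψ ∧ 0 < n ψ ∧ (0 < j → n ψ < p ^ j) ∧
      (∀ χ, n χ ≠ 0 → SameBlock M χ.1 ψ.1) ∧
      (¬ (p : ℤ) ∣ n ψ → ∀ χ : IrrCharacter G, SameBlock M χ.1 ψ.1 → n χ ≠ 0 ∧ (¬ (p : ℤ) ∣ n χ →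
        (charDegree χ.1).factorization p = (charDegree ψ.1).factorization p)) := by
  classical
  have := Fintype.ofFinite G
  have pp : p.Prime := Fact.out
  have p0 : (p : ℂ) ≠ 0 := by exact_mod_cast pp.ne_zero
  have d0 : ∀ χ : IrrCharacter G, (charDegree χ.1 : ℂ) ≠ 0 := fun χ => by
    exact_mod_cast (deg_pos χ).ne'
  have e1 : ∀ χ : IrrCharacter G, om ψ (aR p χ.1) = p ^ j * r * classInner (regPart p ψ.1) χ.1 :=
    fun χ => by
      rw [om_def, ev_aR, ← h, irr_one_eq]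
      have := d0 ψ
      push_cast
      field_simp
  have e2 : ∀ χ : IrrCharacter G, ∃ n : ℤ, (p : ℂ) ^ j * classInner (regPart p ψ.1) χ.1 = n :=
    fun χ => by
      obtain ⟨N, hN⟩ := (isGen_regPart (p := p) ψ.2.isGen).classInner_int χ.2.isGen
      rw [classInner_smul_left, Nat.cast_pow] at hN
      have a0 := pow_ne_zero ((Nat.card G).factorization p) p0
      have a1 := om_mem_LR (M := M) ψ (aR_mem_ZR (p := p) χ.2.isCharacter)
      rw [e1, eq_div_of_mul_eq a0 ((mul_comm _ _).trans hN), ← mul_div_assoc,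
        show (p : ℂ) ^ j * r * N = ((r * (p ^ j * N) : ℤ) : ℂ) by push_cast; ring] at a1
      obtain ⟨n, hn⟩ := (IsCoprime.pow_left (Nat.isCoprime_iff_coprime.2
        ((Nat.Prime.coprime_iff_not_dvd pp).2 hr))).dvd_of_dvd_mul_left (dvd_of_div_pow_mem_LR a1)
      refine ⟨n, mul_left_cancel₀ a0 ?_⟩
      have := congrArg (Int.cast (R := ℂ)) hn
      push_cast at this
      rw [← this, ← hN]
      ring
  choose n hn using e2
  have c1 := isClassFunction_regPart (p := p) ψ.2.isClassFunction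
  have e3 : ∀ g, (p : ℂ) ^ j * regPart p ψ.1 g = ∑ χ, n χ * χ.1 g := fun g => by
    rw [c1.apply_eq_sum_irr g, mul_sum]
    exact sum_congr rfl fun χ _ => by rw [← mul_assoc, hn]
  have e4 : ∑ χ, n χ ^ 2 = p ^ j * n ψ := by
    apply Int.cast_injective (α := ℂ)
    have a1 : classInner (regPart p ψ.1) ψ.1 = classInner (regPart p ψ.1) (regPart p ψ.1) := by
      simp only [classInner, regPart]
      congr 1
      refine sum_congr rfl fun g _ => ?_
      split_ifs <;> simp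
    push_cast
    rw [← hn ψ, a1, c1.classInner_eq_sum_irr, mul_sum, mul_sum]
    refine sum_congr rfl fun χ _ => ?_
    have a2 := congrArg conj (hn χ)
    rw [map_mul, map_pow, map_natCast, map_intCast] at a2
    rw [sq]
    nth_rw 2 [← a2]
    rw [← hn χ]
    ring
  have q0 : (0 : ℤ) < p ^ j := by have := pp.pos; positivity
  have e5 : 0 < n ψ := by
    have a1 : 0 ≤ ∑ χ, n χ ^ 2 := sum_nonneg fun χ _ => sq_nonneg _
    refine lt_of_le_of_ne (nonneg_of_mul_nonneg_right (e4 ▸ a1) q0) fun e => ?_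
    rw [← e, mul_zero, sum_eq_zero_iff_of_nonneg fun χ _ => sq_nonneg _] at e4
    have := e3 1
    rw [regPart_of_not_dvd _ (by simpa using pp.ne_one), sum_eq_zero fun χ _ => by
      rw [pow_eq_zero_iff two_ne_zero |>.1 (e4 χ (mem_univ _))]; simp] at this
    exact mul_ne_zero (pow_ne_zero _ p0) ψ.2.one_ne_zero this
  have e6 : ∀ χ : IrrCharacter G, om ψ (aR p χ.1) = (r * n χ : ℤ) := fun χ => by
    rw [e1]; push_cast; rw [← hn]; ring
  have r0 : r ≠ 0 := fun e => hr (e ▸ dvd_zero _)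
  refine ⟨n, e3, e4, e5, fun j0 => ?_, fun χ h0 => by_contra fun e => ?_, fun h1 χ h2 => ?_⟩
  · rw [← add_sum_erase _ _ (mem_univ ψ)] at e4
    have a1 : 0 ≤ ∑ χ ∈ univ.erase ψ, n χ ^ 2 := sum_nonneg fun χ _ => sq_nonneg _
    refine lt_of_le_of_ne (by nlinarith) fun e => ?_
    have a2 : ∑ χ ∈ univ.erase ψ, n χ ^ 2 = 0 := by rw [← e] at e4; nlinarith
    rw [sum_eq_zero_iff_of_nonneg fun χ _ => sq_nonneg _] at a2
    obtain ⟨P⟩ : Nonempty (Sylow p G) := inferInstance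
    obtain ⟨k, hk⟩ := card_dvd_of_vanish ψ.2.isGen (P : Subgroup G) (n := charDegree ψ.1)
      (fun y hy y1 => by
        have := e3 y
        rw [regPart_of_dvd _ (by
          rw [← orderOf_mk y hy]; exact P.isPGroup'.dvd_orderOf (by simpa using y1)), mul_zero,
          ← add_sum_erase _ _ (mem_univ ψ), sum_eq_zero fun χ hχ => by
            rw [pow_eq_zero_iff two_ne_zero |>.1 (a2 χ hχ)]; simp, add_zero] at this
        exact (mul_eq_zero.1 this.symm).resolve_left (by exact_mod_cast e5.ne'))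
      (by rw [irr_one_eq]; simp)
    obtain ⟨k, hk⟩ := Int.natCast_dvd_natCast.1 ⟨k, hk⟩
    refine P.not_dvd_index ?_
    rw [← card_mul_index (P : Subgroup G), hk, mul_assoc, mul_assoc] at h
    rw [← Nat.eq_of_mul_eq_mul_left Nat.card_pos h]
    exact ((dvd_pow_self p j0.ne').mul_right r).mul_left k
  · have := (e6 χ).symm.trans (om_aR_eq_zero (p := p) e)
    exact mul_ne_zero (by exact_mod_cast r0) h0 (by exact_mod_cast this : (r : ℤ) * n χ = 0)
  have u0 : ∀ χ : IrrCharacter G, ¬ (p : ℤ) ∣ n χ → ((r * n χ : ℤ) : ℂ) ∉ LP M := fun χ h e =>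
    ((Int.prime_iff_natAbs_prime.2 (by simpa using pp)).dvd_or_dvd (intCast_mem_LP.1 e)).elim
      (fun e => hr (Int.natCast_dvd_natCast.1 e)) h
  have a1 := om_mem_LR (M := M) χ (aR_mem_ZR (p := p) ψ.2.isCharacter)
  have a2 : om χ (aR p ψ.1) ∉ LP M := notMem_LP_of_sub
    (om_sub_mem_of_sameBlock h2 (aR_mem_ZR (p := p) ψ.2.isCharacter)) (e6 ψ ▸ u0 ψ h1)
  have a3 := om_aR_comm (p := p) χ ψ
  rw [e6, irr_one_eq, irr_one_eq] at a3
  have a4 := ne_zero_of_notMem_LP a2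
  refine ⟨fun e => ?_, fun e => le_antisymm ?_ ?_⟩
  · rw [e] at a3
    exact mul_ne_zero (div_ne_zero (d0 χ) (d0 ψ)) a4 (by simpa using a3.symm)
  · rw [← div_mem_LR_iff (M := M) (deg_pos ψ).ne' (deg_pos χ).ne']
    have a5 := ne_zero_of_notMem_LP (u0 χ e)
    convert mul_mem a1 (inv_mem_LR (intCast_mem _ _) (u0 χ e)) using 1
    rw [a3]
    have := d0 χ
    have := d0 ψ
    field_simp
  · rw [← div_mem_LR_iff (M := M) (deg_pos χ).ne' (deg_pos ψ).ne']
    convert mul_mem (intCast_mem (LR M) (r * n χ)) (inv_mem_LR a1 a2) using 1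
    rw [a3]
    field_simp

/-- a character whose degree misses exactly one factor `3` lies in a block with three characters -/
theorem triple (M : Ideal AlgInt) [hp : PMod 3 M] (ψ : IrrCharacter G) {r : ℕ}
    (h : charDegree ψ.1 * 3 * r = Nat.card G) (hr : ¬ 3 ∣ r) :
    ∃ (χ₁ χ₂ : IrrCharacter G) (s₁ s₂ c : ℤ), [ψ, χ₁, χ₂].Nodup ∧ (s₁ = 1 ∨ s₁ = -1) ∧
      (s₂ = 1 ∨ s₂ = -1) ∧ (c = 1 ∨ c = 2) ∧
      (∀ g, ¬ 3 ∣ orderOf g → c * ψ.1 g = s₁ * χ₁.1 g + s₂ * χ₂.1 g) ∧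
      (∀ g, 3 ∣ orderOf g → (c - 3) * ψ.1 g = s₁ * χ₁.1 g + s₂ * χ₂.1 g) ∧
      (charDegree χ₁.1).factorization 3 = (charDegree ψ.1).factorization 3 ∧
      (charDegree χ₂.1).factorization 3 = (charDegree ψ.1).factorization 3 ∧
      ∀ χ : IrrCharacter G, SameBlock M χ.1 ψ.1 ↔ χ = ψ ∨ χ = χ₁ ∨ χ = χ₂ := by
  classical
  have := Nat.fact_prime_three
  obtain ⟨n, h1, h2, h3, h4, h5, h6⟩ := exists_part M ψ (j := 1) (by rwa [pow_one]) hr
  have h7 := h4 one_pos
  have h8 := h6 (by omega)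
  obtain ⟨a, b, ab, a1, b1, c1⟩ := int_sum_sq_eq_two (Function.update n ψ 0) (by
    rw [← add_sum_erase _ _ (mem_univ ψ)] at h2 ⊢
    rw [sum_congr rfl (g := fun χ => n χ ^ 2) fun χ hχ => by
      rw [Function.update_of_ne (ne_of_mem_erase hχ)], Function.update_self]
    have : n ψ = 1 ∨ n ψ = 2 := by omega
    rcases this with e | e <;> rw [e] at h2 <;> omega)
  have a0 : a ≠ ψ := by rintro rfl; simp at a1
  have b0 : b ≠ ψ := by rintro rfl; simp at b1
  rw [Function.update_of_ne a0] at a1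
  rw [Function.update_of_ne b0] at b1
  have c2 : ∀ k, k ≠ ψ → k ≠ a → k ≠ b → n k = 0 := fun k e1 e2 e3 => by
    simpa only [Function.update_of_ne e1] using c1 k e2 e3
  have c3 : ∀ g, (3 : ℂ) * regPart 3 ψ.1 g = n ψ * ψ.1 g + (n a * a.1 g + n b * b.1 g) := fun g => by
    have := h1 g
    rw [← add_sum_erase _ _ (mem_univ ψ), sum_eq_add_of_mem a b (by simpa) (by simpa) ab
      fun k hk e => by rw [c2 k (ne_of_mem_erase hk) e.1 e.2]; simp] at this
    simpa using this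
  refine ⟨a, b, n a, n b, 3 - n ψ, by simp [a0.symm, b0.symm, ab], a1, b1, by omega, fun g hg => ?_,
    fun g hg => ?_, (h8 a (h5 a (by omega))).2 (by omega), (h8 b (h5 b (by omega))).2 (by omega),
    fun χ => ⟨fun e => by_contra fun e' => ?_, ?_⟩⟩
  · have := c3 g
    rw [regPart_of_not_dvd _ hg] at this
    push_cast
    linear_combination this
  · have := c3 g
    rw [regPart_of_dvd _ hg] at this
    push_cast
    linear_combination this
  · simp only [not_or] at e'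
    exact (h8 χ e).1 (c2 χ e'.1 e'.2.1 e'.2.2)
  · rintro (rfl | rfl | rfl)
    exacts [sameBlock_refl _, h5 _ (by omega), h5 _ (by omega)]

end Cfsg.Agent.H3
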