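import Cfsg.Agent.H3.M24a
import Cfsg.Agent.H3.M24q
import Cfsg.Agent.H3.M23b
import Cfsg.Agent.H3.Tri

/-! The simple group of order `244823040`: degrees `11`, `12` and the principal `5`-block. -/

set_option autoImplicit false
set_option linter.unusedVariables false
set_option linter.unusedSectionVars false

namespace Cfsg.Agent.H3

open Finset Subgroup Equiv Cfsg.Agent.PLoc Cfsg.Agent.Char Cfsg.Agent.Blk Cfsg.Agent.Inv Cfsg.Agent.H9
  Cfsg.Agent.Gol
open scoped ComplexConjugate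

universe u

variable {G : Type u} [Group G] [Fintype G]

open Classical in
/-- the principal `5`-block -/
structure B5 (z : G) (a b c d : IrrCharacter G) (w : IrrCharacter G → ℤ) : Prop where
  ord : orderOf z = 5
  cj : ∀ g, orderOf g = 5 → IsConj z g
  v : Nat.card (Vc 5 z) = 12 ∨ Nat.card (Vc 5 z) = 192
  deg : charDegree a.1 = 1771 ∧ charDegree b.1 = 2024 ∧ charDegree c.1 = 5544 ∧ charDegree d.1 = 5796
  col : ∀ (χ : IrrCharacter G) g, orderOf g = 5 → χ.1 g = w χ
  wv : w a = 1 ∧ w b = -1 ∧ w c = -1 ∧ w d = 1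
  sing : ∀ g, 5 ∣ orderOf g → a.1 g = 1 ∧ b.1 g = -1 ∧ c.1 g = -1 ∧ d.1 g = 1
  reg : ∀ g, ¬ 5 ∣ orderOf g → 1 + a.1 g + d.1 g = b.1 g + c.1 g
  avg : ∀ χ ∉ [irrOne G, a, b, c, d], ∑ v ∈ univ.filter (· ∈ Vc 5 z), χ.1 (z * v) = 0
  rat : ∀ χ ∈ [a, b, c, d], ∀ g, ∃ n : ℤ, χ.1 g = n

variable [IsSimpleGroup G] (h : Nat.card G = 244823040)
  (h11 : ∀ {y : G} (hy : orderOf y = 11), SC 11 y ∧ Nat.card (autSub hy) = 10)
include h h11

theorem hQ11x (χ : IrrCharacter G) : Q11x (charDegree χ.1) = true := by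
  obtain ⟨x, hx⟩ := exists_prime_orderOf_dvd_card' (G := G) 11 (by rw [h]; norm_num)
  obtain ⟨k, r, h1, h2⟩ := deg_mod_sc (h11 hx).1 χ
  rw [(h11 hx).2] at h2
  simp only [Q11x, List.mem_cons, List.not_mem_nil, or_false, decide_eq_true_eq]
  omega

theorem hQ24 (χ : IrrCharacter G) : Q24 (charDegree χ.1) = true := by
  simp only [Q24, hQ23_24 h, hQ11x h h11, Bool.true_and, Bool.and_true, Bool.and_eq_true, bne_iff_ne]
  by_contra e
  obtain ⟨x, hx⟩ := exists_prime_orderOf_dvd_card' (G := G) 23 (by rw [h]; norm_num)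
  obtain ⟨h1, h2⟩ := m24_23 h hx
  obtain ⟨l, s, ε, μ, ν, T, -⟩ := exists_T2 (nc24 h) h hD24 (Q := fun _ => true) (fun _ _ => rfl) h1
    (by rw [h2])
  have a1 : charDegree χ.1 = charDegree μ.1 := by_contra fun e' => by
    have := cong1 23 χ (k := 1) hx (T.value (by decide) e' hx)
    unfold sv at this
    split_ifs at this <;> omega
  obtain ⟨L, a2, -⟩ := exists_tree2 (nc24 h) h hD24 (R := (· == 1))
    (Q := fun d => Q11x d && (d % 23 == 0 || d ≤ 156)) (fun ψ hψ => by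
      have b1 := T.mem_degs hψ
      have b2 := T.size
      have b3 := T.deg.1
      obtain ⟨-, -, b4⟩ := le_pos_sum (l.map fun χ => s χ * charDegree χ.1)
      simp only [degs, Bool.or_eq_true, beq_iff_eq, decide_eq_true_eq, List.mem_cons,
        List.mem_map (f := Int.natAbs), hQ11x h h11, Bool.true_and] at b1 ⊢
      have b5 : charDegree μ.1 = 11 ∨ charDegree μ.1 = 12 := a1 ▸ by_contra fun e' => e (not_or.1 e')
      refine b1.imp_right ?_
      rintro (b | ⟨a, b, b'⟩)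
      · rw [b, b3, natAbs_sign T.eps]
        omega
      · have := b4 a b
        generalize (l.map fun χ => s χ * charDegree χ.1) = L at *
        rcases T.eps with rfl | rfl <;> rcases b5 with e | e <;> rw [e] at b2 b3 <;> omega)
    h1.syl1 (by simp [card_Vc_sc h1])
  rw [c24qc] at a2
  simp at a2

theorem not11_24 {p : ℕ} [hp : Fact p.Prime] {y : G} (hy : Syl1 p y) (h1 : p ≠ 11) :
    Nat.card (Vc p y) % 11 ≠ 0 := fun e => isP_cent_of_sc (by norm_num) (fun x hx => (h11 hx).1)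
  hy.ne_one (by rw [hy.ord, Nat.prime_dvd_prime_iff_eq fact11.out hp.out]; omega)
  (hy.card_cent ▸ (Nat.dvd_of_mod_eq_zero e).mul_left p)

omit h11 in
theorem kill5 {z : G} (hs : Syl1 5 z) {m : List (IrrCharacter G)} {w : IrrCharacter G → ℤ}
    (C : C1 5 z m w) (hv : ¬ 3 ∣ Nat.card (Vc 5 z))
    (b1 : -5544 ∈ m.map (fun χ => w χ * charDegree χ.1))
    (b2 : (m.map fun χ => w χ * charDegree χ.1).count (-5544) ≤ 1)
    (b3 : (m.map fun χ => w χ * charDegree χ.1).count 5796 ≤ 1)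
    (b4 : ∀ a ∈ m.map (fun χ => w χ * charDegree χ.1),
      a ∈ [1771, -2024, -5544, 5796, 6831, -7084, 736]) : False := by
  classical
  have av := fun χ hχ => avgV hs C.nodup C.len C.val (χ := χ) hχ
  obtain ⟨c, c1, c2⟩ := List.mem_map.1 b1
  obtain ⟨c3, c4⟩ : charDegree c.1 = 5544 ∧ w c = -1 := by
    rcases (C.val c c1).1 with e | e <;> rw [e] at c2 ⊢ <;> omega
  obtain ⟨M, hM⟩ := exists_PMod 3
  obtain ⟨χ₁, χ₂, s₁, s₂, k, t1, t2, t3, t4, t5, -, t6, t7, -⟩ :=
    triple M c (r := 14720) (by rw [c3, h]) (by decide)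
  set S := univ.filter (· ∈ Vc 5 z)
  have S0 : (S.card : ℂ) ≠ 0 := Nat.cast_ne_zero.2 (card_ne_zero.2 ⟨1, by simp [S, one_mem]⟩)
  have f3 : ∀ d : ℕ, d ≠ 0 → d.factorization 3 = (charDegree c.1).factorization 3 →
      9 ∣ d ∧ ¬ 27 ∣ d := fun d d0 e => by
    have : (5544 : ℕ).factorization 3 = 2 := by
      rw [show 5544 = 3 ^ 2 * 616 by norm_num, Nat.factorization_mul (by norm_num) (by norm_num),
        Nat.prime_three.factorization_pow, Finsupp.add_apply,
        Nat.factorization_eq_zero_of_not_dvd (by norm_num : ¬ 3 ∣ 616)]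
      simp
    rw [c3, this] at e
    exact ⟨(Nat.prime_three.pow_dvd_iff_le_factorization (k := 2) d0).2 e.ge, fun e' => by
      have := (Nat.prime_three.pow_dvd_iff_le_factorization (k := 3) d0).1 e'
      omega⟩
  have hA : ∀ χ : IrrCharacter G, χ ≠ c →
      (charDegree χ.1).factorization 3 = (charDegree c.1).factorization 3 →
      ∃ r : ℤ, ∑ v ∈ S, χ.1 (z * v) = r * S.card ∧ (r = 0 ∨ r = 1 ∧ χ ∈ m ∧
        w χ * charDegree χ.1 = 5796 ∧ charDegree χ.1 = 5796) := fun χ e1 e2 => by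
    have e3 := f3 _ (deg_pos χ).ne' e2
    by_cases e4 : χ ∈ irrOne G :: m
    · rcases List.mem_cons.1 e4 with rfl | e4
      · rw [deg_irrOne] at e3
        omega
      have e5 := b4 _ (List.mem_map_of_mem e4)
      have e6 : w χ * charDegree χ.1 ≠ -5544 := fun e => e1 (eq_of_count b2 e4 c1 e c2)
      simp only [List.mem_cons, List.not_mem_nil, or_false] at e5
      obtain ⟨e7, e8⟩ : w χ = 1 ∧ charDegree χ.1 = 5796 := by
        rcases (C.val χ e4).1 with e | e <;> rw [e] at e5 e6 ⊢ <;> omega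
      refine ⟨1, ?_, .inr ⟨rfl, e4, by rw [e7, e8]; rfl, e8⟩⟩
      rw [sum_congr rfl fun v hv => (C.val χ e4).2 v (mem_filter.1 hv).2, e7, sum_const]
      simp only [nsmul_eq_mul, mul_comm]
      congr
    · exact ⟨0, by simpa using av χ e4, .inl rfl⟩
  simp only [List.nodup_cons, List.mem_cons, List.not_mem_nil, or_false, not_or] at t1
  obtain ⟨r₁, u1, u2⟩ := hA χ₁ (Ne.symm t1.1.1) t6
  obtain ⟨r₂, u3, u4⟩ := hA χ₂ (Ne.symm t1.1.2) t7
  have u5 : k * ∑ v ∈ S, c.1 (z * v) = s₁ * ∑ v ∈ S, χ₁.1 (z * v) + s₂ * ∑ v ∈ S, χ₂.1 (z * v) := by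
    simp only [mul_sum, ← sum_add_distrib]
    refine sum_congr rfl fun v hv => t5 _ fun e' => ?_
    have := e'.trans (orderOf_dvd_card_of_mem (mul_mem (hs.le_cent (mem_zpowers z))
      (hs.mem_Vc.1 (mem_filter.1 hv).2).1))
    rw [hs.card_cent] at this
    omega
  rw [u1, u3, sum_congr rfl fun v hv => (C.val c c1).2 v (mem_filter.1 hv).2, c4] at u5
  have u6 : -k = s₁ * r₁ + s₂ * r₂ := Int.cast_injective (α := ℂ) (mul_right_cancel₀ S0 (by
    push_cast
    simp only [sum_const, nsmul_eq_mul] at u5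
    push_cast at u5
    linear_combination u5))
  have u7 : k * charDegree c.1 = s₁ * charDegree χ₁.1 + s₂ * charDegree χ₂.1 :=
    Int.cast_injective (α := ℂ) (by simpa [irr_one_eq] using t5 1 (by simp))
  have d1 : charDegree χ₁.1 ∣ 244823040 := h ▸ deg_dvd χ₁
  have d2 : charDegree χ₂.1 ∣ 244823040 := h ▸ deg_dvd χ₂
  rcases u2 with rfl | ⟨rfl, v1, v2, v3⟩ <;> rcases u4 with rfl | ⟨rfl, v4, v5, v6⟩
  · omega
  · have : charDegree χ₁.1 = 11340 := by
      rcases t2 with rfl | rfl <;> rcases t3 with rfl | rfl <;> rcases t4 with rfl | rfl <;> omega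
    rw [this] at d1
    omega
  · have : charDegree χ₂.1 = 11340 := by
      rcases t2 with rfl | rfl <;> rcases t3 with rfl | rfl <;> rcases t4 with rfl | rfl <;> omega
    rw [this] at d2
    omega
  · exact t1.2.1 (eq_of_count b3 v1 v4 v2 v5)

theorem exists_B5 {z : G} (hz : orderOf z = 5) : ∃ a b c d w, B5 z a b c d w := by
  classical
  have hs := syl1_of_ord hz (by rw [h]; norm_num)
  have hR : (Nat.card (Vc 5 z) % 11 != 0 && Nat.card (Vc 5 z) % 23 != 0) = true := by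
    simp only [Bool.and_eq_true, bne_iff_ne]
    exact ⟨not11_24 h h11 hs (by decide), not23_24 h hs (by decide)⟩
  obtain ⟨L, a1, -⟩ := exists_tree2 (nc24 h) h hD24 (fun χ _ => hQ24 h h11 χ) hs
    (R := fun v => v % 11 != 0 && v % 23 != 0) hR
  have he : Nat.card (autSub hs.ord) + 1 = 5 := congrArg (· + 1) (c24qd _ a1).1
  obtain ⟨m, w, L, C, a2, a3⟩ := exists_C1 (nc24 h) h hD24 (fun χ _ => hQ24 h h11 χ) hs
    (R := fun v => v % 11 != 0 && v % 23 != 0) hR he
  obtain ⟨-, a4, a5⟩ := c24qd _ a3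
  simp only [← a2, List.mem_cons, List.not_mem_nil, or_false] at a4 a5
  obtain ⟨a6, a7⟩ := a5 (C.bt 23 (by norm_num) (by decide) (by omega) (by rw [h]; norm_num)
    (by rw [h]; norm_num))
  have a8 := a7 (C.bt 7 (by norm_num) (by decide) (by omega) (by rw [h]; norm_num)
    (by rw [h]; norm_num))
  have av := fun χ hχ => avgV hs C.nodup C.len C.val (χ := χ) hχ
  have a9 : Nat.card (Vc 5 z) = 12 ∨ Nat.card (Vc 5 z) = 192 := by_contra fun e => by
    obtain ⟨b1, b2, b3, b4⟩ : -5544 ∈ m.map (fun χ => w χ * charDegree χ.1) ∧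
        (m.map fun χ => w χ * charDegree χ.1).count (-5544) ≤ 1 ∧
        (m.map fun χ => w χ * charDegree χ.1).count 5796 ≤ 1 ∧
        ∀ a ∈ m.map (fun χ => w χ * charDegree χ.1),
          a ∈ [1771, -2024, -5544, 5796, 6831, -7084, 736] := by
      rcases a8 with e | ⟨-, e⟩ | ⟨-, e⟩ <;>
        simp only [e.mem_iff, e.count_eq] <;> decide
    exact kill5 h hs C (by omega) b1 b2 b3 b4
  have b1 := a8.resolve_right (by omega)
  obtain ⟨l, b2, b3⟩ := (congrFun₂ (List.eq_map_comp_perm fun χ : IrrCharacter G =>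
    w χ * charDegree χ.1) _ m).mpr b1.symm
  simp only [eq_comm (a := [1771, -2024, -5544, 5796]), List.map_eq_cons_iff, List.map_eq_nil_iff] at b2
  obtain ⟨a, _, rfl, e1, b, _, rfl, e2, c, _, rfl, e3, d, _, rfl, e4, rfl⟩ := b2
  have m1 : ∀ χ, χ ∈ m ↔ χ ∈ [a, b, c, d] := fun χ => b3.mem_iff.symm
  have ma := (C.val a ((m1 _).2 (by simp))).1
  have mb := (C.val b ((m1 _).2 (by simp))).1
  have mc := (C.val c ((m1 _).2 (by simp))).1
  have md := (C.val d ((m1 _).2 (by simp))).1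
  have f1 : charDegree a.1 = 1771 ∧ w a = 1 := by rcases ma with e | e <;> rw [e] at e1 ⊢ <;> omega
  have f2 : charDegree b.1 = 2024 ∧ w b = -1 := by rcases mb with e | e <;> rw [e] at e2 ⊢ <;> omega
  have f3 : charDegree c.1 = 5544 ∧ w c = -1 := by rcases mc with e | e <;> rw [e] at e3 ⊢ <;> omega
  have f4 : charDegree d.1 = 5796 ∧ w d = 1 := by rcases md with e | e <;> rw [e] at e4 ⊢ <;> omega
  refine ⟨a, b, c, d, w, hz, fun g hg => conj_of_ord hs he hg, a9, ⟨f1.1, f2.1, f3.1, f4.1⟩, C.col,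
    ⟨f1.2, f2.2, f3.2, f4.2⟩, fun g hg => ?_, fun g hg => ?_,
    fun χ hχ => av χ (by simpa only [List.mem_cons, m1] using hχ), fun χ hχ g =>
    exists_int_of_fixed (χ.2.isCharacter.isIntegral g) fun σ => ?_⟩
  · simp [C.sing _ ((m1 a).2 (by simp)) g hg, C.sing _ ((m1 b).2 (by simp)) g hg,
      C.sing _ ((m1 c).2 (by simp)) g hg, C.sing _ ((m1 d).2 (by simp)) g hg, f1, f2, f3, f4]
  · have := C.reg g hg
    rw [← (b3.map _).sum_eq] at this
    simp only [List.map_cons, List.sum_cons, List.map_nil, List.sum_nil, f1, f2, f3, f4] at this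
    push_cast at this
    linear_combination this
  · have g1 := (m1 _).1 (C.gal χ ((m1 χ).2 hχ) σ)
    have g2 : charDegree (fun g => σ (χ.1 g)) = charDegree χ.1 := charDegree_eq (by simp [irr_one_eq])
    refine congrFun (congrArg Subtype.val (show (⟨_, χ.2.map_ringHom σ⟩ : IrrCharacter G) = χ from ?_)) g
    generalize hψ : (⟨_, χ.2.map_ringHom σ⟩ : IrrCharacter G) = ψ at g1
    replace g2 : charDegree ψ.1 = charDegree χ.1 := hψ ▸ g2
    simp only [List.mem_cons, List.not_mem_nil, or_false] at g1 hχ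
    rcases g1 with rfl | rfl | rfl | rfl <;> rcases hχ with rfl | rfl | rfl | rfl <;>
      first | rfl | omega

end Cfsg.Agent.H3
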