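import Cfsg.Agent.H3.M23

/-! The simple group of order `244823040`: identification from a subgroup of index `24`. -/

set_option autoImplicit false
set_option linter.unusedVariables false
set_option linter.unusedSectionVars false

namespace Cfsg.Agent.H3

open Finset Subgroup Equiv Cfsg.Agent.PLoc Cfsg.Agent.Char Cfsg.Agent.Blk Cfsg.Agent.Inv Cfsg.Agent.H9
  Cfsg.Agent.Gol

universe u

def g24 : List ℕ := [956302485175575353788796878166559809, 983435072843990828779021698901151808, 15678632630496079850456276719587511]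

theorem chk24 : allC 24 (Yc 23 2) (powS 24 (Yc 23 2) 1) 165600 45558216358317871524697707378706496
    6736580137028735938643161793168384 4 (fun _ _ => true) (fun c =>
      finC 24 [Xc 23, Yc 23 2, c] g24 [[22], [10], [1, 1, 1, 1, 1, 1, 1, 1, 1, 1, 2, 2, 2, 4, 6]]
      [[0, 2], [0, 2, 2, 2], [0, 0, 2], [0, 1, 2, 2, 2], [0, 2, 1], [0, 0, 2, 2, 0, 2], [0, 2, 1, 1, 1], [0, 0, 2, 0, 1], [0, 0, 0, 2, 1], [0, 0, 2, 2], [0, 2, 2]] [] (([(15678632630496079850456276719587511, true, 0),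
      (5858539106881647242642940376076471, false, 4),
      (1472394032320800555847086642861303, false, 6),
      (4386168280788170479984870242686199, true, 2),
      (1472401443036105922061496834770263, true, 10),
      (10754020256515011927468351309923671, false, 3),
      (23488800742203483358390072902931831, false, 0),
      (10754022736022170022923699787912567, true, 7),
      (2943847549680990862433594832693719, false, 5),
      (7839316329585582515275597511764439, true, 1),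
      (15678628925138016150832666934655479, false, 7),
      (17120937622597951673186909514512887, true, 3),
      (5858540332732579364789734734289463, true, 8),
      (12225473773902355816219613892958775, false, 1),
      (7839328699314355522173338717068919, false, 8),
      (23488792077831952018892397334568567, true, 4),
      (2943862398916895446782838025334423, true, 9),
      (21507100026770776471825363525807767, false, 2),
      (4386174465652543724836437866233527, false, 9),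
      (12225483691929264578798477637762743, true, 5),
      (17120954951341014352182285323161303, false, 10),
      (21507104985784244111699453981183703, true, 6)] : List (ℕ × Bool × ℕ)).map fun d =>
        (d.1, bif d.2.1 then idP 24 else 956765793662171983829532039519557312,
          [List.replicate (bif d.2.1 then 1 else 22) 0, [1], List.replicate d.2.2 1 ++ [2]]))) = true := by
  decide +kernel

theorem card_g24 : 244823040 ≤ Nat.card (KP 24 g24) := card_KP_ge (ls :=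
  [(0, [[], [0], [2], [0, 0], [2, 0], [0, 0, 0], [1, 0, 0], [2, 0, 0], [0, 2, 0], [1, 2, 0], [2, 0, 0, 0], [1, 1, 0, 0], [2, 1, 0, 0], [0, 2, 0, 0], [1, 2, 0, 0], [2, 2, 0, 0], [0, 0, 2, 0], [1, 0, 2, 0], [2, 0, 2, 0], [0, 1, 1, 0, 0], [0, 1, 2, 0, 0], [2, 2, 2, 0, 0], [1, 0, 0, 2, 0], [2, 0, 0, 2, 0]], [[1], [2, 0, 2]]),
   (1, [[], [0], [1], [0, 0], [0, 1], [1, 1], [0, 0, 0], [1, 0, 0], [0, 1, 1], [1, 1, 1], [0, 0, 0, 0], [1, 0, 0, 0], [1, 1, 0, 0], [0, 0, 1, 1], [1, 0, 1, 1], [0, 1, 1, 1], [0, 0, 0, 0, 0], [1, 1, 0, 0, 0], [0, 1, 0, 1, 1], [1, 1, 0, 1, 1], [1, 0, 1, 1, 1], [1, 1, 1, 0, 0, 0], [0, 0, 1, 0, 1, 1]], [[0, 1, 0, 0, 0], [1, 0, 0, 1, 1]]),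
   (2, [[], [0], [1], [1, 0], [0, 1], [0, 1, 0], [1, 1, 0], [0, 0, 1], [1, 0, 1], [0, 0, 1, 0], [1, 0, 1, 0], [0, 1, 1, 0], [1, 1, 1, 0], [0, 0, 0, 1], [0, 1, 0, 1], [1, 1, 0, 1], [0, 0, 0, 1, 0], [0, 1, 0, 1, 0], [0, 0, 1, 1, 0], [1, 0, 1, 1, 0], [0, 1, 1, 1, 0], [1, 0, 1, 0, 1, 0]], [[0, 0], [0, 1, 0, 1, 1]]),
   (3, [[], [0], [0, 0], [1, 0], [0, 0, 0], [1, 0, 0], [0, 1, 0], [1, 1, 0], [1, 0, 0, 0], [0, 1, 0, 0], [1, 1, 0, 0], [0, 0, 1, 0], [1, 0, 1, 0], [1, 1, 1, 0], [1, 1, 0, 0, 0], [0, 0, 1, 0, 0], [1, 1, 1, 0, 0], [0, 1, 0, 1, 0], [1, 1, 1, 1, 0], [0, 1, 1, 0, 0, 0], [1, 1, 1, 0, 0, 0]], [[0, 0, 0, 1], [0, 0, 1, 1, 0, 1, 0]]),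
   (4, [[], [0], [1], [0, 0], [1, 0], [0, 1], [0, 0, 0], [0, 1, 0], [1, 1, 0], [0, 0, 1], [1, 0, 1], [1, 0, 0, 0], [0, 1, 1, 0], [1, 0, 0, 1], [1, 1, 0, 1], [0, 0, 1, 1, 0], [1, 0, 1, 1, 0], [1, 1, 0, 0, 1], [0, 1, 1, 0, 1], [1, 0, 0, 1, 1, 0]], [[0, 1, 0, 1], [1, 1, 1, 0], [0, 0, 1, 0, 0]]),
   (5, [[], [0], [1], [2], [1, 0], [2, 0], [0, 1], [1, 1], [1, 2], [2, 2], [0, 1, 0], [0, 2, 0], [2, 2, 0], [2, 1, 1], [0, 1, 2], [0, 2, 2]], [[1, 0, 2], [0, 1, 2, 0]]),
   (6, [[], [0], [0, 0]], [])]) (by norm_num)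
  (by decide +kernel)

variable {G : Type u} [Group G] [Finite G] [IsSimpleGroup G]

theorem m24_of_index (h : Nat.card G = 244823040)
    (h23 : ∀ x : G, (hx : orderOf x = 23) → SC 23 x ∧ Nat.card (autSub hx) = 11)
    (h11 : ∀ y : G, (hy : orderOf y = 11) → SC 11 y ∧ Nat.card (autSub hy) = 10) {M : Subgroup G}
    (hM : M.index = 24) : Nonempty (G ≃* KP 24 g24) := by
  obtain ⟨x, hx⟩ := exists_prime_orderOf_dvd_card' (G := G) 23 (by rw [h]; norm_num)
  obtain ⟨h1, h2⟩ := h23 x hx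
  obtain ⟨y, e1, hy⟩ := exists_y11 h1 h2
  obtain ⟨s, e2⟩ : ∃ s, s * y * s⁻¹ = y ^ 2 := isConj_iff.1 (conj_of_ord (h11 y hy).1.syl1
    (by rw [(h11 y hy).2]) (by rw [Nat.Coprime.orderOf_pow (by rw [hy]; decide), hy]))
  obtain ⟨φ, p1, p2, p3, -⟩ := exists_label (p := 23) hM hx e1 (by decide)
  have := allC_sound (by norm_num) (σ := φ s) (Y := φ y) (Z := φ y ^ 2) (by
    rw [← map_pow, ← map_mul, ← map_mul, ← e2, inv_mul_cancel_right]) (rp := 165600) (n := 4)
    (ok := fun _ _ => true) (fun j hj => rfl) (by rw [← powS_eq (by norm_num), p3]; exact chk24)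
  rw [← p2, ← p3] at this
  refine finC_sound (l := [x, y, s]) (by norm_num) p1 (fun g => ?_) (h ▸ card_g24) (by simp) this
  simp only [← orderOf_dvd_iff_pow_eq_one]
  by_cases h11' : 11 ∣ orderOf g
  · exact ⟨[10], by simp, (ord_eq_of_sc (fun x hx => (h11 x hx).1) h11').dvd⟩
  by_cases h23' : 23 ∣ orderOf g
  · exact ⟨[22], by simp, (ord_eq_of_sc (fun x hx => (h23 x hx).1) h23').dvd⟩
  exact ⟨[1, 1, 1, 1, 1, 1, 1, 1, 1, 1, 2, 2, 2, 4, 6], by simp,
    ((fact11.out.coprime_iff_not_dvd.2 h11').symm).dvd_of_dvd_mul_right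
      (((fact23.out.coprime_iff_not_dvd.2 h23').symm).dvd_of_dvd_mul_right
      ((orderOf_dvd_natCard g).trans (by rw [h]; decide)))⟩

end Cfsg.Agent.H3
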