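import Cfsg.Agent.H3.M24d

/-! The simple group of order `244823040`: characters of degree `45`. -/

set_option autoImplicit false
set_option linter.unusedVariables false
set_option linter.unusedSectionVars false

namespace Cfsg.Agent.H3

open Finset Subgroup Equiv Cfsg.Agent.PLoc Cfsg.Agent.Char Cfsg.Agent.Blk Cfsg.Agent.Inv Cfsg.Agent.H9
  Cfsg.Agent.Gol
open scoped ComplexConjugate

universe u

theorem R45.nine {d e : ℕ} (d0 : d ≠ 0) (e0 : e ≠ 0) (h : d.factorization 3 = e.factorization 3)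
    (h9 : 9 ∣ e) (h27 : ¬ 27 ∣ e) : 9 ∣ d ∧ ¬ 27 ∣ d :=
  ⟨(Nat.prime_three.pow_dvd_iff_le_factorization (k := 2) d0).2
    (h ▸ (Nat.prime_three.pow_dvd_iff_le_factorization (k := 2) e0).1 h9), fun a => h27
    ((Nat.prime_three.pow_dvd_iff_le_factorization (k := 3) e0).2
      (h ▸ (Nat.prime_three.pow_dvd_iff_le_factorization (k := 3) d0).1 a))⟩

theorem R45.chk : ∀ d ∈ D24.filter (fun d => Q24 d && d % 9 == 0 && d % 27 != 0),
    ∀ e ∈ D24.filter (fun d => Q24 d && d % 9 == 0 && d % 27 != 0),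
      d + e ≠ 45 ∧ (d + e = 90 → d = 45) ∧ d + 90 ≠ e ∧ (d + 45 = e → d = 990) := by decide +kernel

variable {G : Type u} [Group G] [Fintype G]

theorem le_cnt {d : ℕ} (l : List (IrrCharacter G)) (h1 : l.Nodup) (h2 : ∀ χ ∈ l, charDegree χ.1 = d) :
    l.length ≤ cnt G d := by
  classical
  rw [← List.toFinset_card_of_nodup h1]
  exact card_le_card fun χ hχ => mem_filter.2 ⟨mem_univ _, h2 χ (List.mem_toFinset.1 hχ)⟩

variable [IsSimpleGroup G] (h : Nat.card G = 244823040)
  (h11 : ∀ {y : G} (hy : orderOf y = 11), SC 11 y ∧ Nat.card (autSub hy) = 10)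
include h h11

theorem R45.tri (M : Ideal AlgInt) [PMod 3 M] (χ : IrrCharacter G) (hχ : charDegree χ.1 = 45) :
    (∃ a b : IrrCharacter G, [χ, a, b].Nodup ∧ charDegree a.1 = 45 ∧ charDegree b.1 = 45) ∨
    ∃ l m : IrrCharacter G, charDegree l.1 = 990 ∧ charDegree m.1 = 1035 ∧
      (∀ g, ¬ 3 ∣ orderOf g → χ.1 g + l.1 g = m.1 g) ∧
      (∀ g, 3 ∣ orderOf g → -2 * χ.1 g = m.1 g - l.1 g) ∧
      ∀ η : IrrCharacter G, SameBlock M η.1 χ.1 ↔ η = χ ∨ η = l ∨ η = m := by
  obtain ⟨a, b, s₁, s₂, k, t1, t2, t3, t4, t5, t6, t7, t8, t9⟩ :=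
    triple M χ (r := 1813504) (by rw [hχ, h]) (by decide)
  have m1 : ∀ η : IrrCharacter G, (charDegree η.1).factorization 3 = (charDegree χ.1).factorization 3 →
      charDegree η.1 ∈ D24.filter (fun d => Q24 d && d % 9 == 0 && d % 27 != 0) := fun η e => by
    have := R45.nine (deg_pos η).ne' (deg_pos χ).ne' e (by omega) (by omega)
    refine List.mem_filter.2 ⟨hD24 _ (h ▸ deg_dvd η), ?_⟩
    simp only [hQ24 h h11 η, Bool.true_and, Bool.and_eq_true, beq_iff_eq, bne_iff_ne]
    omega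
  have c1 := R45.chk _ (m1 a t7) _ (m1 b t8)
  have c2 := R45.chk _ (m1 b t8) _ (m1 a t7)
  have u : k * charDegree χ.1 = s₁ * charDegree a.1 + s₂ * charDegree b.1 :=
    Int.cast_injective (α := ℂ) (by simpa [irr_one_eq] using t5 1 (by simp))
  rw [hχ] at u
  rcases t2 with rfl | rfl <;> rcases t3 with rfl | rfl <;> rcases t4 with rfl | rfl
  · omega
  · exact .inl ⟨a, b, t1, by omega, by omega⟩
  · refine .inr ⟨b, a, by omega, by omega, fun g hg => ?_, fun g hg => ?_, fun η => ?_⟩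
    · have := t5 g hg
      push_cast at this
      linear_combination this
    · have := t6 g hg
      push_cast at this
      linear_combination this
    · rw [t9, or_comm (a := η = a)]
  · omega
  · refine .inr ⟨a, b, by omega, by omega, fun g hg => ?_, fun g hg => ?_, t9⟩
    · have := t5 g hg
      push_cast at this
      linear_combination this
    · have := t6 g hg
      push_cast at this
      linear_combination this
  all_goals omega

/-- `χ χ̄ = 1 + χ₂₀₂₄` -/
theorem R45.sq {z : G} {a b c d : IrrCharacter G} {w : IrrCharacter G → ℤ} (B : B5 z a b c d w)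
    (χ : IrrCharacter G) (hχ : charDegree χ.1 = 45) (g : G) : χ.1 g * conj (χ.1 g) = 1 + b.1 g := by
  have hσ := χ.2.isCharacter.mul χ.2.isCharacter.conj
  set σ : G → ℂ := χ.1 * fun g => conj (χ.1 g) with hs
  have s1 : σ 1 = (2025 : ℕ) := by norm_num [hs, irr_one_eq, hχ, map_ofNat]
  have one := isIrrCharacter_one (G := G)
  have i1 : classInner σ (fun _ => 1) = 1 := by
    refine Eq.trans ?_ χ.2.classInner_self
    simp [classInner, hs]
  have i2 : classInner σ ((fun _ => 1) + a.1 + d.1 - (b.1 + c.1)) = 0 := by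
    rw [classInner_def, sum_eq_zero, mul_zero]
    intro g _
    by_cases e : 5 ∣ orderOf g
    · simp [hs, defect_zero (r := 5440512) Nat.prime_five hχ h.symm (by decide) e]
    · simp [B.reg g e]
  obtain ⟨d1, d2, d3, d4⟩ := B.deg
  obtain ⟨ka, ha⟩ := hσ.classInner_nat a.2.isCharacter
  obtain ⟨kd, hd⟩ := hσ.classInner_nat d.2.isCharacter
  have hc : classInner σ c.1 = 0 := by_contra fun e => by
    obtain ⟨n, hn⟩ := (hσ.sub_irr c.2 e).exists_nat
    rw [Pi.sub_apply, s1, irr_one_eq, d3, sub_eq_iff_eq_add, ← Nat.cast_add, Nat.cast_inj] at hn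
    omega
  rw [classInner_sub_right, classInner_add_right, classInner_add_right, classInner_add_right, i1, ha, hd,
    hc] at i2
  have hb : classInner (σ - fun _ => 1) b.1 ≠ 0 := fun e => by
    rw [classInner_sub_left, show classInner (fun _ => 1) b.1 = 0 from (irr_classInner (irrOne G) b).trans
      (if_neg (by rintro rfl; rw [deg_irrOne] at d2; omega)), sub_zero] at e
    rw [e] at i2
    have : 1 + ka + kd = 0 := Nat.cast_injective (R := ℂ) (by push_cast; linear_combination i2)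
    omega
  have := congrFun (((hσ.sub_irr one (by simp [i1])).sub_irr b.2 hb).eq_zero_of_one_eq_zero (by
    norm_num [s1, irr_one_eq, d2])) g
  simp only [Pi.sub_apply, hs, Pi.mul_apply, Pi.zero_apply] at this
  linear_combination this

/-- the symmetric and the exterior square are irreducible, and `χ` is not real -/
theorem R45.irr (χ : IrrCharacter G) (hχ : charDegree χ.1 = 45) : bar χ ≠ χ ∧ ∃ S L : IrrCharacter G,
    charDegree S.1 = 1035 ∧ charDegree L.1 = 990 ∧ (∀ g, S.1 g = (χ.1 g ^ 2 + χ.1 (g * g)) / 2) ∧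
      ∀ g, L.1 g = (χ.1 g ^ 2 - χ.1 (g * g)) / 2 := by
  obtain ⟨z, hz⟩ := exists_prime_orderOf_dvd_card' (G := G) 5 (by rw [h]; norm_num)
  obtain ⟨a, b, c, d, w, B⟩ := exists_B5 h h11 hz
  have q := R45.sq h h11 B χ hχ
  have hS := χ.2.isCharacter.sym
  have hL := χ.2.isCharacter.alt
  set S : G → ℂ := fun g => (χ.1 g ^ 2 + χ.1 (g * g)) / 2 with eS
  set L : G → ℂ := fun g => (χ.1 g ^ 2 - χ.1 (g * g)) / 2 with eL
  have S1 : S 1 = (1035 : ℕ) := by norm_num [eS, irr_one_eq, hχ]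
  have L1 : L 1 = (990 : ℕ) := by norm_num [eL, irr_one_eq, hχ]
  have nb : irrOne G ≠ b := by rintro rfl; have := B.deg.2.1; rw [deg_irrOne] at this; omega
  have e1 : classInner (S + L) (S + L) = 2 := by
    have : classInner (S + L) (S + L) = classInner ((irrOne G).1 + b.1) ((irrOne G).1 + b.1) := by
      rw [classInner_def, classInner_def]
      congr 1
      refine sum_congr rfl fun g _ => ?_
      have a1 : ((irrOne G).1 + b.1) g = χ.1 g * conj (χ.1 g) := (q g).symm
      have a2 : (S + L) g = χ.1 g ^ 2 := by simp only [Pi.add_apply, eS, eL]; ring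
      rw [a1, a2]
      simp only [map_mul, map_pow, Complex.conj_conj]
      ring
    simp only [this, classInner_add_left, classInner_add_right, irr_classInner, nb, nb.symm, if_true,
      if_false]
    norm_num
  obtain ⟨i, hi⟩ := hS.classInner_nat hS
  obtain ⟨j, hj⟩ := hL.classInner_nat hL
  obtain ⟨k, hk⟩ := hS.classInner_nat hL
  obtain ⟨k', hk'⟩ := hL.classInner_nat hS
  have i0 : i ≠ 0 := by
    rintro rfl
    rw [Nat.cast_zero, classInner_self_eq_zero] at hi
    rw [hi] at S1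
    norm_num at S1
  have j0 : j ≠ 0 := by
    rintro rfl
    rw [Nat.cast_zero, classInner_self_eq_zero] at hj
    rw [hj] at L1
    norm_num at L1
  simp only [classInner_add_left, classInner_add_right, hi, hj, hk, hk'] at e1
  have e2 : i + k' + (k + j) = 2 := Nat.cast_injective (R := ℂ) (by push_cast; linear_combination e1)
  let S' : IrrCharacter G := ⟨S, hS.isIrr_of_classInner_eq_one (by rw [hi, show i = 1 by omega]; simp)⟩
  let L' : IrrCharacter G := ⟨L, hL.isIrr_of_classInner_eq_one (by rw [hj, show j = 1 by omega]; simp)⟩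
  have dS : charDegree S'.1 = 1035 := charDegree_eq S1
  have dL : charDegree L'.1 = 990 := charDegree_eq L1
  refine ⟨fun e => ?_, S', L', dS, dL, fun _ => rfl, fun _ => rfl⟩
  have a1 : S'.1 + L'.1 = (irrOne G).1 + b.1 := funext fun g => by
    have a2 : conj (χ.1 g) = χ.1 g := congrFun (congrArg Subtype.val e) g
    have := q g
    rw [a2] at this
    show (χ.1 g ^ 2 + χ.1 (g * g)) / 2 + (χ.1 g ^ 2 - χ.1 (g * g)) / 2 = 1 + b.1 g
    linear_combination this
  have a2 := congrArg (classInner · (irrOne G).1) a1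
  have n1 : S' ≠ irrOne G := fun e => by rw [e, deg_irrOne] at dS; omega
  have n2 : L' ≠ irrOne G := fun e => by rw [e, deg_irrOne] at dL; omega
  simp only [classInner_add_left, irr_classInner, n1, n2, nb.symm, if_true, if_false] at a2
  norm_num at a2

theorem r45 (χ : IrrCharacter G) (hχ : charDegree χ.1 = 45) :
    (∃ l : IrrCharacter G, charDegree l.1 = 990) ∧
    ((∃ a b c : IrrCharacter G, [a, b, c].Nodup ∧ ∀ η ∈ [a, b, c], charDegree η.1 = 45) ∨
      ∃ l₁ l₂ m₁ m₂ : IrrCharacter G, l₁ ≠ l₂ ∧ charDegree l₁.1 = 990 ∧ charDegree l₂.1 = 990 ∧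
        m₁ ≠ m₂ ∧ charDegree m₁.1 = 1035 ∧ charDegree m₂.1 = 1035 ∧
        ((∃ a b c : IrrCharacter G, [a, b, c].Nodup ∧ ∀ η ∈ [a, b, c], charDegree η.1 = 990) ∨
          ∃ a b c : IrrCharacter G, [a, b, c].Nodup ∧ ∀ η ∈ [a, b, c], charDegree η.1 = 1035)) := by
  have := Nat.fact_prime_three
  obtain ⟨M, hM⟩ := exists_PMod 3
  obtain ⟨r, S, L, dS, dL, eS, eL⟩ := R45.irr h h11 χ hχ
  have db := (deg_bar χ).trans hχ
  refine ⟨⟨L, dL⟩, ?_⟩
  rcases R45.tri h h11 M χ hχ with ⟨a, b, e1, e2, e3⟩ | ⟨l, m, d1, d2, r1, s1, b1⟩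
  · exact .inl ⟨χ, a, b, e1, by simp [*]⟩
  rcases R45.tri h h11 M (bar χ) db with ⟨a, b, e1, e2, e3⟩ | ⟨l', m', d3, d4, r2, s2, b2⟩
  · exact .inl ⟨bar χ, a, b, e1, by simp [*]⟩
  have nb : ∀ η : IrrCharacter G, SameBlock M η.1 χ.1 → ¬ SameBlock M η.1 (bar χ).1 := fun η e1 e2 => by
    rcases (b1 _).1 (sameBlock_trans (sameBlock_symm e2) e1) with e | e | e
    · exact r e
    · rw [e] at db; omega
    · rw [e] at db; omega
  have n1 : l ≠ l' := fun e => nb l ((b1 l).2 (by simp)) ((b2 l).2 (by simp [e]))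
  have n2 : m ≠ m' := fun e => nb m ((b1 m).2 (by simp)) ((b2 m).2 (by simp [e]))
  refine .inr ⟨l, l', m, m', n1, d1, d3, n2, d2, d4, ?_⟩
  by_contra hc
  rw [not_or] at hc
  have k1 : ∀ η : IrrCharacter G, charDegree η.1 = 990 → η = l ∨ η = l' := fun η e => by_contra fun e' =>
    hc.1 ⟨η, l, l', by simpa [n1, not_or] using e', by simp [*]⟩
  have k2 : ∀ η : IrrCharacter G, charDegree η.1 = 1035 → η = m ∨ η = m' := fun η e => by_contra fun e' =>
    hc.2 ⟨η, m, m', by simpa [n2, not_or] using e', by simp [*]⟩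
  obtain ⟨t, ht⟩ := exists_prime_orderOf_dvd_card' (G := G) 2 (by rw [h]; norm_num)
  have t3 : ¬ 3 ∣ orderOf t := by omega
  have re : ∀ η : IrrCharacter G, conj (η.1 t) = η.1 t := fun η => by
    obtain ⟨a, e, -⟩ := mod4 (nc24 h) η ht
    rw [e, map_intCast]
  have bv : ∀ (η : IrrCharacter G) g, (bar η).1 g = conj (η.1 g) := fun _ _ => rfl
  have f1 := r1 t t3
  have f2 := r2 t t3
  rw [bv, re] at f2
  have f3 : l'.1 t = l.1 t := by
    rcases k1 _ ((deg_bar l).trans d1) with e | e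
    · rcases k2 _ ((deg_bar m).trans d2) with e' | e'
      · refine (r (Subtype.ext (funext fun g => ?_))).elim
        have a1 : conj (l.1 g) = l.1 g := congrFun (congrArg Subtype.val e) g
        have a2 : conj (m.1 g) = m.1 g := congrFun (congrArg Subtype.val e') g
        rw [bv]
        by_cases c : 3 ∣ orderOf g
        · have a3 := congrArg conj (s1 g c)
          rw [map_sub, a1, a2, ← s1 g c, map_mul, map_neg, map_ofNat] at a3
          linear_combination a3 / (-2)
        · have a3 := congrArg conj (r1 g c)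
          rw [map_add, a1, a2, ← r1 g c] at a3
          linear_combination a3
      · rw [← e', bv, re] at f2
        linear_combination f2 - f1
    · rw [← e, bv, re]
  have f4 : L.1 t = l.1 t := by rcases k1 L dL with rfl | rfl <;> [rfl; exact f3]
  have f5 : S.1 t = m.1 t := by
    rcases k2 S dS with rfl | rfl
    · rfl
    · linear_combination f1 - f2 + f3
  rw [eL, (ord2_iff.1 ht).1, irr_one_eq, hχ] at f4
  rw [eS, (ord2_iff.1 ht).1, irr_one_eq, hχ] at f5
  have := abs_lt_deg (nc24 h) (χ := χ) (fun e => by rw [e, deg_irrOne] at hχ; omega)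
    (ne_one_of_ord2 ht) (a := 45) (by push_cast at f4 f5 ⊢; linear_combination f1 - f5 + f4)
  rw [hχ] at this
  norm_num at this

/-- `r45` with counts -/
theorem r45c (h1 : 1 ≤ cnt G 45) : 2 ≤ cnt G 45 ∧ 1 ≤ cnt G 990 ∧ (3 ≤ cnt G 45 ∨
    2 ≤ cnt G 990 ∧ 2 ≤ cnt G 1035 ∧ (3 ≤ cnt G 990 ∨ 3 ≤ cnt G 1035)) := by
  obtain ⟨χ, hχ⟩ := card_pos.1 h1
  replace hχ := (mem_filter.1 hχ).2
  obtain ⟨⟨l, hl⟩, h2⟩ := r45 h h11 χ hχ
  refine ⟨le_cnt [bar χ, χ] (by simpa using (R45.irr h h11 χ hχ).1) (by simp [deg_bar, hχ]),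
    le_cnt [l] (by simp) (by simpa), h2.imp (fun ⟨a, b, c, e1, e2⟩ => le_cnt _ e1 e2)
      fun ⟨l₁, l₂, m₁, m₂, n1, d1, d2, n2, d3, d4, e⟩ => ⟨le_cnt [l₁, l₂] (by simpa) (by simp [*]),
        le_cnt [m₁, m₂] (by simpa) (by simp [*]), e.imp (fun ⟨a, b, c, e1, e2⟩ => le_cnt _ e1 e2)
          fun ⟨a, b, c, e1, e2⟩ => le_cnt _ e1 e2⟩⟩

end Cfsg.Agent.H3
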