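import Cfsg.Agent.H3.M24q
import Cfsg.Agent.H3.M27

/-! The simple group of order `244823040`: the tree searches for the primes `23` and `11`. -/

set_option autoImplicit false

namespace Cfsg.Agent.H3

open Cfsg.Agent.H9 Cfsg.Agent.Gol

def Q24s (d : ℕ) : Bool := Q24 d && d != 3840

def C23s : List ℤ := [-22, -45, 231, -252, -528, 990, -1540, 3520, 5544, -10395, -12672]

def F23s : List ℤ := [-1024, -1760, 770, 6336, -9856, 264, -2772, 3024, -495, -11880, 540]

theorem c24s0 : ∀ np ∈ D24, np % 23 = 1 → ∀ e ∈ List.range 23, 2 ≤ e → 22 % e = 0 →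
    244823040 % (23 * e * np) = 0 → 244823040 / (23 * e * np) = 1 → e = 11 ∧
    (∀ a ∈ cand2 244823040 D24 Q24s, aOK 23 1 e np a 1 = true → a ∈ C23s) ∧
    ∀ d ∈ D24, ∀ s ∈ [(1 : ℤ), -1], aOK 23 1 e np (s * d) e = true → Q24s d = true →
      2 * d ^ 2 ≤ 244823040 → s * d ∈ F23s := by decide +kernel

/-- run through `enum` keeping the partial sum -/
noncomputable def allE (P : ℤ → List ℤ → Bool) (C : List ℤ) : ℕ → ℕ → ℤ → List ℤ → Bool :=
  List.rec (fun k _ t acc => bif' (Nat.beq k 0) (P t acc) true)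
    (fun c _ ih k b t acc => lall (fun j => bif' (Nat.ble (j * c.natAbs ^ 2) b)
      (force (k - j) fun k' => force (b - j * c.natAbs ^ 2) fun b' => forceI (t + j * c) fun t' =>
        ih k' b' t' (acc ++ List.replicate j c)) true) (List.range (k + 1))) C

theorem allE_sound {P : ℤ → List ℤ → Bool} (C : List ℤ) : ∀ (k b : ℕ) (t : ℤ) (acc : List ℤ),
    allE P C k b t acc = true → ∀ L ∈ enum C k b, P (t + L.sum) (acc ++ L) = true := by
  induction C with
  | nil =>
    intro k b t acc h L hL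
    simp only [enum] at hL
    split_ifs at hL with e
    · subst e
      rw [List.mem_singleton.1 hL]
      simpa [allE] using h
    · simp at hL
  | cons c cs ih =>
    intro k b t acc h L hL
    simp only [enum, List.mem_flatMap] at hL
    obtain ⟨j, hj, hL⟩ := hL
    split_ifs at hL with e
    · obtain ⟨L', h1, rfl⟩ := List.mem_map.1 hL
      have h2 := lall_iff.1 h j hj
      rw [Nat.ble_eq.mpr e, bif'_true, force_eq, force_eq, forceI_eq] at h2
      have := ih _ _ _ _ h2 L' h1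
      rwa [List.append_assoc, add_assoc, ← nsmul_eq_mul, ← List.sum_replicate, ← List.sum_append] at this
    · simp at hL

def P23 (f : ℤ) (L : List ℤ) : Bool := bif' (lall (fun a => !(Int.decEq a f).decide) F23s) true
  (decide (1 + 252 ^ 2 + 5544 ^ 2 + sqs L + 2 * f.natAbs ^ 2 ≤ 244823040 → -45 ∈ L ∧
    (m27 (-f :: L) = true → L.count (-45) % 2 = 0 → 990 ∈ L →
      (3 ≤ L.count (-45) ∨ 2 ≤ L.count 990) → L.count (-45) = 2 ∧
      (2 ≤ L.count 231 → L = [-45, -45, 231, 231, 990, 990, 3520, -10395]))))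

theorem c24s1' : allE P23 C23s 8 244823040 5293 [] = true := by decide +kernel

theorem c24s1 : ∀ L ∈ enum C23s 8 244823040, 5293 + L.sum ∈ F23s →
    1 + 252 ^ 2 + 5544 ^ 2 + sqs L + 2 * (5293 + L.sum).natAbs ^ 2 ≤ 244823040 → -45 ∈ L ∧
    (m27 (-(5293 + L.sum) :: L) = true → L.count (-45) % 2 = 0 → 990 ∈ L →
      (3 ≤ L.count (-45) ∨ 2 ≤ L.count 990) → L.count (-45) = 2 ∧
      (2 ≤ L.count 231 → L = [-45, -45, 231, 231, 990, 990, 3520, -10395])) := fun L hL hf => by
  have := allE_sound _ _ _ _ _ c24s1' L hL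
  rw [P23, bif'_eq, if_neg fun e => by simpa using lall_iff.1 e _ hf, List.nil_append] at this
  exact of_decide_eq_true this

def C11s : List ℤ := [23, -230, 276, -483, -736, 1035, -1242, 1288, -2760, 3312, 4830, -5796, 7360,
  -8832, 12420, -12880, 15456, 45, -252, 540, 1024, -3024]

theorem c24s2 : ∀ d ∈ D24, degOK 244823040 d = true → Q24s d = true → d ^ 2 ≤ 244823040 →
    (d % 23 = 0 ∨ d ∈ (C23s ++ F23s).map Int.natAbs) → ∀ s ∈ [(1 : ℤ), -1], (s - d) % 11 = 0 →
    s * d ∈ C11s := by decide +kernel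

theorem c24s3 : ∀ a ∈ C11s, ∀ b ∈ C11s,
    (∀ c ∈ C11s, 1 + ([45, 45, -252, 1035, 1035, -5796, -5796] ++ [a, b, c]).sum = 0 →
      m27 ([45, 45, -252, 1035, 1035, -5796, -5796] ++ [a, b, c]) = false) ∧
    (1 + ([45, 45, -252, 1035, 1035, -5796, 276, 276] ++ [a, b]).sum = 0 →
      m27 ([45, 45, -252, 1035, 1035, -5796, 276, 276] ++ [a, b]) = false) ∧
    (1 + ([45, 45, -252, 1035, 1035, 1035, -5796, -483] ++ [a, b]).sum = 0 →
      [a, b].Perm [23, 3312]) := by decide +kernel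

end Cfsg.Agent.H3
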