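import Cfsg.Agent.H3.M24d
import Cfsg.Agent.H3.M24s

/-! The simple group of order `244823040`: the `3`-block of the character of degree `5544`. -/

set_option autoImplicit false
set_option linter.unusedVariables false
set_option linter.unusedSectionVars false

namespace Cfsg.Agent.H3

open Finset Subgroup Equiv Cfsg.Agent.PLoc Cfsg.Agent.Char Cfsg.Agent.Blk Cfsg.Agent.Inv Cfsg.Agent.H9
  Cfsg.Agent.Gol
open scoped ComplexConjugate

universe u

theorem c24tt : ∀ d ∈ D24, d % 9 = 0 → d % 27 ≠ 0 → Q24 d = true → d * d ≤ 244823040 →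
    d ∈ [45, 252, 495, 990, 1035, 2277, 2772, 3312, 4554, 5544, 5796, 6336, 9108, 11385, 12672] := by
  decide +kernel

theorem c24tv : allE (fun f L => bif' (lall (fun a => !(Int.decEq a f).decide) F23s) true
    (decide (244823040 < 1 + 3 * 5544 ^ 2 + sqs L + 2 * f.natAbs ^ 2 + (1771 ^ 2 + 2024 ^ 2 + 5796 ^ 2))))
    C23s 7 152615232 16633 [] = true := by decide +kernel

theorem mem_enum_t (C : List ℤ) : ∀ (k b : ℕ) (L : List ℤ), L ∈ enum C k b →
    L.length = k ∧ ∀ a ∈ L, a ∈ C := by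
  induction C with
  | nil =>
    intro k b L hL
    simp only [enum] at hL
    split_ifs at hL with e
    · simp_all
    · simp at hL
  | cons c cs ih =>
    intro k b L hL
    simp only [enum, List.mem_flatMap, List.mem_range] at hL
    obtain ⟨j, hj, hL⟩ := hL
    split_ifs at hL with e
    · obtain ⟨L', h1, rfl⟩ := List.mem_map.1 hL
      obtain ⟨h2, h3⟩ := ih _ _ _ h1
      refine ⟨by rw [List.length_append, List.length_replicate, h2]; omega, fun a ha => ?_⟩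
      rcases List.mem_append.1 ha with e | e
      · rw [List.eq_of_mem_replicate e]
        exact List.mem_cons_self
      · exact List.mem_cons_of_mem _ (h3 a e)
    · simp at hL

theorem c24tu : ∀ T ∈ trees2 244823040 23 D24 (fun d => Q24 d && d != 3840) (· == 1),
    3 ≤ ((1 + T.2.2.2.sum).natAbs :: degs T.2.2.2).count 5544 →
      244823040 < 1 + sqs T.2.2.2 + 2 * (1 + T.2.2.2.sum).natAbs ^ 2 + (1771 ^ 2 + 2024 ^ 2 + 5796 ^ 2) := by
  intro T hU h3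
  simp only [trees2, List.mem_flatMap, List.mem_filter, List.mem_map, fOK2,
    Bool.and_eq_true, decide_eq_true_eq] at hU
  obtain ⟨np, ⟨a1, a2, -⟩, e, ⟨a3, ⟨⟨a4, a5⟩, a6⟩, a11⟩, L, ⟨a7, ⟨⟨a0, a8⟩, a9⟩, a10⟩, rfl⟩ := hU
  replace a11 : 244823040 / (23 * e * np) = 1 := by simpa using a11
  obtain ⟨rfl, b1, b2⟩ := c24s0 np a1 a2 e a3 a4 a5 a6 a11
  obtain ⟨b3, b4⟩ := mem_enum_t _ _ _ _ a7
  rw [a11] at a8 b4
  have b5 : ∀ a ∈ L, a ∈ C23s := fun a ha =>
    b1 a (List.mem_filter.1 (b4 a ha)).1 (List.mem_filter.1 (b4 a ha)).2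
  dsimp only at h3 ⊢
  have b6 : 1 + L.sum ∈ F23s := by
    simp only [degOK, Bool.and_eq_true, decide_eq_true_eq] at a0
    have := b2 _ (hD24 _ (Nat.dvd_of_mod_eq_zero a0.1.2)) (1 + L.sum).sign (by
      have := a0.1.1
      rcases lt_trichotomy (1 + L.sum) 0 with e | e | e
      · simp [Int.sign_eq_neg_one_of_neg e]
      · rw [e] at this
        simp at this
      · simp [Int.sign_eq_one_of_pos e]) (by rwa [Int.sign_mul_natAbs])
      (by simp only [Q24s, Bool.and_eq_true]; exact a9) (by omega)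
    rwa [Int.sign_mul_natAbs] at this
  have b7 : (1 + L.sum).natAbs ≠ 5544 := by
    generalize 1 + L.sum = f at b6
    revert f
    decide
  rw [degs, List.count_cons_of_ne b7, List.count_cons_of_ne b7, List.count_eq_countP, List.countP_map,
    List.countP_congr (q := (· == 5544)) fun a ha =>
      (by decide : ∀ a ∈ C23s, (((fun x => x == 5544) ∘ Int.natAbs) a = true ↔ (a == 5544) = true)) a
        (b5 a ha), ← List.count_eq_countP] at h3
  obtain ⟨B, p1, p2⟩ := List.subperm_ext_iff.2 (show ∀ a ∈ [(5544 : ℤ), 5544, 5544],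
    List.count a [5544, 5544, 5544] ≤ L.count a by simpa using h3)
  obtain ⟨B', p3⟩ := p2.exists_perm_append
  have p := p3.trans (p1.append_right _)
  have q1 : ∀ {A : List ℤ}, L.Perm ([5544, 5544, 5544] ++ A) → 3 * 5544 ^ 2 + sqs A = sqs L :=
    fun p => by
      rw [sqs, sqs, (p.map _).sum_eq]
      simp only [List.cons_append, List.nil_append, List.map_cons, List.sum_cons]
      norm_num
      omega
  obtain ⟨L7, c3, c4⟩ := exists_enum C23s 7 152615232 (B' : List ℤ)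
    (fun a ha => b5 a (p.mem_iff.2 (List.mem_append_right _ (Multiset.mem_coe.1 ha))))
    (by
      have := p.length_eq
      simp only [List.length_append, List.length_cons, List.length_nil, Multiset.coe_card] at this ⊢
      omega) (by
      have := q1 p
      rw [Multiset.map_coe, Multiset.sum_coe]
      unfold sqs at this a10
      omega)
  have p4 := p.trans ((Multiset.coe_eq_coe.1 c4).symm.append_left _)
  have q2 : 1 + L.sum = 16633 + L7.sum := by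
    rw [p4.sum_eq]
    simp only [List.cons_append, List.nil_append, List.sum_cons]
    omega
  have := allE_sound _ _ _ _ _ c24tv L7 c3
  rw [bif'_eq, if_neg fun e => by
    have := lall_iff.1 e _ (q2 ▸ b6)
    simp at this, List.nil_append,
    decide_eq_true_eq, ← q2] at this
  have := q1 p4
  omega

set_option synthInstance.maxSize 100000 in
theorem c24tw : ∀ d₁ ∈ [45, 252, 495, 990, 1035, 2277, 2772, 3312, 4554, 5544, 5796, 6336, 9108, 11385, 12672],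
    ∀ d₂ ∈ [45, 252, 495, 990, 1035, 2277, 2772, 3312, 4554, 5544, 5796, 6336, 9108, 11385, 12672],
    ∀ s₁ ∈ [(1 : ℤ), -1], ∀ s₂ ∈ [(1 : ℤ), -1], ∀ k ∈ [(1 : ℤ), 2], k * 5544 = s₁ * (d₁ : ℕ) + s₂ * (d₂ : ℕ) →
    ∀ t₁ ∈ [(1 : ℤ), -1], ∀ t₂ ∈ [(1 : ℤ), -1], ∀ k' ∈ [(1 : ℤ), 2],
    k' * (d₁ : ℕ) = t₁ * 5544 + t₂ * (d₂ : ℕ) →
    (d₁ = 252 ∧ d₂ = 5796 ∧ s₁ = -1 ∧ s₂ = 1 ∧ k = 1 ∧ k' = 1 ∧
      t₁ = -1 ∧ t₂ = 1) ∨ (d₁ = 5796 ∧ d₂ = 252 ∧ s₁ = 1 ∧ s₂ = -1 ∧ k = 1 ∧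
      k' = 1 ∧ t₁ = 1 ∧ t₂ = 1) ∨ (d₁ = 990 ∧ d₂ = 4554 ∧ s₁ = 1 ∧ s₂ = 1 ∧
      k = 1 ∧ k' = 1 ∧ t₁ = 1 ∧ t₂ = -1) ∨ (d₁ = 4554 ∧ d₂ = 990 ∧ s₁ = 1 ∧
      s₂ = 1 ∧ k = 1 ∧ k' = 1 ∧ t₁ = 1 ∧ t₂ = -1) ∨ (d₁ = 2772 ∧ d₂ = 2772 ∧
      s₁ = 1 ∧ s₂ = 1 ∧ k = 1) ∨ (d₁ = 5544 ∧ d₂ = 5544) := by decide +kernel

variable {G : Type u} [Group G] [Fintype G]

/-- the relation of a three-element block seen from a second member -/
theorem triple2 (ψ : IrrCharacter G) {r : ℕ} (h : charDegree ψ.1 * 3 * r = Nat.card G) (hr : ¬ 3 ∣ r) :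
    ∃ (χ₁ χ₂ : IrrCharacter G) (s₁ s₂ c t₁ t₂ k : ℤ), [ψ, χ₁, χ₂].Nodup ∧ (s₁ = 1 ∨ s₁ = -1) ∧
      (s₂ = 1 ∨ s₂ = -1) ∧ (c = 1 ∨ c = 2) ∧ (t₁ = 1 ∨ t₁ = -1) ∧ (t₂ = 1 ∨ t₂ = -1) ∧
      (k = 1 ∨ k = 2) ∧ (∀ g, ¬ 3 ∣ orderOf g → c * ψ.1 g = s₁ * χ₁.1 g + s₂ * χ₂.1 g ∧
        k * χ₁.1 g = t₁ * ψ.1 g + t₂ * χ₂.1 g) ∧
      (∀ g, 3 ∣ orderOf g → (c - 3) * ψ.1 g = s₁ * χ₁.1 g + s₂ * χ₂.1 g ∧
        (k - 3) * χ₁.1 g = t₁ * ψ.1 g + t₂ * χ₂.1 g) ∧
      (charDegree χ₁.1).factorization 3 = (charDegree ψ.1).factorization 3 ∧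
      (charDegree χ₂.1).factorization 3 = (charDegree ψ.1).factorization 3 := by
  have := Nat.fact_prime_three
  obtain ⟨M, hM⟩ := exists_PMod 3
  obtain ⟨χ₁, χ₂, s₁, s₂, c, a1, a2, a3, a4, a5, a6, a7, a8, a9⟩ := triple M ψ h hr
  obtain ⟨q, hq⟩ := deg_dvd χ₁
  have q0 : q ≠ 0 := by rintro rfl; exact Nat.card_pos.ne' hq
  have r0 : r ≠ 0 := by rintro rfl; simp at hr
  have b1 := congrArg (·.factorization 3) (h.trans hq)
  simp only [Nat.factorization_mul (deg_pos χ₁).ne' q0, Nat.factorization_mul (mul_ne_zero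
    (deg_pos ψ).ne' three_ne_zero) r0, Nat.factorization_mul (deg_pos ψ).ne' three_ne_zero,
    Finsupp.add_apply, Nat.prime_three.factorization_self, a7,
    Nat.factorization_eq_zero_of_not_dvd hr] at b1
  obtain ⟨r', rfl⟩ : 3 ∣ q := (Nat.prime_three.dvd_iff_one_le_factorization q0).2 (by omega)
  obtain ⟨ξ₁, ξ₂, t₁, t₂, k, b2, b3, b4, b5, b6, b7, -, -, b8⟩ := triple M χ₁ (r := r')
    (by rw [hq, mul_assoc]) fun e => by
      have := (Nat.prime_three.pow_dvd_iff_le_factorization (k := 2) q0).1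
        (by rw [sq]; exact Nat.mul_dvd_mul_left 3 e)
      omega
  have c1 := (a9 χ₁).2 (.inr (.inl rfl))
  have c2 := (b8 ψ).1 (sameBlock_symm c1)
  have c3 := (b8 χ₂).1 (sameBlock_trans ((a9 χ₂).2 (.inr (.inr rfl))) (sameBlock_symm c1))
  have a1' := a1
  simp only [List.nodup_cons, List.mem_cons, List.not_mem_nil, or_false, not_or] at a1'
  rcases c2 with e | rfl | rfl
  · exact absurd e a1'.1.1
  · rcases c3 with e | e | rfl
    · exact absurd e.symm a1'.2.1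
    · exact absurd e.symm a1'.1.2
    · exact ⟨χ₁, χ₂, s₁, s₂, c, t₁, t₂, k, a1, a2, a3, a4, b3, b4, b5, fun g hg => ⟨a5 g hg, b6 g hg⟩,
        fun g hg => ⟨a6 g hg, b7 g hg⟩, a7, a8⟩
  · rcases c3 with e | rfl | e
    · exact absurd e.symm a1'.2.1
    · exact ⟨χ₁, χ₂, s₁, s₂, c, t₂, t₁, k, a1, a2, a3, a4, b4, b3, b5,
        fun g hg => ⟨a5 g hg, (b6 g hg).trans (add_comm _ _)⟩,
        fun g hg => ⟨a6 g hg, (b7 g hg).trans (add_comm _ _)⟩, a7, a8⟩
    · exact absurd e.symm a1'.1.2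

theorem fac9 {d e : ℕ} (d0 : d ≠ 0) (e0 : e ≠ 0) (h : d.factorization 3 = e.factorization 3)
    (h1 : e % 9 = 0) (h2 : e % 27 ≠ 0) : d % 9 = 0 ∧ d % 27 ≠ 0 := by
  have a := fun (n : ℕ) (k : ℕ) (n0 : n ≠ 0) => Nat.prime_three.pow_dvd_iff_le_factorization (k := k) n0
  have a1 := (a e 2 e0).1 (Nat.dvd_of_mod_eq_zero h1)
  have a2 := mt (a e 3 e0).2 (mt Nat.mod_eq_zero_of_dvd h2)
  exact ⟨Nat.mod_eq_zero_of_dvd ((a d 2 d0).2 (h ▸ a1)),
    fun e' => a2 (h ▸ (a d 3 d0).1 (Nat.dvd_of_mod_eq_zero e'))⟩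

variable [IsSimpleGroup G] (h : Nat.card G = 244823040)
  (h11 : ∀ {y : G} (hy : orderOf y = 11), SC 11 y ∧ Nat.card (autSub hy) = 10)
include h h11

/-- the degrees with `3`-part `9` -/
theorem deg9 {χ ψ : IrrCharacter G}
    (e : (charDegree χ.1).factorization 3 = (charDegree ψ.1).factorization 3)
    (h1 : charDegree ψ.1 % 9 = 0) (h2 : charDegree ψ.1 % 27 ≠ 0) : charDegree χ.1 ∈
      [45, 252, 495, 990, 1035, 2277, 2772, 3312, 4554, 5544, 5796, 6336, 9108, 11385, 12672] := by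
  obtain ⟨a1, a2⟩ := fac9 (deg_pos χ).ne' (deg_pos ψ).ne' e h1 h2
  have h3 := sum_deg_sq_le {χ}
  rw [sum_singleton, sq, h] at h3
  exact c24tt _ (hD24 _ (h ▸ deg_dvd χ)) a1 a2 (hQ24 h h11 χ) h3

theorem B5.tri {z : G} {a b c d : IrrCharacter G} {w : IrrCharacter G → ℤ} (B : B5 z a b c d w)
    (h38 : ∀ χ : IrrCharacter G, charDegree χ.1 ≠ 3840) : ∃ η d' : IrrCharacter G,
      charDegree η.1 = 252 ∧ charDegree d'.1 = 5796 ∧
      (∀ g, ¬ 3 ∣ orderOf g → η.1 g + c.1 g = d'.1 g) ∧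
      ∀ g, 3 ∣ orderOf g → η.1 g = c.1 g ∧ d'.1 g = -c.1 g := by
  classical
  obtain ⟨da, db, dc, dd⟩ := B.deg
  obtain ⟨χ₁, χ₂, s₁, s₂, k, t₁, t₂, k', a1, a2, a3, a4, a5, a6, a7, a8, a9, b1, b2⟩ :=
    triple2 c (r := 14720) (by rw [dc, h]) (by decide)
  have b3 := deg9 h h11 b1 (by omega) (by omega)
  have b4 := deg9 h h11 b2 (by omega) (by omega)
  obtain ⟨b5, b6⟩ := a8 1 (by simp)
  simp only [irr_one_eq, dc] at b5 b6
  replace b5 : k * 5544 = s₁ * charDegree χ₁.1 + s₂ * charDegree χ₂.1 := by exact_mod_cast b5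
  replace b6 : k' * charDegree χ₁.1 = t₁ * 5544 + t₂ * charDegree χ₂.1 := by exact_mod_cast b6
  have b7 : (charDegree χ₁.1 = 252 ∧ charDegree χ₂.1 = 5796 ∧ s₁ = -1 ∧ s₂ = 1 ∧ k = 1 ∧ k' = 1 ∧
      t₁ = -1 ∧ t₂ = 1) ∨ (charDegree χ₁.1 = 5796 ∧ charDegree χ₂.1 = 252 ∧ s₁ = 1 ∧ s₂ = -1 ∧ k = 1 ∧
      k' = 1 ∧ t₁ = 1 ∧ t₂ = 1) ∨ (charDegree χ₁.1 = 990 ∧ charDegree χ₂.1 = 4554 ∧ s₁ = 1 ∧ s₂ = 1 ∧
      k = 1 ∧ k' = 1 ∧ t₁ = 1 ∧ t₂ = -1) ∨ (charDegree χ₁.1 = 4554 ∧ charDegree χ₂.1 = 990 ∧ s₁ = 1 ∧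
      s₂ = 1 ∧ k = 1 ∧ k' = 1 ∧ t₁ = 1 ∧ t₂ = -1) ∨ (charDegree χ₁.1 = 2772 ∧ charDegree χ₂.1 = 2772 ∧
      s₁ = 1 ∧ s₂ = 1 ∧ k = 1) ∨ (charDegree χ₁.1 = 5544 ∧ charDegree χ₂.1 = 5544) := by
    exact c24tw _ b3 _ b4 _ (by simpa using a2) _ (by simpa using a3) _ (by simpa using a4) b5
      _ (by simpa using a5) _ (by simpa using a6) _ (by simpa using a7) b6
  have hs := syl1_of_ord B.ord (by rw [h]; norm_num)
  obtain ⟨u, u1, u2⟩ := exists_mem_orderOf_eq_prime (H := Vc 5 z) Nat.prime_three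
    (by have := B.v; omega)
  have u3 : orderOf (z * u) = 15 := by
    rw [Commute.orderOf_mul_eq_mul_orderOf_of_coprime (mem_centralizer_singleton_iff.1
      (hs.mem_Vc.1 u1).1).symm (by rw [B.ord, u2]; decide), B.ord, u2]
  have u4 := (B.sing (z * u) (by rw [u3]; decide)).2.2.1
  obtain ⟨u5, u6⟩ := a9 (z * u) (by rw [u3]; decide)
  obtain ⟨x, hx⟩ := exists_prime_orderOf_dvd_card' (G := G) 23 (by rw [h]; norm_num)
  obtain ⟨h1, h2⟩ := m24_23 h hx
  obtain ⟨l, s, ε, μ, ν, T, hT⟩ := exists_T2 (nc24 h) h hD24 (Q := fun d => Q24 d && d != 3840)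
    (fun χ _ => by simp [hQ24 h h11, h38]) h1 (by rw [h2])
  simp only [List.nodup_cons, List.mem_cons, List.not_mem_nil, or_false, not_or] at a1
  rcases b7 with ⟨e1, e2, rfl, rfl, rfl, rfl, rfl, rfl⟩ | ⟨e1, e2, rfl, rfl, rfl, rfl, rfl, rfl⟩ |
    ⟨e1, e2, rfl, rfl, rfl, rfl, rfl, rfl⟩ | ⟨e1, e2, rfl, rfl, rfl, rfl, rfl, rfl⟩ |
    ⟨e1, e2, rfl, rfl, rfl⟩ | ⟨e1, e2⟩
  · refine ⟨χ₁, χ₂, e1, e2, fun g hg => ?_, fun g hg => ?_⟩
    · have := (a8 g hg).1
      push_cast at this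
      linear_combination this
    · obtain ⟨c1, c2⟩ := a9 g hg
      push_cast at c1 c2
      exact ⟨by linear_combination (1 / 3 : ℂ) * c1 - (1 / 3 : ℂ) * c2,
        by linear_combination (-2 / 3 : ℂ) * c1 - (1 / 3 : ℂ) * c2⟩
  · refine ⟨χ₂, χ₁, e2, e1, fun g hg => ?_, fun g hg => ?_⟩
    · have := (a8 g hg).1
      push_cast at this
      linear_combination this
    · obtain ⟨c1, c2⟩ := a9 g hg
      push_cast at c1 c2
      exact ⟨by linear_combination (2 / 3 : ℂ) * c1 - (1 / 3 : ℂ) * c2,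
        by linear_combination (-1 / 3 : ℂ) * c1 - (1 / 3 : ℂ) * c2⟩
  · rw [u4, defect_zero (r := 247296) Nat.prime_five e1 h.symm (by decide) (by rw [u3]; decide)] at u5 u6
    push_cast at u5 u6
    exact absurd (show (3 : ℂ) = 0 by linear_combination u5 + u6) three_ne_zero
  · rw [u4, defect_zero (r := 247296) Nat.prime_five e2 h.symm (by decide) (by rw [u3]; decide)] at u5 u6
    push_cast at u5 u6
    exact absurd (show (3 : ℂ) = 0 by linear_combination 2 * u5 - u6) three_ne_zero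
  · have c1 : ∀ χ : IrrCharacter G, charDegree χ.1 = 2772 → χ.1 z = μ.1 z := fun χ e => by
      have c2 : χ ∈ irrOne G :: μ :: ν :: l := by_contra fun e' => by
        have := (T.out χ e').1
        omega
      simp only [List.mem_cons] at c2
      rcases c2 with rfl | rfl | rfl | c2
      · rw [deg_irrOne] at e
        omega
      · rfl
      · exact (T.reg z (by rw [B.ord]; decide)).2
      · have := cong1 23 χ (k := 1) hx (T.val χ c2 x hx)
        have := T.sgn χ c2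
        omega
    have c2 := (a8 z (by rw [B.ord]; decide)).1
    rw [c1 _ e1, c1 _ e2, B.col c z B.ord, B.col μ z B.ord, B.wv.2.2.1] at c2
    have : (1 * -1 : ℤ) = 1 * w μ + 1 * w μ := by exact_mod_cast c2
    omega
  · have c1 := c24tu _ hT (by
      rw [← T.cnt_eq (by decide) (by decide), cnt]
      refine le_trans (le_of_eq ?_) (card_le_card (s := {c, χ₁, χ₂}) fun χ hχ => ?_)
      · rw [card_insert_of_notMem (by simp [a1.1.1, a1.1.2]), card_pair a1.2.1]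
      · simp only [mem_insert, mem_singleton] at hχ
        rcases hχ with rfl | rfl | rfl <;> simp [dc, e1, e2])
    have c2 : ∀ κ : IrrCharacter G, 23 ∣ charDegree κ.1 → κ ∉ irrOne G :: μ :: ν :: l := fun κ e1 e2 => by
      simp only [List.mem_cons] at e2
      have c3 := T.deg
      have c4 := hQ23_24 h μ
      obtain ⟨-, -, -, c5⟩ : ∃ _ : True, ∃ _ : True, ∃ _ : True, ¬ 23 ∣ charDegree μ.1 := by
        refine ⟨trivial, trivial, trivial, fun e => ?_⟩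
        have c6 := T.add hx
        obtain ⟨r, hr⟩ := deg_dvd μ
        have c7 : ¬ 23 ∣ r := fun e' => by
          have := (Nat.mul_dvd_mul e e').trans (hr ▸ h.le.antisymm h.ge ▸ dvd_rfl : _ ∣ 244823040)
          omega
        rw [defect_zero fact23.out rfl hr.symm c7 hx.symm.dvd,
          defect_zero fact23.out c3.2 hr.symm c7 hx.symm.dvd] at c6
        rcases T.eps with e | e <;> simp [e] at c6
      rcases e2 with rfl | rfl | rfl | e2
      · rw [deg_irrOne] at e1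
        omega
      · exact c5 e1
      · exact c5 (c3.2 ▸ e1)
      · have := cong1 23 κ (k := 1) hx (T.val κ e2 x hx)
        have := T.sgn κ e2
        omega
    have nd : (a :: b :: d :: irrOne G :: μ :: ν :: l).Nodup := by
      refine List.nodup_cons.2 ⟨?_, List.nodup_cons.2 ⟨?_, List.nodup_cons.2 ⟨c2 d (by omega), T.nodup⟩⟩⟩
      · simp only [List.mem_cons (b := b), List.mem_cons (b := d), not_or]
        exact ⟨by rintro rfl; omega, by rintro rfl; omega, c2 a (by omega)⟩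
      · simp only [List.mem_cons (b := d), not_or]
        exact ⟨by rintro rfl; omega, c2 b (by omega)⟩
    have := sum_deg_sq_le (a :: b :: d :: irrOne G :: μ :: ν :: l).toFinset
    rw [List.sum_toFinset _ nd] at this
    simp only [List.map_cons, List.sum_cons, deg_irrOne, da, db, dd, h, T.deg.2] at this
    rw [T.deg.1, natAbs_sign T.eps, sqs, List.map_map, List.map_congr_left
      (g := fun χ => charDegree χ.1 ^ 2) fun χ hχ => by
      simp only [Function.comp, natAbs_sign (T.sgn χ hχ)]] at c1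
    omega

/-- there is a character of degree `252` -/
theorem exists_252 (h38 : ∀ χ : IrrCharacter G, charDegree χ.1 ≠ 3840) :
    ∃ η : IrrCharacter G, charDegree η.1 = 252 := by
  obtain ⟨z, hz⟩ := exists_prime_orderOf_dvd_card' (G := G) 5 (by rw [h]; norm_num)
  obtain ⟨a, b, c, d, w, B⟩ := exists_B5 h h11 hz
  exact (B.tri h h11 h38).imp fun _ ⟨_, e, _⟩ => e

end Cfsg.Agent.H3
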