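import Cfsg.Agent.H3.M24z
import Cfsg.Agent.H3.M24t
import Cfsg.Agent.H3.M24r
import Cfsg.Agent.H3.M24e

/-! The simple group of order `244823040` is unique, given the remaining local facts. -/

set_option autoImplicit false
set_option linter.unusedVariables false
set_option linter.unusedSectionVars false

namespace Cfsg.Agent.H3

open Finset Subgroup Equiv Cfsg.Agent.PLoc Cfsg.Agent.Char Cfsg.Agent.Blk Cfsg.Agent.Inv Cfsg.Agent.H9
  Cfsg.Agent.Gol

universe u

variable {G : Type u} [Group G] [Fintype G] [IsSimpleGroup G]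

theorem m24_equiv_of (h : Nat.card G = 244823040)
    (h11 : ∀ {y : G} (hy : orderOf y = 11), SC 11 y ∧ Nat.card (autSub hy) = 10)
    (hN : ∀ χ : IrrCharacter G, charDegree χ.1 ≠ 3840)
    (hW : 2 ≤ cnt G 5796 ∨ (2 ≤ cnt G 231 ∧ 1 ≤ cnt G 483) ∨ 2 ≤ cnt G 276) :
    Nonempty (G ≃* KP 24 g24) := by
  obtain ⟨η, hη⟩ := exists_252 h h11 hN
  obtain ⟨χ, H⟩ := m24_H h h11 (le_cnt' (l := [η]) (by simp) (by simp [hη])) hN
    (fun e => (r45c h h11 e).2) hW
  obtain ⟨M, hM⟩ := H.index h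
  exact m24_of_index h (fun x hx => m24_23 h hx) (fun y hy => h11 hy) hM

end Cfsg.Agent.H3
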