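import Cfsg.Agent.H3.M24k

/-! The simple group of order `244823040`: numerical checks for the prime `11`, continued. -/

set_option autoImplicit false

namespace Cfsg.Agent.H3.K

open Finset Subgroup Equiv Cfsg.Agent.PLoc Cfsg.Agent.Char Cfsg.Agent.Blk Cfsg.Agent.Inv Cfsg.Agent.H9
  Cfsg.Agent.Gol

theorem c24d : lall (fun T => forceL (-(1 + T.2.2.2.sum) :: T.2.2.2) fun M => bif' (f5 T.1 M)
    (bif' (t5 2 5 2225664 [73920, 887040] (T.1, T.2.1, M)) false
      (bif' (Nat.beq (T.1 % 3) 0) (!t5 12 10 185472 C12 (T.1, T.2.1, M)) true)) true)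
    (trees2 244823040 5 D24 Q23 fun v => v % 2 == 0 && v % 11 != 0 && v % 23 != 0) = true := by
  decide +kernel

end Cfsg.Agent.H3.K
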