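import Cfsg.Agent.H3.M24k

/-! The simple group of order `244823040`: numerical checks for the prime `11`, continued. -/

set_option autoImplicit false

namespace Cfsg.Agent.H3.K

open Finset Subgroup Equiv Cfsg.Agent.PLoc Cfsg.Agent.Char Cfsg.Agent.Blk Cfsg.Agent.Inv Cfsg.Agent.H9
  Cfsg.Agent.Gol

theorem c24c : lall (fun T => forceL (-(1 + T.2.2.2.sum) :: T.2.2.2) fun M => bif' (btS 7 M)
    (lall (fun c => bif'
      (gcol 244823040 11 T.1 T.2.1 M c (fun _ => 44) fun _ => true)
        (T.1 == 2 && c ∈ [73920, 887040]) true) (Ct24 T.1)) true)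
    (trees2 244823040 11 D24 Q23 fun v => v == 2 || v == 24 || v == 288) = true := by
  decide +kernel

end Cfsg.Agent.H3.K
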