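import Cfsg.Agent.H3.M24a

/-! The simple group of order `244823040`: the possible centralisers of an element of order `11`. -/

set_option autoImplicit false
set_option linter.unusedVariables false
set_option linter.unusedSectionVars false

namespace Cfsg.Agent.H3

open Finset Subgroup Equiv Cfsg.Agent.PLoc Cfsg.Agent.Char Cfsg.Agent.Blk Cfsg.Agent.Inv Cfsg.Agent.H9
  Cfsg.Agent.Gol
open scoped ComplexConjugate

universe u

theorem c11v1 : ∀ U ∈ trees2 244823040 11 D24 Q23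
    (fun v => v % 23 != 0 && v % 7 != 0 && decide (v ∉ [1, 2, 12, 24, 288, 144])),
    btS 7 (-(1 + U.2.2.2.sum) :: U.2.2.2) = false := by decide +kernel

theorem c11v2 : ∀ d ∈ D24, Q23 d = true → ∀ s ∈ [(1 : ℤ), -1], aOK 11 144 10 15456 (s * d) 1 = true ∨
    aOK 11 144 10 15456 (-(s * d)) 10 = true → 23 ∣ d := by decide +kernel

variable {G : Type u} [Group G] [Finite G] [IsSimpleGroup G] (h : Nat.card G = 244823040)
include h

theorem ve11 {y : G} (hy : orderOf y = 11) (hs : Syl1 11 y) (h7 : Nat.card (Vc 11 y) % 7 ≠ 0) :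
    Nat.card (Vc 11 y) = 1 ∧ Nat.card (autSub hy) = 10 ∨
    Nat.card (Vc 11 y) = 12 ∧ Nat.card (autSub hy) = 10 ∨
    Nat.card (autSub hy) = 5 ∧ Nat.card (Vc 11 y) ∈ [2, 24, 288] := by
  have h23 := not23_24 h hs (by norm_num)
  have h1 : Nat.card (Vc 11 y) ∈ [1, 2, 12, 24, 288, 144] := by_contra fun e => by
    obtain ⟨m, s, L, T, h6, h8⟩ := exists_TB (nc24 h) h hD24 (Q := Q23)
      (R := fun v => v % 23 != 0 && v % 7 != 0 && decide (v ∉ [1, 2, 12, 24, 288, 144]))
      (fun χ _ => hQ23_24 h χ) hs (by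
        simp only [Bool.and_eq_true, bne_iff_ne, decide_eq_true_eq]
        exact ⟨⟨h23, h7⟩, e⟩)
    have a1 := c11v1 _ h8
    have a2 := T.bt 7 (by norm_num) (by norm_num) (fun e => h7 (Nat.mod_eq_zero_of_dvd e))
      (by rw [h]; norm_num) (by rw [h]; norm_num)
    rw [h6] at a2
    exact absurd (a1.symm.trans a2) (by decide)
  obtain ⟨r, hr⟩ := hs.exists_r
  have h2 := hs.card_eq
  have h3 := card_autSub_dvd hy
  have h4 := Nat.le_of_dvd (by norm_num) h3
  obtain ⟨m, s, L, T, h6, -⟩ := exists_TB (nc24 h) h hD24 (Q := fun _ => true) (R := fun _ => true)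
    (fun _ _ => rfl) hs rfl
  have h9 := T.aok
  simp only [List.mem_cons, List.not_mem_nil, or_false] at h1
  rw [h] at h2
  have h8 : (Nat.card (Vc 11 y) = 1 ∧ Nat.card (autSub hy) = 10 ∨
      Nat.card (Vc 11 y) = 12 ∧ Nat.card (autSub hy) = 10 ∨
      Nat.card (autSub hy) = 5 ∧ Nat.card (Vc 11 y) ∈ [2, 24, 288]) ∨
      Nat.card (Vc 11 y) = 144 ∧ Nat.card (autSub hy) = 10 ∧ (Nx y).index = 15456 := by
    generalize Nat.card (autSub hy) = e at *
    rcases h1 with e1 | e1 | e1 | e1 | e1 | e1 <;> rw [e1] at h2 ⊢ <;> interval_cases e <;> simp <;>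
      omega
  refine h8.resolve_right fun ⟨e1, e2, e3⟩ => ?_
  have : (23 : ℤ) ∣ (m.map fun χ => s χ * charDegree χ.1).sum := List.dvd_sum fun a ha => by
    obtain ⟨χ, hχ, rfl⟩ := List.mem_map.1 ha
    have b1 := h9 χ hχ
    rw [e1, e3, show Nat.card (autSub hs.ord) = 10 from e2] at b1
    exact Dvd.dvd.mul_left (by
      exact_mod_cast c11v2 _ (hD24 _ (h ▸ deg_dvd χ)) (hQ23_24 h χ) (s χ)
        (by simpa using T.sgn χ hχ) b1) _
  rw [h6, List.sum_cons] at this
  omega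

/-- the prime `11`, from the three exclusions -/
theorem m24_11_of {y : G} (hy : orderOf y = 11)
    (n7 : ∀ hs : Syl1 11 y, Nat.card (Vc 11 y) % 7 ≠ 0)
    (n12 : ∀ hs : Syl1 11 y, Nat.card (Vc 11 y) = 12 → Nat.card (autSub hy) = 10 → False)
    (n5 : ∀ hs : Syl1 11 y, Nat.card (autSub hy) = 5 → Nat.card (Vc 11 y) ∈ [2, 24, 288] → False) :
    SC 11 y ∧ Nat.card (autSub hy) = 10 := by
  have hs := syl1_of_ord hy (by rw [h]; norm_num)
  rcases ve11 h hy hs (n7 hs) with e | e | e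
  · exact ⟨hs.sc (card_eq_one.1 e.1), e.2⟩
  · exact (n12 hs e.1 e.2).elim
  · exact (n5 hs e.1 e.2).elim

end Cfsg.Agent.H3
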