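import Cfsg.Agent.H3.Gc
import Cfsg.Agent.H3.M24v
import Cfsg.Agent.H3.M24k2
import Cfsg.Agent.H3.M24k3

/-! The simple group of order `244823040`: the prime `11`. -/

set_option autoImplicit false
set_option linter.unusedVariables false
set_option linter.unusedSectionVars false

namespace Cfsg.Agent.H3

open Finset Subgroup Equiv Cfsg.Agent.PLoc Cfsg.Agent.Char Cfsg.Agent.Blk Cfsg.Agent.Inv Cfsg.Agent.H9
  Cfsg.Agent.Gol Cfsg.Agent.H3.K
open scoped ComplexConjugate

universe u

theorem len_enum_g (C : List ℤ) : ∀ (k b : ℕ) (L : List ℤ), L ∈ enum C k b → L.length = k := by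
  induction C with
  | nil =>
    intro k b L hL
    simp only [enum] at hL
    split_ifs at hL with e
    · simp_all
    · simp at hL
  | cons c cs ih =>
    intro k b L hL
    simp only [enum, List.mem_flatMap, List.mem_range] at hL
    obtain ⟨j, hj, hL⟩ := hL
    split_ifs at hL with e
    · obtain ⟨L', h1, rfl⟩ := List.mem_map.1 hL
      rw [List.length_append, List.length_replicate, ih _ _ _ h1]
      omega
    · simp at hL

theorem res23 (M : List ℤ) (h : ∀ a ∈ M, a % 23 ∈ [0, 1, 12]) :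
    ∃ i j : ℕ, i + j ≤ M.length ∧ M.sum % 23 = (i + 12 * j) % 23 := by
  induction M with
  | nil => exact ⟨0, 0, by simp⟩
  | cons a M ih =>
    obtain ⟨i, j, h1, h2⟩ := ih fun b hb => h b (by simp [hb])
    have := h a (by simp)
    simp only [List.mem_cons, List.not_mem_nil, or_false] at this
    rw [List.length_cons, List.sum_cons]
    rcases this with e | e | e
    · exact ⟨i, j, by omega, by omega⟩
    · exact ⟨i + 1, j, by omega, by push_cast; omega⟩
    · exact ⟨i, j + 1, by omega, by push_cast; omega⟩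

variable {G : Type u} [Group G] [Finite G]

theorem dvd_Vc_of_comm {p q : ℕ} [hp : Fact p.Prime] (hq : q.Prime) (pq : q ≠ p) {x a b : G}
    (h : Syl1 p x) (ha : orderOf a = p) (hb : orderOf b = q) (c : Commute a b) :
    q ∣ Nat.card (Vc p x) := by
  have : Fact q.Prime := ⟨hq⟩
  have e : orderOf (a * b) = p * q := by
    rw [c.orderOf_mul_eq_mul_orderOf_of_coprime (by
      rw [ha, hb]; exact (Nat.coprime_primes hp.out hq).2 pq.symm), ha, hb]
  exact by_contra fun e' => not_dvd_of_Vc h pq e' (g := a * b) (e ▸ dvd_mul_right _ _)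
    (e ▸ dvd_mul_left _ _)

variable [IsSimpleGroup G] (h : Nat.card G = 244823040)
include h

theorem no77g {y : G} (hs : Syl1 11 y) : Nat.card (Vc 11 y) % 7 ≠ 0 := fun e => by
  have : Fact (Nat.Prime 7) := ⟨by norm_num⟩
  obtain ⟨u, u1, u2⟩ := exists_mem_orderOf_eq_prime (H := Vc 11 y) (p := 7) (by norm_num)
    (Nat.dvd_of_mod_eq_zero e)
  have hu : Syl1 7 u := syl1_of_ord u2 (by rw [h]; norm_num)
  have a1 : 11 ∣ Nat.card (Vc 7 u) := dvd_Vc_of_comm (by norm_num) (by norm_num) hu u2 hs.ord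
    (mem_centralizer_singleton_iff.1 (hs.mem_Vc.1 u1).1)
  by_cases e0 : Nat.card (Vc 7 u) ∈ [528, 66, 220]
  · obtain ⟨m, s, L, T, h6, h8⟩ := exists_TB (nc24 h) h hD24 (Q := fun _ => true) (R := fun _ => true)
      (fun _ _ => rfl) hu rfl
    obtain ⟨r, hr⟩ := hu.exists_r
    have h2 := hu.card_eq
    have h3 := card_autSub_dvd hu.ord
    have h4 := Nat.le_of_dvd (by norm_num) h3
    have h9 := T.aok
    have hl : L.length = Nat.card (autSub hu.ord) - 1 := by
      simp only [trees2, List.mem_flatMap, List.mem_filter, List.mem_map, Prod.mk.injEq] at h8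
      obtain ⟨np, -, e, -, L', ⟨a7, -⟩, -, rfl, -, rfl⟩ := h8
      exact len_enum_g _ _ _ _ a7
    rw [h] at h2
    have h5 : Nat.card (autSub hu.ord) = 6 ∧ (Nat.card (Vc 7 u), (Nx u).index) ∈
        [(528, 11040), (66, 88320), (220, 26496)] := by
      simp only [List.mem_cons, List.not_mem_nil, or_false] at e0
      generalize Nat.card (autSub hu.ord) = e at *
      rcases e0 with e1 | e1 | e1 <;> rw [e1] at h2 ⊢ <;> interval_cases e <;> simp <;> omega
    obtain ⟨i, j, b1, b2⟩ := res23 (m.map fun χ => s χ * charDegree χ.1) fun a ha => by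
      obtain ⟨χ, hχ, rfl⟩ := List.mem_map.1 ha
      have b3 := sum_deg_sq_le {χ}
      rw [sum_singleton, sq, h] at b3
      exact c24b' _ (hD24 _ (h ▸ deg_dvd χ)) (hQ23_24 h χ) (s χ) (by simpa using T.sgn χ hχ) _ h5.2
        (h5.1 ▸ h9 χ hχ) b3
    rw [h6] at b1 b2
    rw [List.sum_cons] at b2
    rw [List.length_cons, hl, h5.1] at b1
    have : j ≤ 6 := by omega
    interval_cases j <;> omega
  obtain ⟨m, s, L, T, h6, h8⟩ := exists_TB (nc24 h) h hD24 (Q := Q23)
    (R := fun v => v % 11 == 0 && v % 23 != 0 && decide (v ∉ [528, 66, 220]))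
    (fun χ _ => hQ23_24 h χ) hu (by
      simp only [Bool.and_eq_true, bne_iff_ne, beq_iff_eq, decide_eq_true_eq]
      exact ⟨⟨Nat.mod_eq_zero_of_dvd a1, not23_24 h hu (by norm_num)⟩, e0⟩)
  have a2 := T.uq (nc24 h) (q := 11) (by norm_num) a1
  rw [h6] at a2
  exact absurd ((c24b _ h8).symm.trans a2) (by decide)

theorem kill5g {y t z : G} (hs : Syl1 11 y) (h5 : ¬ 5 ∣ Nat.card (Vc 11 y)) (t1 : t ∈ Vc 11 y)
    (t2 : orderOf t = 2) (z2 : orderOf z = 5) (t3 : Commute z t) :
    ∃ U : ℕ × ℕ × List ℤ, (∀ a : G, orderOf a = 3 → ∀ b : G, orderOf b = 5 → Commute b a →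
      U.1 % 3 = 0) ∧ t5 2 5 2225664 [73920, 887040] U = false ∧
      (U.1 % 3 = 0 → t5 12 10 185472 C12 U = false) ∧ ∀ C, Nat.card (centralizer ({t} : Set G)) ∈ C →
        t5 (Nat.card (Vc 11 y)) (Nat.card (autSub hs.ord)) (Nx y).index C U = true := by
  have : Fact (Nat.Prime 5) := ⟨by norm_num⟩
  have hz : Syl1 5 z := syl1_of_ord z2 (by rw [h]; norm_num)
  have t4 : t ∈ Vc 5 z := hz.mem_Vc.2 ⟨mem_centralizer_singleton_iff.2 t3.symm, by rw [t2]; norm_num⟩
  have n11 : ¬ 11 ∣ Nat.card (Vc 5 z) := fun e => by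
    obtain ⟨u, u1, u2⟩ := exists_mem_orderOf_eq_prime (p := 11) (by norm_num) e
    exact h5 (dvd_Vc_of_comm (by norm_num) (by norm_num) hs u2 z2
      (mem_centralizer_singleton_iff.1 (hz.mem_Vc.1 u1).1))
  obtain ⟨m, s, L, T, h6, h8⟩ := exists_TB (nc24 h) h hD24 (Q := Q23)
    (R := fun v => v % 2 == 0 && v % 11 != 0 && v % 23 != 0) (fun χ _ => hQ23_24 h χ) hz (by
      simp only [Bool.and_eq_true, bne_iff_ne, beq_iff_eq]
      exact ⟨⟨Nat.mod_eq_zero_of_dvd (t2 ▸ orderOf_dvd_card_of_mem t4),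
        mt Nat.dvd_of_mod_eq_zero n11⟩, not23_24 h hz (by norm_num)⟩)
  have a1 := lall_iff.1 c24d _ h8
  have a2 : f5 (Nat.card (Vc 5 z)) (-(1 + L.sum) :: L) = true := by
    rw [← h6]
    simp only [f5, Bool.and_eq_true, Bool.or_eq_true, beq_iff_eq, bne_iff_ne, List.all_eq_true]
    refine ⟨⟨or_iff_not_imp_left.2 fun e => T.bt 7 (by norm_num) (by norm_num)
      (fun e' => e (Nat.mod_eq_zero_of_dvd e')) (by rw [h]; norm_num) (by rw [h]; norm_num),
      T.bt 11 (by norm_num) (by norm_num) n11 (by rw [h]; norm_num) (by rw [h]; norm_num)⟩,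
      fun q hq => or_iff_not_imp_left.2 fun e => T.uq (nc24 h) ?_ (Nat.dvd_of_mod_eq_zero (not_not.1 e))⟩
    simp only [List.mem_cons, List.not_mem_nil, or_false] at hq
    rcases hq with rfl | rfl | rfl <;> norm_num
  simp only [forceL_eq, a2, bif'_true] at a1
  refine ⟨(Nat.card (Vc 5 z), Nat.card (autSub hz.ord), -(1 + L.sum) :: L), fun a ha b hb c =>
    Nat.mod_eq_zero_of_dvd (dvd_Vc_of_comm (by norm_num) (by norm_num) hz hb ha c), ?_, fun e => ?_,
    fun C hC => ?_⟩
  · revert a1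
    cases t5 2 5 2225664 [73920, 887040] (Nat.card (Vc 5 z), Nat.card (autSub hz.ord),
      -(1 + L.sum) :: L) <;> simp
  · revert a1
    rw [show Nat.card (Vc 5 z) % 3 = 0 from e]
    cases t5 2 5 2225664 [73920, 887040] (Nat.card (Vc 5 z), Nat.card (autSub hz.ord),
      -(1 + L.sum) :: L) <;> cases t5 12 10 185472 C12 (Nat.card (Vc 5 z), Nat.card (autSub hz.ord),
      -(1 + L.sum) :: L) <;> simp
  obtain ⟨χ, c1, c2, c3⟩ := T.cross (nc24 h) hs fun g hg =>
    not_dvd_of_Vc (q := 5) hs (by norm_num) h5 hg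
  obtain ⟨m', e1, e2⟩ := (congrFun₂ (List.eq_map_comp_perm fun χ : IrrCharacter G =>
    s χ * charDegree χ.1) (srt2 (-(1 + L.sum) :: L)) m).mpr
    (by rw [h6]; exact List.perm_insertionSort _ _)
  choose w hw using fun χ : IrrCharacter G => mod4 (nc24 h) χ t2
  have b1 := (T.toTC (by norm_num) e2).gcol (nc24 h) h (by norm_num) t2 hw (md := md5)
    (k := lany fun a => bif' (aok2 11 (Nat.card (Vc 11 y)) (Nat.card (autSub hs.ord)) (Nx y).index
      (-a.1)) ((a.1.natAbs - a.2) % 11 == 0) false) (fun ψ hψ => by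
      have d1 := T.cg ψ (e2.subset hψ) t t4 _ (hw ψ).1
      have d2 := (hw ψ).2
      simp only [md5, bif'_eq, Nat.beq_eq]
      split_ifs with e
      · obtain ⟨r, hr⟩ := deg_dvd ψ
        have c : Commute y t := (show Commute t y from
          mem_centralizer_singleton_iff.1 (hs.mem_Vc.1 t1).1).symm
        have a6 : 11 ∣ orderOf (y * t) := by
          rw [c.orderOf_mul_eq_mul_orderOf_of_coprime (by rw [t2, hs.ord]; decide), hs.ord]
          exact dvd_mul_right _ _
        have a5 := cong 11 ψ.2.isCharacter c (k := 1) (by simpa using hs.ord) (Eq.trans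
          (defect_zero (r := r) fact11.out rfl hr.symm (fun e' => by
            have := Nat.mul_dvd_mul (Nat.dvd_of_mod_eq_zero e) e'
            rw [← hr, h] at this
            exact absurd this (by norm_num)) a6) Int.cast_zero.symm) (hw ψ).1
        exact ⟨by norm_num, by push_cast at d1 a5 ⊢; omega⟩
      · exact ⟨by norm_num, by push_cast at d1 ⊢; omega⟩)
    (lany_iff.2 ⟨(s χ * charDegree χ.1, w χ), List.mem_reverse.2
      (List.mem_map_of_mem (e2.symm.subset c1)), by
        have := c3 t t1 _ (hw χ).1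
        simp only [c2, bif'_true, natAbs_sign (T.sgn χ c1), beq_iff_eq]
        exact Int.emod_eq_zero_of_dvd this⟩)
  have b2 : lany (fun a => aok2 11 (Nat.card (Vc 11 y)) (Nat.card (autSub hs.ord)) (Nx y).index (-a))
      (-(1 + L.sum) :: L) = true := lany_iff.2 ⟨_, h6 ▸ List.mem_map_of_mem c1, c2⟩
  simp only [t5, b2, bif'_true, forceL_eq]
  exact lany_iff.2 ⟨_, hC, by rw [e1]; exact b1⟩

theorem idx11 {y : G} (hs : Syl1 11 y) {v e : ℕ} (h1 : Nat.card (Vc 11 y) = v)
    (h2 : Nat.card (autSub hs.ord) = e) : 244823040 = 11 * v * e * (Nx y).index := by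
  rw [← h1, ← h2, ← h]
  exact hs.card_eq

theorem no5g {y : G} (hy : orderOf y = 11) (hs : Syl1 11 y) (he : Nat.card (autSub hy) = 5)
    (hv : Nat.card (Vc 11 y) ∈ [2, 24, 288]) : False := by
  simp only [List.mem_cons, List.not_mem_nil, or_false] at hv
  have he' : Nat.card (autSub hs.ord) = 5 := he
  obtain ⟨t, t1, z, t2, z2, t3, t4⟩ := ct24 h hs (by
    rw [he']; rcases hv with e | e | e <;> rw [e] <;> simp)
  obtain ⟨m, s, L, T, h6, h8⟩ := exists_TB (nc24 h) h hD24 (Q := Q23)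
    (R := fun v => v == 2 || v == 24 || v == 288) (fun χ _ => hQ23_24 h χ) hs (by
      rcases hv with e | e | e <;> rw [e] <;> rfl)
  have a1 := lall_iff.1 c24c _ h8
  have a2 := T.bt 7 (by norm_num) (by norm_num) (by omega) (by rw [h]; norm_num) (by rw [h]; norm_num)
  choose w hw using fun χ : IrrCharacter G => mod4 (nc24 h) χ t2
  have b1 := (T.toTC (by norm_num) (List.Perm.refl m)).gcol (nc24 h) h (by norm_num) t2 hw
    (md := fun _ => 44) (k := fun _ => true) (fun ψ hψ => by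
      have d1 := T.cg ψ hψ t t1 _ (hw ψ).1
      have d2 := (hw ψ).2
      exact ⟨by norm_num, by push_cast at d1 ⊢; omega⟩) rfl
  rw [h6] at a2 b1
  simp only [forceL_eq, a2, bif'_true] at a1
  have a3 := lall_iff.1 a1 _ t4
  simp only at b1
  simp only [b1, bif'_true, Bool.and_eq_true, beq_iff_eq, decide_eq_true_eq] at a3
  obtain ⟨U, -, u2, -, u4⟩ := kill5g h hs (by omega) t1 t2 z2 t3
  have a4 := idx11 h hs a3.1 he'
  have a5 := u4 _ a3.2
  rw [a3.1, he', show (Nx y).index = 2225664 by omega, u2] at a5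
  exact absurd a5 (by decide)

theorem no12g {y : G} (hy : orderOf y = 11) (hs : Syl1 11 y) (hv : Nat.card (Vc 11 y) = 12)
    (he : Nat.card (autSub hy) = 10) : False := by
  have : Fact (Nat.Prime 5) := ⟨by norm_num⟩
  have := Nat.fact_prime_three
  have he' : Nat.card (autSub hs.ord) = 10 := he
  obtain ⟨t, t1, z, t2, z2, t3, t4⟩ := ct24 h hs (by rw [he', hv]; simp)
  have a4 := idx11 h hs hv he'
  have a5 : (Nx y).index = 185472 := by omega
  have a6 := (Nx y).index_mul_card
  rw [h, a5] at a6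
  obtain ⟨a, -, b, r1, r2, r3⟩ := exists_comm_inv (p := 3) (q := 5) (V := Vc 11 y)
    (Dvd.dvd.trans (show 5 ∣ Nat.card (Nx y) by omega) (card_dvd_of_le hs.norm_le)) (by omega)
    fun k h1 h2 => by
      rw [hv] at h1 h2
      have : k < 3 := (Nat.pow_lt_pow_iff_right (by norm_num : 1 < 3)).1
        ((Nat.le_of_dvd (by omega) h1).trans_lt (by omega))
      interval_cases k <;> omega
  obtain ⟨U, u1, -, u3, u4⟩ := kill5g h hs (by omega) t1 t2 z2 t3
  obtain ⟨m, s, L, T, h6, -⟩ := exists_TB (nc24 h) h hD24 (Q := fun _ => true) (R := fun _ => true)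
    (fun _ _ => rfl) hs rfl
  obtain ⟨x, hx⟩ := exists_prime_orderOf_dvd_card' (G := G) 23 (by rw [h]; norm_num)
  obtain ⟨x1, x2⟩ := m24_23 h hx
  have x3 := x1.syl1.card_eq
  have x4 := card_Vc_sc x1
  obtain ⟨χ, c1, c2, -⟩ := T.cross (nc24 h) x1.syl1 fun g hg =>
    not_dvd_of_Vc (q := 11) x1.syl1 (by norm_num) (by rw [x4]; norm_num) hg
  rw [x4, show Nat.card (autSub x1.syl1.ord) = 11 from x2] at x3 c2
  rw [show (Nx x).index = 967680 by omega, ← neg_mul] at c2
  have c3 := T.aok χ c1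
  rw [hv, he', a5] at c3
  choose w hw using fun χ : IrrCharacter G => mod4 (nc24 h) χ t2
  have T' := T.toTC (by norm_num) (List.Perm.refl m)
  have b1 := nq_le T.nodup fun χ => (hw χ).1
  have b2 := (((T'.aux (nc24 h) h (by norm_num) t2 hw).2.2.2 χ c1).2 44
    (Nat.card (centralizer ({t} : Set G)) - 1) (by norm_num) (by
      have d1 := T.cg χ c1 t t1 _ (hw χ).1
      have d2 := (hw χ).2
      push_cast at d1 ⊢
      omega) (by
      have : _ ≤ nq w m := List.le_sum_of_mem (List.mem_map_of_mem c1)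
      omega))
  rw [natAbs_sign (T.sgn χ c1)] at b2
  have b3 := c24u _ (hD24 _ (h ▸ deg_dvd χ)) (fun e => T.ne c1 (eq_irrOne_of_deg (nc24 h) e)) (s χ)
    (by simpa using T.sgn χ c1) (by simpa only [aok2, Bool.or_eq_true] using c3) c2 _ (hv ▸ t4)
    (List.ne_nil_of_mem b2)
  have b4 := u4 _ b3
  rw [hv, he', a5, u3 (u1 a r1 b r2 r3)] at b4
  exact absurd b4 (by decide)

theorem m24_11g {y : G} (hy : orderOf y = 11) : SC 11 y ∧ Nat.card (autSub hy) = 10 :=
  m24_11_of h hy (fun hs => no77g h hs) (fun hs => no12g h hy hs) fun hs => no5g h hy hs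

end Cfsg.Agent.H3
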