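import Cfsg.Agent.H3.M24n
import Cfsg.Agent.H3.Col

/-! The simple group of order `244823040`: numerical checks for the prime `11`. -/

set_option autoImplicit false
set_option linter.unusedVariables false
set_option linter.unusedSectionVars false

namespace Cfsg.Agent.H3.K

open Finset Subgroup Equiv Cfsg.Agent.PLoc Cfsg.Agent.Char Cfsg.Agent.Blk Cfsg.Agent.Inv Cfsg.Agent.H9
  Cfsg.Agent.Gol
open scoped ComplexConjugate

universe u

/-- search for the column of an involution on a principal block -/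
noncomputable def gcol (n p v e : ℕ) (M : List ℤ) (c : ℕ) (md : ℕ → ℕ) (k : List (ℤ × ℤ) → Bool) :
    Bool := force (n / c) fun K => force (c - 1) fun b =>
  ann (fun _ => 1) (fun d => force (md d.natAbs) fun m => opt K m b d.natAbs) false M fun E =>
    colF (fun _ B r => forceI (qs n B) fun s => bif' (bif' (bif' (Nat.beq (e % 2) 0)
      (sqT ((p * v : ℕ) * s) c) (s == 0)) (k B) false) true r) E b 1 [] false

def aok2 (p v e np : ℕ) (a : ℤ) : Bool := aOK p v e np a 1 || aOK p v e np (-a) e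

def Ct24 (v : ℕ) : List ℕ := if v = 288 then
  [110, 220, 330, 440, 660, 880, 990, 1320, 1760, 1980, 2640, 3960, 5280, 6160, 7920, 10560, 11880,
  12320, 15840, 18480, 21120, 23760, 24640, 31680, 36960, 47520, 49280, 55440, 63360, 73920, 95040,
  98560, 110880, 126720, 147840, 190080, 221760, 253440, 295680, 380160, 443520, 591360, 665280,
  760320, 887040, 1182720, 1330560, 1520640, 1774080, 2661120, 3548160, 5322240, 10644480]
  else if v = 2 then [110, 1320, 6160, 15840, 73920, 190080, 887040, 10644480] else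
  [110, 220, 330, 440, 660, 1320, 2640, 3960, 5280, 6160, 7920, 12320, 15840, 18480, 24640, 31680,
  36960, 47520, 63360, 73920, 95040, 147840, 190080, 221760, 295680, 380160, 443520, 760320, 887040,
  1774080, 2661120, 3548160, 5322240, 10644480]

def C12 : List ℕ := [15840, 18480, 36960, 47520, 147840, 221760, 295680, 443520, 887040]

def ky2 (a : ℤ) : ℕ := (if a % 11 = 0 then 0 else 20000) + a.natAbs

def srt2 (L : List ℤ) : List ℤ := L.insertionSort fun a b => ky2 a ≤ ky2 b

def md5 (d : ℕ) : ℕ := bif' (Nat.beq (d % 11) 0) 220 20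

/-- the test on a tree for the prime `5` -/
noncomputable def t5 (v e np : ℕ) (C : List ℕ) (U : ℕ × ℕ × List ℤ) : Bool :=
  bif' (lany (fun a => aok2 11 v e np (-a)) U.2.2) (forceL (srt2 U.2.2) fun M => lany (fun c =>
    gcol 244823040 5 U.1 U.2.1 M c md5 (lany fun a => bif' (aok2 11 v e np (-a.1))
      ((a.1.natAbs - a.2) % 11 == 0) false)) C) false

def f5 (v : ℕ) (M : List ℤ) : Bool := (v % 7 == 0 || btS 7 M) && btS 11 M &&
  [2, 3, 7].all fun q => v % q != 0 || uqB 5 q M

theorem c24b : ∀ T ∈ trees2 244823040 7 D24 Q23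
    (fun v => v % 11 == 0 && v % 23 != 0 && decide (v ∉ [528, 66, 220])),
    uqB 7 11 (-(1 + T.2.2.2.sum) :: T.2.2.2) = false := by decide +kernel

theorem c24b' : ∀ d ∈ D24, Q23 d = true → ∀ s ∈ [(1 : ℤ), -1], ∀ a ∈ [(528, 11040), (66, 88320),
    (220, 26496)], aOK 7 a.1 6 a.2 (s * d) 1 = true ∨ aOK 7 a.1 6 a.2 (-(s * d)) 6 = true →
    d * d ≤ 244823040 → (s * d) % 23 ∈ [0, 1, 12] := by decide +kernel

theorem c24t : ∀ a ∈ [(288, 5), (24, 5), (2, 5), (12, 10)], ∀ i < 145, 110 * i ∣ 11 * a.1 * a.2 →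
    ∀ c ∈ D24, 110 * i ∣ c → c / (110 * i) % 11 = 1 → ¬ 23 ∣ c → c ∈ Ct24 a.1 := by decide +kernel

theorem c24u : ∀ d ∈ D24, d ≠ 1 → ∀ s ∈ [1, -1], aok2 11 12 10 185472 (s * d) = true →
    aok2 23 1 11 967680 (-s * d) = true → ∀ c ∈ Ct24 12, opt (244823040 / c) 44 (c - 1) d ≠ [] →
    c ∈ C12 := by decide +kernel

end Cfsg.Agent.H3.K
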