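import Cfsg.Agent.H3.M24n
import Cfsg.Agent.H3.Col

/-! The simple group of order `244823040`: numerical checks for the prime `11`. -/

set_option autoImplicit false
set_option linter.unusedVariables false
set_option linter.unusedSectionVars false

namespace Cfsg.Agent.H3

open Finset Subgroup Equiv Cfsg.Agent.PLoc Cfsg.Agent.Char Cfsg.Agent.Blk Cfsg.Agent.Inv Cfsg.Agent.H9
  Cfsg.Agent.Gol
open scoped ComplexConjugate

universe u

/-- search for the column of an involution on a principal block -/
noncomputable def gcol (n p v e : ℕ) (M : List ℤ) (c : ℕ) (md : ℕ → ℕ) (k : List (ℤ × ℤ) → Bool) :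
    Bool := force (n / c) fun K => force (c - 1) fun b =>
  ann (fun _ => 1) (fun d => force (md d.natAbs) fun m => opt K m b d.natAbs) false M fun E =>
    colF (fun _ B r => forceI (qs n B) fun s => bif' (bif' (bif' (Nat.beq (e % 2) 0)
      (sqT ((p * v : ℕ) * s) c) (s == 0)) (k B) false) true r) E b 1 [] false

def aok2 (p v e np : ℕ) (a : ℤ) : Bool := aOK p v e np a 1 || aOK p v e np (-a) e

def Ct24 (v : ℕ) : List ℕ := if v = 288 then
  [110, 220, 330, 440, 660, 880, 990, 1320, 1760, 1980, 2640, 3960, 5280, 6160, 7920, 10560, 11880,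
  12320, 15840, 18480, 21120, 23760, 24640, 31680, 36960, 47520, 49280, 55440, 63360, 73920, 95040,
  98560, 110880, 126720, 147840, 190080, 221760, 253440, 295680, 380160, 443520, 591360, 665280,
  760320, 887040, 1182720, 1330560, 1520640, 1774080, 2661120, 3548160, 5322240, 10644480]
  else if v = 2 then [110, 1320, 6160, 15840, 73920, 190080, 887040, 10644480] else
  [110, 220, 330, 440, 660, 1320, 2640, 3960, 5280, 6160, 7920, 12320, 15840, 18480, 24640, 31680,
  36960, 47520, 63360, 73920, 95040, 147840, 190080, 221760, 295680, 380160, 443520, 760320, 887040,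
  1774080, 2661120, 3548160, 5322240, 10644480]

def C12 : List ℕ := [15840, 18480, 36960, 47520, 147840, 221760, 295680, 443520, 887040]

def ky2 (a : ℤ) : ℕ := (if a % 11 = 0 then 0 else 20000) + a.natAbs

def srt2 (L : List ℤ) : List ℤ := L.insertionSort fun a b => ky2 a ≤ ky2 b

def md5 (d : ℕ) : ℕ := bif' (Nat.beq (d % 11) 0) 220 20

/-- the test on a tree for the prime `5` -/
noncomputable def t5 (v e np : ℕ) (C : List ℕ) (U : ℕ × ℕ × List ℤ) : Bool :=
  bif' (lany (fun a => aok2 11 v e np (-a)) U.2.2) (forceL (srt2 U.2.2) fun M => lany (fun c =>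
    gcol 244823040 5 U.1 U.2.1 M c md5 (lany fun a => bif' (aok2 11 v e np (-a.1))
      ((a.1.natAbs - a.2) % 11 == 0) false)) C) false

def f5 (v : ℕ) (M : List ℤ) : Bool := (v % 7 == 0 || btS 7 M) && btS 11 M &&
  [2, 3, 7].all fun q => v % q != 0 || uqB 5 q M

/-- fast enumeration of multisets -/
noncomputable def allE6 (k : ℕ) : List ℤ → ℕ → (List ℤ → Bool) → Bool :=
  Nat.rec (fun _ _ f => f []) (fun _ ih C b f => List.rec true (fun c cs r =>
    bif' (force (c.natAbs * c.natAbs) fun z => bif' (Nat.ble z b) (force (b - z) fun b' =>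
      ih (c :: cs) b' fun L => f (c :: L)) true) r false) C) k

theorem allE6_succ (k : ℕ) (c : ℤ) (cs : List ℤ) (b : ℕ) (f : List ℤ → Bool) :
    allE6 (k + 1) (c :: cs) b f = bif' (force (c.natAbs * c.natAbs) fun z => bif' (Nat.ble z b)
      (force (b - z) fun b' => allE6 k (c :: cs) b' fun L => f (c :: L)) true)
      (allE6 (k + 1) cs b f) false := rfl

theorem allE6_sound (C : List ℤ) : ∀ (k b : ℕ) (f : List ℤ → Bool), allE6 k C b f = true →
    ∀ L ∈ enum C k b, f L = true := by
  induction C with
  | nil =>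
    intro k b f h L hL
    simp only [enum] at hL
    split_ifs at hL with e
    · subst e
      rw [List.mem_singleton.1 hL]
      exact h
    · simp at hL
  | cons c cs ih =>
    have key : ∀ (j k b : ℕ) (f : List ℤ → Bool), allE6 k (c :: cs) b f = true → j ≤ k →
        j * c.natAbs ^ 2 ≤ b → ∀ L ∈ enum cs (k - j) (b - j * c.natAbs ^ 2),
        f (List.replicate j c ++ L) = true := by
      intro j
      induction j with
      | zero =>
        intro k b f h _ _ L hL
        refine ih k b f ?_ L (by simpa using hL)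
        cases k with
        | zero => exact h
        | succ k =>
          rw [allE6_succ, bif'_eq] at h
          split_ifs at h
          exact h
      | succ j ihj =>
        intro k b f h h1 h2 L hL
        obtain ⟨k, rfl⟩ : ∃ k', k = k' + 1 := ⟨k - 1, by omega⟩
        rw [allE6_succ, bif'_eq] at h
        split_ifs at h with e
        rw [add_mul, one_mul] at h2 hL
        rw [force_eq, ← sq, Nat.ble_eq.mpr (by omega), bif'_true, force_eq] at e
        refine ihj k _ _ e (by omega) (by omega) L ?_
        rwa [Nat.add_sub_add_right, add_comm, ← Nat.sub_sub] at hL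
    intro k b f h L hL
    simp only [enum, List.mem_flatMap, List.mem_range] at hL
    obtain ⟨j, j1, hL⟩ := hL
    split_ifs at hL with e
    · obtain ⟨L', h1, rfl⟩ := List.mem_map.1 hL
      exact key j k b f h (by omega) e L' h1
    · simp at hL

noncomputable def allT6 (n p : ℕ) (D : List ℕ) (Q R : ℕ → Bool) (g : ℕ → ℕ → List ℤ → Bool) : Bool :=
  forceL (cand2 n D Q) fun C0 => lall (fun np => bif' (decide (np % p = 1) && decide (np ≠ 1))
    (lall (fun e => force e fun e => force (n / (p * e * np)) fun v =>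
      bif' (decide (2 ≤ e) && decide ((p - 1) % e = 0) && decide (n % (p * e * np) = 0) && R v)
        (forceL (C0.filter fun a => aOK p v e np a 1) fun C => force (e - 1) fun k =>
          allE6 k C n fun L => forceI (1 + L.sum) fun f => bif' (fOK2 n p v e np Q L f)
            (forceI (-f) fun f => g v e (f :: L)) true) true) (List.range p)) true) D

theorem allT6_sound {n p : ℕ} {D : List ℕ} {Q R R' : ℕ → Bool} {g : ℕ → ℕ → List ℤ → Bool}
    (h : allT6 n p D Q R g = true) {v e np : ℕ} {L : List ℤ} (hT : (v, e, np, L) ∈ trees2 n p D Q R')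
    (hR : R v = true) : g v e (-(1 + L.sum) :: L) = true := by
  simp only [trees2, List.mem_flatMap, List.mem_filter, List.mem_map, Prod.mk.injEq] at hT
  obtain ⟨np, ⟨h1, h2⟩, e, ⟨h3, h4⟩, L, ⟨h5, h6⟩, rfl, rfl, rfl, rfl⟩ := hT
  simp only [allT6, forceL_eq, force_eq, forceI_eq] at h
  have a1 := lall_iff.1 h np h1
  rw [h2, bif'_true] at a1
  have a2 := lall_iff.1 a1 e h3
  rw [(Bool.and_eq_true_iff.1 h4).1, hR, Bool.and_self, bif'_true] at a2
  have a3 := allE6_sound _ _ _ _ a2 L h5
  rwa [h6, bif'_true] at a3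

noncomputable def gT11 (v e : ℕ) (M : List ℤ) : Bool :=
  bif' (btS 7 M) (bif' ((v, e) ∈ [(288, 5), (24, 5), (2, 5)]) (lall (fun c => bif'
    (gcol 244823040 11 v e M c (fun _ => 44) fun _ => true)
      (v == 2 && c ∈ [73920, 887040]) true) (Ct24 v)) false) true

noncomputable def gT5 (v0 e0 np : ℕ) (C : List ℕ) (v e : ℕ) (M : List ℤ) : Bool :=
  bif' (f5 v M) (!t5 v0 e0 np C (v, e, M)) true

end Cfsg.Agent.H3
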