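import Cfsg.Agent.H3.M24m

/-! The simple group of order `244823040`: numerical checks for the prime `11`. -/

set_option autoImplicit false
set_option linter.unusedVariables false
set_option linter.unusedSectionVars false

namespace Cfsg.Agent.H3

open Finset Subgroup Equiv Cfsg.Agent.PLoc Cfsg.Agent.Char Cfsg.Agent.Blk Cfsg.Agent.Inv Cfsg.Agent.H9
  Cfsg.Agent.Gol
open scoped ComplexConjugate

universe u

theorem c24t : ∀ a ∈ [(288, 5), (24, 5), (2, 5), (12, 10)], ∀ i < 145, 110 * i ∣ 11 * a.1 * a.2 →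
    ∀ c ∈ D24, 110 * i ∣ c → c / (110 * i) % 11 = 1 → ¬ 23 ∣ c → c ∈ Ct24 a.1 := by decide +kernel

theorem c24u : ∀ d ∈ D24, d ≠ 1 → ∀ s ∈ [1, -1], aok2 11 12 10 185472 (s * d) = true →
    aok2 23 1 11 967680 (-s * d) = true → ∀ c ∈ Ct24 12, opt (244823040 / c) 44 (c - 1) d ≠ [] →
    c ∈ C12 := by decide +kernel

theorem c24b : allT6 244823040 7 D24 Q23 (fun v => v % 11 == 0 && v % 23 != 0)
    (fun _ _ M => !uqB 7 11 M) = true := by decide +kernel

end Cfsg.Agent.H3
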