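import Cfsg.Agent.H3.M24d

/-! The simple group of order `244823040`: characters of degree `45` are not real. -/

set_option autoImplicit false
set_option linter.unusedVariables false
set_option linter.unusedSectionVars false

namespace Cfsg.Agent.H3

open Finset Subgroup Equiv Cfsg.Agent.PLoc Cfsg.Agent.Char Cfsg.Agent.Blk Cfsg.Agent.Inv Cfsg.Agent.H9
  Cfsg.Agent.Gol
open scoped ComplexConjugate

universe u

variable {G : Type u} [Group G] [Fintype G]

theorem sameBlock_gal {M : Ideal AlgInt} (σ : ℂ →+* ℂ) {χ ψ : IrrCharacter G} (hχ : SameBlock M χ.1 ψ.1) :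
    SameBlock M (fun g => σ (χ.1 g)) (fun g => σ (ψ.1 g)) := by
  obtain ⟨m, hm, h⟩ := ringHom_exists_pow_char (G := G) σ
  intro g
  have h1 : centralizer ({g ^ m} : Set G) = centralizer {g} := by
    rw [← centralizer_zpowers, ← centralizer_zpowers]
    congr 2
    exact le_antisymm (zpowers_le.2 (npow_mem_zpowers _ _)) (zpowers_le.2
      (mem_zpowers_pow_iff.2 (hm.coprime_dvd_right (orderOf_dvd_natCard g))))
  have := hχ (g ^ m)
  simp only [centralChar, h1] at this ⊢
  rwa [h _ χ.2.isGen, h _ χ.2.isGen, h _ ψ.2.isGen, h _ ψ.2.isGen, one_pow]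

theorem sameBlock_bar {M : Ideal AlgInt} {χ ψ : IrrCharacter G} (hχ : SameBlock M χ.1 ψ.1) :
    SameBlock M (bar χ).1 (bar ψ).1 := sameBlock_gal (starRingEnd ℂ) hχ

theorem inner_zero_of_lt {θ : G → ℂ} (hθ : IsCharacter G θ) (ψ : IrrCharacter G) {n : ℕ} (hn : θ 1 = n)
    (l : n < charDegree ψ.1) : classInner θ ψ.1 = 0 := by
  obtain ⟨m, hm⟩ := hθ.classInner_nat ψ.2.isCharacter
  have := hθ.mult_mul_degree_le ψ.2 hm (irr_one_eq ψ) hn
  rcases m with _ | m
  · simpa using hm
  · nlinarith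

variable [IsSimpleGroup G] (h : Nat.card G = 244823040)
  (h11 : ∀ {y : G} (hy : orderOf y = 11), SC 11 y ∧ Nat.card (autSub hy) = 10)
include h h11

theorem nr45 (χ : IrrCharacter G) (d : charDegree χ.1 = 45) : ¬ ∀ g, conj (χ.1 g) = χ.1 g := fun r => by
  obtain ⟨z, hz⟩ := exists_prime_orderOf_dvd_card' (G := G) 5 (by rw [h]; norm_num)
  obtain ⟨a, b, c, e, w, B⟩ := exists_B5 h h11 hz
  have v : ∀ g, 5 ∣ orderOf g → χ.1 g = 0 := fun g hg =>
    defect_zero (r := 5440512) (by norm_num) d h.symm (by decide) hg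
  have hθ := χ.2.isCharacter.mul χ.2.isCharacter
  have d1 : χ.1 1 = 45 := by rw [irr_one_eq, d]; rfl
  have n : (χ.1 * χ.1) 1 = (2025 : ℕ) := by norm_num [d1]
  have k : classInner (χ.1 * χ.1) (fun _ => 1) + classInner (χ.1 * χ.1) a.1 + classInner (χ.1 * χ.1) e.1 =
      classInner (χ.1 * χ.1) b.1 + classInner (χ.1 * χ.1) c.1 := by
    simp only [classInner, ← mul_add, ← sum_add_distrib]
    refine congrArg _ (sum_congr rfl fun g _ => ?_)
    by_cases o : 5 ∣ orderOf g
    · simp [v g o]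
    · rw [← map_add, ← map_add, ← map_add, B.reg g o]
  have k1 : classInner (χ.1 * χ.1) (fun _ => 1) = 1 := by
    refine Eq.trans ?_ χ.2.classInner_self
    simp only [classInner, r, map_one, mul_one, Pi.mul_apply]
  have kb : classInner (χ.1 * χ.1) b.1 = 0 := by
    rw [show χ.1 * χ.1 = (fun g => (χ.1 g ^ 2 + χ.1 (g * g)) / 2) + fun g => (χ.1 g ^ 2 - χ.1 (g * g)) / 2 from
      funext fun g => by simp only [Pi.mul_apply, Pi.add_apply]; ring, classInner_add_left,
      inner_zero_of_lt χ.2.isCharacter.sym b (n := 1035) (by norm_num [d1]) (by rw [B.deg.2.1]; decide),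
      inner_zero_of_lt χ.2.isCharacter.alt b (n := 990) (by norm_num [d1]) (by rw [B.deg.2.1]; decide), add_zero]
  obtain ⟨m, hm⟩ := hθ.classInner_nat a.2.isCharacter
  rw [k1, kb, hm, inner_zero_of_lt hθ e n (by rw [B.deg.2.2.2]; decide),
    inner_zero_of_lt hθ c n (by rw [B.deg.2.2.1]; decide)] at k
  have : 1 + m + 0 = 0 + 0 := by exact_mod_cast k
  omega

theorem nr45' (χ : IrrCharacter G) (d : charDegree χ.1 = 45) : bar χ ≠ χ := fun e =>
  nr45 h h11 χ d fun g => congrFun (congrArg Subtype.val e) g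

end Cfsg.Agent.H3
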