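import Cfsg.Agent.H3.M24s
import Cfsg.Agent.H3.Nr45
import Cfsg.Agent.H3.M24c

/-! The simple group of order `244823040`: assembling the degree search. -/

set_option autoImplicit false
set_option linter.unusedVariables false
set_option linter.unusedSectionVars false

namespace Cfsg.Agent.H3

open Finset Subgroup Equiv Cfsg.Agent.PLoc Cfsg.Agent.Char Cfsg.Agent.Blk Cfsg.Agent.Inv Cfsg.Agent.H9
  Cfsg.Agent.Gol
open scoped ComplexConjugate

universe u

theorem mem_enum' (C : List ℤ) : ∀ (k b : ℕ) (L : List ℤ), L ∈ enum C k b →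
    L.length = k ∧ ∀ a ∈ L, a ∈ C := by
  induction C with
  | nil =>
    intro k b L hL
    simp only [enum] at hL
    split_ifs at hL with e
    · simp_all
    · simp at hL
  | cons c cs ih =>
    intro k b L hL
    simp only [enum, List.mem_flatMap, List.mem_range] at hL
    obtain ⟨j, hj, hL⟩ := hL
    split_ifs at hL with e
    · obtain ⟨L', h1, rfl⟩ := List.mem_map.1 hL
      obtain ⟨h2, h3⟩ := ih _ _ _ h1
      refine ⟨by rw [List.length_append, List.length_replicate, h2]; omega, fun a ha => ?_⟩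
      rcases List.mem_append.1 ha with e | e
      · rw [List.eq_of_mem_replicate e]
        exact List.mem_cons_self
      · exact List.mem_cons_of_mem _ (h3 a e)
    · simp at hL

theorem split_count {K A : List ℤ} (h : ∀ a ∈ A, A.count a ≤ K.count a) :
    ∃ B : List ℤ, K.Perm (A ++ B) := by
  obtain ⟨B, h1, h2⟩ := List.subperm_ext_iff.2 h
  obtain ⟨B', h3⟩ := h2.exists_perm_append
  exact ⟨B', h3.trans (h1.append_right _)⟩

variable {G : Type u} [Group G] [Fintype G]

theorem le_cnt' {d : ℕ} {l : List (IrrCharacter G)} (hl : l.Nodup) (hd : ∀ χ ∈ l, charDegree χ.1 = d) :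
    l.length ≤ cnt G d := by
  classical
  rw [← List.toFinset_card_of_nodup hl]
  exact card_le_card fun χ hχ => mem_filter.2 ⟨mem_univ _, hd χ (List.mem_toFinset.1 hχ)⟩

theorem cnt_list {d : ℕ} {l : List (IrrCharacter G)} (hl : l.Nodup)
    (hd : ∀ χ : IrrCharacter G, charDegree χ.1 = d → χ ∈ l) {f : IrrCharacter G → ℤ} {a : ℤ}
    (hf : ∀ χ ∈ l, f χ = a ↔ charDegree χ.1 = d) : (l.map f).count a = cnt G d := by
  classical
  rw [List.count_eq_countP, List.countP_map, List.countP_eq_length_filter,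
    ← List.toFinset_card_of_nodup (hl.filter _), cnt]
  refine congrArg _ (Finset.ext fun χ => ?_)
  simp only [mem_filter, mem_univ, true_and, List.mem_toFinset, List.mem_filter, Function.comp,
    beq_iff_eq]
  exact ⟨fun e => (hf χ e.1).1 e.2, fun e => ⟨hd χ e, (hf χ (hd χ e)).2 e⟩⟩

variable [IsSimpleGroup G] (h : Nat.card G = 244823040)
  (h11 : ∀ {y : G} (hy : orderOf y = 11), SC 11 y ∧ Nat.card (autSub hy) = 10)
include h h11

theorem even45 : cnt G 45 % 2 = 0 := by
  classical
  have := Finset.sum_involution (s := univ.filter fun χ : IrrCharacter G => charDegree χ.1 = 45)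
    (f := fun _ => (1 : ZMod 2)) (fun χ _ => bar χ) (fun _ _ => rfl)
    (fun χ hχ _ => nr45' h h11 χ (mem_filter.1 hχ).2)
    (fun χ hχ => mem_filter.2 ⟨mem_univ _, (deg_bar χ).trans (mem_filter.1 hχ).2⟩)
    (fun χ _ => Subtype.ext (funext fun g => Complex.conj_conj _))
  rw [sum_const, nsmul_eq_mul, mul_one, ZMod.natCast_eq_zero_iff] at this
  exact Nat.mod_eq_zero_of_dvd this

variable (hA : 1 ≤ cnt G 252) (hN : ∀ χ : IrrCharacter G, charDegree χ.1 ≠ 3840)
  (hR : 1 ≤ cnt G 45 → 1 ≤ cnt G 990 ∧ (3 ≤ cnt G 45 ∨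
    (2 ≤ cnt G 990 ∧ 2 ≤ cnt G 1035 ∧ (3 ≤ cnt G 990 ∨ 3 ≤ cnt G 1035))))
include hA hN hR

/-- the outcome of the search for the prime `23` -/
theorem t23 : (∀ χ : IrrCharacter G, χ = irrOne G ∨ charDegree χ.1 % 23 = 0 ∨
      charDegree χ.1 ∈ (C23s ++ F23s).map Int.natAbs) ∧ cnt G 45 = 2 ∧ (2 ≤ cnt G 231 →
      cnt G 990 = 2 ∧ ∀ χ : IrrCharacter G, χ = irrOne G ∨ charDegree χ.1 % 23 = 0 ∨
      charDegree χ.1 ∈ [770, 252, 5544, 45, 45, 231, 231, 990, 990, 3520, 10395]) := by
  classical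
  obtain ⟨x, hx⟩ := exists_prime_orderOf_dvd_card' (G := G) 23 (by rw [h]; norm_num)
  obtain ⟨z, hz⟩ := exists_prime_orderOf_dvd_card' (G := G) 5 (by rw [h]; norm_num)
  obtain ⟨a, b, c, d, w, B⟩ := exists_B5 h h11 hz
  obtain ⟨h1, h2⟩ := m24_23 h hx
  obtain ⟨l, s, ε, μ, ν, T, hU⟩ := exists_T2 (nc24 h) h hD24 (Q := Q24s) (fun χ _ => by
    simp [Q24s, hQ24 h h11, hN]) h1 (by rw [h2])
  simp only [trees2, List.mem_flatMap, List.mem_filter, List.mem_map, Prod.mk.injEq, fOK2,
    Bool.and_eq_true, decide_eq_true_eq] at hU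
  obtain ⟨np, ⟨a1, a2, -⟩, e, ⟨a3, ⟨⟨a4, a5⟩, a6⟩, -⟩, L, ⟨a7, ⟨⟨-, a8⟩, a9⟩, a10⟩, a11, -, -, a12⟩ := hU
  obtain ⟨rfl, b1, b2⟩ := c24s0 np a1 a2 e a3 a4 a5 a6 a11
  obtain ⟨b3, b4⟩ := mem_enum' _ _ _ _ a7
  rw [a11] at a8 b4
  have b5 : ∀ a ∈ L, a ∈ C23s := fun a ha =>
    b1 a (List.mem_filter.1 (b4 a ha)).1 (List.mem_filter.1 (b4 a ha)).2
  have d1 := T.deg.1
  rw [← a12] at d1
  have b6 : 1 + L.sum ∈ F23s := by
    rw [d1] at a8 a9 a10 ⊢
    rw [natAbs_sign T.eps] at a9 a10
    exact b2 _ (hD24 _ (h ▸ deg_dvd μ)) ε (by have := T.eps; simp; omega) a8 a9 (by omega)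
  have b7 : charDegree μ.1 % 23 = 11 ∨ charDegree μ.1 % 23 = 12 := by
    have := natAbs_sign T.eps (charDegree μ.1)
    rw [← d1] at this
    rw [← this]
    generalize 1 + L.sum = f at b6
    revert f
    decide
  have c0 : ∀ a ∈ C23s, L.count a = cnt G a.natAbs := fun a ha => by
    have e1 : a.natAbs % 23 = 1 ∧ a.natAbs ≠ 1 ∨ a.natAbs % 23 = 22 := by
      revert a
      decide
    rw [a12]
    refine cnt_list T.nodup.of_cons.of_cons.of_cons (fun χ e => by_contra fun e' => ?_) fun χ hχ =>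
      ⟨fun e => by rw [← e, natAbs_sign (T.sgn χ hχ)], fun e => ?_⟩
    · have := (T.out χ (by
        simp only [List.mem_cons, e', or_false, not_or]
        refine ⟨?_, ?_, ?_⟩ <;> rintro rfl
        · rw [deg_irrOne] at e
          omega
        · omega
        · have := T.deg.2
          omega)).1
      omega
    · have e2 := b5 _ (a12 ▸ List.mem_map_of_mem hχ)
      have e3 := natAbs_sign (T.sgn χ hχ) (charDegree χ.1)
      rw [e] at e2 e3 ⊢
      exact (by decide : ∀ a ∈ C23s, ∀ b ∈ C23s, b.natAbs = a.natAbs → b = a) a ha _ e2 e3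
  have c1 : -252 ∈ L := List.one_le_count_iff.1 (by rw [c0 _ (by decide)]; exact hA)
  have c2 : 5544 ∈ L.erase (-252) := (List.mem_erase_of_ne (by decide)).2 (List.one_le_count_iff.1 (by
    rw [c0 _ (by decide)]
    exact le_cnt' (l := [c]) (by simp) (by simp [B.deg])))
  have p1 := (List.perm_cons_erase c1).trans ((List.perm_cons_erase c2).cons _)
  have q1 : ∀ {A : List ℤ}, L.Perm (-252 :: 5544 :: A) → 252 ^ 2 + 5544 ^ 2 + sqs A = sqs L :=
    fun p => by
      rw [sqs, sqs, (p.map _).sum_eq]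
      simp only [List.map_cons, List.sum_cons]
      norm_num
      omega
  obtain ⟨L8, c3, c4⟩ := exists_enum C23s 8 244823040 ((L.erase (-252)).erase 5544 : List ℤ)
    (fun a ha => b5 a (List.mem_of_mem_erase (List.mem_of_mem_erase (Multiset.mem_coe.1 ha))))
    (by
      have := p1.length_eq
      simp only [List.length_cons, Multiset.coe_card] at this ⊢
      omega) (by
      have := q1 p1
      rw [Multiset.map_coe, Multiset.sum_coe]
      unfold sqs at this a10
      omega)
  have p2 := p1.trans (((Multiset.coe_eq_coe.1 c4).symm.cons _).cons _)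
  have q2 : 1 + L.sum = 5293 + L8.sum := by
    rw [p2.sum_eq]
    simp only [List.sum_cons]
    omega
  have q3 : ∀ a ∈ C23s, a ≠ -252 → a ≠ 5544 → L8.count a = cnt G a.natAbs := fun a ha e1 e2 => by
    rw [← c0 a ha, p2.count_eq, List.count_cons_of_ne e1.symm, List.count_cons_of_ne e2.symm]
  have r45 := q3 (-45) (by decide) (by decide) (by decide)
  have r231 := q3 231 (by decide) (by decide) (by decide)
  have r990 := q3 990 (by decide) (by decide) (by decide)
  change _ = cnt G 45 at r45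
  change _ = cnt G 231 at r231
  change _ = cnt G 990 at r990
  obtain ⟨c5, c6⟩ := c24s1 L8 c3 (q2 ▸ b6) (by
    have := q1 p2
    rw [← q2]
    omega)
  have c7 := List.one_le_count_iff.2 c5
  obtain ⟨c8, c9⟩ := hR (r45 ▸ c7)
  have m1 := T.m27 (by decide) (r := 9067520) h (by decide)
  rw [← a12] at m1
  have m2 : m27 (-(1 + L.sum) :: L) = m27 (-(5293 + L8.sum) :: L8) := by
    rw [m27, ((p2.cons _).filter _).sum_eq, q2, m27]
    simp only [List.filter_cons]
    split_ifs <;> simp_all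
  obtain ⟨c10, c11⟩ := c6 (m2 ▸ m1) (r45 ▸ even45 h h11)
    (List.one_le_count_iff.1 (r990 ▸ c8)) (c9.imp (fun e => r45 ▸ e) fun e => r990 ▸ e.1)
  have c13 : ∀ χ : IrrCharacter G, χ = irrOne G ∨ charDegree χ.1 % 23 = 0 ∨
      charDegree χ.1 ∈ degs L := fun χ => or_iff_not_imp_left.2 fun e => by
    simpa only [Bool.or_eq_true, beq_iff_eq, decide_eq_true_eq, ← a12] using T.mem_degs e
  refine ⟨fun χ => (c13 χ).imp_right (Or.imp_right fun e => ?_), r45 ▸ c10, fun e => ?_⟩
  · rcases List.mem_cons.1 e with e | e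
    · exact e ▸ List.mem_map_of_mem (List.mem_append_right _ b6)
    · obtain ⟨a, e1, e2⟩ := List.mem_map.1 e
      exact e2 ▸ List.mem_map_of_mem (List.mem_append_left _ (b5 a e1))
  · obtain rfl := c11 (r231 ▸ e)
    refine ⟨r990.symm.trans (by decide), fun χ => (c13 χ).imp_right (Or.imp_right fun e => ?_)⟩
    rw [degs, q2, List.mem_cons, (p2.map Int.natAbs).mem_iff, ← List.mem_cons] at e
    exact e

theorem m24_H (hW : 2 ≤ cnt G 5796 ∨ (2 ≤ cnt G 231 ∧ 1 ≤ cnt G 483) ∨ 2 ≤ cnt G 276) :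
    ∃ χ : IrrCharacter G, H24 χ := by
  classical
  obtain ⟨t1, t2, t3⟩ := t23 h h11 hA hN hR
  obtain ⟨-, t4⟩ := hR (by omega)
  obtain ⟨t5, t6, t7⟩ := t4.resolve_left (by omega)
  obtain ⟨y, hy⟩ := exists_prime_orderOf_dvd_card' (G := G) 11 (by rw [h]; norm_num)
  obtain ⟨z, hz⟩ := exists_prime_orderOf_dvd_card' (G := G) 5 (by rw [h]; norm_num)
  obtain ⟨a, b, c, d, w', B⟩ := exists_B5 h h11 hz
  have t8 : 1 ≤ cnt G 5796 := le_cnt' (l := [d]) (by simp) (by simp [B.deg])
  obtain ⟨h1, h2⟩ := h11 hy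
  obtain ⟨m, w, -, C, -⟩ := exists_C1 (nc24 h) h hD24 (Q := fun _ => true) (R := fun _ => true)
    (fun _ _ => rfl) h1.syl1 rfl (by rw [h2])
  have w1 : w (irrOne G) = 1 := Int.cast_injective (α := ℂ) ((C.col _ y hy).symm.trans Int.cast_one.symm)
  have cg := fun χ : IrrCharacter G => cong1 11 χ (k := 1) hy (C.col χ y hy)
  have o1 : ∀ χ, χ ∉ irrOne G :: m → w χ = 0 := fun χ hχ => by
    have := sq_le (List.nodup_cons.2 ⟨hχ, C.nodup⟩) fun ψ _ => C.col ψ y hy
    rw [h1.syl1.card_cent, card_Vc_sc h1, List.map_cons, List.map_cons, List.sum_cons, List.sum_cons,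
      w1, List.map_congr_left (g := fun _ => (1 : ℤ)) fun ψ hψ => by
        rcases (C.val ψ hψ).1 with e | e <;> simp [e]] at this
    simp only [List.map_const', List.sum_replicate, C.len] at this
    norm_num at this
    nlinarith
  have k1 : ∀ χ ∈ m, w χ * charDegree χ.1 ∈ C11s := fun χ hχ => by
    have e : χ ≠ irrOne G := fun e => (List.nodup_cons.1 C.nodup).1 (e ▸ hχ)
    exact c24s2 _ (hD24 _ (h ▸ deg_dvd χ)) (h ▸ degOK_deg (nc24 h) e) (by simp [Q24s, hQ24 h h11, hN])
      (by simpa only [sum_singleton, h] using sum_deg_sq_le {χ}) ((t1 χ).resolve_left e) _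
      (by have := (C.val χ hχ).1; simp; omega) (Int.emod_eq_zero_of_dvd (cg χ))
  have k2 : ∀ a ∈ C11s, (m.map fun χ => w χ * charDegree χ.1).count a = cnt G a.natAbs :=
    fun a ha => by
      have e1 : a.natAbs % 11 ≠ 0 ∧ a.natAbs ≠ 1 := by
        revert a
        decide
      refine cnt_list C.nodup.of_cons (fun χ e => by_contra fun e' => ?_) fun χ hχ =>
        ⟨fun e => by rw [← e, natAbs_sign (C.val χ hχ).1], fun e => ?_⟩
      · have e2 := cg χ
        rw [o1 χ (by
          simp only [List.mem_cons, e', or_false]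
          rintro rfl
          rw [deg_irrOne] at e
          omega)] at e2
        omega
      · have e2 := k1 χ hχ
        have e3 := natAbs_sign (C.val χ hχ).1 (charDegree χ.1)
        rw [e] at e2 e3 ⊢
        exact (by decide : ∀ a ∈ C11s, ∀ b ∈ C11s, b.natAbs = a.natAbs → b = a) a ha _ e2 e3
  have k3 : 1 + (m.map fun χ => w χ * charDegree χ.1).sum = 0 := Int.cast_injective (α := ℂ) (by
    simpa [irr_one_eq, List.map_map, Function.comp_def] using C.reg 1 (by simp))
  have k4 := C.m27 (fun g hg e => by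
    rw [ord_eq_of_sc (fun x hx => (h11 hx).1) e] at hg
    omega) (r := 9067520) h (by decide)
  have k5 : (m.map fun χ => w χ * charDegree χ.1).length = 10 := by rw [List.length_map, C.len]
  have k6 : ∀ a ∈ (m.map fun χ => w χ * charDegree χ.1), a ∈ C11s := List.forall_mem_map.2 k1
  have k7 : ∀ χ ∈ m, w χ * charDegree χ.1 ∈ (m.map fun χ => w χ * charDegree χ.1) :=
    fun χ hχ => List.mem_map_of_mem hχ
  generalize (m.map fun χ => w χ * charDegree χ.1) = K at k2 k3 k4 k5 k6 k7
  have r45 : K.count 45 = cnt G 45 := k2 45 (by decide)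
  have r252 : K.count (-252) = cnt G 252 := k2 (-252) (by decide)
  have r1035 : K.count 1035 = cnt G 1035 := k2 1035 (by decide)
  have r5796 : K.count (-5796) = cnt G 5796 := k2 (-5796) (by decide)
  have r276 : K.count 276 = cnt G 276 := k2 276 (by decide)
  have r483 : K.count (-483) = cnt G 483 := k2 (-483) (by decide)
  have r23 : K.count 23 = cnt G 23 := k2 23 (by decide)
  have sp : ∀ A : List ℤ, (∀ a ∈ A, A.count a ≤ K.count a) → ∃ B : List ℤ, K.Perm (A ++ B) ∧
      A.length + B.length = 10 ∧ (∀ a ∈ B, a ∈ C11s) ∧ 1 + (A ++ B).sum = 0 ∧ m27 (A ++ B) = true :=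
    fun A hA => by
      obtain ⟨B, p⟩ := split_count hA
      refine ⟨B, p, by rw [← List.length_append, ← p.length_eq, k5],
        fun a ha => k6 a (p.mem_iff.2 (List.mem_append_right _ ha)), p.sum_eq ▸ k3, ?_⟩
      rw [m27, ← (p.filter _).sum_eq]
      exact k4
  rcases hW with e | ⟨e, e'⟩ | e
  · obtain ⟨B, -, p1, p2, p3, p4⟩ := sp [45, 45, -252, 1035, 1035, -5796, -5796] (by
      simp only [List.forall_mem_cons, r45, r252, r1035, r5796]
      simp [List.count_cons]
      omega)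
    obtain ⟨a, b, c, rfl⟩ := List.length_eq_three.1 (show B.length = 3 by simp at p1; omega)
    rw [(c24s3 a (p2 a (by simp)) b (p2 b (by simp))).1 c (p2 c (by simp)) p3] at p4
    exact absurd p4 (by decide)
  · obtain ⟨t9, t10⟩ := t3 e
    obtain ⟨B, p, p1, p2, p3, -⟩ := sp [45, 45, -252, 1035, 1035, 1035, -5796, -483] (by
      simp only [List.forall_mem_cons, r45, r252, r1035, r5796, r483]
      simp [List.count_cons]
      omega)
    obtain ⟨a, b, rfl⟩ := List.length_eq_two.1 (show B.length = 2 by simp at p1; omega)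
    have q := p.trans (((c24s3 a (p2 a (by simp)) b (p2 b (by simp))).2.2 p3).append_left _)
    rw [q.count_eq] at r23
    obtain ⟨χ, hχ⟩ := card_eq_one.1 (show cnt G 23 = 1 from r23.symm.trans (by decide))
    have u : ∀ ψ : IrrCharacter G, charDegree ψ.1 = 23 ↔ ψ = χ := fun ψ => by
      simpa using congrArg (ψ ∈ ·) hχ
    refine ⟨χ, (u χ).2 rfl, fun ψ => (u ψ).1, fun ψ hψ => or_iff_not_imp_left.2 fun e1 => ?_,
      fun ψ hψ g hg => ?_⟩
    · have d0 := deg_pos ψ
      simp only [List.mem_cons, List.not_mem_nil, or_false]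
      rcases (t10 ψ).resolve_left e1 with e2 | e2
      · by_cases e3 : ψ ∈ m
        · have e4 := q.mem_iff.1 (k7 ψ e3)
          simp only [List.cons_append, List.nil_append, List.mem_cons, List.not_mem_nil,
            or_false] at e4
          rcases (C.val ψ e3).1 with e5 | e5 <;> rw [e5] at e4 <;> omega
        · have e4 := cg ψ
          rw [o1 ψ (by simp [e1, e3])] at e4
          omega
      · simp only [List.mem_cons, List.not_mem_nil, or_false] at e2
        omega
    · rw [C.col ψ g hg]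
      congr 1
      have e4 := cg ψ
      have e5 : w ψ = 1 ∨ w ψ = -1 ∨ w ψ = 0 := by
        by_cases e : ψ ∈ irrOne G :: m
        · rcases List.mem_cons.1 e with rfl | e
          · exact .inl w1
          · exact (C.val ψ e).1.imp_right .inl
        · exact .inr (.inr (o1 ψ e))
      unfold sv
      split_ifs <;> omega
  · obtain ⟨B, -, p1, p2, p3, p4⟩ := sp [45, 45, -252, 1035, 1035, -5796, 276, 276] (by
      simp only [List.forall_mem_cons, r45, r252, r1035, r5796, r276]
      simp [List.count_cons]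
      omega)
    obtain ⟨a, b, rfl⟩ := List.length_eq_two.1 (show B.length = 2 by simp at p1; omega)
    rw [(c24s3 a (p2 a (by simp)) b (p2 b (by simp))).2.1 p3] at p4
    exact absurd p4 (by decide)

end Cfsg.Agent.H3
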