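import Cfsg.Agent.H3.M24t
import Cfsg.Agent.H3.M24z
import Cfsg.Agent.H3.Four

/-! The simple group of order `244823040`: the `5`-block of the character of degree `252`. -/

set_option autoImplicit false
set_option linter.unusedVariables false
set_option linter.unusedSectionVars false

namespace Cfsg.Agent.H3

open Finset Subgroup Equiv Cfsg.Agent.PLoc Cfsg.Agent.Char Cfsg.Agent.Blk Cfsg.Agent.Inv Cfsg.Agent.H9
  Cfsg.Agent.Gol
open scoped ComplexConjugate

universe u

def S9w : List ℕ := D24.filter fun d => Q24s d && decide (d ^ 2 ≤ 244823040)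

set_option synthInstance.maxSize 100000 in
theorem c9w : ∀ b ∈ S9w, ∀ s ∈ [(1 : ℤ), -1], (s + b) % 5 = 0 → ∀ c ∈ S9w, ∀ t ∈ [(1 : ℤ), -1],
    (t + c) % 5 = 0 → ∀ a ∈ S9w, ∀ r ∈ [(2 : ℤ), -2], (r + a) % 5 = 0 → r * a + s * b + t * c = 504 →
    (b = 1 ∧ c = 1) ∨ (a = 483 ∧ b = 231 ∧ c = 231) ∨ (b = 276 ∧ c = 276) ∨ (a = 2772 ∧ b = 3024) := by
  decide +kernel

variable {G : Type u} [Group G] [Fintype G]

theorem cg9w {p : ℕ} [hp : Fact p.Prime] (M : Ideal AlgInt) [PMod p M] {ψ : IrrCharacter G} {j r : ℕ}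
    (h : charDegree ψ.1 * p ^ j * r = Nat.card G) (hr : ¬ p ∣ r) {n : IrrCharacter G → ℤ}
    (hn : ∀ g, (p : ℂ) ^ j * regPart p ψ.1 g = ∑ χ, n χ * χ.1 g) {χ : IrrCharacter G}
    (e : SameBlock M χ.1 ψ.1) : (p : ℤ) ∣ n χ * charDegree ψ.1 - n ψ * charDegree χ.1 := by
  have a1 := om_sub_mem_of_sameBlock e (aR_mem_ZR (p := p) ψ.2.isCharacter)
  have a3 := om_aR_comm (p := p) χ ψ
  rw [om_part h hn] at a1 a3
  rw [irr_one_eq, irr_one_eq] at a3
  have d0 : (charDegree ψ.1 : ℂ) ≠ 0 := by exact_mod_cast (deg_pos ψ).ne'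
  have a2 := LP_mul_left (intCast_mem (LR M) (charDegree χ.1 : ℤ)) a1
  have a4 : ((r * (n χ * charDegree ψ.1 - n ψ * charDegree χ.1) : ℤ) : ℂ) ∈ LP M := by
    convert a2 using 1
    rw [eq_comm, div_mul_eq_mul_div, div_eq_iff d0] at a3
    push_cast at a3 ⊢
    linear_combination -a3
  exact ((Int.prime_iff_natAbs_prime.2 (by simpa using hp.out)).dvd_or_dvd
    (intCast_mem_LP.1 a4)).resolve_left fun e => hr (Int.natCast_dvd_natCast.1 e)

variable [IsSimpleGroup G] (h : Nat.card G = 244823040)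
  (h11 : ∀ {y : G} (hy : orderOf y = 11), SC 11 y ∧ Nat.card (autSub hy) = 10)
include h h11

theorem bw9 (h38 : ∀ χ : IrrCharacter G, charDegree χ.1 ≠ 3840) :
    2 ≤ cnt G 5796 ∨ (2 ≤ cnt G 231 ∧ 1 ≤ cnt G 483) ∨ 2 ≤ cnt G 276 := by
  classical
  have f5 : Fact (Nat.Prime 5) := ⟨by norm_num⟩
  obtain ⟨z, hz⟩ := exists_prime_orderOf_dvd_card' (G := G) 5 (by rw [h]; norm_num)
  obtain ⟨a, b, c, d, w, B⟩ := exists_B5 h h11 hz
  obtain ⟨da, db, dc, dd⟩ := B.deg
  obtain ⟨η, d', e1, e2, e3, e4⟩ := B.tri h h11 h38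
  by_cases e5 : d' = d
  swap
  · exact .inl (le_cnt' (l := [d', d]) (by simp [e5]) (by simp [e2, dd]))
  subst e5
  right
  have v : ∀ g, 5 ∣ orderOf g → η.1 g = 2 ∨ η.1 g = -1 := fun g hg => by
    obtain ⟨-, -, s1, s2⟩ := B.sing g hg
    by_cases e : 3 ∣ orderOf g
    · exact .inr ((e4 g e).1.trans s1)
    · have := e3 g e
      rw [s1, s2] at this
      exact .inl (by linear_combination this)
  obtain ⟨M, hM⟩ := exists_PMod 5
  have k0 : charDegree η.1 * 5 ^ 1 * 194304 = Nat.card G := by rw [e1, h]; norm_num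
  obtain ⟨n, h1, h2, -, -, h5, h6⟩ := exists_part M η k0 (by decide)
  have o1 := deg_irrOne (G := G)
  have n3 : n η = 3 := by
    have a1 : classInner (fun g => ((5 : ℕ) : ℂ) ^ 1 * regPart 5 η.1 g) η.1 = n η := by
      rw [show (fun g => ((5 : ℕ) : ℂ) ^ 1 * regPart 5 η.1 g) = ∑ χ, (n χ : ℂ) • χ.1 from
        funext fun g => by simpa using h1 g, classInner_sum_irr]
    have a2 : ∀ g, ((5 : ℕ) : ℂ) ^ 1 * regPart 5 η.1 g * conj (η.1 g) = 5 * (η.1 g * conj (η.1 g)) -
        (η.1 g * conj ((irrOne G).1 g) + η.1 g * conj (a.1 g) + η.1 g * conj (d'.1 g) -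
          η.1 g * conj (b.1 g) - η.1 g * conj (c.1 g)) -
        2 * ((irrOne G).1 g * conj ((irrOne G).1 g) + (irrOne G).1 g * conj (a.1 g) +
          (irrOne G).1 g * conj (d'.1 g) - (irrOne G).1 g * conj (b.1 g) -
          (irrOne G).1 g * conj (c.1 g)) := fun g => by
      have o : (irrOne G).1 g = 1 := rfl
      rw [o]
      by_cases e : 5 ∣ orderOf g
      · obtain ⟨s1, s2, s3, s4⟩ := B.sing g e
        rw [regPart_of_dvd _ e, s1, s2, s3, s4]
        rcases v g e with e' | e' <;> rw [e'] <;> simp only [map_neg, map_one, map_ofNat] <;> ring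
      · have := congrArg conj (B.reg g e)
        simp only [map_add, map_one] at this ⊢
        rw [regPart_of_not_dvd _ e]
        push_cast
        linear_combination (η.1 g + 2) * this
    have a3 : classInner (fun g => ((5 : ℕ) : ℂ) ^ 1 * regPart 5 η.1 g) η.1 = 5 * classInner η.1 η.1 -
        (classInner η.1 (irrOne G).1 + classInner η.1 a.1 + classInner η.1 d'.1 - classInner η.1 b.1 -
          classInner η.1 c.1) - 2 * (classInner (irrOne G).1 (irrOne G).1 +
          classInner (irrOne G).1 a.1 + classInner (irrOne G).1 d'.1 - classInner (irrOne G).1 b.1 -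
          classInner (irrOne G).1 c.1) := by
      simp only [classInner_def, a2, sum_sub_distrib, sum_add_distrib, ← mul_sum]
      ring
    simp only [irr_classInner] at a3
    rw [a1, if_pos trivial, if_neg (by rintro rfl; omega), if_neg (by rintro rfl; omega),
      if_neg (by rintro rfl; omega), if_neg (by rintro rfl; omega), if_neg (by rintro rfl; omega),
      if_neg (by rintro rfl; omega), if_neg (by rintro rfl; omega),
      if_neg (by rintro rfl; omega), if_neg (by rintro rfl; omega)] at a3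
    apply Int.cast_injective (α := ℂ)
    rw [a3]
    norm_num
  have cg : ∀ χ, n χ ≠ 0 → (n χ + charDegree χ.1) % 5 = 0 := fun χ e => by
    have := cg9w M k0 (by decide) h1 (h5 χ e)
    rw [n3, e1] at this
    omega
  have s6 : ∑ χ ∈ univ.erase η, n χ ^ 2 = 6 := by
    rw [← add_sum_erase _ _ (mem_univ η), n3] at h2
    omega
  have mS : ∀ χ : IrrCharacter G, charDegree χ.1 ∈ S9w := fun χ => by
    simp only [S9w, List.mem_filter, Bool.and_eq_true, decide_eq_true_eq]
    exact ⟨hD24 _ (h ▸ deg_dvd χ), by simp [Q24s, hQ24 h h11, h38],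
      by simpa only [sum_singleton, h] using sum_deg_sq_le {χ}⟩
  by_cases e6 : ∃ χ0, χ0 ≠ η ∧ (n χ0 = 2 ∨ n χ0 = -2)
  · obtain ⟨χ0, b1, b2⟩ := e6
    have b3 : ∑ χ ∈ (univ.erase η).erase χ0, n χ ^ 2 = 2 := by
      rw [← add_sum_erase _ _ (mem_erase.2 ⟨b1, mem_univ χ0⟩)] at s6
      rcases b2 with e | e <;> rw [e] at s6 <;> omega
    obtain ⟨i, j, ij, c1, c2, c3⟩ := int_sum_sq_eq_two
      (fun χ => if χ ∈ (univ.erase η).erase χ0 then n χ else 0) (by
        rw [← b3, ← sum_subset (subset_univ ((univ.erase η).erase χ0)) fun χ _ e => by simp only [if_neg e]; rfl]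
        exact sum_congr rfl fun χ e => by rw [if_pos e])
    have i1 : i ∈ (univ.erase η).erase χ0 := by_contra fun e => by
      simp only [if_neg e] at c1
      omega
    have j1 : j ∈ (univ.erase η).erase χ0 := by_contra fun e => by
      simp only [if_neg e] at c2
      omega
    simp only [if_pos i1] at c1
    simp only [if_pos j1] at c2
    simp only [mem_erase, mem_univ, and_true] at i1 j1
    have nd : [η, χ0, i, j].Nodup := by
      simp only [List.nodup_cons, List.mem_cons, List.not_mem_nil, or_false, not_or, not_false_eq_true,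
        List.nodup_nil, and_true]
      exact ⟨⟨b1.symm, i1.2.symm, j1.2.symm⟩, ⟨i1.1.symm, j1.1.symm⟩, ij⟩
    have q1 := h1 1
    rw [regPart_of_not_dvd _ (by simp), ← sum_subset (subset_univ [η, χ0, i, j].toFinset)
      fun χ _ e => by
        simp only [List.mem_toFinset, List.mem_cons, List.not_mem_nil, or_false, not_or] at e
        have := c3 χ e.2.2.1 e.2.2.2
        simp only [if_pos (mem_erase.2 ⟨e.2.1, mem_erase.2 ⟨e.1, mem_univ χ⟩⟩)] at this
        rw [this]
        simp, List.sum_toFinset _ nd] at q1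
    simp only [List.map_cons, List.map_nil, List.sum_cons, List.sum_nil, irr_one_eq, e1, n3] at q1
    have q2 : n χ0 * charDegree χ0.1 + n i * charDegree i.1 + n j * charDegree j.1 = 504 :=
      Int.cast_injective (α := ℂ) (by push_cast at q1 ⊢; linear_combination -q1)
    rcases c9w _ (mS i) _ (by simpa using c1) (cg i (by omega)) _ (mS j) _ (by simpa using c2)
      (cg j (by omega)) _ (mS χ0) _ (by simpa using b2) (cg χ0 (by omega)) q2 with
      ⟨r1, r2⟩ | ⟨r1, r2, r3⟩ | ⟨r1, r2⟩ | ⟨r1, r2⟩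
    · exact absurd ((eq_irrOne_of_deg (nc24 h) r1).trans (eq_irrOne_of_deg (nc24 h) r2).symm) ij
    · exact .inl ⟨le_cnt' (l := [i, j]) (by simp [ij]) (by simp [r2, r3]),
        le_cnt' (l := [χ0]) (by simp) (by simp [r1])⟩
    · exact .inr (le_cnt' (l := [i, j]) (by simp [ij]) (by simp [r1, r2]))
    · exfalso
      obtain ⟨x, hx⟩ := exists_prime_orderOf_dvd_card' (G := G) 23 (by rw [h]; norm_num)
      obtain ⟨t1, t2⟩ := m24_23 h hx
      obtain ⟨l, s, ε, μ, ν, T, -⟩ := exists_T2 (nc24 h) h hD24 (Q := fun _ => true) (fun _ _ => rfl) t1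
        (by rw [t2])
      have a1 : ∀ χ : IrrCharacter G, charDegree χ.1 = 2772 ∨ charDegree χ.1 = 3024 →
          charDegree χ.1 = charDegree μ.1 := fun χ e => by_contra fun e' => by
        have := cong1 23 χ (k := 1) hx (T.value (by decide) e' hx)
        unfold sv at this
        split_ifs at this <;> omega
      have := a1 χ0 (.inl r1)
      have := a1 i (.inr r2)
      omega
  · exfalso
    set S := (univ.erase η).filter fun χ => n χ ≠ 0
    have b1 : ∀ χ ∈ S, n χ = 1 ∨ n χ = -1 := fun χ hχ => by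
      obtain ⟨c1, c2⟩ := mem_filter.1 hχ
      have c3 := single_le_sum (f := fun χ => n χ ^ 2) (fun χ _ => sq_nonneg _) c1
      have c4 : ¬ (n χ = 2 ∨ n χ = -2) := fun e => e6 ⟨χ, (mem_erase.1 c1).1, e⟩
      rw [s6] at c3
      have : -3 < n χ ∧ n χ < 3 := ⟨by nlinarith, by nlinarith⟩
      omega
    have b2 : S.card = 6 := by
      rw [← sum_filter_of_ne (p := fun χ => n χ ≠ 0) fun χ _ e e' => e (by simp [e']),
        sum_congr rfl (g := fun _ => (1 : ℤ)) fun χ hχ => by
          rcases b1 χ hχ with e | e <;> simp [e]] at s6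
      rw [sum_const, nsmul_eq_mul, mul_one] at s6
      exact_mod_cast s6
    obtain ⟨χ, ψ, c1, c2, c3⟩ := one_lt_card_iff.1 (show 1 < S.card by omega)
    have g1 := cg χ (mem_filter.1 c1).2
    have g2 := cg ψ (mem_filter.1 c2).2
    have g3 := b1 χ c1
    have g4 := b1 ψ c2
    obtain ⟨q, hq⟩ := deg_dvd χ
    obtain ⟨r, rfl⟩ : 5 ∣ q := ((Nat.Prime.dvd_mul f5.out (m := charDegree χ.1)).1
      (by rw [← hq, h]; decide)).resolve_left (by omega)
    have k1 : charDegree χ.1 * 5 ^ 1 * r = Nat.card G := by rw [hq]; ring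
    have k2 : ¬ 5 ∣ r := by
      rintro ⟨r, rfl⟩
      have : 25 ∣ Nat.card G := ⟨charDegree χ.1 * r, by rw [hq]; ring⟩
      rw [h] at this
      omega
    obtain ⟨m, m1, m2, m3, m4, -, m6⟩ := exists_part M χ k1 k2
    replace m4 := m4 one_pos
    have sb : ∀ ξ ∈ insert η S, SameBlock M ξ.1 χ.1 := fun ξ hξ => by
      refine sameBlock_trans (h5 ξ ?_) (sameBlock_symm (h5 χ (mem_filter.1 c1).2))
      rcases mem_insert.1 hξ with rfl | e
      · omega
      · exact (mem_filter.1 e).2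
    have g5 := cg9w M k1 k2 m1 (sb ψ (mem_insert_of_mem c2))
    have nz : ∀ ξ ∈ insert η S, 1 ≤ m ξ ^ 2 := fun ξ hξ => by
      have := (m6 (by omega) ξ (sb ξ hξ)).1
      have := sq_pos_of_ne_zero this
      omega
    have eS : η ∉ S := fun e => by simp [S] at e
    have l1 := sum_le_sum_of_subset_of_nonneg (f := fun ξ => m ξ ^ 2) (subset_univ (insert η S))
      fun _ _ _ => sq_nonneg _
    have i1 : χ ∈ insert η S := mem_insert_of_mem c1
    have i2 : ψ ∈ (insert η S).erase χ := mem_erase.2 ⟨c3.symm, mem_insert_of_mem c2⟩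
    have l2 := card_nsmul_le_sum (((insert η S).erase χ).erase ψ) (fun ξ => m ξ ^ 2) 1
      fun ξ hξ => nz ξ (mem_of_mem_erase (mem_of_mem_erase hξ))
    rw [card_erase_of_mem i2, card_erase_of_mem i1, card_insert_of_notMem eS, b2] at l2
    rw [m2, ← add_sum_erase _ _ i1, ← add_sum_erase _ _ i2] at l1
    have l3 := nz ψ (mem_insert_of_mem c2)
    generalize ∑ ξ ∈ ((insert η S).erase χ).erase ψ, m ξ ^ 2 = X at l1 l2
    generalize m ψ = y at *
    generalize (charDegree χ.1 : ℤ) = u at *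
    generalize (charDegree ψ.1 : ℤ) = u' at *
    norm_num at l1 l2 m4
    have y1 : -2 < y ∧ y < 2 := ⟨by nlinarith, by nlinarith⟩
    have y2 : y = 1 ∨ y = -1 := by
      rcases (by omega : y = 1 ∨ y = -1 ∨ y = 0) with e | e | e
      · exact .inl e
      · exact .inr e
      · simp [e] at l3
    rcases (by omega : m χ = 1 ∨ m χ = 2 ∨ m χ = 3 ∨ m χ = 4) with e | e | e | e <;> rw [e] at l1 g5 <;>
      rcases y2 with rfl | rfl <;> omega

end Cfsg.Agent.H3
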