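import Cfsg.Agent.H3.M24s
import Cfsg.Agent.H3.Col
import Cfsg.Agent.H3.M23b

/-! The simple group of order `244823040`: the search that removes the degree `3840`. -/

set_option autoImplicit false

namespace Cfsg.Agent.H3

open Cfsg.Agent.H9 Cfsg.Agent.Gol

/-- sums of sublists modulo `1024` -/
def bt38 (K a b : ℤ) (L : List ℤ) : Bool := decide ([a, b].Subperm L) &&
  (L.filter fun c => c % K == 0).sublists.any fun S =>
    decide ((-3840 : ℤ) ∈ S) && (a + b + S.sum) % 1024 == 0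

def ok38 (L : List ℤ) (C : List ℕ) : Bool := !decide ((-3840 : ℤ) ∈ L) || !m27 L ||
  (!bt38 4 990 990 L && !bt38 8 (-540) (-1540) L && !bt38 32 (-528) (-528) L &&
    !bt38 128 3520 3520 L && !bt38 256 (-12672) (-12672) L && (decide (C.count 3840 < 4) ||
      C.count 3840 == 4 && C.count 252 == 2 && C.count 1024 == 2))

def C38 : List ℤ := [-12672, -10395, 5544, -3840, 3520, -1540, 990, -528, -252, 231, -45, -22]

theorem c38a : ∀ np ∈ D24, np % 23 = 1 → ∀ e ∈ List.range 23, 2 ≤ e → 22 % e = 0 →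
    244823040 % (23 * e * np) = 0 → 244823040 / (23 * e * np) = 1 → e = 11 ∧
    (∀ a ∈ cand2 244823040 D24 Q24, aOK 23 1 e np a 1 = true → a ∈ C38) ∧
    ∀ d ∈ D24, ∀ s ∈ [(1 : ℤ), -1], aOK 23 1 e np (s * d) e = true → Q24 d = true →
      2 * d ^ 2 ≤ 244823040 → s * d ∈ F23s := by decide +kernel

def P38 (f : ℤ) (L : List ℤ) : Bool := bif' (lall (fun a => !(Int.decEq a f).decide) F23s) true
  (decide (1 + 3840 ^ 2 + 5544 ^ 2 + sqs L + 2 * f.natAbs ^ 2 ≤ 244823040 →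
    ok38 (-f :: -3840 :: 5544 :: L)
      (f.natAbs :: f.natAbs :: (-3840 :: 5544 :: L).map Int.natAbs) = true))

theorem c38b : allE P38 C38 8 199341503 1705 [] = true := by decide +kernel

theorem c38c : ∀ L ∈ enum C38 8 199341503, 1705 + L.sum ∈ F23s →
    1 + 3840 ^ 2 + 5544 ^ 2 + sqs L + 2 * (1705 + L.sum).natAbs ^ 2 ≤ 244823040 →
    ok38 (-(1705 + L.sum) :: -3840 :: 5544 :: L) ((1705 + L.sum).natAbs :: (1705 + L.sum).natAbs ::
      (-3840 :: 5544 :: L).map Int.natAbs) = true := fun L hL hf => by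
  have := allE_sound _ _ _ _ _ c38b L hL
  rw [P38, bif'_eq, if_neg fun e => by simpa using lall_iff.1 e _ hf, List.nil_append] at this
  exact of_decide_eq_true this

def E38 : List ℕ := [22, 230, 252, 276, 506, 528, 736, 990, 1012, 1242, 1288, 1518, 1540, 2024, 2530,
  2760, 3036, 3312, 3520, 3542, 3840, 4048, 4554, 4830, 5060, 5544, 5796, 6072, 7084, 7360, 7590, 8096,
  8832, 9108, 10120, 10626, 12144, 12420, 12672, 12880, 13662, 14168, 15180, 15456]

def X38 : List ℕ := [264, 540, 770, 1024, 1760, 2772, 3024, 6336, 9856, 11880]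

theorem e38 : ∀ d ∈ D24, Q24 d = true → d ^ 2 ≤ 244823040 → d % 2 = 0 →
    (d % 23 = 11 ∨ d % 23 = 12 → d ∈ X38) ∧ (d % 23 = 0 ∨ d % 23 = 1 ∨ d % 23 = 22 → d ∈ E38) ∧
      (d % 512 = 256 → d = 3840) := by decide +kernel

def S38 (K : ℕ) : List ℤ := (E38.filter fun d => d % (2 * K) == K).flatMap fun d : ℕ => [(d : ℤ), -(d : ℤ)]

def w38 (a : ℤ) : ℤ := a.sign * sv 23 a.natAbs

noncomputable def q38B (K : ℕ) : Bool := forceL (S38 K) fun S => lall (fun a => lall (fun b =>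
  forceI (7680 - a - b) fun t => lall (fun c => forceI (t - c) fun e =>
    bif' (lany (fun x => (Int.decEq x e).decide) S) (decide (w38 a + w38 b + w38 c + w38 e = -2 →
      ∃ u ∈ ([(2, 990, 4830), (16, 528, 3312), (64, 3520, 7360), (128, 12672, 8832)] :
        List (ℕ × ℕ × ℕ)), K = u.1 ∧
        [a.natAbs, b.natAbs, c.natAbs, e.natAbs].Perm [u.2.1, u.2.1, u.2.2, u.2.2])) true) S) S) S

theorem q38' : lall q38B [2, 4, 8, 16, 32, 64, 128] = true := by decide +kernel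

theorem q38 : ∀ K ∈ [2, 4, 8, 16, 32, 64, 128], ∀ a ∈ S38 K, ∀ b ∈ S38 K, ∀ c ∈ S38 K,
    7680 - a - b - c ∈ S38 K → w38 a + w38 b + w38 c + w38 (7680 - a - b - c) = -2 →
    ∃ u ∈ [(2, 990, 4830), (16, 528, 3312), (64, 3520, 7360), (128, 12672, 8832)], K = u.1 ∧
      [a.natAbs, b.natAbs, c.natAbs, (7680 - a - b - c).natAbs].Perm [u.2.1, u.2.1, u.2.2, u.2.2] := by
  intro K hK a ha b hb c hc he
  have h1 := lall_iff.1 q38' K hK
  rw [q38B, forceL_eq] at h1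
  have h2 := lall_iff.1 (lall_iff.1 h1 a ha) b hb
  rw [forceI_eq] at h2
  have h3 := lall_iff.1 h2 c hc
  rw [forceI_eq, bif'_eq, if_pos (lany_iff.2 ⟨_, he, by simp⟩)] at h3
  exact of_decide_eq_true h3

theorem x38 : ∀ K ∈ [2, 4, 8, 16, 32, 64, 128], ∀ f ∈ X38, f % (2 * K) = K →
    ∀ a ∈ [(2 * f : ℤ), 0, -(2 * f)], ∀ c ∈ S38 K, 7680 - a - c ∈ S38 K → K = 4 ∧ f = 540 ∧
      (c = 1540 ∨ c = 5060) ∧ a = 1080 := by decide +kernel

end Cfsg.Agent.H3
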