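import Cfsg.Agent.H3.M24d

/-! The simple group of order `244823040`: one more configuration is impossible. -/

set_option autoImplicit false
set_option linter.unusedVariables false
set_option linter.unusedSectionVars false

namespace Cfsg.Agent.H3

open Finset Subgroup Equiv Cfsg.Agent.PLoc Cfsg.Agent.Char Cfsg.Agent.Blk Cfsg.Agent.Inv Cfsg.Agent.H9
  Cfsg.Agent.Gol
open scoped ComplexConjugate

universe u

theorem split3 (L : List ℕ) (f : ℕ → ℤ) (a b c : ℕ) (ab : a ≠ b) (ac : a ≠ c) (bc : b ≠ c) :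
    (L.map f).sum = L.count a * f a + L.count b * f b + L.count c * f c +
      ((L.filter fun x => x ≠ a ∧ x ≠ b ∧ x ≠ c).map f).sum ∧ L.length = L.count a + L.count b +
      L.count c + (L.filter fun x => x ≠ a ∧ x ≠ b ∧ x ≠ c).length := by
  induction L with
  | nil => simp
  | cons x L ih =>
    obtain ⟨h1, h2⟩ := ih
    simp only [List.map_cons, List.sum_cons, List.count_cons, List.filter_cons, List.length_cons, h1,
      beq_iff_eq, decide_eq_true_eq]
    by_cases e1 : x = a
    · subst e1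
      simp [ab, ac]
      constructor
      · ring
      · simp at h2; omega
    by_cases e2 : x = b
    · subst e2
      simp [e1, bc]
      constructor
      · ring
      · simp at h2; omega
    by_cases e3 : x = c
    · subst e3
      simp [e1, e2]
      constructor
      · ring
      · simp at h2; omega
    · simp [e1, e2, e3]
      constructor
      · ring
      · simp at h2; omega

theorem c24v : ∀ a ∈ D24, a * a ≤ 244823040 → Q24 a = true → a % 2 = 1 → a % 11 ≠ 0 →
    a ∈ [1, 23, 45, 483, 1035] := by decide +kernel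

variable {G : Type u} [Group G] [Fintype G] {p : ℕ} [hp : Fact p.Prime] {y : G}
  {m : List (IrrCharacter G)} {w : IrrCharacter G → ℤ}

theorem C1.cover (C : C1 p y m w) (hs : SC p y) {χ : IrrCharacter G} (hχ : χ ∉ irrOne G :: m) :
    p ∣ charDegree χ.1 := by
  classical
  have a1 := avgV hs.syl1 C.nodup C.len C.val hχ
  rw [card_eq_one.1 (card_Vc_sc hs), sum_eq_single 1 (fun v hv e => absurd
    (by simpa using (mem_filter.1 hv).2) e) (by simp), mul_one] at a1
  have := cong1 p χ (k := 1) (by simpa using hs.ord) (a := 0) (by simpa using a1)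
  exact Int.natCast_dvd_natCast.1 (by simpa using this)

theorem C1.cnt_eq' (C : C1 p y m w) (hs : SC p y) {d : ℕ} (h1 : d ≠ 1) (h2 : ¬ p ∣ d) :
    cnt G d = (m.map fun χ => charDegree χ.1).count d := by
  classical
  rw [List.count_eq_countP, List.countP_map, List.countP_eq_length_filter,
    ← List.toFinset_card_of_nodup (C.nodup.of_cons.filter _), cnt]
  refine congrArg _ (Finset.ext fun χ => ?_)
  simp only [mem_filter, mem_univ, true_and, List.mem_toFinset, List.mem_filter, Function.comp,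
    beq_iff_eq, iff_and_self]
  refine fun e => by_contra fun e' => h2 (e ▸ C.cover hs fun h => e' ((List.mem_cons.1 h).resolve_left ?_))
  rintro rfl
  exact h1 (e.symm.trans deg_irrOne)

theorem C1.w_eq (C : C1 p y m w) (hy : orderOf y = p) (p2 : 2 < p) {χ : IrrCharacter G} (hχ : χ ∈ m) :
    w χ = sv p (charDegree χ.1) := by
  have a1 := Int.emod_eq_emod_iff_emod_sub_eq_zero.2
    (Int.emod_eq_zero_of_dvd (cong1 p χ (k := 1) (by simpa using hy) (C.col χ y hy)))
  rw [sv]
  rcases (C.val χ hχ).1 with e | e <;> rw [e] at a1 ⊢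
  · rw [Int.emod_eq_of_lt (a := 1) (by omega) (by omega)] at a1
    rw [if_pos (by exact_mod_cast a1.symm)]
  · rw [← Int.add_emod_right (-1), Int.emod_eq_of_lt (a := -1 + p) (by omega) (by omega)] at a1
    rw [if_neg (by omega), if_neg (by omega)]

variable [IsSimpleGroup G] (h : Nat.card G = 244823040)
  (h11 : ∀ {y : G} (hy : orderOf y = 11), SC 11 y ∧ Nat.card (autSub hy) = 10)
include h h11

theorem no4 : ¬ (cnt G 3840 = 4 ∧ cnt G 252 = 2 ∧ cnt G 1024 = 2) := by
  rintro ⟨h1, h2, h3⟩
  obtain ⟨y, hy⟩ := exists_prime_orderOf_dvd_card' (G := G) 11 (by rw [h]; norm_num)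
  obtain ⟨hs, he⟩ := h11 hy
  obtain ⟨m, w, L, C, -⟩ := exists_C1 (nc24 h) h hD24 (Q := fun _ => true) (R := fun _ => true)
    (fun _ _ => rfl) hs.syl1 rfl (by rw [he])
  rw [C.cnt_eq' hs (by decide) (by decide)] at h1 h2 h3
  obtain ⟨a1, a2⟩ := split3 (m.map fun χ => charDegree χ.1) (fun d => sv 11 d * d) 3840 252 1024
    (by decide) (by decide) (by decide)
  have a3 := C.reg 1 (by simp)
  have a4 : 1 + ((m.map fun χ => charDegree χ.1).map fun d => sv 11 d * d).sum = 0 := by
    apply Int.cast_injective (α := ℂ)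
    rw [List.map_congr_left (g := fun χ => ((sv 11 (charDegree χ.1) * charDegree χ.1 : ℤ) : ℂ))
      fun χ hχ => by rw [C.w_eq hy (by decide) hχ, irr_one_eq]; push_cast; rfl] at a3
    simpa [List.map_map, Function.comp_def] using a3
  rw [h1, h2, h3, List.length_map, C.len] at a2
  rw [h1, h2, h3] at a1
  have a5 : ∀ d ∈ (m.map fun χ => charDegree χ.1).filter fun x => x ≠ 3840 ∧ x ≠ 252 ∧ x ≠ 1024,
      d * d ≤ 244823040 ∧ (d % 2 = 1 → d % 11 ≠ 0 → d ∈ [1, 23, 45, 483, 1035]) := fun d hd => by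
    obtain ⟨χ, -, rfl⟩ := List.mem_map.1 (List.mem_filter.1 hd).1
    have h3 := sum_deg_sq_le {χ}
    rw [sum_singleton, sq, h] at h3
    exact ⟨h3, c24v _ (hD24 _ (h ▸ deg_dvd χ)) h3 (hQ24 h h11 χ)⟩
  obtain ⟨a, b, e⟩ := List.length_eq_two.1 (show ((m.map fun χ => charDegree χ.1).filter
    fun x => x ≠ 3840 ∧ x ≠ 252 ∧ x ≠ 1024).length = 2 by omega)
  rw [e] at a1 a5
  rw [a1] at a4
  obtain ⟨b1, b2⟩ := a5 a (by simp)
  obtain ⟨b3, b4⟩ := a5 b (by simp)
  have b5 : a ≤ 15647 := by nlinarith
  have b6 : b ≤ 15647 := by nlinarith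
  simp only [List.map_cons, List.map_nil, List.sum_cons, List.sum_nil, sv, List.mem_cons,
    List.not_mem_nil, or_false] at a4 b2 b4
  split_ifs at a4 <;> omega

end Cfsg.Agent.H3
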