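import Cfsg.Agent.H3.No38a
import Cfsg.Agent.H3.No38n
import Cfsg.Agent.H3.Ev3840
import Cfsg.Agent.H3.No4

/-! The simple group of order `244823040` has no irreducible character of degree `3840`. -/

set_option autoImplicit false
set_option linter.unusedVariables false
set_option linter.unusedSectionVars false

namespace Cfsg.Agent.H3

open Finset Subgroup Equiv Cfsg.Agent.PLoc Cfsg.Agent.Char Cfsg.Agent.Blk Cfsg.Agent.Inv Cfsg.Agent.H9
  Cfsg.Agent.Gol
open scoped ComplexConjugate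

universe u

theorem mem_enum38 (C : List ℤ) : ∀ (k b : ℕ) (L : List ℤ), L ∈ enum C k b →
    L.length = k ∧ ∀ a ∈ L, a ∈ C := by
  induction C with
  | nil =>
    intro k b L hL
    simp only [enum] at hL
    split_ifs at hL with e
    · simp_all
    · simp at hL
  | cons c cs ih =>
    intro k b L hL
    simp only [enum, List.mem_flatMap, List.mem_range] at hL
    obtain ⟨j, hj, hL⟩ := hL
    split_ifs at hL with e
    · obtain ⟨L', h1, rfl⟩ := List.mem_map.1 hL
      obtain ⟨h2, h3⟩ := ih _ _ _ h1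
      refine ⟨by rw [List.length_append, List.length_replicate, h2]; omega, fun a ha => ?_⟩
      rcases List.mem_append.1 ha with e | e
      · rw [List.eq_of_mem_replicate e]
        exact List.mem_cons_self
      · exact List.mem_cons_of_mem _ (h3 a e)
    · simp at hL

theorem bt38_perm {L L' : List ℤ} (p : L.Perm L') {K a b : ℤ} (h : bt38 K a b L' = false) :
    bt38 K a b L = false := by
  rw [← Bool.not_eq_true] at h ⊢
  refine mt (fun e => ?_) h
  simp only [bt38, Bool.and_eq_true, decide_eq_true_eq, List.any_eq_true, List.mem_sublists] at e ⊢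
  obtain ⟨h1, S, h2, h3, h4⟩ := e
  obtain ⟨S', h5, h6⟩ := h2.subperm.trans (p.filter _).subperm
  exact ⟨h1.trans p.subperm, S', h6, h5.mem_iff.2 h3, h5.sum_eq ▸ h4⟩

theorem ok38_perm {L L' : List ℤ} {C C' : List ℕ} (p : L.Perm L') (q : C.Perm C')
    (h : ok38 L' C' = true) : ok38 L C = true := by
  simp only [ok38, m27, Bool.or_eq_true, Bool.and_eq_true, Bool.not_eq_true', p.mem_iff,
    (p.filter _).sum_eq, q.count_eq] at h ⊢
  exact h.imp_right fun ⟨⟨⟨⟨⟨a, b⟩, c⟩, d⟩, e⟩, f⟩ => ⟨⟨⟨⟨⟨bt38_perm p a, bt38_perm p b⟩,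
    bt38_perm p c⟩, bt38_perm p d⟩, bt38_perm p e⟩, f⟩

theorem c38 {a b : ℕ} {L : List ℤ} (hU : (1, a, b, L) ∈ trees2 244823040 23 D24 Q24 (· == 1)) {d : ℕ}
    {ε : ℤ} (hd : d ∈ D24) (he : ε = 1 ∨ ε = -1) (d1 : 1 + L.sum = ε * d) : (1 + L.sum) % 23 = 11 ∧
    (-3840 ∈ L → 5544 ∈ L → ok38 (-(1 + L.sum) :: L) ((1 + L.sum).natAbs :: degs L) = true) := by
  simp only [trees2, List.mem_flatMap, List.mem_filter, List.mem_map, Prod.mk.injEq, fOK2,
    Bool.and_eq_true, decide_eq_true_eq] at hU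
  obtain ⟨np, ⟨a1, a2, -⟩, e, ⟨a3, ⟨⟨a4, a5⟩, a6⟩, -⟩, L', ⟨a7, ⟨⟨-, a8⟩, a9⟩, a10⟩, a11, -, -, rfl⟩ := hU
  obtain ⟨rfl, b1, b2⟩ := c38a np a1 a2 e a3 a4 a5 a6 a11
  obtain ⟨b3, b4⟩ := mem_enum38 _ _ _ _ a7
  rw [a11] at a8 b4
  have b5 : ∀ a ∈ L', a ∈ C38 := fun a ha =>
    b1 a (List.mem_filter.1 (b4 a ha)).1 (List.mem_filter.1 (b4 a ha)).2
  have b6 : 1 + L'.sum ∈ F23s := by
    rw [d1] at a8 a9 a10 ⊢
    rw [natAbs_sign he] at a9 a10
    exact b2 _ hd ε (by simpa using he) a8 a9 (by omega)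
  refine ⟨(by decide : ∀ f ∈ F23s, f % 23 = 11) _ b6, fun c1 c2 => ?_⟩
  replace c2 : 5544 ∈ L'.erase (-3840) := (List.mem_erase_of_ne (by decide)).2 c2
  have p1 := (List.perm_cons_erase c1).trans ((List.perm_cons_erase c2).cons _)
  have q1 : ∀ {A : List ℤ}, L'.Perm (-3840 :: 5544 :: A) → 3840 ^ 2 + 5544 ^ 2 + sqs A = sqs L' :=
    fun p => by
      rw [sqs, sqs, (p.map _).sum_eq]
      simp only [List.map_cons, List.sum_cons]
      norm_num
      omega
  obtain ⟨L8, c3, c4⟩ := exists_enum C38 8 199341503 ((L'.erase (-3840)).erase 5544 : List ℤ)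
    (fun a ha => b5 a (List.mem_of_mem_erase (List.mem_of_mem_erase (Multiset.mem_coe.1 ha))))
    (by
      have := p1.length_eq
      simp only [List.length_cons, Multiset.coe_card] at this ⊢
      omega) (by
      have := q1 p1
      rw [Multiset.map_coe, Multiset.sum_coe]
      unfold sqs at this a10
      omega)
  have p2 := p1.trans (((Multiset.coe_eq_coe.1 c4).symm.cons _).cons _)
  have q2 : 1 + L'.sum = 1705 + L8.sum := by
    rw [p2.sum_eq]
    simp only [List.sum_cons]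
    omega
  rw [degs, q2]
  rw [q2] at b6 a10
  exact ok38_perm (p2.cons _) (((p2.map _).cons _).cons _) (c38c L8 c3 b6 (by
    have := q1 p2
    omega))

theorem mem_S38 {K d : ℕ} {n : ℤ} (h1 : d ∈ E38) (h2 : d % (2 * K) = K) (h3 : n = 1 ∨ n = -1) :
    n * d ∈ S38 K := by
  simp only [S38, List.mem_flatMap, List.mem_filter, beq_iff_eq]
  exact ⟨d, ⟨h1, h2⟩, by rcases h3 with rfl | rfl <;> simp⟩

theorem w38_eq {d : ℕ} {n : ℤ} (h1 : 0 < d) (h3 : n = 1 ∨ n = -1) : w38 (n * d) = n * sv 23 d := by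
  rcases h3 with rfl | rfl <;> simp [w38, Int.sign_natCast_of_ne_zero h1.ne']

variable {G : Type u} [Group G] [Fintype G] [IsSimpleGroup G] (h : Nat.card G = 244823040)
  (h11 : ∀ {y : G} (hy : orderOf y = 11), SC 11 y ∧ Nat.card (autSub hy) = 10)
include h h11

set_option maxHeartbeats 1600000 in
theorem no3840 (ψ : IrrCharacter G) : charDegree ψ.1 ≠ 3840 := fun d => by
  classical
  have := Nat.fact_prime_two
  obtain ⟨M, hM⟩ := exists_PMod 2
  obtain ⟨S, k, s1, s2, s3, s4⟩ := four M ψ (r := 15939) (by rw [d, h]; rfl) (by norm_num)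
  obtain ⟨x, hx⟩ := exists_prime_orderOf_dvd_card' (G := G) 23 (by rw [h]; norm_num)
  obtain ⟨h1, h2⟩ := m24_23 h hx
  obtain ⟨l, s, ε, μ, ν, T, hT⟩ := exists_T2 (nc24 h) h hD24 (fun χ _ => hQ24 h h11 χ) h1 (by rw [h2])
  obtain ⟨c1, c2⟩ := c38 hT (hD24 _ (h ▸ deg_dvd μ)) T.eps T.deg.1
  obtain ⟨z, hz⟩ := exists_prime_orderOf_dvd_card' (G := G) 5 (by rw [h]; norm_num)
  obtain ⟨-, -, η, -, -, ⟨-, -, -, ⟨-, -, dη, -⟩, -⟩⟩ := exists_B5 h h11 hz
  have m := T.m27 (by decide) (r := 9067520) (by rw [h]) (by norm_num)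
  have t1 := T.deg
  have nd := T.nodup
  simp only [List.nodup_cons, List.mem_cons, not_or] at nd
  have d0 := fun χ : IrrCharacter G => (deg_pos χ).ne'
  have ev : ∀ χ : IrrCharacter G, SameBlock M ψ.1 χ.1 → charDegree χ.1 % 2 = 0 := fun χ e =>
    Nat.mod_eq_zero_of_dvd (even_of_3840 h h11 M d (sameBlock_symm e))
  have e1 := fun (χ : IrrCharacter G) (e : SameBlock M ψ.1 χ.1) => e38 _ (hD24 _ (h ▸ deg_dvd χ))
    (hQ24 h h11 χ) (by simpa only [h, sum_singleton] using sum_deg_sq_le {χ}) (ev χ e)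
  have f1 : charDegree μ.1 % 23 = 11 ∧ ε = 1 ∨ charDegree μ.1 % 23 = 12 ∧ ε = -1 := by
    rw [t1.1] at c1
    rcases T.eps with rfl | rfl <;> omega
  have sl : ∀ χ ∈ l, s χ = 1 ∧ charDegree χ.1 % 23 = 1 ∨ s χ = -1 ∧ charDegree χ.1 % 23 = 22 :=
    fun χ e => by
      have := cong1 23 χ (k := 1) (by simpa using hx) (T.val χ e x hx)
      rcases T.sgn χ e with e | e <;> rw [e] at this ⊢ <;> omega
  have ml : ∀ χ : IrrCharacter G, charDegree χ.1 % 2 = 0 → χ ≠ μ → χ ≠ ν →
      χ ∈ l ∨ charDegree χ.1 % 23 = 0 := fun χ a1 a2 a3 => or_iff_not_imp_left.2 fun a4 =>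
    Nat.mod_eq_zero_of_dvd (T.out χ (by
      simp only [List.mem_cons, not_or]
      refine ⟨?_, a2, a3, a4⟩
      rintro rfl
      rw [deg_irrOne] at a1
      omega)).1
  have ml' : ∀ χ : IrrCharacter G, charDegree χ.1 % 2 = 0 →
      charDegree χ.1 % 23 = 1 ∨ charDegree χ.1 % 23 = 22 → χ ∈ l := fun χ a1 a2 =>
    (ml χ a1 (by rintro rfl; omega) (by rintro rfl; omega)).resolve_right (by omega)
  let P : IrrCharacter G → Bool := fun χ => decide (SameBlock M ψ.1 χ.1)
  let f : ℤ × IrrCharacter G → ℤ := fun i => i.1 * charDegree i.2.1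
  have b : ∀ η : IrrCharacter G, (∀ g, orderOf g ≠ 23 → η.1 g = μ.1 g) → (1024 : ℤ) ∣
      ((((-ε, η) :: l.map fun χ => (s χ, χ)).filter fun i => P i.2).map f).sum := fun η hη => by
    have := list_blk (q := 2) (k := 10) M (by rw [h]; norm_num) P (fun χ χ' e => decide_eq_decide.2
      ⟨fun a => sameBlock_trans a e, fun a => sameBlock_trans a (sameBlock_symm e)⟩)
      ((1, irrOne G) :: (-ε, η) :: l.map fun χ => (s χ, χ)) fun g hg => by
        have a1 : orderOf g ≠ 23 := by omega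
        have := (T.reg g a1).1
        simp only [List.map_cons, List.sum_cons, List.map_map, Function.comp_def, hη g a1]
        have a2 : (irrOne G).1 g = 1 := rfl
        push_cast
        linear_combination this + a2
    rw [List.filter_cons_of_neg (by
      intro e
      have := ev _ (of_decide_eq_true e)
      rw [deg_irrOne] at this
      omega)] at this
    exact this
  have b1 := b μ fun _ _ => rfl
  have b2 := b ν fun g hg => (T.reg g hg).2
  have pl := ml' ψ (by omega) (by omega)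
  have ps : s ψ = -1 := by have := sl ψ pl; omega
  replace c2 := c2 (List.mem_map.2 ⟨ψ, pl, by rw [ps, d]; rfl⟩) (List.mem_map.2 ⟨η, ml' η (by omega)
    (by omega), by have := sl η (ml' η (by omega) (by omega)); rw [dη] at this ⊢; omega⟩)
  set K := (-ε, μ) :: l.map fun χ => (s χ, χ) with hK
  have eK : -(1 + (l.map fun χ => s χ * charDegree χ.1).sum) ::
      (l.map fun χ => s χ * charDegree χ.1) = K.map f := by
    simp [hK, f, t1.1, List.map_map, Function.comp_def]
  have mK : ∀ χ ∈ l, (s χ, χ) ∈ K := fun χ e => List.mem_cons_of_mem _ (List.mem_map.2 ⟨χ, e, rfl⟩)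
  have uK : f (s ψ, ψ) = -3840 := by simp [f, ps, d]
  rw [eK] at c2 m
  simp only [ok38, m, show -3840 ∈ K.map f from uK ▸ List.mem_map_of_mem (mK ψ pl), decide_true,
    Bool.not_true, Bool.false_or, Bool.and_eq_true, Bool.not_eq_true', Bool.or_eq_true,
    decide_eq_true_eq, beq_iff_eq] at c2
  obtain ⟨⟨⟨⟨⟨g1, g2⟩, g3⟩, g4⟩, g5⟩, g6⟩ := c2
  have f8 : (charDegree ψ.1).factorization 2 = 8 := by rw [d]; decide +kernel
  by_cases pS : ψ ∈ S
  · have a1 : 4 ≤ cnt G 3840 := s1 ▸ card_le_card fun χ e => mem_filter.2 ⟨mem_univ _,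
      (e1 χ (s2 χ e).1).2.2 (fac2 (d0 χ) ((s2 χ e).2.trans ((s2 ψ pS).2.symm.trans f8)))⟩
    rw [← T.cnt_eq (by decide) (by decide), ← T.cnt_eq (by decide) (by decide),
      ← T.cnt_eq (by decide) (by decide)] at g6
    exact no4 h h11 (by omega)
  obtain ⟨n, n1, n2⟩ := s4.resolve_left pS
  have k8 := s3 ψ (sameBlock_refl _) pS
  have fk : ∀ χ ∈ S, charDegree χ.1 % (2 * 2 ^ k) = 2 ^ k := fun χ e => fac2 (d0 χ) (s2 χ e).2
  have k1 : 2 ^ k ∈ [2, 4, 8, 16, 32, 64, 128] := by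
    obtain ⟨χ, e⟩ := card_pos.1 (s1 ▸ (by decide : 0 < 4))
    have a1 := fk χ e
    have a2 := ev χ (s2 χ e).1
    rw [f8] at k8
    interval_cases k <;> simp at a1 ⊢
    omega
  have key : ∀ i ∈ K, ∀ j ∈ K, i ≠ j → i.2 ∈ S → j.2 ∈ S → (∀ t ∈ K, t.2 ∈ S → t = i ∨ t = j) →
      bt38 (2 * 2 ^ k : ℕ) (f i) (f j) (K.map f) = true := fun i hi j hj ij a1 a2 a3 => by
    have dv : ∀ t ∈ K, f t % (2 * 2 ^ k : ℕ) = 0 ↔ 2 * 2 ^ k ∣ charDegree t.2.1 := fun t ht => by
      have : t.1 = 1 ∨ t.1 = -1 := by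
        rcases List.mem_cons.1 ht with rfl | e
        · have := T.eps
          dsimp only
          omega
        · obtain ⟨χ, e', rfl⟩ := List.mem_map.1 e
          exact T.sgn χ e'
      rw [← Int.dvd_iff_emod_eq_zero, ← Int.natCast_dvd_natCast]
      rcases this with e | e <;> simp only [f, e, one_mul, neg_mul, dvd_neg]
    have nv : ∀ t ∈ K, t.2 ∈ S → f t % (2 * 2 ^ k : ℕ) ≠ 0 := fun t ht e e' => by
      have a4 := fk _ e
      rw [Nat.mod_eq_zero_of_dvd ((dv t ht).1 e')] at a4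
      exact absurd a4 (by positivity : 0 < 2 ^ k).ne
    obtain ⟨a4, A, a5, a6, a7⟩ := split2 (K := K) (.of_map Prod.snd (by
        simp [hK, List.map_map, Function.comp_def, nd])) (fun i => P i.2) f hi hj (mK ψ pl) ij
      (decide_eq_true (s2 _ a1).1) (decide_eq_true (s2 _ a2).1) (decide_eq_true (sameBlock_refl _))
      (nv i hi a1) (nv j hj a2) ((dv _ (mK ψ pl)).2 (fac2' (d0 ψ) k8)) fun t ht a b c =>
        (dv t ht).2 (fac2' (d0 _) (s3 _ (of_decide_eq_true a) fun e => (a3 t ht e).elim b c))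
    simp only [bt38, Bool.and_eq_true, decide_eq_true_eq, List.any_eq_true, beq_iff_eq]
    exact ⟨a4, A, a5, uK ▸ a6, a7 ▸ Int.emod_eq_zero_of_dvd b1⟩
  have r1 : ∑ χ ∈ S, n χ * charDegree χ.1 = 7680 := by
    have := n2 1 (by simp)
    simp only [irr_one_eq, d] at this
    apply Int.cast_injective (α := ℂ)
    push_cast at this ⊢
    linear_combination -this
  have mS : ∀ χ ∈ S, χ ≠ μ → χ ≠ ν → n χ * charDegree χ.1 ∈ S38 (2 ^ k) ∧
      charDegree χ.1 ≠ charDegree μ.1 := fun χ e a1 a2 => by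
    have a3 : charDegree χ.1 % 23 = 0 ∨ charDegree χ.1 % 23 = 1 ∨ charDegree χ.1 % 23 = 22 := by
      rcases ml χ (ev χ (s2 χ e).1) a1 a2 with a | a
      · have := sl χ a
        omega
      · omega
    exact ⟨mem_S38 ((e1 χ (s2 χ e).1).2.1 a3) (fk χ e) (n1 χ e), by omega⟩
  have mt : ∀ t ∈ K, t = (-ε, μ) ∨ t.2 ∈ l ∧ t = (s t.2, t.2) := fun t ht => by
    rcases List.mem_cons.1 ht with e | e
    · exact .inl e
    · obtain ⟨χ, e', rfl⟩ := List.mem_map.1 e
      exact .inr ⟨e', rfl⟩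
  by_cases mn : μ ∈ S ∨ ν ∈ S
  · have a1 : (charDegree μ.1).factorization 2 = k := mn.elim (fun e => (s2 _ e).2)
      fun e => t1.2 ▸ (s2 _ e).2
    have a2 := fac2 (d0 μ) a1
    have a3 : ¬ (1024 : ℤ) ∣ -ε * charDegree μ.1 := fun e => by
      generalize 2 ^ k = N at k1 a2
      simp only [List.mem_cons, List.not_mem_nil, or_false] at k1
      rcases T.eps with rfl | rfl <;> rcases k1 with rfl | rfl | rfl | rfl | rfl | rfl | rfl <;> omega
    have a4 : P μ = true ∧ P ν = true := by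
      rw [hK] at b1
      rcases mn with e | e
      · refine ⟨decide_eq_true (s2 _ e).1, by_contra fun e' => a3 ?_⟩
        rw [List.filter_cons_of_pos (by exact decide_eq_true (s2 _ e).1), List.map_cons, List.sum_cons] at b1
        rw [List.filter_cons_of_neg (by exact e')] at b2
        exact (dvd_add_left b2).1 b1
      · refine ⟨by_contra fun e' => a3 ?_, decide_eq_true (s2 _ e).1⟩
        rw [List.filter_cons_of_pos (by exact decide_eq_true (s2 _ e).1), List.map_cons, List.sum_cons] at b2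
        rw [List.filter_cons_of_neg (by exact e')] at b1
        exact t1.2 ▸ (dvd_add_left b1).1 b2
    have a5 : μ ∈ S := by_contra fun e => (s3 _ (of_decide_eq_true a4.1) e).ne' a1
    have a6 : ν ∈ S.erase μ := mem_erase.2 ⟨Ne.symm nd.2.1.1,
      by_contra fun e => (s3 _ (of_decide_eq_true a4.2) e).ne' (t1.2 ▸ a1)⟩
    obtain ⟨α, β, ab, a7⟩ := card_eq_two.1 (show ((S.erase μ).erase ν).card = 2 by
      rw [card_erase_of_mem a6, card_erase_of_mem a5, s1])
    have a8 : ∀ χ, χ ≠ ν ∧ χ ≠ μ ∧ χ ∈ S ↔ χ = α ∨ χ = β := fun χ => by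
      rw [← mem_erase, ← mem_erase, a7, mem_insert, mem_singleton]
    rw [← add_sum_erase _ _ a5, ← add_sum_erase _ _ a6, a7, sum_pair ab, t1.2] at r1
    obtain ⟨u1, u2, u3⟩ := (a8 α).2 (.inl rfl)
    obtain ⟨v1, v2, v3⟩ := (a8 β).2 (.inr rfl)
    have w1 := n1 μ a5
    have w2 := n1 ν (mem_of_mem_erase a6)
    have w3 := n1 α u3
    have w4 := n1 β v3
    obtain ⟨x1, x2, x3, x4⟩ := x38 _ k1 _ ((e1 μ (s2 _ a5).1).1 (by omega)) a2
      (n μ * charDegree μ.1 + n ν * charDegree μ.1)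
      (by rcases w1 with e | e <;> rcases w2 with e' | e' <;> simp [e, e', two_mul])
      _ (mS α u3 u2 u1).1 (by convert (mS β v3 v2 v1).1 using 1; omega)
    have fin : ∀ γ δ : IrrCharacter G, (∀ χ, χ ≠ ν ∧ χ ≠ μ ∧ χ ∈ S ↔ χ = γ ∨ χ = δ) →
        charDegree γ.1 = 1540 → charDegree δ.1 = 5060 → False := fun γ δ a9 y1 y2 => by
      have y3 := ml' γ (by omega) (by omega)
      have := key (-ε, μ) (.head _) (s γ, γ) (mK γ y3) (fun e => by
        have : μ = γ := congrArg Prod.snd e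
        subst this
        omega) a5 ((a9 γ).2 (.inl rfl)).2.2 fun t ht e => (mt t ht).imp_right fun ⟨y4, y5⟩ => by
          rcases (a9 t.2).1 ⟨fun e => nd.2.2.1 (e ▸ y4), fun e => nd.2.1.2 (e ▸ y4), e⟩ with e | e
          · rw [y5, e]
          · have := sl _ y4
            rw [e] at this
            omega
      rw [x1, show f (-ε, μ) = -540 by
          simp only [f, x2, show ε = 1 by omega]; rfl,
        show f (s γ, γ) = -1540 by have := sl γ y3; simp only [f, y1] at this ⊢; omega] at this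
      exact absurd (g2.symm.trans this) (by decide)
    rcases x3 with e | e
    · exact fin α β a8 (by rcases w3 with e' | e' <;> rw [e'] at e <;> omega)
        (by rcases w4 with e' | e' <;> rw [e'] at r1 <;> omega)
    · exact fin β α (fun χ => (a8 χ).trans or_comm)
        (by rcases w4 with e' | e' <;> rw [e'] at r1 <;> omega)
        (by rcases w3 with e' | e' <;> rw [e'] at e <;> omega)
  rw [not_or] at mn
  have mS' := fun χ e => mS χ e (fun e' => mn.1 (e' ▸ e)) fun e' => mn.2 (e' ▸ e)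
  have r2 : ∑ χ ∈ S, w38 (n χ * charDegree χ.1) = -2 := by
    have := n2 x (by rw [hx]; decide)
    rw [T.val ψ pl x hx, ps, sum_congr rfl fun χ e => by
      rw [T.value (by decide) (mS' χ e).2 hx, ← Int.cast_mul, ← w38_eq (deg_pos χ) (n1 χ e)]] at this
    exact_mod_cast this.symm
  obtain ⟨a, b, c, e, ab, ac, ae, bc, be, ce, hS⟩ := card_eq_four.1 s1
  have hS' : ∀ χ, χ ∈ S ↔ χ ∈ [a, b, c, e] := fun χ => by simp [hS]
  have hs : ∀ F : IrrCharacter G → ℤ, ∑ χ ∈ S, F χ = F a + F b + F c + F e := fun F => by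
    rw [hS, sum_insert (by simp [ab, ac, ae]), sum_insert (by simp [bc, be]), sum_pair ce]
    ring
  rw [hs] at r1 r2
  have r3 : 7680 - n a * charDegree a.1 - n b * charDegree b.1 - n c * charDegree c.1 =
    n e * charDegree e.1 := by omega
  obtain ⟨U, u1, u2, u3⟩ := q38 _ k1 _ (mS' a (by simp [hS])).1 _ (mS' b (by simp [hS])).1 _
    (mS' c (by simp [hS])).1 (r3 ▸ (mS' e (by simp [hS])).1) (r3 ▸ r2)
  rw [r3, natAbs_sign (n1 a (by simp [hS])), natAbs_sign (n1 b (by simp [hS])),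
    natAbs_sign (n1 c (by simp [hS])), natAbs_sign (n1 e (by simp [hS]))] at u3
  obtain ⟨L, l1, l2⟩ := (congrFun₂ (List.eq_map_comp_perm fun χ : IrrCharacter G => charDegree χ.1)
    _ [a, b, c, e]).mpr u3.symm
  simp only [eq_comm (b := List.map _ L), List.map_eq_cons_iff, List.map_eq_nil_iff] at l1
  obtain ⟨α, _, rfl, y1, β, _, rfl, y2, γ, _, rfl, y3, δ, _, rfl, y4, rfl⟩ := l1
  have l3 : ∀ χ, χ ∈ S ↔ χ = α ∨ χ = β ∨ χ = γ ∨ χ = δ := fun χ => by
    rw [hS', ← l2.mem_iff]; simp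
  have l4 : α ≠ β := by
    have := l2.nodup_iff.2 (by simp [ab, ac, ae, bc, be, ce])
    simp only [List.nodup_cons, List.mem_cons, not_or] at this
    exact this.1.1
  have l5 : U.2.1 % 2 = 0 ∧ (U.2.1 % 23 = 1 ∨ U.2.1 % 23 = 22) ∧ U.2.2 % 23 = 0 :=
    (by decide : ∀ U ∈ [(2, 990, 4830), (16, 528, 3312), (64, 3520, 7360), (128, 12672, 8832)],
      U.2.1 % 2 = 0 ∧ (U.2.1 % 23 = 1 ∨ U.2.1 % 23 = 22) ∧ U.2.2 % 23 = 0) U u1
  have z1 := ml' α (y1 ▸ l5.1) (y1 ▸ l5.2.1)
  have z2 := ml' β (y2 ▸ l5.1) (y2 ▸ l5.2.1)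
  have := key (s α, α) (mK α z1) (s β, β) (mK β z2) (fun e => l4 (congrArg Prod.snd e))
    ((l3 α).2 (.inl rfl)) ((l3 β).2 (.inr (.inl rfl))) fun t ht e => by
      rcases mt t ht with rfl | ⟨y5, y6⟩
      · exact absurd e mn.1
      have := sl _ y5
      rcases (l3 _).1 e with e | e | e | e
      · exact .inl (by rw [y6, e])
      · exact .inr (by rw [y6, e])
      all_goals rw [e] at this; omega
  have z3 := sl α z1
  have z4 := sl β z2
  simp only [f, u2, y1, y2] at this z3 z4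
  simp only [List.mem_cons, List.not_mem_nil, or_false] at u1
  rcases u1 with rfl | rfl | rfl | rfl <;> norm_num at z3 z4 <;> rw [z3, z4] at this
  · exact absurd (g1.symm.trans this) (by decide)
  · exact absurd (g3.symm.trans this) (by decide)
  · exact absurd (g4.symm.trans this) (by decide)
  · exact absurd (g5.symm.trans this) (by decide)

end Cfsg.Agent.H3
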