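import Cfsg.Agent.H3.Four
import Cfsg.Agent.H3.M27

/-! Brauer–Tuan congruences for a single block. -/

set_option autoImplicit false
set_option linter.unusedVariables false
set_option linter.unusedSectionVars false

namespace Cfsg.Agent.H3

open Cfsg Finset Subgroup Cfsg.Agent.PLoc Cfsg.Agent.Char Cfsg.Agent.Blk Cfsg.Agent.Inv Cfsg.Agent.H9
  Cfsg.Agent.Gol
open scoped ComplexConjugate

universe u

variable {G : Type u} [Group G] [Finite G]

theorem list_blk {q k : ℕ} [Fact q.Prime] (M : Ideal AlgInt) [PMod q M] (hk : q ^ k ∣ Nat.card G)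
    (P : IrrCharacter G → Bool)
    (hP : ∀ χ ψ : IrrCharacter G, SameBlock M χ.1 ψ.1 → P χ = P ψ) (L : List (ℤ × IrrCharacter G))
    (hL : ∀ g, q ∣ orderOf g → (L.map fun i => (i.1 : ℂ) * i.2.1 g).sum = 0) :
    (q ^ k : ℤ) ∣ ((L.filter fun i => P i.2).map fun i => i.1 * (charDegree i.2.1 : ℤ)).sum := by
  have v := vanish_filter M P hP L hL
  generalize (L.filter fun i => P i.2) = K at v ⊢
  obtain ⟨Q, hQ⟩ := Sylow.exists_subgroup_card_pow_prime (G := G) q hk
  have g1 : IsGeneralizedCharacter G fun g => (K.map fun i => (i.1 : ℂ) * i.2.1 g).sum := by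
    clear v
    induction K with
    | nil => convert (isGen_one (G := G)).intCast_smul 0 using 1; funext g; simp
    | cons i K ih => convert (i.2.2.isGen.intCast_smul i.1).add ih using 1; funext g; simp
  have := card_dvd_of_vanish g1 Q (fun y hy h1 => by
      obtain ⟨_ | i, hi⟩ := IsPGroup_orderOf (IsPGroup.of_card hQ) hy
      · exact absurd (orderOf_eq_one_iff.1 hi) h1
      exact v y (hi ▸ dvd_pow_self q i.succ_ne_zero))
    (n := (K.map fun i => i.1 * (charDegree i.2.1 : ℤ)).sum) (by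
      simp [Int.cast_list_sum, List.map_map, Function.comp_def, irr_one_eq])
  simpa [hQ] using this

theorem fac2 {d k : ℕ} (d0 : d ≠ 0) (h : d.factorization 2 = k) : d % (2 * 2 ^ k) = 2 ^ k := by
  obtain ⟨m, rfl⟩ := (Nat.prime_two.pow_dvd_iff_le_factorization (k := k) d0).2 h.ge
  have : ¬ 2 ∣ m := fun ⟨c, e⟩ => by
    have := (Nat.prime_two.pow_dvd_iff_le_factorization (k := k + 1) d0).1 ⟨c, by rw [e]; ring⟩
    omega
  rw [mul_comm 2, Nat.mul_mod_mul_left, show m % 2 = 1 by omega, mul_one]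

theorem fac2' {d k : ℕ} (d0 : d ≠ 0) (h : k < d.factorization 2) : 2 * 2 ^ k ∣ d := by
  rw [← pow_succ']
  exact (Nat.prime_two.pow_dvd_iff_le_factorization d0).2 h

theorem split2 {ι : Type*} {K : List ι} (hK : K.Nodup) (P : ι → Bool) (f : ι → ℤ) {N : ℤ} {i j u : ι}
    (hi : i ∈ K) (hj : j ∈ K) (hu : u ∈ K) (ij : i ≠ j) (p1 : P i) (p2 : P j) (p3 : P u)
    (n1 : f i % N ≠ 0) (n2 : f j % N ≠ 0) (n3 : f u % N = 0)
    (h : ∀ t ∈ K, P t → t ≠ i → t ≠ j → f t % N = 0) : [f i, f j].Subperm (K.map f) ∧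
    ∃ S ∈ ((K.map f).filter fun c => c % N == 0).sublists, f u ∈ S ∧
      f i + f j + S.sum = ((K.filter P).map f).sum := by
  have e : (K.filter P).Perm (i :: j :: K.filter fun t => P t && f t % N == 0) := by
    refine (List.perm_ext_iff_of_nodup (hK.filter _) ?_).2 fun t => ?_
    · simp [ij, n1, n2, hK.filter]
    · simp only [List.mem_filter, List.mem_cons, Bool.and_eq_true, beq_iff_eq]
      refine ⟨fun a => by_contra fun b => ?_, ?_⟩
      · simp only [not_or] at b
        exact b.2.2 ⟨a.1, a.2, h t a.1 a.2 b.1 b.2.1⟩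
      · rintro (rfl | rfl | a)
        exacts [⟨hi, p1⟩, ⟨hj, p2⟩, ⟨a.1, a.2.1⟩]
  refine ⟨?_, (K.filter fun t => P t && f t % N == 0).map f, List.mem_sublists.2 ?_,
    List.mem_map_of_mem (List.mem_filter.2 ⟨hu, by simp [p3, n3]⟩), ?_⟩
  · refine (List.Sublist.subperm ?_).trans ((e.map f).symm.subperm.trans
      (List.filter_sublist.map f).subperm)
    simp
  · rw [List.filter_map, ← List.filter_filter]
    exact List.filter_sublist.map f
  · rw [(e.map f).sum_eq]
    simp [add_assoc]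

end Cfsg.Agent.H3
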