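import Cfsg.Agent.H3.Tree
import Cfsg.Agent.Gol.Hom

/-! Recognition of small permutation groups generated by a Frobenius group and one more element. -/

set_option autoImplicit false
set_option linter.unusedVariables false
set_option linter.unusedSectionVars false

namespace Cfsg.Agent.H3

open Finset Subgroup Equiv Cfsg.Agent.PLoc Cfsg.Agent.Char Cfsg.Agent.Blk Cfsg.Agent.Inv Cfsg.Agent.H9
  Cfsg.Agent.Gol

universe u

noncomputable section

def idP (m : ℕ) : ℕ := pack 5 (fun i => i) m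

theorem encP_one (m : ℕ) : encP (1 : Perm (Fin m)) = idP m := by
  unfold encP
  exact pack_congr fun k hk => by rw [dif_pos hk]; rfl

theorem encP_inj {m : ℕ} (hm : m ≤ 32) {σ τ : Perm (Fin m)} (h : encP σ = encP τ) : σ = τ :=
  Equiv.ext fun i => Fin.ext (by rw [← ap_encP hm σ i.2, h, ap_encP hm τ i.2])

theorem encP_eq {m : ℕ} {σ : Perm (Fin m)} {f : ℕ → ℕ} (h : ∀ i : Fin m, (σ i : ℕ) = f i) :
    encP σ = pack 5 f m := by
  unfold encP
  exact pack_congr fun k hk => by rw [dif_pos hk, h]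

def isP (m c : ℕ) : Bool :=
  nall (fun i => Nat.blt (ap c i) m && nall (fun j => Nat.beq i j || !Nat.beq (ap c i) (ap c j)) m) m &&
    Nat.beq c (pack 5 (ap c) m)

theorem exists_encP {m c : ℕ} (h : isP m c = true) : ∃ σ : Perm (Fin m), encP σ = c := by
  simp only [isP, Bool.and_eq_true, nall_iff, Nat.blt_eq, Bool.or_eq_true, Nat.beq_eq,
    Bool.not_eq_true', Bool.eq_false_iff, ne_eq] at h
  refine ⟨Equiv.ofBijective (fun i : Fin m => ⟨ap c i, (h.1 i i.2).1⟩)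
    (Finite.injective_iff_bijective.1 fun i j e => Fin.ext (((h.1 i i.2).2 j j.2).resolve_right
      fun e' => e' (congrArg Fin.val e))), ?_⟩
  exact (encP_eq fun i => rfl).trans h.2.symm

/-- evaluation of a word -/
def evw (m : ℕ) (gs w : List ℕ) : ℕ :=
  List.rec (idP m) (fun a _ ih => force ih (mulP m (gs.getD a (idP m)))) w

theorem evw_mem {m : ℕ} (hm : m ≤ 32) {gs : List ℕ} {H : Subgroup (Perm (Fin m))}
    (h : ∀ c ∈ gs, ∃ σ ∈ H, encP σ = c) (w : List ℕ) : ∃ σ ∈ H, encP σ = evw m gs w := by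
  induction w with
  | nil => exact ⟨1, one_mem _, encP_one m⟩
  | cons a w ih =>
    obtain ⟨σ, h1, h2⟩ := ih
    obtain ⟨τ, h3, h4⟩ : ∃ σ ∈ H, encP σ = gs.getD a (idP m) := by
      rw [List.getD_eq_getElem?_getD]
      rcases e : gs[a]? with _ | c
      · exact ⟨1, one_mem _, encP_one m⟩
      · exact h c (List.mem_of_getElem? e)
    exact ⟨τ * σ, mul_mem h3 h1, by rw [encP_mul hm, h2, h4]; exact (force_eq _ _).symm⟩

def powS (m c k : ℕ) : ℕ := Nat.rec c (fun _ ih => force ih (mulP m c)) k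

def powL (m : ℕ) (l : List ℕ) : ℕ → ℕ :=
  List.rec (fun c => c) (fun k _ ih c => force (powS m c k) ih) l

theorem powS_eq {m : ℕ} (hm : m ≤ 32) (σ : Perm (Fin m)) (k : ℕ) :
    powS m (encP σ) k = encP (σ ^ (k + 1)) := by
  induction k with
  | zero => simp [powS]
  | succ k ih => rw [pow_succ', encP_mul hm, ← ih]; exact force_eq _ _

theorem powL_eq {m : ℕ} (hm : m ≤ 32) (l : List ℕ) (σ : Perm (Fin m)) :
    powL m l (encP σ) = encP (σ ^ (l.map (· + 1)).prod) := by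
  induction l generalizing σ with
  | nil => simp [powL]
  | cons k l ih =>
    rw [List.map_cons, List.prod_cons, pow_mul, ← ih, ← powS_eq hm]
    exact force_eq _ _

def badP (m : ℕ) (E : List (List ℕ)) (c : ℕ) : Bool :=
  lall (fun l => !Nat.beq (powL m l c) (idP m)) E

theorem badP_false {m : ℕ} (hm : m ≤ 32) {E : List (List ℕ)} {σ : Perm (Fin m)}
    (h : ∃ l ∈ E, σ ^ (l.map (· + 1)).prod = 1) : badP m E (encP σ) ≠ true := fun e => by
  obtain ⟨l, h1, h2⟩ := h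
  have := lall_iff.1 e l h1
  rw [powL_eq hm, h2, encP_one] at this
  simp at this

def itr (c k i : ℕ) : ℕ := Nat.rec i (fun _ ih => ap c ih) k

theorem itr_eq {m : ℕ} (hm : m ≤ 32) (σ : Perm (Fin m)) (k : ℕ) (i : Fin m) :
    itr (encP σ) k i = (σ ^ k) i := by
  induction k with
  | zero => rfl
  | succ k ih => rw [pow_succ', Perm.mul_apply, ← ap_encP hm σ (Fin.is_lt _), ← ih]; rfl

def allV (m : ℕ) (ok : ℕ → ℕ → Bool) (n : ℕ) : (ℕ → Bool) → Bool :=
  Nat.rec (fun k => k 0) (fun j ih k => ih fun v => nall (fun a => bif' (ok j a)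
    (force (Nat.add (Nat.shiftLeft a (Nat.mul 5 j)) v) k) true) m) n

theorem allV_sound {m : ℕ} {ok : ℕ → ℕ → Bool} {g : ℕ → ℕ} {n : ℕ}
    (hg : ∀ j < n, g j < m ∧ ok j (g j) = true) {k : ℕ → Bool} (h : allV m ok n k = true) :
    k (pack 5 g n) = true := by
  induction n generalizing k with
  | zero => unfold pack; exact h
  | succ n ih =>
    have := nall_iff.1 (ih (k := fun v => nall (fun a => bif' (ok n a)
      (force (Nat.add (Nat.shiftLeft a (Nat.mul 5 n)) v) k) true) m)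
      (fun j hj => hg j (by omega)) h) _ (hg n (by omega)).1
    rw [(hg n (by omega)).2, bif'_true, force_eq] at this
    rw [pack_succ, ← Nat.shiftLeft_eq]
    exact this

/-- all maps intertwining `y` and `z` pass the test `f` -/
def allC (m y z rp tr tk n : ℕ) (ok : ℕ → ℕ → Bool) (f : ℕ → Bool) : Bool :=
  nall (fun j => Nat.blt (ap rp j) m) n &&
  nall (fun i => Nat.blt (ap tr i) n && Nat.beq (itr y (ap tk i) (ap rp (ap tr i))) i) m &&
  allV m (fun j a => bif' (ok j a) ((Nat.beq (ap z a) a) == Nat.beq (ap y (ap rp j)) (ap rp j)) false) n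
    fun v => force (pack 5 (fun i => itr z (ap tk i) (ap v (ap tr i))) m) f

theorem allC_sound {m rp tr tk n : ℕ} (hm : m ≤ 32) {σ Y Z : Perm (Fin m)} (e : σ * Y = Z * σ)
    {ok : ℕ → ℕ → Bool} (hok : ∀ j < n, ok j (ap (encP σ) (ap rp j)) = true) {f : ℕ → Bool}
    (h : allC m (encP Y) (encP Z) rp tr tk n ok f = true) : f (encP σ) = true := by
  simp only [allC, Bool.and_eq_true, nall_iff, Nat.blt_eq, Nat.beq_eq] at h
  obtain ⟨⟨h1, h2⟩, h3⟩ := h
  have h4 := allV_sound (g := fun j => ap (encP σ) (ap rp j)) (fun j hj => ?_) h3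
  · rw [force_eq] at h4
    rw [← h4]
    congr 1
    refine encP_eq fun i => ?_
    obtain ⟨h5, h6⟩ := h2 i i.2
    have h7 := itr_eq hm Y (ap tk i) ⟨_, h1 _ h5⟩
    rw [ap_eq (pack _ _ _), dig_pack (fun _ _ => ap_lt _ _) h5, ap_encP hm σ (h1 _ h5), itr_eq hm,
      ← Perm.mul_apply, ← (SemiconjBy.pow_right e _).eq, Perm.mul_apply,
      ← Fin.ext (h6.symm.trans h7)]
  · rw [hok j hj, bif'_true, ap_encP hm σ (h1 j hj), ap_encP hm Y (h1 j hj),
      ap_encP hm Z (Fin.is_lt _), Fin.eta, ← Perm.mul_apply, ← e, Perm.mul_apply]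
    refine ⟨Fin.is_lt _, beq_iff_eq.2 (Bool.eq_iff_iff.2 ?_)⟩
    rw [Nat.beq_eq, Nat.beq_eq, Fin.val_inj, σ.injective.eq_iff, Fin.ext_iff]

/-- the group generated by coded permutations -/
def KP (m : ℕ) (gs : List ℕ) : Subgroup (Perm (Fin m)) := closure {σ | encP σ ∈ gs}

def cjOK (m t : ℕ) (gs gs' : List ℕ) (W : List (List ℕ)) : Bool :=
  isP m t && lall (isP m) gs' &&
    lall (fun c => lany (fun w => Nat.beq (mulP m t c) (mulP m (evw m gs' w) t)) W) gs

theorem cjOK_sound {m t : ℕ} (hm : m ≤ 32) {gs gs' : List ℕ} {W : List (List ℕ)}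
    (h : cjOK m t gs gs' W = true) : ∃ τ, cj τ (KP m gs) ≤ KP m gs' := by
  simp only [cjOK, Bool.and_eq_true, lall_iff, lany_iff, Nat.beq_eq] at h
  obtain ⟨⟨h1, h2⟩, h3⟩ := h
  obtain ⟨τ, rfl⟩ := exists_encP h1
  refine ⟨τ, map_le_iff_le_comap.2 ((closure_le _).2 fun σ hσ => ?_)⟩
  obtain ⟨w, -, h4⟩ := h3 _ hσ
  obtain ⟨ρ, h5, h6⟩ := evw_mem hm (H := KP m gs') (fun c hc => by
    obtain ⟨σ, rfl⟩ := exists_encP (h2 c hc)
    exact ⟨σ, subset_closure hc, rfl⟩) w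
  rw [← h6, ← encP_mul hm, ← encP_mul hm] at h4
  show τ * σ * τ⁻¹ ∈ KP m gs'
  rwa [encP_inj hm h4, mul_inv_cancel_right]

theorem KP_equiv {m t t' : ℕ} (hm : m ≤ 32) {gs gs' : List ℕ} {W W' : List (List ℕ)}
    (h : cjOK m t gs gs' W = true) (h' : cjOK m t' gs' gs W' = true) :
    Nonempty (KP m gs ≃* KP m gs') := by
  obtain ⟨τ, h1⟩ := cjOK_sound hm h
  obtain ⟨τ', h2⟩ := cjOK_sound hm h'
  rw [← card_cj_eq τ h1 (card_cj τ' _ ▸ card_le_of_le h2)]
  exact ⟨(MulAut.conj τ).subgroupMap _⟩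

def Xc (p : ℕ) : ℕ := pack 5 (fun i => if i = p then p else (i + 1) % p) (p + 1)

def Yc (p a : ℕ) : ℕ := pack 5 (fun i => if i = p then p else a * i % p) (p + 1)

theorem label {p : ℕ} [hp : Fact p.Prime] {X Y : Perm (Fin (p + 1))} (hX : orderOf X = p) {a : ℕ}
    (hY : Y * X * Y⁻¹ = X ^ a) (ha : (a : ZMod p) ≠ 1) :
    ∃ τ : Perm (Fin (p + 1)), encP (τ⁻¹ * X * τ) = Xc p ∧ encP (τ⁻¹ * Y * τ) = Yc p a := by
  have p2 := hp.out.two_le
  have hc : X.IsCycle := Perm.isCycle_of_prime_order' (by rw [hX]; exact hp.out) (by simp; omega)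
  obtain ⟨o, ho⟩ := card_eq_one.1 (show (X.supportᶜ).card = 1 by
    rw [card_compl, ← hc.orderOf, hX]; simp)
  have h1 : ∀ i, X i = i ↔ i = o := fun i => by
    rw [← mem_singleton (b := i), ← ho, mem_compl, Perm.notMem_support]
  have h2 : ∀ j, Y * X ^ j = X ^ (a * j) * Y := fun j => by
    rw [pow_mul, ← hY, conj_pow, inv_mul_cancel_right]
  have h3 : Y o = o := by_contra fun e => by
    have h4 := (hc.pow_eq_one_iff' (mt (h1 _).1 e) (n := a * 1)).2 (by
      rw [← Perm.mul_apply, ← h2, Perm.mul_apply, pow_one, (h1 o).2 rfl])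
    rw [mul_one, ← hY, conj_eq_one_iff] at h4
    exact hc.ne_one h4
  obtain ⟨w, hw, -⟩ := id hc
  obtain ⟨c, h4⟩ := hc.exists_pow_eq hw (y := Y w) fun e =>
    hw ((h1 w).2 (Y.injective (((h1 _).1 e).trans h3.symm)))
  have h5 : ∀ i j : ℕ, (i : ZMod p) = j → X ^ i = X ^ j := fun i j e =>
    pow_eq_pow_iff_modEq.2 (by rw [hX]; exact (ZMod.natCast_eq_natCast_iff _ _ _).1 e)
  let ω := (X ^ (c / (1 - a) : ZMod p).val) w
  have h6 : Y ω = ω := by
    rw [← Perm.mul_apply, h2, Perm.mul_apply, ← h4, ← Perm.mul_apply, ← pow_add, h5]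
    have := sub_ne_zero.2 ha.symm
    push_cast
    rw [ZMod.natCast_zmod_val]
    field_simp
    ring
  have h7 : ∀ i : ℕ, (X ^ i) ω ≠ o := fun i e => hw ((h1 w).2 ((X ^ _).injective ((X ^ i).injective
    (e.trans (by rw [Perm.pow_apply_eq_self_of_apply_eq_self ((h1 o).2 rfl),
      Perm.pow_apply_eq_self_of_apply_eq_self ((h1 o).2 rfl)])))))
  let f : ℕ → Fin (p + 1) := fun i => if i = p then o else (X ^ i) ω
  have h8 : Function.Injective fun i : Fin (p + 1) => f i := fun i j e => by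
    simp only [f] at e
    split_ifs at e with e1 e2 e2
    · exact Fin.ext (e1.trans e2.symm)
    · exact absurd e.symm (h7 _)
    · exact absurd e (h7 _)
    · exact Fin.ext (pow_injOn_Iio_orderOf (x := X) (by simp; omega) (by simp; omega)
        (hc.pow_eq_pow_iff.2 ⟨ω, mt (h1 _).1 (h7 0), e⟩))
  have h9 : ∀ (Z : Perm (Fin (p + 1))) (g : ℕ → ℕ), Z o = o → (∀ i, Z ((X ^ i) ω) = (X ^ g i) ω) →
      encP ((Equiv.ofBijective _ (Finite.injective_iff_bijective.1 h8))⁻¹ * Z *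
        Equiv.ofBijective _ (Finite.injective_iff_bijective.1 h8)) =
      pack 5 (fun i => if i = p then p else g i % p) (p + 1) := fun Z g z1 z2 => encP_eq fun i => by
    have := Nat.mod_lt (g i) hp.out.pos
    refine congrArg Fin.val (?_ :
      _ = (⟨if i = p then p else g i % p, by split_ifs <;> omega⟩ : Fin (p + 1)))
    rw [Perm.mul_apply, Perm.mul_apply, Perm.inv_eq_iff_eq]
    show Z (f i) = f (if i = p then p else g i % p)
    by_cases e : (i : ℕ) = p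
    · simp [f, e, z1]
    · simp only [f, if_neg e, if_neg this.ne, z2]
      rw [h5 _ (g i % p) (by simp)]
  exact ⟨_, h9 X _ ((h1 o).2 rfl) fun i => by rw [pow_succ', Perm.mul_apply],
    h9 Y _ h3 fun i => by rw [← Perm.mul_apply, h2, Perm.mul_apply, h6]⟩

variable {G : Type u} [Group G] [Finite G]

theorem exists_label [IsSimpleGroup G] {p : ℕ} [hp : Fact p.Prime] {H : Subgroup G}
    (hH : H.index = p + 1) {x y : G} (hx : orderOf x = p) {a : ℕ} (hy : y * x * y⁻¹ = x ^ a)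
    (ha : (a : ZMod p) ≠ 1) : ∃ φ : G →* Perm (Fin (p + 1)), Function.Injective φ ∧
      encP (φ x) = Xc p ∧ encP (φ y) = Yc p a ∧ ∀ i j, ∃ g, φ g i = j := by
  have e : (G ⧸ H) ≃ Fin (p + 1) := Finite.equivFinOfCardEq (H.index_eq_card.symm.trans hH)
  let ψ := e.permCongrHom.toMonoidHom.comp (MulAction.toPermHom G (G ⧸ H))
  have h1 : Function.Injective ψ := by
    refine e.permCongrHom.injective.comp ?_
    rw [← MonoidHom.ker_eq_bot_iff, ← normalCore_eq_ker]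
    refine H.normalCore_normal.eq_bot_or_eq_top.resolve_right fun h => ?_
    rw [eq_top_iff.2 (h.ge.trans H.normalCore_le), index_top] at hH
    exact hp.out.ne_zero (by omega)
  obtain ⟨τ, h2⟩ := label (X := ψ x) (Y := ψ y) ((orderOf_injective ψ h1 x).trans hx)
    (by rw [← map_inv, ← map_mul, ← map_mul, hy, map_pow]) ha
  refine ⟨(MulAut.conj τ⁻¹).toMonoidHom.comp ψ, (MulAut.conj τ⁻¹).injective.comp h1,
    by simpa using h2.1, by simpa using h2.2, fun i j => ?_⟩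
  obtain ⟨g, hg⟩ := MulAction.exists_smul_eq G (e.symm (τ i)) (e.symm (τ j))
  exact ⟨g, by simp [ψ, hg]⟩

theorem equiv_KP {m : ℕ} (hm : m ≤ 32) {φ : G →* Perm (Fin m)} (hφ : Function.Injective φ)
    {l : List G} (hl : closure {g | g ∈ l} = ⊤) :
    Nonempty (G ≃* KP m (l.map fun g => encP (φ g))) := by
  have : φ.range = KP m (l.map fun g => encP (φ g)) := by
    rw [MonoidHom.range_eq_map, ← hl, MonoidHom.map_closure, KP]
    congr 1
    ext σ
    simp only [Set.mem_image, Set.mem_ofPred_eq, List.mem_map]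
    exact exists_congr fun g => and_congr_right fun _ => ⟨fun e => e ▸ rfl, encP_inj hm⟩
  exact this ▸ ⟨MonoidHom.ofInjective hφ⟩

theorem fix_of_gen {m : ℕ} {φ : G →* Perm (Fin m)} {l : List G} (hl : closure {g | g ∈ l} = ⊤)
    {i : Fin m} (h : ∀ g ∈ l, φ g i = i) (g : G) : φ g i = i :=
  (closure_le ((MulAction.stabilizer _ i).comap φ)).2 h (hl ▸ mem_top g)

theorem not_bad {m : ℕ} (hm : m ≤ 32) (φ : G →* Perm (Fin m)) {E : List (List ℕ)}
    (hE : ∀ g : G, ∃ l ∈ E, g ^ (l.map (· + 1)).prod = 1) (l : List G) (W : List (List ℕ)) :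
    lany (fun w => force (evw m (l.map fun g => encP (φ g)) w) (badP m E)) W ≠ true := fun h => by
  obtain ⟨w, -, h1⟩ := lany_iff.1 h
  obtain ⟨_, ⟨g, rfl⟩, h2⟩ := evw_mem hm (H := φ.range) (gs := l.map fun g => encP (φ g))
    (fun c hc => by
      obtain ⟨g, -, rfl⟩ := List.mem_map.1 hc
      exact ⟨_, ⟨g, rfl⟩, rfl⟩) w
  rw [force_eq, ← h2] at h1
  obtain ⟨k, h3, h4⟩ := hE g
  exact badP_false hm ⟨k, h3, by rw [← map_pow, h4, map_one]⟩ h1

def finB (m : ℕ) (gs g0 : List ℕ) (E W : List (List ℕ))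
    (L : List (ℕ × ℕ × ℕ × List (List ℕ) × List (List ℕ))) (c : ℕ) : Bool :=
  bif' (lany (fun w => force (evw m (gs ++ [c]) w) (badP m E)) W) true
    (lany (fun d => bif' (Nat.beq c d.1) (cjOK m d.2.1 (gs ++ [c]) g0 d.2.2.2.1 &&
      cjOK m d.2.2.1 g0 (gs ++ [c]) d.2.2.2.2) false) L)

theorem finB_sound {m : ℕ} (hm : m ≤ 32) {φ : G →* Perm (Fin m)} (hφ : Function.Injective φ)
    {l : List G} {s : G} (hl : closure {g | g ∈ l ++ [s]} = ⊤) {E : List (List ℕ)}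
    (hE : ∀ g : G, ∃ l ∈ E, g ^ (l.map (· + 1)).prod = 1) {g0 : List ℕ} {W : List (List ℕ)}
    {L : List (ℕ × ℕ × ℕ × List (List ℕ) × List (List ℕ))}
    (h : finB m (l.map fun g => encP (φ g)) g0 E W L (encP (φ s)) = true) :
    Nonempty (G ≃* KP m g0) := by
  have h1 := not_bad hm φ hE (l ++ [s]) W
  obtain ⟨e1⟩ := equiv_KP hm hφ hl
  rw [List.map_append, List.map_singleton] at h1 e1
  rw [finB, bif'_eq, if_neg h1] at h
  obtain ⟨d, -, h2⟩ := lany_iff.1 h
  rw [bif'_eq] at h2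
  split_ifs at h2
  obtain ⟨e2⟩ := KP_equiv hm (Bool.and_eq_true_iff.1 h2).1 (Bool.and_eq_true_iff.1 h2).2
  exact ⟨e1.trans e2⟩

theorem exists_ev {m : ℕ} (hm : m ≤ 32) {gs : List ℕ} (h : lall (isP m) gs = true)
    (e : G ≃* KP m gs) : ∃ ev : List ℕ → G, ev [] = 1 ∧ (∀ u v, ev u * ev v = ev (u ++ v)) ∧
      ∀ u v, ev u = ev v ↔ evw m gs u = evw m gs v := by
  have h1 : ∀ a : ℕ, ∃ σ : KP m gs, encP (σ : Perm (Fin m)) = gs.getD a (idP m) := fun a => by
    rw [List.getD_eq_getElem?_getD]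
    rcases e : gs[a]? with _ | c
    · exact ⟨1, encP_one m⟩
    · obtain ⟨σ, rfl⟩ := exists_encP (lall_iff.1 h c (List.mem_of_getElem? e))
      exact ⟨⟨σ, subset_closure (List.mem_of_getElem? e)⟩, rfl⟩
  choose f hf using h1
  have h2 : ∀ w : List ℕ, encP ((w.map f).prod : KP m gs).1 = evw m gs w := fun w => by
    induction w with
    | nil => exact encP_one m
    | cons a w ih =>
      rw [List.map_cons, List.prod_cons, Subgroup.coe_mul, encP_mul hm, ih, hf]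
      exact (force_eq _ _).symm
  refine ⟨fun w => e.symm (w.map f).prod, by simp, fun u v => by simp, fun u v => ?_⟩
  rw [e.symm.injective.eq_iff, ← h2, ← h2]
  exact ⟨fun e => e ▸ rfl, fun e => Subtype.ext (encP_inj hm e)⟩

theorem mem_cand2 [IsSimpleGroup G] (hG : ¬ IsMulCommutative G) {n : ℕ} (hn : Nat.card G = n)
    {Dv : List ℕ} (hD : ∀ d, d ∣ n → d ∈ Dv) {Q : ℕ → Bool} {χ : IrrCharacter G} (h1 : χ ≠ irrOne G)
    (hQ : Q (charDegree (χ : G → ℂ)) = true) {s : ℤ} (hs : s = 1 ∨ s = -1) :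
    s * charDegree (χ : G → ℂ) ∈ cand2 n Dv Q := by
  subst hn
  have h3 := sum_deg_sq_le {χ}
  rw [sum_singleton, sq] at h3
  simp only [cand2, List.mem_flatMap, List.mem_filter, Bool.and_eq_true, decide_eq_true_eq]
  refine ⟨_, ⟨hD _ (deg_dvd χ), ⟨degOK_deg hG h1, h3⟩, hQ⟩, ?_⟩
  rcases hs with e | e <;> simp [e]

theorem sign_deg {s a : ℤ} {d : ℕ} (hs : s = 1 ∨ s = -1) (h : s * d = a) :
    d = a.natAbs ∧ (0 < a → s = 1) ∧ (a < 0 → s = -1) := by
  rcases hs with rfl | rfl <;> omega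

theorem card_Vc_sc {p : ℕ} [hp : Fact p.Prime] {x : G} (h : SC p x) : Nat.card (Vc p x) = 1 := by
  have := h.syl1.card_cent
  rw [h.cent, h.card_P] at this
  exact Nat.eq_of_mul_eq_mul_left hp.out.pos (by omega)

theorem fd_cyc {χ : IrrCharacter G} {n : ℕ} {ρ : Representation ℂ G (Fin n → ℂ)}
    (hρ : ρ.character = χ) {p : ℕ} [hp : Fact p.Prime] {y : G} (hy : orderOf y = p) {c : ℤ}
    (hc : ∀ g, orderOf g = p → χ.1 g = c) :
    (p * fd ρ (zpowers y) : ℤ) = charDegree χ.1 + (p - 1) * c := by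
  have h1 := fd_step ρ (bot_le (a := zpowers y)) (c := c) (fun g hg g1 => by
    obtain ⟨i, rfl⟩ := exists_pw hy hg
    rw [hρ, hc _ (orderOf_pw hy fun e => g1 (by simp [e, pw_zero]))]) card_bot
    ((Nat.card_zpowers y).trans hy)
  have h2 := fd_bot ρ
  rw [hρ, irr_one_eq, Nat.cast_inj] at h2
  rw [h1, h2]
  simp

theorem exists_vst {χ : IrrCharacter G} (h1 : χ ≠ irrOne G) {n : ℕ}
    {ρ : Representation ℂ G (Fin n → ℂ)} (hρ : ρ.character = χ) {A : Subgroup G} (h : fd ρ A ≠ 0) :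
    ∃ v ∈ fx ρ A, vst ρ v ≠ ⊤ := by
  classical
  have := Fintype.ofFinite G
  obtain ⟨w, hw, w0⟩ := Submodule.exists_mem_ne_zero_of_ne_bot (p := fx ρ A) fun e => h (by
    rw [fd, e, finrank_bot])
  refine ⟨w, hw, fun e => ?_⟩
  have i1 := χ.2.classInner_of_ne isIrrCharacter_one (irr_ne_one h1)
  rw [classInner_one_right, ← hρ, sum_fd ρ ⊤ (by simp), card_top,
    inv_mul_cancel_left₀ (card_ne_zero G), Nat.cast_eq_zero, fd, Submodule.finrank_eq_zero] at i1
  exact w0 ((Submodule.mem_bot ℂ).1 (i1 ▸ (mem_fx ρ).2 fun g hg => (e.symm ▸ hg : g ∈ vst ρ w)))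

theorem card_over {p : ℕ} [hp : Fact p.Prime] {x : G} (h : Syl1 p x) {H : Subgroup G}
    (hx : x ∈ H) : ∃ m, Nat.card H = Nat.card ↥(Nx x ⊓ H) * m ∧ m % p = 1 := by
  obtain ⟨P, hP⟩ := h.sylow.exists_sylow_top
  have := Core.IsSylowIn.relIndex_normalizer_modEq
    (Core.isSylowIn_of_le P (hP ▸ zpowers_le.2 hx : (P : Subgroup G) ≤ H))
  rw [hP] at this
  exact ⟨_, (card_inf_mul_relIndex _ _).symm, Eq.trans this (Nat.mod_eq_of_lt hp.out.one_lt)⟩

/-- an element acting on a self-centralising cyclic group -/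
theorem sc_pow {p : ℕ} [hp : Fact p.Prime] {x s : G} (h : SC p x) {a k : ℕ}
    (hs : s * x * s⁻¹ = x ^ a) (ha : (a : ZMod p) ≠ 1) (hk : (a : ZMod p) ^ k = 1) : s ^ k = 1 := by
  have h1 : ∀ k : ℕ, s ^ k * x * (s ^ k)⁻¹ = x ^ a ^ k := fun k => by
    induction k with
    | zero => simp
    | succ k ih => rw [pow_succ' a, pow_mul, ← hs, conj_pow, ← ih, pow_succ']; group
  have h2 := h1 k
  rw [← pw_natCast h.ord, Nat.cast_pow, hk, pw_one h.ord] at h2
  obtain ⟨i, hi⟩ := exists_pw h.ord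
    (h.cent_of_mem (mem_zpowers x) h.syl1.ne_one (mul_inv_eq_iff_eq_mul.1 h2))
  have h3 := conj_pw s i (x := x)
  rw [hi, hs, pw, ← pow_mul, ← pw_natCast h.ord, mul_inv_eq_iff_eq_mul.2 (pow_succ' s k ▸ pow_succ s k),
    ← hi, Nat.cast_mul, ZMod.natCast_zmod_val] at h3
  rw [← hi, (mul_left_eq_self₀.1 (pw_injective h.ord h3).symm).resolve_left ha, pw_zero]

theorem _root_.Cfsg.Agent.Inv.SC.orderOf_dvd {p : ℕ} [hp : Fact p.Prime] {x g : G} (h : SC p x)
    (hg : g ∈ Nx x) (g1 : g ∉ zpowers x) : orderOf g ∣ Nat.card (autSub h.ord) := by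
  obtain ⟨f, h1, h2⟩ := h.exists_hom
  rw [← h.orderOf_eq h2 (y := ⟨g, hg⟩) g1, ← h1]
  exact orderOf_dvd_card_of_mem ⟨_, rfl⟩

theorem ord_conj {a b : G} (h : IsConj a b) : orderOf a = orderOf b := by
  obtain ⟨c, rfl⟩ := isConj_iff.1 h
  exact (PLoc.orderOf_conj' c a).symm

theorem dih {y t : G} (hy : Odd (orderOf y)) (ht : orderOf t = 2) (h : t * y * t⁻¹ = y⁻¹) :
    Nat.card ↥(zpowers t ⊔ zpowers y) = 2 * orderOf y ∧
      ∀ g ∈ zpowers t ⊔ zpowers y, g ∉ zpowers y → IsConj t g := by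
  have h1 : zpowers t ≤ normalizer (zpowers y : Set G) := zpowers_le.2 (mem_normalizer_of_cj_le (by
    rw [cj_zpowers, h, zpowers_inv]))
  refine ⟨by
    rw [card_sup_of_disjoint h1 (disjoint_iff.1 (disjoint_of_coprime_natCard ?_)),
      Nat.card_zpowers, Nat.card_zpowers, ht]
    simpa [Nat.card_zpowers, ht] using hy, fun g hg g1 => ?_⟩
  obtain ⟨u, hu, v, hv, rfl⟩ := (mem_sup_of_le_normalizer_right h1).1 hg
  rcases (mem_zpowers_ord2 (ord2_iff.1 ht).1).1 hu with rfl | rfl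
  · exact absurd (by simpa using hv) g1
  obtain ⟨j, rfl⟩ := mem_zpowers_iff.1 hv
  obtain ⟨k, hk⟩ := hy
  have h2 : ∀ i : ℤ, y ^ i * u = u * y ^ (-i) := fun i => by
    rw [← mul_inv_eq_iff_eq_mul.1 (show u * y ^ (-i) * u⁻¹ = y ^ i by
      rw [← conj_zpow, h, inv_zpow', neg_neg])]
  refine isConj_iff.2 ⟨y ^ (j * k), ?_⟩
  rw [h2, mul_assoc, ← zpow_neg, ← zpow_add, zpow_eq_zpow_iff_modEq.2]
  rw [hk]
  exact Int.modEq_iff_dvd.2 ⟨j, by push_cast; ring⟩

open Classical in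
theorem pairs_le [Fintype G] {t y : G} (ht : t * t = 1)
    (h0 : (univ.filter fun u => IsConj t u ∧ IsConj t (u * y)).card ≠ 0) :
    (univ.filter fun u => IsConj t u ∧ IsConj t (u * y)).card ≤
      Nat.card (centralizer ({y} : Set G)) ∧ ∃ u, IsConj t u ∧ u * y * u⁻¹ = y⁻¹ := by
  have h1 : ∀ u, IsConj t u → u * u = 1 := fun u hu => by
    obtain ⟨c, rfl⟩ := isConj_iff.1 hu
    rw [conj_mul, ht, mul_one, mul_inv_cancel]
  have h2 : ∀ u, IsConj t u ∧ IsConj t (u * y) → u * y * u⁻¹ = y⁻¹ := fun u hu => by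
    rw [inv_eq_of_mul_eq_one_right (h1 u hu.1)]
    exact eq_inv_of_mul_eq_one_left (by rw [mul_assoc (u * y), h1 _ hu.2])
  obtain ⟨v, hv⟩ := card_ne_zero.1 h0
  have h3 := h2 v (mem_filter.1 hv).2
  refine ⟨?_, v, (mem_filter.1 hv).2.1, h3⟩
  rw [Nat.card_eq_fintype_card, Fintype.card_subtype]
  refine card_le_card_of_injOn (v⁻¹ * ·) (fun u hu => ?_) fun a _ b _ e => mul_left_cancel e
  simp only [coe_filter, mem_univ, true_and, Set.mem_ofPred_eq] at hu ⊢
  rw [mem_centralizer_singleton_iff, ← mul_inv_eq_iff_eq_mul,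
    show v⁻¹ * u * y * (v⁻¹ * u)⁻¹ = v⁻¹ * (u * y * u⁻¹) * v by group, h2 u hu, ← h3]
  group

end

end Cfsg.Agent.H3
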