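import Cfsg.Agent.H3.Rec2

/-! Labelling actions of prime degree. -/

set_option autoImplicit false
set_option linter.unusedVariables false
set_option linter.unusedSectionVars false

namespace Cfsg.Agent.H3

open Finset Subgroup Equiv Cfsg.Agent.PLoc Cfsg.Agent.Char Cfsg.Agent.Blk Cfsg.Agent.Inv Cfsg.Agent.H9
  Cfsg.Agent.Gol

universe u

theorem lowK_sound' {m : ℕ} (hm : m ≤ 32) {ls : List (ℕ × List (List ℕ) × List (List ℕ))}
    {gs : List ℕ} (h : lowK m ls gs = true) {H K : Subgroup (Perm (Fin m))} (hK : K ≤ H)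
    (hf : ∀ σ ∈ K, ∀ d ∈ ls, ap (encP σ) d.1 = d.1) (hH : ∀ c ∈ gs, ∃ σ ∈ H, encP σ = c) :
    (ls.map (·.2.1.length)).prod * Nat.card K ≤ Nat.card H := by
  induction ls generalizing gs H with
  | nil => simpa using card_le_of_le hK
  | cons d ls ih =>
    obtain ⟨h0, h3⟩ := Bool.and_eq_true_iff.1 h
    obtain ⟨h1, h2⟩ := Bool.and_eq_true_iff.1 h0
    rw [evL_eq] at h2 h3
    obtain ⟨h4, h5⟩ := Bool.and_eq_true_iff.1 h3
    have hb : d.1 < m := Nat.blt_eq.mp h1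
    have i1 := ih h5 (H := H ⊓ MulAction.stabilizer _ (⟨d.1, hb⟩ : Fin m))
      (le_inf hK fun σ hσ => Fin.ext ((ap_encP hm σ hb).symm.trans (hf σ hσ d (by simp))))
      (fun σ hσ e he => hf σ hσ e (by simp [he])) fun c hc => by
      obtain ⟨w, -, rfl⟩ := List.mem_map.1 (id hc)
      obtain ⟨σ, s1, s2⟩ := evw_mem hm hH w
      exact ⟨σ, ⟨s1, Fin.ext ((ap_encP hm σ hb).symm.trans
        (s2 ▸ Nat.eq_of_beq_eq_true (lall_iff.1 h4 _ hc)))⟩, s2⟩
    rw [card_eq_orbit_mul (K := H ⊓ MulAction.stabilizer _ (⟨d.1, hb⟩ : Fin m))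
      (S := {j | ∃ g ∈ H, g • (⟨d.1, hb⟩ : Fin m) = j}) (fun _ => Iff.rfl) (fun g hg => ⟨g, hg, rfl⟩)
      fun _ h => h, List.map_cons, List.prod_cons, mul_assoc]
    refine Nat.mul_le_mul ?_ i1
    rw [← Set.ncard_image_of_injective _ Fin.val_injective, ← List.length_map (evw m gs),
      ← List.length_map (ap · d.1), ← List.toFinset_card_of_nodup (of_decide_eq_true h2),
      ← Set.ncard_coe_finset]
    refine Set.ncard_le_ncard (fun a ha => ?_) (Set.toFinite _)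
    simp only [List.coe_toFinset, List.mem_map, Set.mem_ofPred_eq] at ha
    obtain ⟨_, ⟨w, -, rfl⟩, rfl⟩ := ha
    obtain ⟨σ, s1, s2⟩ := evw_mem hm hH w
    exact ⟨_, ⟨σ, s1, rfl⟩, s2 ▸ (ap_encP hm σ hb).symm⟩

variable {G : Type u} [Group G] [Finite G]

theorem exists_label' {p : ℕ} [hp : Fact p.Prime] (hm : p + 1 ≤ 32)
    (hX : nall (fun i => !Nat.beq (ap (Xc p) i) i) p = true) {α : Type*} [Finite α]
    (hα : Nat.card α = p) {ψ : G →* Perm α} (hψ : Function.Injective ψ) {x y : G}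
    (hx : orderOf x = p) {a : ℕ} (hy : y * x * y⁻¹ = x ^ a) (ha : (a : ZMod p) ≠ 1) :
    ∃ (φ : G →* Perm (Fin (p + 1))) (e : α ↪ Fin (p + 1)), Function.Injective φ ∧
      encP (φ x) = Xc p ∧ encP (φ y) = Yc p a ∧ (∀ g, ap (encP (φ g)) p = p) ∧
      (∀ g a, φ g (e a) = e (ψ g a)) ∧ ∀ i, i ≠ Fin.last p → ∃ a, e a = i := by
  classical
  have e : α ≃ Fin p := Finite.equivFinOfCardEq hα
  let ι : α ↪ Fin (p + 1) := e.toEmbedding.trans Fin.castSuccEmb
  let ψ' := (Perm.viaEmbeddingHom ι).comp ψ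
  have h1 : Function.Injective ψ' := (Perm.viaEmbeddingHom_injective ι).comp hψ
  obtain ⟨τ, h2⟩ := label (X := ψ' x) (Y := ψ' y) ((orderOf_injective ψ' h1 x).trans hx)
    (by rw [← map_inv, ← map_mul, ← map_mul, hy, map_pow]) ha
  have h3 : ∀ g, (τ⁻¹ * ψ' g * τ) (τ⁻¹ (Fin.last p)) = τ⁻¹ (Fin.last p) := fun g => by
    simpa using show ψ' g _ = _ from Perm.viaEmbedding_apply_of_notMem (ψ g) ι _
      fun ⟨a, e⟩ => (Fin.castSucc_lt_last _).ne e
  have h4 : τ⁻¹ (Fin.last p) = Fin.last p := by_contra fun e => by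
    have := nall_iff.1 hX _ (Fin.val_lt_last e)
    rw [← h2.1, ap_encP hm _ (Fin.is_lt _), Fin.eta, h3] at this
    simp at this
  refine ⟨(MulAut.conj τ⁻¹).toMonoidHom.comp ψ', ι.trans τ⁻¹.toEmbedding,
    (MulAut.conj τ⁻¹).injective.comp h1, by simpa using h2.1, by simpa using h2.2, fun g => ?_,
    fun g a => by simpa using show ψ' g _ = _ from Perm.viaEmbedding_apply (ψ g) ι a, fun i hi => ?_⟩
  · rw [ap_encP hm _ p.lt_succ_self]
    have := h3 g
    rw [h4] at this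
    exact congrArg Fin.val (show (MulAut.conj τ⁻¹ (ψ' g)) (Fin.last p) = Fin.last p by simpa using this)
  · obtain ⟨j, hj⟩ := Fin.exists_castSucc_eq.2 (show τ i ≠ Fin.last p from fun e =>
      hi (by rw [← h4, ← e]; simp))
    exact ⟨e.symm j, by simp [ι, hj]⟩

theorem exists_label_index [IsSimpleGroup G] {p : ℕ} [hp : Fact p.Prime] (hm : p + 1 ≤ 32)
    (hX : nall (fun i => !Nat.beq (ap (Xc p) i) i) p = true) {H : Subgroup G}
    (hH : H.index = p) {x y : G} (hx : orderOf x = p) {a : ℕ} (hy : y * x * y⁻¹ = x ^ a)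
    (ha : (a : ZMod p) ≠ 1) : ∃ φ : G →* Perm (Fin (p + 1)), Function.Injective φ ∧
      encP (φ x) = Xc p ∧ encP (φ y) = Yc p a ∧ ∀ g, ap (encP (φ g)) p = p := by
  obtain ⟨φ, -, h1, h2, h3, h4, -⟩ := exists_label' hm hX (H.index_eq_card.symm.trans hH)
    (ψ := MulAction.toPermHom G (G ⧸ H)) (by
      rw [← MonoidHom.ker_eq_bot_iff, ← normalCore_eq_ker]
      refine H.normalCore_normal.eq_bot_or_eq_top.resolve_right fun h => ?_
      rw [eq_top_iff.2 (h.ge.trans H.normalCore_le), index_top] at hH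
      exact hp.out.one_lt.ne hH) hx hy ha
  exact ⟨φ, h1, h2, h3, h4⟩

end Cfsg.Agent.H3
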