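import Cfsg.Agent.Char.Brauer
import Cfsg.Agent.Char.RepEquiv

/-! Brauer's splitting field theorem. -/

set_option autoImplicit false
set_option linter.unusedSectionVars false

namespace Cfsg.Agent.H3

open Cfsg Finset Cfsg.Agent.Char Module Representation
open scoped ComplexConjugate

universe u

variable {G : Type u} [Group G] (K : IntermediateField ℚ ℂ)

/-- characters of representations over the subfield `K` -/
def KC (f : G → ℂ) : Prop := ∃ (V : Type u) (_ : AddCommGroup V) (_ : Module K V)
  (_ : FiniteDimensional K V) (ρ : Representation K G V), f = fun g => (ρ.character g : ℂ)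

variable {K}

theorem exists_toC {V : Type*} [AddCommGroup V] [Module K V] [FiniteDimensional K V]
    (ρ : Representation K G V) : ∃ σ : Representation ℂ G (Fin (finrank K V) → ℂ),
      (∀ g i j, LinearMap.toMatrix' (σ g) i j ∈ K) ∧ σ.character = fun g => (ρ.character g : ℂ) := by
  let b := finBasis K V
  let τ : Representation ℂ G (Fin (finrank K V) → ℂ) :=
    ((Matrix.toLinAlgEquiv' (R := ℂ)).toMulEquiv.toMonoidHom.comp
      ((algebraMap K ℂ).mapMatrix.toMonoidHom.comp
        ((LinearMap.toMatrixAlgEquiv b).toMulEquiv.toMonoidHom.comp ρ)))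
  have e1 : ∀ g, τ g = Matrix.toLin' ((LinearMap.toMatrix b b (ρ g)).map (algebraMap K ℂ)) :=
    fun _ => rfl
  refine ⟨τ, fun g i j => by rw [e1, LinearMap.toMatrix'_toLin']; exact SetLike.coe_mem _, ?_⟩
  ext g
  simp only [character, e1, Matrix.trace_toLin'_eq]
  rw [LinearMap.trace_eq_matrix_trace K b]
  simp [Matrix.trace]

theorem isCharacter_K {V : Type*} [AddCommGroup V] [Module K V] [FiniteDimensional K V]
    (ρ : Representation K G V) : IsCharacter G fun g => (ρ.character g : ℂ) := by
  obtain ⟨σ, -, h⟩ := exists_toC ρ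
  exact h ▸ isCharacter_rep σ

theorem KC.add {f f' : G → ℂ} (h : KC K f) (h' : KC K f') : KC K (f + f') := by
  obtain ⟨V, _, _, _, ρ, rfl⟩ := h
  obtain ⟨W, _, _, _, σ, rfl⟩ := h'
  exact ⟨V × W, _, _, inferInstance, ρ.prod σ, by ext; simp [char_prod]⟩

theorem KC.zero : KC K (0 : G → ℂ) :=
  ⟨PUnit, _, _, inferInstance, Representation.trivial K G PUnit.{u + 1}, by
    ext; simp [char_eq_zero_of_subsingleton]⟩

theorem char_eq_of_inner [Fintype G] {V W : Type*} [AddCommGroup V] [Module K V]
    [FiniteDimensional K V] [AddCommGroup W] [Module K W] [FiniteDimensional K W]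
    (ρ : Representation K G V) (σ : Representation K G W) [ρ.IsIrreducible] [σ.IsIrreducible]
    (h : classInner (fun g => (σ.character g : ℂ)) (fun g => (ρ.character g : ℂ)) ≠ 0) :
    ρ.character = σ.character := by
  have : Invertible (Nat.card G : K) := invertibleOfNonzero (Nat.cast_ne_zero.2 Nat.card_pos.ne')
  have h1 := congrArg (algebraMap K ℂ) (card_inv_mul_sum_char_mul_char_eq_finrank ρ σ)
  by_contra hne
  have : IsEmpty (ρ.Equiv σ) := ⟨fun e => hne (char_iso e)⟩
  refine h ?_
  rw [finrank_zero_of_subsingleton] at h1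
  simp only [classInner, ← (isCharacter_K ρ).apply_inv]
  simpa using h1

theorem KC.monomial [Fintype G] (E : Subgroup G) (l : E →* ℂˣ) (hl : ∀ e, (l e : ℂ) ∈ K) :
    KC K (indFun E fun e => (l e : ℂ)) := by
  classical
  have := Fintype.ofFinite E
  have := Fintype.ofFinite (G ⧸ E)
  let F := extendByZero E fun e => (l e : ℂ)
  have hF : ∀ x, F x ∈ K := fun x => by
    simp only [F, extendByZero_apply]
    split_ifs
    exacts [hl _, zero_mem _]
  have h1 : ∀ x ∈ E, ∀ y, F x * F y = F (x * y) := fun x hx y => by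
    by_cases hy : y ∈ E
    · simp only [F, extendByZero_of_mem E _ hx, extendByZero_of_mem E _ hy,
        extendByZero_of_mem E _ (mul_mem hx hy), ← Units.val_mul, ← map_mul]; rfl
    · simp only [F, extendByZero_of_not_mem E _ hy,
        extendByZero_of_not_mem E _ (mt (mul_mem_cancel_left hx).1 hy), mul_zero]
  let M : G →* Matrix (G ⧸ E) (G ⧸ E) K :=
    { toFun := fun g => Matrix.of fun q r => ⟨F (q.out⁻¹ * g * r.out), hF _⟩
      map_one' := by
        ext q r
        simp only [Matrix.of_apply, mul_one, Matrix.one_apply, F]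
        split_ifs with e
        · rw [e, inv_mul_cancel, extendByZero_of_mem E _ (one_mem E)]
          exact congrArg Units.val (map_one l)
        · exact extendByZero_of_not_mem E _ fun h => e (by simpa using QuotientGroup.eq.2 h)
      map_mul' := fun g h => by
        ext q r
        have : ∀ s : G ⧸ E, q.out⁻¹ * g * s.out ∈ E ↔ s = (g⁻¹ * q.out : G) := fun s => by
          rw [eq_comm, ← s.out_eq', QuotientGroup.eq, s.out_eq', mul_inv_rev, inv_inv]
        simp only [Matrix.mul_apply, Matrix.of_apply]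
        rw [sum_eq_single ((g⁻¹ * q.out : G) : G ⧸ E) (fun s _ hs => Subtype.ext (by
          simp only [F, MulMemClass.mk_mul_mk, extendByZero_of_not_mem E _ (mt (this s).1 hs),
            zero_mul, ZeroMemClass.coe_zero])) (by simp)]
        refine Eq.trans ?_ (h1 _ ((this _).2 rfl) _).symm
        simp [mul_assoc] }
  refine ⟨(G ⧸ E) → K, _, _, inferInstance,
    (Matrix.toLinAlgEquiv' (R := K)).toMulEquiv.toMonoidHom.comp M, funext fun g => ?_⟩
  change _ = ((LinearMap.trace K _ (Matrix.toLin' (M g)) : K) : ℂ)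
  rw [Matrix.trace_toLin'_eq, indFun_apply, sum_eq_sum_cosets E, sum_congr rfl
    (g := fun q : G ⧸ E => Nat.card E * F (q.out⁻¹ * g * q.out)) fun q _ => by
      rw [sum_congr rfl (g := fun _ => F (q.out⁻¹ * g * q.out)) fun e _ => by
        rw [← extendByZero_conj_mem E (isCharacter_hom l).isClassFunction e.2]
        simp [F, mul_assoc], sum_const, card_univ, nsmul_eq_mul, Nat.card_eq_fintype_card],
    ← mul_sum, inv_mul_cancel_left₀ (card_ne_zero E)]
  simp [Matrix.trace, M]

theorem KC.of_isCharacter [Finite G] (hK : ∀ z : ℂ, z ^ Monoid.exponent G = 1 → z ∈ K) {χ : G → ℂ}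
    (hχ : IsCharacter G χ) : KC K χ := by
  classical
  have := Fintype.ofFinite G
  have : NeZero (Nat.card G : K) := ⟨Nat.cast_ne_zero.2 Nat.card_pos.ne'⟩
  refine hχ.induction_on KC.zero (fun χ hχ => ?_) fun _ _ _ _ => KC.add
  have key : ∀ P : (G → ℂ) → Prop, P 0 → (∀ a b, P a → P b → P (a + b)) →
      (∀ (n : ℤ) a, P a → P (n • a)) → (∀ (V : Type u) [AddCommGroup V] [Module K V]
        [FiniteDimensional K V] (ρ : Representation K G V), ρ.IsIrreducible →
        P fun g => (ρ.character g : ℂ)) → P χ := fun P h0 h1 h2 h3 => by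
    refine Submodule.span_induction (p := fun f _ => P f) ?_ h0 (fun a b _ _ => h1 a b)
      (fun n a _ => h2 n a) hχ.isGen.mem_span_monomial
    rintro _ ⟨E, l, -, rfl⟩
    obtain ⟨V, _, _, _, ρ, e⟩ := KC.monomial (K := K) E l fun e => hK _ (by
      rw [← Units.val_pow_eq_pow_val, ← map_pow, show e ^ Monoid.exponent G = 1 from
        Subtype.ext (Monoid.pow_exponent_eq_one (e : G)), map_one, Units.val_one])
    rw [e]
    exact rep_induction (fun f : G → K => P fun g => (f g : ℂ)) h0 h3
      (fun _ _ _ _ _ _ _ _ _ _ a b => h1 _ _ a b) V ρ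
  by_contra hc
  obtain ⟨V, _, _, _, ρ, hρ, h1⟩ : ∃ (V : Type u) (_ : AddCommGroup V) (_ : Module K V)
      (_ : FiniteDimensional K V) (ρ : Representation K G V), ρ.IsIrreducible ∧
      classInner (fun g => (ρ.character g : ℂ)) χ ≠ 0 := by
    by_contra! h
    exact one_ne_zero (hχ.classInner_self.symm.trans (key (classInner · χ = 0) (by simp)
      (fun a b ha hb => by rw [classInner_add_left, ha, hb, add_zero])
      (fun n a ha => by rw [classInner_zsmul_left, ha, mul_zero]) fun V _ _ i ρ => h V _ _ i ρ))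
  set ψ : G → ℂ := fun g => (ρ.character g : ℂ)
  have hψ : IsCharacter G ψ := isCharacter_K ρ
  obtain ⟨b, h2, h3⟩ := key (fun f => ∃ b : ℤ, classInner f ψ = b * classInner ψ ψ ∧
      classInner f χ = b * classInner ψ χ) ⟨0, by simp, by simp⟩
    (fun a b ⟨m, e1, e2⟩ ⟨n, e3, e4⟩ => ⟨m + n, by rw [classInner_add_left, e1, e3]; push_cast; ring,
      by rw [classInner_add_left, e2, e4]; push_cast; ring⟩)
    (fun n a ⟨m, e1, e2⟩ => ⟨n * m, by rw [classInner_zsmul_left, e1]; push_cast; ring,
      by rw [classInner_zsmul_left, e2]; push_cast; ring⟩)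
    fun W _ _ _ σ hσ => by
      by_cases e : classInner (fun g => (σ.character g : ℂ)) ψ = 0
      · refine ⟨0, by simpa using e, by_contra fun e' => ?_⟩
        exact classInner_ne_zero_of_common (isCharacter_K σ) hψ hχ (by simpa using e') h1 e
      · rw [← char_eq_of_inner ρ σ e]; exact ⟨1, by simp [ψ], by simp [ψ]⟩
  obtain ⟨m, hm⟩ := hψ.classInner_nat hχ.isCharacter
  rw [hχ.classInner_self, hm] at h3
  have h4 : b * m = 1 := by exact_mod_cast h3.symm
  have h5 : (m : ℤ) = 1 := Int.eq_one_of_mul_eq_one_left (by positivity) h4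
  rw [h5, mul_one] at h4
  rw [hχ.isCharacter.classInner_comm hψ, hm, h4, show m = 1 by exact_mod_cast h5] at h2
  exact hc ⟨V, _, _, ‹_›, ρ, ((hψ.isIrr_of_classInner_eq_one (by simpa using h2.symm)).eq_of_classInner_ne_zero
    hχ h1).symm⟩

theorem s0166 [Finite G] (n : ℕ) (ρ : Representation ℂ G (Fin n → ℂ)) :
    ∃ σ : Representation ℂ G (Fin n → ℂ), Nonempty (ρ.Equiv σ) ∧ ∀ g : G, ∀ i j : Fin n,
      LinearMap.toMatrix' (σ g) i j ∈ Algebra.adjoin ℚ
        ({Complex.exp (2 * Real.pi * Complex.I / (Monoid.exponent G : ℂ))} : Set ℂ) := by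
  have h0 : Monoid.exponent G ≠ 0 := Monoid.exponent_ne_zero_of_finite
  have h1 := Complex.isPrimitiveRoot_exp _ h0
  obtain ⟨V, _, _, _, τ, e⟩ := KC.of_isCharacter (K := IntermediateField.adjoin ℚ
    {Complex.exp (2 * Real.pi * Complex.I / (Monoid.exponent G : ℂ))}) (fun z hz => by
      have : NeZero (Monoid.exponent G) := ⟨h0⟩
      obtain ⟨i, -, rfl⟩ := h1.eq_pow_of_pow_eq_one hz
      exact pow_mem (IntermediateField.mem_adjoin_simple_self _ _) _) (isCharacter_rep ρ)
  obtain ⟨σ, s1, s2⟩ := exists_toC τ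
  have h2 := congrFun (e.trans s2.symm) 1
  simp only [char_one, finrank_fin_fun, Nat.cast_inj] at h2
  subst h2
  refine ⟨σ, nonempty_equiv_of_char_eq ρ σ (e.trans s2.symm), fun g i j => ?_⟩
  rw [← IntermediateField.adjoin_simple_toSubalgebra_of_isAlgebraic
    ((h1.isIntegral (Nat.pos_of_ne_zero h0)).tower_top (A := ℚ)).isAlgebraic]
  exact s1 g i j

end Cfsg.Agent.H3
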