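import Cfsg.Agent.H3.BTu

/-! Products of two conjugate involutions and the principal block of defect one. -/

set_option autoImplicit false
set_option linter.unusedVariables false
set_option linter.unusedSectionVars false

namespace Cfsg.Agent.H3

open Finset Subgroup Cfsg.Agent.PLoc Cfsg.Agent.Char Cfsg.Agent.Blk Cfsg.Agent.Inv Cfsg.Agent.H9
  Cfsg.Agent.Gol
open scoped ComplexConjugate

universe u

variable {G : Type u} [Group G] [Fintype G] {p : ℕ} [hp : Fact p.Prime] {x : G}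

theorem ppart_cent (h : Syl1 p x) {w : G} (hw : w ∈ centralizer {x}) :
    ∃ i : ZMod p, IsPPart p w (pw x i) ∧ (pw x i)⁻¹ * w ∈ Vc p x := by
  obtain ⟨u, hu, v, hv, rfl⟩ := h.exists_mul hw
  obtain ⟨i, rfl⟩ := exists_pw h.ord hu
  obtain ⟨h1, h2⟩ := h.mem_Vc.1 hv
  refine ⟨i, ppart_mk (Commute.pow_left (mem_centralizer_singleton_iff.1 h1).symm _) ?_ h2, by simpa⟩
  by_cases e : i = 0
  exacts [⟨0, by simp [e, pw_zero]⟩, ⟨1, by simp [orderOf_pw h.ord e]⟩]

open Classical in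
theorem cnt_conj (h : Syl1 p x) {w : G} (hw : p ∣ orderOf w) :
    (univ.filter fun g => g * w * g⁻¹ ∈ centralizer {x}).card = Nat.card (Nx x) := by
  obtain ⟨i, i0, v, hv, h1⟩ := h.exists_conj hw
  obtain ⟨c, hc⟩ := isConj_iff.1 h1
  obtain ⟨h2, h3⟩ := h.mem_Vc.1 hv
  have h4 : IsPPart p (pw x i * v) (pw x i) := ppart_mk
    (Commute.pow_left (mem_centralizer_singleton_iff.1 h2).symm _) ⟨1, by simp [orderOf_pw h.ord i0]⟩ h3
  rw [Nat.card_eq_fintype_card, Fintype.card_subtype]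
  refine card_equiv (Equiv.mulRight c⁻¹) fun g => ?_
  simp only [mem_filter, mem_univ, true_and, Equiv.coe_mulRight]
  rw [show g * w * g⁻¹ = g * c⁻¹ * (pw x i * v) * (g * c⁻¹)⁻¹ by rw [← hc]; group]
  generalize g * c⁻¹ = g
  refine ⟨fun e => ?_, fun e => conj_mem_of_mem_normalizer (by
    rw [← centralizer_zpowers]; exact normalizer_le_normalizer_centralizer _ e)
    (mul_mem (h.le_cent (pw_mem i)) h2)⟩
  obtain ⟨j, h5, -⟩ := ppart_cent h e
  rw [Nx, ← zpowers_pw h.ord i0]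
  refine mem_normalizer_of_cj_le ?_
  rw [cj_zpowers, ppart_unique hp.out (ppart_conj h4 g) h5, zpowers_pw h.ord i0, zpowers_le]
  exact pw_mem j

open Classical in
theorem cnt_sq (h : Syl1 p x) (p2 : p ≠ 2) {t : G} (ht : t * t = 1) : ∃ j : ℕ,
    (p * Nat.card (Nx x) : ℂ) * ∑ a, ∑ b, (if p ∣ orderOf (a * t * a⁻¹ * (b * t * b⁻¹)) then 1 else 0) =
      Nat.card G * (p - 1) * (Nat.card (centralizer ({t} : Set G)) * j) ^ 2 := by
  let J : G → Prop := fun u => u * x * u⁻¹ = x⁻¹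
  have i1 : ∀ a : G, (a * t * a⁻¹)⁻¹ = a * t * a⁻¹ := fun a => by
    rw [conj_inv, inv_eq_of_mul_eq_one_right ht]
  have j1 : ∀ u u', J u → J u' → u * u' ∈ centralizer {x} := fun u u' h1 h2 => by
    rw [mem_centralizer_singleton_iff, ← mul_inv_eq_iff_eq_mul, mul_inv_rev,
      show u * u' * x * (u'⁻¹ * u⁻¹) = u * (u' * x * u'⁻¹) * u⁻¹ by group, h2, ← conj_inv, h1, inv_inv]
  have h1 : ∀ u u' : G, u⁻¹ = u → u'⁻¹ = u' → (if u * u' ∈ centralizer {x} ∧ p ∣ orderOf (u * u')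
      then (1 : ℂ) else 0) = (if J u then 1 else 0) * (if J u' then 1 else 0) -
      if J u ∧ J u' ∧ u * u' ∈ Vc p x then 1 else 0 := fun u u' e e' => by
    by_cases a1 : J u ∧ J u'
    · simp [a1, j1 _ _ a1.1 a1.2, h.mem_Vc]
      split_ifs <;> simp
    rw [if_neg (c := _ ∧ _ ∧ _) fun e => a1 ⟨e.1, e.2.1⟩, ite_zero_mul_ite_zero, if_neg a1, sub_zero,
      if_neg]
    rintro ⟨a2, a3⟩
    obtain ⟨i, a4, -⟩ := ppart_cent h a2
    have a5 : ∀ z ∈ zpowers (u * u'), u * z * u⁻¹ = z⁻¹ := by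
      rintro _ ⟨n, rfl⟩
      rw [← conj_zpow, ← inv_zpow, mul_inv_rev, e', ← mul_assoc u, eq_inv_iff_mul_eq_one.1 e.symm,
        one_mul]
    have a6 : J u := a5 x (zpowers_le.2 (ppart_mem_zpowers hp.out a4) (by
      rw [zpowers_pw h.ord fun e => ppart_ne_one hp.out a4 a3 (by rw [e, pw_zero])]
      exact mem_zpowers x))
    refine a1 ⟨a6, ?_⟩
    have a7 := mem_centralizer_singleton_iff.1 a2
    calc u' * x * u'⁻¹ = u⁻¹ * (u * u' * x) * (u * u')⁻¹ * u := by group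
      _ = x⁻¹ := by rw [a7, ← a6, e]; group
  have h2 : ∑ a, ∑ b, (p : ℂ) * (if J (a * t * a⁻¹) ∧ J (b * t * b⁻¹) ∧
      a * t * a⁻¹ * (b * t * b⁻¹) ∈ Vc p x then 1 else 0) =
      ∑ a, ∑ b, (if J (a * t * a⁻¹) then 1 else 0) * if J (b * t * b⁻¹) then 1 else 0 := by
    have k : ∀ (u : G) (i : ZMod p), (J (pw x i * u * (pw x i)⁻¹) ↔ J u) ∧
        (J u → pw x i * u * (pw x i)⁻¹ = pw x (2 * i) * u) := fun u i => by
      have c : Commute x (pw x i) := (Commute.refl x).pow_right _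
      refine ⟨?_, fun e => ?_⟩
      · simp only [J]
        rw [show pw x i * u * (pw x i)⁻¹ * x * (pw x i * u * (pw x i)⁻¹)⁻¹ =
          pw x i * (u * ((pw x i)⁻¹ * x * pw x i) * u⁻¹) * (pw x i)⁻¹ by group, mul_assoc _ x, c.eq,
          inv_mul_cancel_left, mul_inv_eq_iff_eq_mul, c.inv_left.eq, mul_right_inj]
      · have : u * (pw x i)⁻¹ * u⁻¹ = pw x i := by rw [← conj_inv, pw, ← conj_pow, e, inv_pow, inv_inv]
        rw [two_mul, pw_add h.ord, mul_assoc, mul_assoc, ← eq_mul_inv_iff_mul_eq.1 this.symm]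
    have k2 : ∀ u u', (if J u then (1 : ℂ) else 0) * (if J u' then 1 else 0) =
        ∑ i : ZMod p, if J u ∧ J u' ∧ pw x (2 * i) * u * u' ∈ Vc p x then 1 else 0 := fun u u' => by
      by_cases a1 : J u ∧ J u'
      · obtain ⟨j, -, a2⟩ := ppart_cent h (j1 _ _ a1.1 a1.2)
        have a3 : (2 : ZMod p) ≠ 0 := fun e => p2 ((Nat.prime_dvd_prime_iff_eq hp.out Nat.prime_two).1
          ((ZMod.natCast_eq_zero_iff 2 p).1 e))
        have a4 : ∀ i, pw x (2 * i) * u * u' ∈ Vc p x ↔ i = -j / 2 := fun i => by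
          rw [show pw x (2 * i) * u * u' = pw x (2 * i + j) * ((pw x j)⁻¹ * (u * u')) by
            rw [pw_add h.ord]; group, mul_mem_cancel_right a2, eq_div_iff a3, eq_neg_iff_add_eq_zero,
            mul_comm i]
          exact ⟨fun e => by_contra fun e' => (h.mem_Vc.1 e).2 (orderOf_pw h.ord e').symm.dvd,
            fun e => by rw [e, pw_zero]; exact one_mem _⟩
        simp [a1, a4]
      rw [ite_zero_mul_ite_zero, if_neg a1, sum_eq_zero fun i _ => if_neg fun e => a1 ⟨e.1, e.2.1⟩]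
    simp only [k2, sum_comm (t := (univ : Finset (ZMod p))), ← mul_sum]
    rw [sum_congr rfl fun i _ => (sum_congr rfl fun a _ => sum_congr rfl fun b _ => ?_).trans
      (Equiv.sum_comp (Equiv.mulLeft (pw x i)) fun a => ∑ b, if J (a * t * a⁻¹) ∧ J (b * t * b⁻¹) ∧
        a * t * a⁻¹ * (b * t * b⁻¹) ∈ Vc p x then (1 : ℂ) else 0)]
    · simp
    rw [Equiv.coe_mulLeft, show pw x i * a * t * (pw x i * a)⁻¹ = pw x i * (a * t * a⁻¹) * (pw x i)⁻¹ by
      group]
    exact if_congr (by rw [(k _ i).1]; exact and_congr_right fun e => by rw [(k _ i).2 e]) rfl rfl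
  refine ⟨(univ.filter fun u => IsConj t u ∧ J u).card, ?_⟩
  have h3 : ∑ a, (if J (a * t * a⁻¹) then (1 : ℂ) else 0) = Nat.card (centralizer ({t} : Set G)) *
      (univ.filter fun u => IsConj t u ∧ J u).card := by
    rw [sum_conj_eq t fun u => if J u then 1 else 0, ← filter_filter, sum_boole]
  have h4 : ∀ u u', (Nat.card (Nx x) : ℂ) * (if p ∣ orderOf (u * u') then 1 else 0) =
      ∑ g, if g * u * g⁻¹ * (g * u' * g⁻¹) ∈ centralizer {x} ∧
        p ∣ orderOf (g * u * g⁻¹ * (g * u' * g⁻¹)) then 1 else 0 := fun u u' => by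
    simp only [conj_mul, PLoc.orderOf_conj']
    split_ifs with e
    · simp [e, cnt_conj h e]
    · simp [e]
  have h5 : ∀ (g : G) (F : G → ℂ), ∑ a, F (g * (a * t * a⁻¹) * g⁻¹) = ∑ a, F (a * t * a⁻¹) :=
    fun g F => by simpa [mul_assoc] using Equiv.sum_comp (Equiv.mulLeft g) fun a => F (a * t * a⁻¹)
  rw [← h3, sq, sum_mul_sum, ← h2, mul_assoc, mul_sum]
  simp only [mul_sum (a := (Nat.card (Nx x) : ℂ)), h4]
  rw [sum_congr rfl fun a _ => sum_comm, sum_comm, sum_congr rfl fun g _ => (h5 g fun u => ∑ b, if u *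
    (g * (b * t * b⁻¹) * g⁻¹) ∈ centralizer {x} ∧ p ∣ orderOf (u * (g * (b * t * b⁻¹) * g⁻¹)) then 1
    else 0).trans (sum_congr rfl fun a _ => h5 g fun u => if a * t * a⁻¹ * u ∈ centralizer {x} ∧
      p ∣ orderOf (a * t * a⁻¹ * u) then 1 else 0)]
  simp only [h1 _ _ (i1 _) (i1 _), sum_sub_distrib, ← h2]
  simp only [sum_const, card_univ, nsmul_eq_mul, Nat.card_eq_fintype_card (α := G), ← mul_sum]
  ring

theorem D1_sq {M : Ideal AlgInt} [PMod p M] {h : Syl1 p x} {N : Finset (IrrCharacter G)}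
    {δ : IrrCharacter G → ℤ} {ε : ℤ} {μ : (ZMod p)ˣ → IrrCharacter G} (D : D1 M h N δ ε μ)
    (p2 : p ≠ 2) {t : G} (ht : t * t = 1) : ∃ j : ℕ, (p * Nat.card (Vc p x) * Nat.card G : ℂ) *
      (∑ χ ∈ N, δ χ * (χ.1 t ^ 2 / χ.1 1) - ε * ((μ 1).1 t ^ 2 / (μ 1).1 1)) =
      (Nat.card (centralizer ({t} : Set G)) * j) ^ 2 := by
  classical
  obtain ⟨j, hj⟩ := cnt_sq h p2 ht
  have a0 : ¬ p ∣ orderOf t := fun e => p2 ((Nat.prime_dvd_prime_iff_eq hp.out Nat.prime_two).1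
    (e.trans (orderOf_dvd_of_pow_eq_one (by rw [sq, ht]))))
  have cu : (Fintype.card (ZMod p)ˣ : ℂ) = p - 1 := by rw [ZMod.card_units, Nat.cast_pred hp.out.pos]
  have h1 : ∀ g, ((p : ℂ) - 1) * ∑ χ ∈ N, δ χ * χ.1 g - ε * ∑ j, (μ j).1 g =
      p * Nat.card (autSub h.ord) * if p ∣ orderOf g then 1 else 0 := fun g => by
    split_ifs with e
    · obtain ⟨i, i0, v, hv, h1⟩ := h.exists_conj e
      have := sum_eta (autSub h.ord) (Units.mk0 i i0)
      rw [sum_congr rfl fun χ hχ => by rw [D1_sing D hχ e, ← Int.cast_mul, show δ χ * δ χ = 1 by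
        rcases D.δ_val χ hχ with e | e <;> simp [e]], sum_congr (s₁ := univ) rfl fun j _ => by
          rw [(μ j).2.isClassFunction.of_isConj h1, h.PB_const (D.exc_mem j) (pw_mem i)
            (mt (pw_eq_one h.ord).1 i0) hv, D.apply_exc j i i0, mul_comm i], ← mul_sum, ← D.card]
      simp only [Units.val_mk0, ← D.card] at this
      rcases D.ε_val with e | e <;> simp [this, e] <;> ring
    · simp only [D.reg g e 1, exc_reg D e, sum_const, card_univ, nsmul_eq_mul, cu]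
      ring
  have h2 : ∀ χ : IrrCharacter G, ∑ a, ∑ b, χ.1 (a * t * a⁻¹ * (b * t * b⁻¹)) =
      (Nat.card G : ℂ) ^ 2 * (χ.1 t ^ 2 / χ.1 1) := fun χ => by
    rw [sum_comm]
    simp only [χ.2.sum_conj_mul, χ.2.isClassFunction t, sum_const, card_univ, nsmul_eq_mul,
      Nat.card_eq_fintype_card]
    ring
  have h3 := sum_congr (s₁ := univ) rfl fun a _ => sum_congr (s₁ := univ) rfl fun b _ =>
    h1 (a * t * a⁻¹ * (b * t * b⁻¹))
  simp only [sum_sub_distrib, ← mul_sum, sum_comm (t := N), sum_comm (t := (univ : Finset (ZMod p)ˣ)),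
    h2, exc_reg D a0, exc_reg D (g := 1) (by simpa using hp.out.ne_one), sum_const, card_univ, cu,
    nsmul_eq_mul, mul_left_comm _ ((Nat.card G : ℂ) ^ 2)] at h3
  have h4 : (Nat.card (Nx x) : ℂ) = p * Nat.card (Vc p x) * Nat.card (autSub h.ord) := by
    have := (Nx x).card_mul_index
    rw [h.card_eq] at this
    exact_mod_cast Nat.eq_of_mul_eq_mul_right (index_pos' _) this
  refine ⟨j, mul_left_cancel₀ (a := Nat.card G * ((p : ℂ) - 1)) (mul_ne_zero (card_ne_zero G)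
    (sub_ne_zero.2 (by exact_mod_cast hp.out.ne_one))) ?_⟩
  rw [← hj, h4]
  linear_combination (p * Nat.card (Vc p x) : ℂ) * h3

end Cfsg.Agent.H3
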