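import Cfsg.Agent.Char.Sweep
import Cfsg.Agent.Blk.BS2
import Cfsg.Agent.Inv.Count
import Cfsg.Agent.PLoc.Transfer2

/-! Special classes: the roots of an involution. -/

set_option autoImplicit false
set_option linter.unusedSectionVars false

namespace Cfsg.Agent.H3

open Cfsg Finset Subgroup Cfsg.Agent.PLoc Cfsg.Agent.Char Cfsg.Agent.Blk
open scoped ComplexConjugate

variable {G : Type*} [Group G] [Finite G]

theorem invol_eq {a s t : G} (hs : orderOf s = 2) (ht : orderOf t = 2) (h1 : s ∈ zpowers a)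
    (h2 : t ∈ zpowers a) : s = t :=
  (Inv.eq_pow_half_of_mem_zpowers hs h1).2.trans (Inv.eq_pow_half_of_mem_zpowers ht h2).2.symm

theorem root_ti {t : G} (ht : orderOf t = 2) (g : G) (hg : g ∉ centralizer {t}) (s : G)
    (hs : t ∈ zpowers s) : t ∉ zpowers (g * s * g⁻¹) := fun h => hg <| by
  have h1 : g * t * g⁻¹ ∈ zpowers (g * s * g⁻¹) := by rwa [← cj_zpowers, conj_mem_cj]
  exact mem_centralizer_singleton_iff.2
    (mul_inv_eq_iff_eq_mul.1 (invol_eq (by rw [orderOf_conj', ht]) ht h1 h))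

theorem cent_one_class {K : Type*} [Group K] (hG : ∀ H : Subgroup G, H.index ≠ 2) {t : G}
    (ht : orderOf t = 2) (e : centralizer ({t} : Set G) ≃* K) {x z : K} {n m : ℕ}
    (hx : orderOf x = 2 ^ n) (hK : Nat.card K = 2 ^ (n + 1) * m) (hm : Odd m)
    (hz : ∀ u : K, u * u = 1 → u * x = x * u → u = 1 ∨ u = z) (hzx : z ∈ zpowers x) :
    e ⟨t, mem_centralizer_singleton_iff.2 rfl⟩ = z ∧ ¬ 2 ^ (n + 2) ∣ Nat.card G ∧
      ∀ u, orderOf u = 2 → IsConj t u := by
  set t' : centralizer ({t} : Set G) := ⟨t, mem_centralizer_singleton_iff.2 rfl⟩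
  set y : G := (e.symm x : G)
  have hy : y ∈ centralizer {t} := (e.symm x).2
  have oy : orderOf y = 2 ^ n := by rw [orderOf_coe, MulEquiv.orderOf_eq, hx]
  have key : ∀ u ∈ centralizer {t}, orderOf u = 2 → u * y = y * u → ∀ hu, e ⟨u, hu⟩ = z := by
    intro u hu h2 hc _
    refine (hz _ ?_ ?_).resolve_left fun h => ?_
    · rw [← map_mul, ← map_one e]; congr 1; exact Subtype.ext (Inv.sq_of_ord2 h2)
    · rw [← e.apply_symm_apply x, ← map_mul, ← map_mul]; congr 1; exact Subtype.ext hc
    · exact Inv.ne_one_of_ord2 h2 (congrArg Subtype.val ((map_eq_one_iff e e.injective).1 h))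
  have h0 : e t' = z := key t t'.2 ht (mem_centralizer_singleton_iff.1 hy).symm _
  have hty : t ∈ zpowers y := by
    obtain ⟨k, hk⟩ := mem_zpowers_iff.1 hzx
    refine mem_zpowers_iff.2 ⟨k, ?_⟩
    have : e.symm x ^ k = t' := by rw [← map_zpow, hk, ← h0, e.symm_apply_apply]
    exact congrArg Subtype.val this
  obtain ⟨S, hS, hyS⟩ := exists_isSylowOf_ge (p := 2)
    (isPGroup_zpowers (k := n) (by rw [← oy, pow_orderOf_eq_one])) (zpowers_le.2 hy)
  have hN : normalizer (S : Set G) ≤ centralizer {t} := fun g hg => by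
    have h1 := conj_mem_of_mem_normalizer hg (hyS hty)
    have h2 := mem_centralizer_singleton_iff.1
      (hS.le (conj_mem_of_mem_normalizer' hg (hyS (mem_zpowers y))))
    have h3 := key _ (hS.le h1) (by rw [orderOf_conj', ht])
      (by calc g * t * g⁻¹ * y = g * (t * (g⁻¹ * y * g)) * g⁻¹ := by group
            _ = _ := by rw [← h2]; group) (hS.le h1)
    exact mem_centralizer_singleton_iff.2
      (mul_inv_eq_iff_eq_mul.1 (congrArg Subtype.val (e.injective (h3.trans h0.symm))))
  have hS' : IsSylowOf 2 S ⊤ := isSylowOf_of_normalizer (by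
    rw [top_inf_eq]; exact hS.of_le le_normalizer hN)
  obtain ⟨P, rfl⟩ := hS'.exists_sylow_top
  have hc : Nat.card (P : Subgroup G) = 2 ^ (n + 1) := by
    rw [hS.card_eq, Nat.card_congr e.toEquiv, hK, Nat.factorization_mul (by positivity) hm.pos.ne',
      Nat.prime_two.factorization_pow, Finsupp.add_apply, Finsupp.single_eq_same,
      Nat.factorization_eq_zero_of_not_dvd (odd_iff_not_dvd.1 hm), add_zero]
  refine ⟨h0, fun h => ?_, fun u hu => ?_⟩
  · have h1 := P.card_eq_multiplicity
    rw [hc] at h1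
    have := (Nat.prime_two.pow_dvd_iff_le_factorization Nat.card_pos.ne').1 h
    have := Nat.pow_right_injective le_rfl h1
    omega
  · by_contra hn
    obtain ⟨M, -, h1, -⟩ := thompson_transfer P (Q := zpowers y) (by
      have := card_mul_relIndex hyS
      rw [Nat.card_zpowers, oy, hc, pow_succ] at this
      exact Nat.eq_of_mul_eq_mul_left (by positivity) this) hu fun g hg =>
        hn (by rw [← invol_eq (by rw [orderOf_conj', hu]) ht hg hty]; exact (Inv.isConj_conj g u).symm)
    exact hG M h1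

theorem isChar_table {K R : Type*} [Group K] [CommRing R] (φ : R →+* ℂ) {n : ℕ}
    (T : K → Matrix (Fin n) (Fin n) R) (h1 : T 1 = 1) (h : ∀ a b, T (a * b) = T a * T b) :
    IsCharacter K fun k => φ (T k).trace := by
  let ρ : Representation ℂ K (Fin n → ℂ) :=
    { toFun := fun k => Matrix.toLin' ((T k).map φ)
      map_one' := by rw [h1, Matrix.map_one _ (map_zero φ) (map_one φ), Matrix.toLin'_one]; rfl
      map_mul' := fun a b => by rw [h, Matrix.map_mul, Matrix.toLin'_mul]; rfl }
  convert isCharacter_rep ρ using 2 with k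
  change _ = LinearMap.trace ℂ _ (Matrix.toLin' ((T k).map φ))
  rw [Matrix.trace_toLin'_eq, AddMonoidHom.map_trace]

theorem suz {K R ι : Type*} [Group K] [Fintype K] [DecidableEq K] [CommRing R] [StarRing R]
    [Fintype ι] (φ : R →+* ℂ) (hφ : ∀ r, φ (star r) = conj (φ r)) {t : G} (ht : orderOf t = 2)
    (h1 : ∀ u, orderOf u = 2 → IsConj t u) (e : centralizer ({t} : Set G) ≃* K) {z : K}
    (hz : e ⟨t, mem_centralizer_singleton_iff.2 rfl⟩ = z) (b : ι → K → R)
    (hb : ∀ i, IsGeneralizedCharacter K fun k => φ (b i k))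
    (hA : ∀ i k, z ∉ zpowers k → b i k = 0) {N : ℕ} (hN : Nat.card K = N) (c : ι → ℤ)
    (hc : ∀ k, ∑ i, c i * b i k = if k = z then (N : R) else 0) (Γ : ι → ι → ℤ)
    (hΓ : ∀ i j, ∑ k, b i k * star (b j k) = N * Γ i j) (o : ι → ℤ)
    (ho : ∀ i, ∑ k, b i k = N * o i) (s : ι → ℤ)
    (hs : ∀ i, ∑ u ∈ univ.filter (fun u : K => u * u = 1 ∧ u ≠ 1),
      ∑ v ∈ univ.filter (fun u : K => u * u = 1 ∧ u ≠ 1), b i (u * v) = s i) :
    ∃ (m : ι → IrrCharacter G → ℤ) (d : IrrCharacter G → ℤ), (∀ χ, 0 < d χ) ∧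
      d (irrOne G) = 1 ∧ (∀ i j, ∑ χ, m i χ * m j χ = Γ i j) ∧ (∀ i, m i (irrOne G) = o i) ∧
      (∀ i, ∑ χ, m i χ * d χ = 0) ∧ ∑ j, c j * m j (irrOne G) = 1 ∧
      ∀ i, (Nat.card G : ℚ) * ∑ χ, m i χ * ((∑ j, c j * m j χ : ℤ) ^ 2 / d χ : ℚ) = N * s i := by
  classical
  have := Fintype.ofFinite G
  let C := centralizer ({t} : Set G)
  have := Fintype.ofFinite C
  let t' : C := ⟨t, mem_centralizer_singleton_iff.2 rfl⟩
  have es : ∀ f : K → ℂ, ∑ x : C, f (e x) = ∑ k, f k := fun f => e.toEquiv.sum_comp f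
  let a : ι → C → ℂ := fun i x => φ (b i (e x))
  have ha : ∀ i, IsGeneralizedCharacter C (a i) := fun i => (hb i).comp e.toMonoidHom
  have hT : ∀ i, ∀ x : C, (x : G) ∉ {x : G | t ∈ zpowers x} → a i x = 0 := fun i x hx => by
    simp only [a]
    rw [hA i _ fun h => hx ?_, map_zero]
    obtain ⟨k, hk⟩ := mem_zpowers_iff.1 h
    rw [← map_zpow, ← hz] at hk
    exact mem_zpowers_iff.2 ⟨k, congrArg Subtype.val (e.injective hk)⟩
  have ha1 : ∀ i, a i 1 = 0 := fun i => hT i 1 (by simpa using Inv.ne_one_of_ord2 ht)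
  have hN0 : (N : ℂ) ≠ 0 := hN ▸ card_ne_zero K
  have hC : Nat.card C = N := (Nat.card_congr e.toEquiv).trans hN
  choose m hm hm' using fun i => (ha i).indFun.exists_mult
  choose d hd hd' using fun χ : IrrCharacter G => χ.2.exists_nat
  have hv : ∀ χ : IrrCharacter G, χ.1 t = (∑ j, c j * m j χ : ℤ) := fun χ => by
    have h2 : ∑ j, (c j : ℂ) • a j = fun x => if x = t' then (N : ℂ) else 0 := by
      funext x
      have := congrArg φ (hc (e x))
      simp only [map_sum, map_mul, map_intCast, ← hz, e.apply_eq_iff_eq, apply_ite φ, map_natCast,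
        map_zero] at this
      simpa [a] using this
    have h3 : classInner (∑ j, (c j : ℂ) • a j) (fun x : C => χ.1 x) = (∑ j, c j * m j χ : ℤ) := by
      rw [classInner_sum_left]
      push_cast
      refine sum_congr rfl fun j _ => ?_
      rw [classInner_smul_left, ← classInner_indFun_left C _ χ.2.isClassFunction, hm]
    rw [← h3, h2, classInner_def, hC]
    simp only [ite_mul, zero_mul, sum_ite_eq', mem_univ, if_true]
    rw [inv_mul_cancel_left₀ hN0, ← χ.2.isCharacter.apply_inv, Inv.inv_of_ord2 ht]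
  refine ⟨m, fun χ => d χ, fun χ => Int.natCast_pos.2 (hd χ), ?_, fun i j => ?_, fun i => ?_,
    fun i => ?_, ?_, fun i => ?_⟩
  · have h2 := (hd' (irrOne G)).symm
    simp only [irrOne_coe] at h2
    change ((d _ : ℕ) : ℤ) = 1
    exact_mod_cast h2
  · have h2 := classInner_indFun_TI (T := {x : G | t ∈ zpowers x})
      (fun g hg s hs hs' => absurd hs' (root_ti ht g hg s hs)) (ha j).isClassFunction (hT i) (hT j)
      (ha1 i)
    rw [hm' i, hm' j, classInner_sum_irr_sum_irr, classInner_def, hC] at h2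
    simp only [a, ← hφ, ← map_mul] at h2
    rw [es (fun k => φ (b i k * star (b j k))), ← map_sum, hΓ, map_mul,
      map_natCast, map_intCast, inv_mul_cancel_left₀ hN0] at h2
    simp only [map_intCast] at h2
    exact_mod_cast h2
  · have h2 := hm i (irrOne G)
    rw [classInner_indFun_left C _ (irrOne G).2.isClassFunction, classInner_def, hC] at h2
    simp only [a, irrOne_coe, map_one, mul_one] at h2
    rw [es (fun k => φ (b i k)), ← map_sum, ho, map_mul,
      map_natCast, map_intCast, inv_mul_cancel_left₀ hN0] at h2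
    exact_mod_cast h2.symm
  · have h2 := congrFun (hm' i) 1
    rw [indFun_one, ha1, mul_zero] at h2
    simp only [Finset.sum_apply, Pi.smul_apply, smul_eq_mul, hd'] at h2
    exact_mod_cast h2.symm
  · have h2 := (hv (irrOne G)).symm
    simp only [irrOne_coe] at h2
    exact_mod_cast h2
  · have h2 := s0849 C {x : G | t ∈ zpowers x} (fun g hg s hs => root_ti ht g hg s hs)
      (fun s hs => by simpa using hs) (a i) (hT i) t t ht ht
    rw [finsum_mem_def, finsum_mem_def, finsum_eq_sum_of_fintype, finsum_eq_sum_of_fintype,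
      Fintype.sum_prod_type, Fintype.sum_prod_type] at h2
    have h3 : ∑ x : C, ∑ y : C, {p : C × C | IsConj t (p.1 : G) ∧ IsConj t (p.2 : G)}.indicator
        (fun p => a i (p.1 * p.2)) (x, y) = s i := by
      have h4 : ∀ x : C, IsConj t (x : G) ↔ e x * e x = 1 ∧ e x ≠ 1 := fun x => by
        rw [← Inv.ord2_iff, MulEquiv.orderOf_eq, ← orderOf_coe]
        exact ⟨fun h => (Inv.orderOf_isConj h).symm.trans ht, h1 _⟩
      have h5 := congrArg φ (hs i)
      simp only [map_sum, map_intCast, sum_filter] at h5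
      simp only [apply_ite φ, map_zero, map_sum] at h5
      rw [← h5, ← es]
      refine sum_congr rfl fun x _ => ?_
      rw [← es]
      simp only [Set.indicator_apply, Set.mem_ofPred_eq, h4, a, map_mul]
      by_cases hx : e x * e x = 1 ∧ e x ≠ 1
      · rw [if_pos hx]
        exact sum_congr rfl fun y _ => if_congr (and_iff_right hx) rfl rfl
      · simp only [hx, false_and, if_false, sum_const_zero]
    have h4 : ∑ x, ∑ y, indFun C (a i) (x * t * x⁻¹ * (y * t * y⁻¹)) = (N : ℂ) ^ 2 *
        ∑ x, ∑ y, {p : G × G | IsConj t p.1 ∧ IsConj t p.2}.indicator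
          (fun p => indFun C (a i) (p.1 * p.2)) (x, y) := by
      rw [sum_conj_eq t fun u => ∑ y, indFun C (a i) (u * (y * t * y⁻¹))]
      simp only [fun u => sum_conj_eq t fun v => indFun C (a i) (u * v)]
      rw [hC, ← mul_sum, sum_filter, ← mul_assoc, ← sq]
      congr 1
      refine sum_congr rfl fun x _ => ?_
      simp only [Set.indicator_apply, Set.mem_ofPred_eq, sum_filter]
      by_cases hx : IsConj t x
      · simp only [hx, true_and, if_true]
      · simp only [hx, false_and, if_false, sum_const_zero]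
    rw [h2, h3] at h4
    have h5 : ∑ x, ∑ y, indFun C (a i) (x * t * x⁻¹ * (y * t * y⁻¹)) =
        (Nat.card G : ℂ) ^ 2 * ∑ χ, m i χ * (χ.1 t ^ 2 / χ.1 1) := by
      rw [sum_comm, hm' i]
      simp only [Finset.sum_apply, Pi.smul_apply, smul_eq_mul]
      simp only [sum_comm (t := (univ : Finset (IrrCharacter G))), ← mul_sum,
        fun (χ : IrrCharacter G) y => χ.2.sum_conj_mul t y, fun (χ : IrrCharacter G) y =>
          χ.2.isClassFunction t y, sum_const, card_univ, ← Nat.card_eq_fintype_card, nsmul_eq_mul]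
      rw [mul_sum]
      exact sum_congr rfl fun χ _ => by ring
    rw [h5] at h4
    have h6 : (Nat.card G : ℂ) = N * C.index := by rw [← hC, ← Nat.cast_mul, card_mul_index]
    have h7 : (Nat.card G : ℂ) * ∑ χ, m i χ * (χ.1 t ^ 2 / χ.1 1) = N * s i := by
      apply mul_left_cancel₀ (card_ne_zero G)
      rw [← mul_assoc, ← sq, h4, h6]
      ring
    simp only [hv, hd'] at h7
    apply Rat.cast_injective (α := ℂ)
    push_cast at h7 ⊢
    exact h7

end Cfsg.Agent.H3
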