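import Cfsg.Agent.H3.Suz

/-! Involution centralizers `D₈` and `GL₂(3)`. -/

set_option autoImplicit false
set_option linter.unusedSectionVars false

namespace Cfsg.Agent.H3

open Cfsg Finset Subgroup Cfsg.Agent.PLoc Cfsg.Agent.Char Cfsg.Agent.Blk
open scoped ComplexConjugate

theorem abs_le_of_three {ι : Type*} [Fintype ι] {m : ι → ℤ} (h : ∑ i, m i * m i = 3) (k : ι) :
    -1 ≤ m k ∧ m k ≤ 1 := by
  have := single_le_sum (f := fun i => m i * m i) (fun i _ => mul_self_nonneg _) (mem_univ k)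
  constructor <;> nlinarith

theorem three_share {ι : Type*} [Fintype ι] {m m' : ι → ℤ} {o : ι} (h1 : m o = 1) (h2 : m' o = 0)
    (h : ∑ i, m i * m i = 3) (h' : ∑ i, m' i * m' i = 3) (h3 : ∑ i, m i * m' i = 1) :
    ∃ a c, a ≠ o ∧ c ≠ o ∧ a ≠ c ∧ (m a = 1 ∨ m a = -1) ∧ (m c = 1 ∨ m c = -1) ∧
      (∀ k, k ≠ o → k ≠ a → k ≠ c → m k = 0) ∧ m' a = 0 ∧ m' c = m c := by
  obtain ⟨a, c, ha, hc, hac, sa, sc, h0⟩ := exists_three h1 h
  rw [sum_three ha hc hac fun k e1 e2 e3 => by rw [h0 k e1 e2 e3, zero_mul], h2] at h3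
  have := abs_le_of_three h' a
  have := abs_le_of_three h' c
  by_cases e : m' a = 0
  · refine ⟨a, c, ha, hc, hac, sa, sc, h0, e, ?_⟩
    rw [e] at h3
    rcases sc with sc | sc <;> rw [sc] at h3 ⊢ <;> omega
  · refine ⟨c, a, hc, ha, hac.symm, sc, sa, fun k e1 e2 e3 => h0 k e1 e3 e2, ?_⟩
    rcases sa with sa | sa <;> rcases sc with sc | sc <;> rw [sa, sc] at h3 <;> omega

/-- The count for a norm three character containing the trivial character. -/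
theorem three_eq {ι : Type*} [Fintype ι] {m d v : ι → ℤ} {o a c : ι} (hd : ∀ i, 0 < d i)
    (h1 : m o = 1) (d1 : d o = 1) (v1 : v o = 1) (ha : a ≠ o) (hc : c ≠ o) (hac : a ≠ c)
    (sa : m a = 1 ∨ m a = -1) (sc : m c = 1 ∨ m c = -1)
    (h0 : ∀ k, k ≠ o → k ≠ a → k ≠ c → m k = 0) (h2 : ∑ i, m i * d i = 0) {p q : ℤ}
    (hp : v a = p * m a) (hq : v c = q * m c) {g s : ℤ}
    (h : (g : ℚ) * ∑ i, m i * ((v i : ℚ) ^ 2 / d i) = s) :
    ∃ y : ℤ, y ≠ 0 ∧ y + 1 ≠ 0 ∧ g * (y * (y + 1) + p ^ 2 * (y + 1) - q ^ 2 * y) = s * (y * (y + 1)) := by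
  rw [sum_three ha hc hac fun k e1 e2 e3 => by simp [h0 k e1 e2 e3]] at h h2
  rw [h1, d1] at h h2
  rw [v1, hp, hq] at h
  have e1 := hd a
  have e2 := hd c
  have e3 : (d a : ℚ) ≠ 0 := by exact_mod_cast e1.ne'
  have e4 : (d c : ℚ) ≠ 0 := by exact_mod_cast e2.ne'
  refine ⟨m a * d a, by rcases sa with sa | sa <;> rw [sa] <;> omega,
    by rcases sc with sc | sc <;> rw [sc] at h2 <;> omega, ?_⟩
  field_simp at h
  have h' := h
  norm_cast at h'
  rcases sa with sa | sa <;> rcases sc with sc | sc <;> rw [sa, sc] at h' h2 <;> rw [sa]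
  · omega
  · rw [show d c = d a + 1 by omega] at h'; linear_combination h'
  · rw [show d c = d a - 1 by omega] at h'; linear_combination h'
  · rw [show d c = 1 - d a by omega] at h'; linear_combination -h'

section D8
open DihedralGroup

def d8T : DihedralGroup 4 → Matrix (Fin 2) (Fin 2) ℤ
  | r i => !![0, -1; 1, 0] ^ i.val
  | sr i => !![1, 0; 0, -1] * !![0, -1; 1, 0] ^ i.val

def d8L : DihedralGroup 4 → Matrix (Fin 1) (Fin 1) ℤ
  | r _ => 1
  | sr _ => -1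

def d8b : Fin 2 → DihedralGroup 4 → ℤ :=
  ![fun k => 1 + (d8L k).trace - (d8T k).trace,
    fun k => (d8T k).trace * (d8T k).trace - 1 - (d8L k).trace - (d8T k).trace]

theorem s0848 {G : Type*} [Group G] [Finite G] (hG : ∀ H : Subgroup G, H.index ≠ 2) (t : G)
    (ht : orderOf t = 2) (e : centralizer ({t} : Set G) ≃* DihedralGroup 4) :
    Nat.card G = 168 ∨ Nat.card G = 360 := by
  have hK : Nat.card (DihedralGroup 4) = 8 := by rw [DihedralGroup.nat_card]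
  obtain ⟨hz, h16, h1⟩ := cent_one_class hG ht e (x := r 1) (z := r 2) (n := 2) (m := 1)
    (orderOf_r_one) hK odd_one (by decide) ⟨2, by decide⟩
  have c1 := (isChar_table (Int.castRingHom ℂ) d8T (by decide) (by decide +kernel)).isGen
  have c2 := (isChar_table (Int.castRingHom ℂ) d8L (by decide) (by decide)).isGen
  obtain ⟨m, d, hd, d1, hΓ, ho, hm, v1, h⟩ := suz (Int.castRingHom ℂ) (by simp) ht h1 e hz d8b
    (Fin.forall_fin_two.2 ⟨by convert (isGen_one.add c2).sub c1 using 2; simp [d8b],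
      by convert (((c1.mul c1).sub isGen_one).sub c2).sub c1 using 2; simp [d8b]⟩)
    (fun i k hk => by_contra fun h => by
      obtain ⟨j, hj⟩ := (by decide +kernel : ∀ i k, d8b i k ≠ 0 → ∃ j : Fin 3, k ^ j.1 = r 2) i k h
      exact hk (hj ▸ pow_mem (mem_zpowers k) _)) hK ![1, 1] (by decide +kernel) ![![3, 1], ![1, 3]]
    (by decide +kernel) ![1, 0] (by decide +kernel) ![32, 0] (by decide +kernel)
  obtain ⟨a, c, ha, hc, hac, sa, sc, h0, e1, e2⟩ := three_share (ho 0) (ho 1) (hΓ 0 0) (hΓ 1 1) (hΓ 0 1)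
  obtain ⟨y, -, -, hy⟩ := three_eq (v := fun χ => ∑ j, ![1, 1] j * m j χ) (p := 1) (q := 2)
    (g := Nat.card G) (s := 256) hd (ho 0) d1 v1 ha hc hac sa sc h0 (hm 0) (by simp [e1])
    (by simp [e2]; ring) (by simpa using (h 0).trans (by norm_num))
  obtain ⟨n, hn⟩ : 8 ∣ Nat.card G := by
    rw [← hK, ← Nat.card_congr e.toEquiv]; exact card_subgroup_dvd_card _
  obtain ⟨k, rfl⟩ : ∃ k, y = k + 1 := ⟨y - 1, by ring⟩
  have h2 : (n : ℤ) * k ^ 2 = 32 * ((k + 1) * (k + 2)) := by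
    rw [hn] at hy; push_cast at hy; linarith
  have h3 : k ∣ 64 := ⟨n * k - 32 * k - 96, by linarith⟩
  have h4 := Int.le_of_dvd (by norm_num) h3
  have h5 := Int.le_of_dvd (by norm_num) ((neg_dvd).2 h3)
  have h6 : -64 ≤ k := by omega
  interval_cases k <;> omega

end D8

section GL23

/-- `GL₂(3)` as quadruples. -/
def G23 := {p : ZMod 3 × ZMod 3 × ZMod 3 × ZMod 3 // p.1 * p.2.2.2 - p.2.1 * p.2.2.1 ≠ 0}

instance : DecidableEq G23 := inferInstanceAs (DecidableEq (Subtype _))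
instance : Fintype G23 := inferInstanceAs (Fintype (Subtype _))

instance : Mul G23 := ⟨fun x y => ⟨(x.1.1 * y.1.1 + x.1.2.1 * y.1.2.2.1,
  x.1.1 * y.1.2.1 + x.1.2.1 * y.1.2.2.2, x.1.2.2.1 * y.1.1 + x.1.2.2.2 * y.1.2.2.1,
  x.1.2.2.1 * y.1.2.1 + x.1.2.2.2 * y.1.2.2.2), fun h =>
    mul_ne_zero x.2 y.2 (Eq.trans (by ring) h)⟩⟩

instance : One G23 := ⟨⟨(1, 0, 0, 1), by decide⟩⟩

def G23.dt (x : G23) : ZMod 3 := x.1.1 * x.1.2.2.2 - x.1.2.1 * x.1.2.2.1

instance : Inv G23 := ⟨fun x => ⟨(x.dt * x.1.2.2.2, -x.dt * x.1.2.1, -x.dt * x.1.2.2.1, x.dt * x.1.1),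
  fun h => mul_ne_zero (mul_ne_zero x.2 x.2) x.2 (Eq.trans (by rw [G23.dt]; ring) h)⟩⟩

theorem G23.mul_val (x y : G23) : (x * y).1 = (x.1.1 * y.1.1 + x.1.2.1 * y.1.2.2.1,
  x.1.1 * y.1.2.1 + x.1.2.1 * y.1.2.2.2, x.1.2.2.1 * y.1.1 + x.1.2.2.2 * y.1.2.2.1,
  x.1.2.2.1 * y.1.2.1 + x.1.2.2.2 * y.1.2.2.2) := rfl

instance : Group G23 := Group.ofLeftAxioms
  (fun a b c => Subtype.ext (by simp only [G23.mul_val, Prod.mk.injEq]; refine ⟨?_, ?_, ?_, ?_⟩ <;> ring))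
  (by decide +kernel) (by decide +kernel)

noncomputable def g23Equiv : GL (Fin 2) (ZMod 3) ≃* G23 where
  toFun A := ⟨(A 0 0, A 0 1, A 1 0, A 1 1), by
    have := A.det_ne_zero; rwa [Matrix.det_fin_two] at this⟩
  invFun x := Matrix.GeneralLinearGroup.mkOfDetNeZero !![x.1.1, x.1.2.1; x.1.2.2.1, x.1.2.2.2]
    (by rw [Matrix.det_fin_two_of]; exact x.2)
  left_inv A := by ext i j; fin_cases i <;> fin_cases j <;> rfl
  right_inv x := rfl
  map_mul' A B := Subtype.ext (Eq.trans (by simp [Matrix.mul_apply, Fin.sum_univ_two])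
    (G23.mul_val _ _).symm)

def g23x : G23 := ⟨(1, 2, 1, 1), by decide⟩
def g23z : G23 := ⟨(2, 0, 0, 2), by decide⟩

def g23c (x : G23) : ℕ := [0, 0, 0, 0, 0, 0, 0, 0, 0, 0, 0, 0, 287906, 117837, 180193, 102693, 210337, 272906, 0, 0,
    0, 287931, 117718, 180287, 102718, 210431, 272787, 0, 210938, 179538, 0, 213585, 229210,
    0, 161413, 177188, 0, 120966, 269782, 102063, 0, 176438, 288532, 214091, 0, 0, 254032,
    136616, 195913, 254663, 0, 194657, 0, 135991, 0, 211086, 179686, 0, 213436, 229211, 0,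
    161414, 177039, 0, 254008, 136592, 195967, 254633, 0, 194711, 0, 135961, 0, 120842,
    269658, 102092, 0, 176533, 288561, 214186, 0].getD
    (27 * x.1.1.val + 9 * x.1.2.1.val + 3 * x.1.2.2.1.val + x.1.2.2.2.val) 0

def g23T (x : G23) : Matrix (Fin 2) (Fin 2) (ℤ√(-2)) := fun i j =>
  ⟨(g23c x / 25 ^ (2 * i.1 + j.1) % 5 : ℕ) - 2, (g23c x / 25 ^ (2 * i.1 + j.1) / 5 % 5 : ℕ) - 2⟩

def g23L (x : G23) : Matrix (Fin 1) (Fin 1) (ℤ√(-2)) := if x.dt = 1 then 1 else -1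

/-- The combinations `χ₃-χ₆, χ₃-χ₇, 1+χ₅-χ₈, χ₂+χ₄-χ₈, 1+χ₆-χ₄`. -/
def g23f {R : Type*} [CommRing R] (s x : R) : Fin 5 → R :=
  ![(s * x * x - 2) * (x * x) - (s + 1) * (s * x * x - 1) - x,
    (s * x * x - 2) * (x * x) - (s + 1) * (s * x * x - 1) - s * x,
    s * x * x - (s * x * x - 2) * x, s * (s * x * x) - (s * x * x - 2) * x, 1 + x - s * (s * x * x - 1)]

def g23b (i : Fin 5) (k : G23) : ℤ√(-2) := g23f (g23L k).trace (g23T k).trace i

theorem gen_g23f {K : Type*} [Group K] {s x : K → ℂ} (hs : IsGeneralizedCharacter K s)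
    (hx : IsGeneralizedCharacter K x) (i : Fin 5) : IsGeneralizedCharacter K (g23f s x i) := by
  have h1 : IsGeneralizedCharacter K 1 := isGen_one
  have h2 : IsGeneralizedCharacter K 2 := one_add_one_eq_two (R := K → ℂ) ▸ h1.add h1
  have h3 := (hs.mul hx).mul hx
  have h4 := ((h3.sub h2).mul (hx.mul hx)).sub ((hs.add h1).mul (h3.sub h1))
  fin_cases i
  exacts [h4.sub hx, h4.sub (hs.mul hx), h3.sub ((h3.sub h2).mul hx),
    (hs.mul h3).sub ((h3.sub h2).mul hx), (h1.add hx).sub (hs.mul (h3.sub h1))]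

noncomputable def phi2 : ℤ√(-2) →+* ℂ := Zsqrtd.lift ⟨Complex.I * (√2 : ℝ), by
  rw [mul_mul_mul_comm, Complex.I_mul_I, ← Complex.ofReal_mul, Real.mul_self_sqrt zero_le_two]
  simp⟩

theorem phi2_star (r : ℤ√(-2)) : phi2 (star r) = conj (phi2 r) := by
  simp [phi2, Zsqrtd.lift_apply_apply]

theorem two_share {ι : Type*} [Fintype ι] {m m' d : ι → ℤ} (hd : ∀ i, 0 < d i)
    (h : ∑ i, m i * m i = 2) (h' : ∑ i, m' i * m' i = 2) (h3 : ∑ i, m i * m' i = 1)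
    (d1 : ∑ i, m i * d i = 0) (d2 : ∑ i, m' i * d i = 0) :
    ∃ (ε : ℤ) (a b c : ι), (ε = 1 ∨ ε = -1) ∧ a ≠ b ∧ a ≠ c ∧ b ≠ c ∧ m a ≠ 0 ∧ m b ≠ 0 ∧ m' c ≠ 0 ∧
      (∀ f : ι → ℤ, ∑ i, m i * f i = ε * (f a - f b)) ∧ (∀ f : ι → ℤ, ∑ i, m' i * f i = ε * (f a - f c)) ∧
      ∀ k, k ≠ a → k ≠ c → m' k = 0 := by
  classical
  have key : ∀ m : ι → ℤ, ∑ i, m i * m i = 2 → ∑ i, m i * d i = 0 → ∃ a b, a ≠ b ∧ m a = 1 ∧
      m b = -1 ∧ (∀ k, k ≠ a → k ≠ b → m k = 0) ∧ ∀ f : ι → ℤ, ∑ i, m i * f i = f a - f b := by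
    intro m h d1
    obtain ⟨a, b, e1, e2, e3, e4⟩ := int_sum_sq_eq_two m (by simpa [sq] using h)
    have e5 : ∀ f : ι → ℤ, ∑ i, m i * f i = m a * f a + m b * f b := fun f =>
      Fintype.sum_eq_add a b e1 fun k hk => by rw [e4 k hk.1 hk.2, zero_mul]
    rw [e5] at d1
    have := hd a
    have := hd b
    rcases e2 with e2 | e2 <;> rcases e3 with e3 | e3 <;> rw [e2, e3] at d1 e5
    · omega
    · exact ⟨a, b, e1, e2, e3, e4, fun f => by rw [e5]; ring⟩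
    · exact ⟨b, a, e1.symm, e3, e2, fun k h1 h2 => e4 k h2 h1, fun f => by rw [e5]; ring⟩
    · omega
  obtain ⟨a, b, e1, e2, e3, e4, e5⟩ := key m h d1
  obtain ⟨a', b', e1', e2', e3', e4', e5'⟩ := key m' h' d2
  rw [e5] at h3
  by_cases ha : a = a'
  · subst ha
    refine ⟨1, a, b, b', .inl rfl, e1, e1', by rintro rfl; omega, by omega, by omega, by omega,
      fun f => by rw [e5, one_mul], fun f => by rw [e5', one_mul], e4'⟩
  · have hb : b = b' := by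
      by_contra hb
      by_cases h1 : a = b' <;> by_cases h2 : b = a'
      · subst h1 h2; omega
      · subst h1; have := e4' b h2 hb; omega
      · subst h2; have := e4' a ha h1; omega
      · have := e4' b h2 hb; have := e4' a ha h1; omega
    subst hb
    refine ⟨-1, b, a, a', .inr rfl, e1.symm, e1'.symm, ha, by omega, by omega, by omega,
      fun f => by rw [e5]; ring, fun f => by rw [e5']; ring, fun k h1 h2 => e4' k h2 h1⟩

theorem vanish3 {ι : Type*} [Fintype ι] {m d : ι → ℤ} (hd : ∀ i, 0 < d i)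
    (h : ∑ i, m i * m i = 3) (d1 : ∑ i, m i * d i = 0) {a b c : ι} (h1 : a ≠ b) (h2 : a ≠ c)
    (h3 : b ≠ c) (e1 : m a = m b) (e2 : m a = m c) : m a = 0 := by
  classical
  by_contra h0
  have h4 : ∀ k, k ≠ a → k ≠ b → k ≠ c → m k = 0 := fun k f1 f2 f3 => by
    have := sum_le_sum_of_subset_of_nonneg (f := fun i => m i * m i) (subset_univ {k, a, b, c})
      fun i _ _ => mul_self_nonneg _
    rw [sum_insert (by simp [f1, f2, f3]), sum_insert (by simp [h1, h2]), sum_pair h3, h, ← e1,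
      ← e2] at this
    have := mul_self_pos.2 h0
    nlinarith
  rw [sum_three h1.symm h2.symm h3 fun k f1 f2 f3 => by rw [h4 k f1 f2 f3, zero_mul], ← e1, ← e2,
    ← mul_add, ← mul_add, mul_eq_zero] at d1
  have := hd a
  have := hd b
  have := hd c
  omega

theorem s0197 {G : Type*} [Group G] [Finite G] (hG : ∀ H : Subgroup G, H.index ≠ 2) (t : G)
    (ht : orderOf t = 2) (e : centralizer ({t} : Set G) ≃* G23) :
    Nat.card G = 5616 ∨ Nat.card G = 7920 := by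
  have hK : Nat.card G23 = 48 := by rw [Nat.card_eq_fintype_card]; decide +kernel
  obtain ⟨hz, h32, h1⟩ := cent_one_class hG ht e (x := g23x) (z := g23z) (n := 3) (m := 3)
    (orderOf_eq_prime_pow (p := 2) (n := 2) (by decide +kernel) (by decide +kernel)) hK (by decide)
    (by decide +kernel) ⟨4, by decide +kernel⟩
  have c1 := (isChar_table phi2 g23T (by decide +kernel) (by decide +kernel)).isGen
  have c2 := (isChar_table phi2 g23L (by decide +kernel) (by decide +kernel)).isGen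
  obtain ⟨m, d, hd, d1, hΓ, ho, hm, v1, h⟩ := suz phi2 phi2_star ht h1 e hz g23b
    (fun i => by convert gen_g23f c2 c1 i using 2; fin_cases i <;> simp [g23b, g23f, map_ofNat])
    (fun i k hk => by_contra fun h => by
      obtain ⟨j, hj⟩ := (by decide +kernel : ∀ i k, g23b i k ≠ 0 → ∃ j : Fin 5,
        k ^ j.1 = g23z) i k h
      exact hk (hj ▸ pow_mem (mem_zpowers k) _)) hK ![0, 2, 3, 1, -2] (by decide +kernel)
    ![![2, 1, 0, 0, -1], ![1, 2, 0, 0, 0], ![0, 0, 3, 1, 1], ![0, 0, 1, 3, -1], ![-1, 0, 1, -1, 3]]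
    (by decide +kernel) ![0, 0, 1, 0, 1] (by decide +kernel) ![0, 0, 192, 192, 96]
    (by decide +kernel)
  obtain ⟨ε, x, x', x'', hε, n1, n2, n3, z1, z2, z3, f1, f2, f3⟩ :=
    two_share hd (hΓ 0 0) (hΓ 1 1) (hΓ 0 1) (hm 0) (hm 1)
  have hε0 : ε ≠ 0 := by omega
  have key : ∀ i, ![0, 0, 1, 1, 0] i = 1 → m i x = 0 ∧ m i x' = 0 ∧ m i x'' = 0 := fun i hi => by
    have g1 := (f1 (m i)).symm.trans (hΓ 0 i)
    have g2 := (f2 (m i)).symm.trans (hΓ 1 i)
    have g3 := hΓ i i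
    have g4 : ε * (m i x - m i x') = 0 ∧ ε * (m i x - m i x'') = 0 ∧ ∑ χ, m i χ * m i χ = 3 := by
      fin_cases i <;> simp at hi <;> exact ⟨g1, g2, g3⟩
    simp only [mul_eq_zero, hε0, false_or, sub_eq_zero] at g4
    have := vanish3 hd g4.2.2 (hm i) n1 n2 n3 g4.1 g4.2.1
    omega
  obtain ⟨k1, k2, k3⟩ := key 2 rfl
  obtain ⟨k4, k5, k6⟩ := key 3 rfl
  have g1 : ε * (m 4 x - m 4 x') = -1 := (f1 (m 4)).symm.trans (hΓ 0 4)
  have g2 : ε * (m 4 x - m 4 x'') = 0 := (f2 (m 4)).symm.trans (hΓ 1 4)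
  have o0 : m 0 (irrOne G) = 0 := ho 0
  have o1 : m 1 (irrOne G) = 0 := ho 1
  have o2 : m 2 (irrOne G) = 1 := ho 2
  have o3 : m 3 (irrOne G) = 0 := ho 3
  obtain ⟨w, hw, hxw, sx, sw, h0, g3, g4⟩ : ∃ w, w ≠ irrOne G ∧ w ≠ x' ∧ (m 4 x' = 1 ∨ m 4 x' = -1) ∧
      (m 4 w = 1 ∨ m 4 w = -1) ∧ (∀ k, k ≠ irrOne G → k ≠ w → k ≠ x' → m 4 k = 0) ∧ m 2 w = 0 ∧
      m 3 w = -m 4 w := by
    obtain ⟨u, w, hu, hw, huw, su, sw, h0⟩ := exists_three (ho 4) (hΓ 4 4)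
    have g3 : ∑ χ, m 4 χ * m 2 χ = 1 := hΓ 4 2
    have g4 : ∑ χ, m 4 χ * m 3 χ = -1 := hΓ 4 3
    rw [sum_three hu hw huw fun k e1 e2 e3 => by rw [h0 k e1 e2 e3, zero_mul], ho 4] at g3 g4
    have g5 : ∀ k, k ≠ irrOne G → m 4 k ≠ 0 → k = u ∨ k = w := fun k e1 e2 => by
      by_contra hc; push Not at hc; exact e2 (h0 k e1 hc.1 hc.2)
    rw [mul_eq_zero, or_iff_right hε0, sub_eq_zero] at g2
    have g6 : m 4 x = 0 := by
      by_contra hc
      rcases g5 x (by rintro rfl; exact z1 o0) hc with rfl | rfl <;>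
        rcases g5 x'' (by rintro rfl; exact z3 o1) (g2 ▸ hc) with rfl | rfl <;> simp_all
    simp only [Matrix.cons_val, o2, o3] at g3 g4
    rcases g5 x' (by rintro rfl; exact z2 o0) (by rintro e; simp [e, g6] at g1) with rfl | rfl
    · refine ⟨w, hw, huw.symm, su, sw, fun k e1 e2 e3 => h0 k e1 e3 e2, ?_⟩
      rw [k2] at g3; rw [k5] at g4
      rcases sw with sw | sw <;> rw [sw] at g3 g4 ⊢ <;> omega
    · refine ⟨u, hu, huw, sw, su, h0, ?_⟩
      rw [k2] at g3; rw [k5] at g4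
      rcases su with su | su <;> rw [su] at g3 g4 ⊢ <;> omega
  obtain ⟨a, c, ha, hc, hac, sa, sc, h2, e1, e2⟩ := three_share o2 o3 (hΓ 2 2) (hΓ 3 3) (hΓ 2 3)
  have g5 : ∀ k, k ≠ irrOne G → m 2 k ≠ 0 → m 1 k = 0 ∧ m 4 k = 0 := fun k e1 e2 =>
    ⟨f3 k (by rintro rfl; omega) (by rintro rfl; omega),
      h0 k e1 (by rintro rfl; omega) (by rintro rfl; omega)⟩
  obtain ⟨y, y0, y1, hy⟩ := three_eq (v := fun χ => ∑ j, ![0, 2, 3, 1, -2] j * m j χ) (p := 3) (q := 4)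
    (g := Nat.card G) (s := 9216) hd o2 d1 v1 ha hc hac sa sc h2 (hm 2)
    (by simp [Fin.sum_univ_succ, e1, g5 a ha (by omega)])
    (by simp [Fin.sum_univ_succ, e2, g5 c hc (by omega)]; ring)
    (by simpa using (h 2).trans (by simp; norm_num))
  obtain ⟨u, -, -, hu⟩ := three_eq (v := fun χ => ∑ j, ![0, 2, 3, 1, -2] j * m j χ) (p := -2) (q := -3)
    (g := Nat.card G) (s := 4608) hd (ho 4) d1 v1 (by rintro rfl; exact z2 o0) hw hxw.symm sx sw
    (fun k e1 e2 e3 => h0 k e1 e3 e2) (hm 4)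
    (by simp [Fin.sum_univ_succ, k2, k5, f3 x' n1.symm n3])
    (by simp [Fin.sum_univ_succ, g3, g4, f3 w (by rintro rfl; omega) (by rintro rfl; omega)]; ring)
    (by simpa using (h 4).trans (by simp; norm_num))
  obtain ⟨n, hn⟩ : 48 ∣ Nat.card G := by
    rw [← hK, ← Nat.card_congr e.toEquiv]; exact card_subgroup_dvd_card _
  obtain ⟨k, rfl⟩ : ∃ k, y = k + 3 := ⟨y - 3, by ring⟩
  rw [hn] at hy hu h32 ⊢
  push_cast at hy hu
  have h3 : (n : ℤ) * k ^ 2 = 192 * ((k + 3) * (k + 4)) := by linarith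
  have h4 : k ∣ 2304 := ⟨n * k - 192 * k - 1344, by linarith⟩
  have h5 : (n : ℤ) % 2 = 1 := by omega
  have h6 : n = 285 ∨ n = 117 ∨ n = 221 ∨ n = 165 := by
    have h7 : k.natAbs ∈ Nat.divisors 2304 := Nat.mem_divisors.2 ⟨Int.natAbs_dvd_natAbs.2 h4, by norm_num⟩
    rw [show Nat.divisors 2304 = {1, 2, 3, 4, 6, 8, 9, 12, 16, 18, 24, 32, 36, 48, 64, 72, 96, 128,
      144, 192, 256, 288, 384, 576, 768, 1152, 2304} by decide +kernel] at h7
    obtain ⟨j, hj, hk⟩ : ∃ j : ℕ, k.natAbs = j ∧ (k = j ∨ k = -j) := ⟨_, rfl, Int.natAbs_eq k⟩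
    rw [hj] at h7
    simp only [mem_insert, mem_singleton] at h7
    clear hy hu h4 hj y0 y1
    rcases h7 with h | h | h | h | h | h | h | h | h | h | h | h | h | h | h | h | h | h | h | h |
      h | h | h | h | h | h | h <;> subst h <;> rcases hk with rfl | rfl <;> norm_num at h3 <;> omega
  rcases h6 with rfl | rfl | rfl | rfl
  · have : (7 * u - 38) * (9 * u - 10) = 0 := by push_cast at hu; linarith
    rcases mul_eq_zero.1 this with h | h <;> omega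
  · omega
  · have : (5 * u - 34) * (25 * u - 26) = 0 := by push_cast at hu; linarith
    rcases mul_eq_zero.1 this with h | h <;> omega
  · omega

end GL23

end Cfsg.Agent.H3
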