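import Cfsg.Agent.Inv.BR2
import Cfsg.Agent.Perm.Prime

/-! No finite group has exactly 21 Sylow 5-subgroups. -/

set_option autoImplicit false
set_option linter.unusedSectionVars false

namespace Cfsg.Agent.H3

open Cfsg Subgroup MulAction Cfsg.Agent.PLoc Cfsg.Agent.Perm Cfsg.Agent.Inv

universe u

variable {G : Type u} [Group G] [Finite G] {p : ℕ} [hp : Fact p.Prime]

theorem card_sylow_quot {K : Subgroup G} [K.Normal]
    (h : ∀ P : Sylow p G, K ≤ normalizer ((P : Subgroup G) : Set G)) :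
    Nat.card (Sylow p (G ⧸ K)) = Nat.card (Sylow p G) := by
  refine (Nat.card_eq_of_bijective _ ⟨fun P Q e => ?_,
    Sylow.mapSurjective_surjective (QuotientGroup.mk'_surjective K) p⟩).symm
  have e1 := congrArg (fun R : Sylow p (G ⧸ K) => (R : Subgroup (G ⧸ K)).comap
    (QuotientGroup.mk' K)) e
  simp only [Sylow.coe_mapSurjective, comap_map_eq, QuotientGroup.ker_mk'] at e1
  have := (isSylowOf_top P).le_of_le_normalizer Q.2 le_top
    ((le_sup_left.trans e1.ge).trans (sup_le le_normalizer (h P)))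
  exact Sylow.ext (Q.is_maximal' P.2 this)

theorem card_sylow_sub {K : Subgroup G} (h : ∀ P : Sylow p G, (P : Subgroup G) ≤ K) :
    Nat.card (Sylow p K) = Nat.card (Sylow p G) := by
  refine (Nat.card_eq_of_bijective (fun P => P.subtype (h P))
    ⟨fun P Q e => Sylow.subtype_injective e, fun Q => ?_⟩).symm
  obtain ⟨P, hP⟩ := (Q.2.map K.subtype).exists_le_sylow
  exact ⟨P, Sylow.ext (Q.is_maximal' (P.subtype (h P)).2 (map_le_iff_le_comap.1 hP))⟩

theorem smul_eq_of_mem {P : Sylow p G} {g : G} (h : g ∈ P) : g • P = P :=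
  Sylow.smul_eq_iff_mem_normalizer.2 (le_normalizer h)

theorem mem_of_smul_eq {P : Sylow p G} {g : G} {k : ℕ} (hg : g ^ p ^ k = 1) (h : g • P = P) :
    g ∈ P :=
  (isSylowOf_top P).le_of_le_normalizer (isPGroup_zpowers hg) le_top
    (zpowers_le.2 (Sylow.smul_eq_iff_mem_normalizer.1 h)) (mem_zpowers g)

theorem eq_of_fix {P Q : Sylow p G} (h : ∀ g ∈ (P : Subgroup G), g • Q = Q) : Q = P :=
  Sylow.ext (P.is_maximal' Q.2 fun g hg =>
    (isPGroup_iff_forall.1 P.2 g hg).elim fun _ e => mem_of_smul_eq e (h g hg))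

theorem ncard_orbit {X : Type*} [MulAction G X] [Finite X] {H : Subgroup G} (hH : IsPGroup p H)
    (a : X) : ∃ k, (orbit H a).ncard = p ^ k := hH.card_orbit a

instance fact5 : Fact (Nat.Prime 5) := ⟨by norm_num⟩
instance fact7 : Fact (Nat.Prime 7) := ⟨by norm_num⟩

theorem orb5 (h : Nat.card (Sylow 5 G) = 21) {H : Subgroup G} (hH : IsPGroup 5 H) {Q : Sylow 5 G}
    {g : G} (hg : g ∈ H) (h1 : g • Q ≠ Q) : (orbit H Q).ncard = 5 := by
  obtain ⟨k, hk⟩ := ncard_orbit hH Q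
  have h2 := Set.ncard_le_card (orbit H Q)
  have h3 : 1 < (orbit H Q).ncard := (Set.one_lt_ncard_iff (Set.toFinite _)).2
    ⟨_, _, mem_orbit Q ⟨g, hg⟩, mem_orbit_self Q, h1⟩
  rw [hk, h] at *
  obtain _ | _ | k := k
  · simp at h3
  · rfl
  · have := pow_pos (show 0 < 5 by norm_num) k
    rw [pow_add, pow_add] at h2
    omega

theorem orb5' (h : Nat.card (Sylow 5 G) = 21) {P Q : Sylow 5 G} (h1 : Q ≠ P) :
    (orbit (P : Subgroup G) Q).ncard = 5 := by
  by_contra h2
  exact h1 (eq_of_fix fun g hg => by_contra fun e => h2 (orb5 h P.2 hg e))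

theorem comm21 (h : Nat.card (Sylow 5 G) = 21) (hf : ∀ g : G, (∀ Q : Sylow 5 G, g • Q = Q) → g = 1)
    (P : Sylow 5 G) {a b : G} (ha : a ∈ P) (hb : b ∈ P) : a * b = b * a := by
  rw [← commutatorElement_eq_one_iff_mul_comm]
  refine hf _ fun Q => ?_
  by_cases e : Q = P
  · exact e ▸ smul_eq_of_mem (commutator_le_self _ (commutator_mem_commutator ha hb))
  · have h1 : (stabilizer (P : Subgroup G) Q).index = 5 := (index_stabilizer _ _).trans (orb5' h e)
    have := normal_of_index_prime P.2 h1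
    exact commutator_le_of_index_prime h1 (commutator_mem_commutator (mem_top (⟨a, ha⟩ : P))
      (mem_top ⟨b, hb⟩))

theorem ti21 (h : Nat.card (Sylow 5 G) = 21) (hf : ∀ g : G, (∀ Q : Sylow 5 G, g • Q = Q) → g = 1)
    {P Q : Sylow 5 G} (h1 : Q ≠ P) {x : G} (hP : x ∈ P) (hQ : x ∈ Q) : x = 1 := by
  by_contra h0
  obtain ⟨k, hk⟩ := isPGroup_iff_forall.1 P.2 x hP
  let L : Subgroup G :=
    { carrier := {g | g * x = x * g ∧ ∀ D : Sylow 5 G, x • D ≠ D → ∃ i : ℤ, x ^ i • D = g • D}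
      one_mem' := ⟨by simp, fun D _ => ⟨0, by simp⟩⟩
      mul_mem' := by
        rintro a b ⟨a1, a2⟩ ⟨b1, b2⟩
        refine ⟨by rw [mul_assoc, b1, ← mul_assoc, a1, mul_assoc], fun D hD => ?_⟩
        obtain ⟨i, hi⟩ := a2 D hD
        obtain ⟨j, hj⟩ := b2 D hD
        refine ⟨j + i, ?_⟩
        rw [zpow_add, mul_smul, mul_smul, hi, ← hj, ← mul_smul, ← mul_smul, (Commute.zpow_right a1 j).eq]
      inv_mem' := by
        rintro a ⟨a1, a2⟩
        refine ⟨(Commute.inv_left a1).eq, fun D hD => ?_⟩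
        obtain ⟨i, hi⟩ := a2 D hD
        refine ⟨-i, ?_⟩
        rw [zpow_neg, eq_inv_smul_iff, ← mul_smul, (Commute.zpow_right a1 i).inv_right.eq, mul_smul, ← hi,
          inv_smul_smul] }
  have hL : ∀ R : Sylow 5 G, x ∈ R → (R : Subgroup G) ≤ L := fun R hR g hg => by
    refine ⟨comm21 h hf R hg hR, fun D hD => ?_⟩
    have := Set.eq_of_subset_of_ncard_le (s := orbit (zpowers x) D) (t := orbit (R : Subgroup G) D)
      (by rintro _ ⟨u, rfl⟩; exact ⟨⟨u, zpowers_le.2 hR u.2⟩, rfl⟩)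
      (by rw [orb5 h (isPGroup_zpowers hk) (mem_zpowers x) hD, orb5 h R.2 hR hD])
    obtain ⟨⟨_, i, rfl⟩, hi⟩ := this.ge (mem_orbit D ⟨g, hg⟩)
    exact ⟨i, hi⟩
  have hL0 : pResOf 5 L ≤ fixingSubgroup G {D : Sylow 5 G | x • D ≠ D} :=
    pResOf_le_iff.2 fun g hg hc => (mem_fixingSubgroup_iff _).2 fun D hD => by
      obtain ⟨i, hi⟩ := hg.2 D hD
      have h2 : g⁻¹ * x ^ i ∈ stabilizer G D := by
        rw [mem_stabilizer_iff, mul_smul, hi, inv_smul_smul]
      have h3 := pow_mem h2 (5 ^ k)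
      rw [(Commute.zpow_right hg.1 i).inv_left.mul_pow, ← zpow_natCast (x ^ i), ← zpow_mul,
        mul_comm i, zpow_mul, zpow_natCast, hk, one_zpow, mul_one, inv_pow, inv_mem_iff] at h3
      exact mem_of_pow_mem_of_coprime h3 (hc.pow_right k)
  have htr : ∀ B C : Sylow 5 G, x • B = B → x • C = C → ∃ l, (∀ D : Sylow 5 G, x • D ≠ D →
      l • D = D) ∧ l • B = C := fun B C hB hC => by
    have b1 := isSylowOf_sylow B (hL B (mem_of_smul_eq hk hB))
    obtain ⟨l, hl, e⟩ := b1.exists_cj_eq (isSylowOf_sylow C (hL C (mem_of_smul_eq hk hC)))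
    rw [← b1.sup_pResOf, sup_comm] at hl
    obtain ⟨y, hy, z, hz, rfl⟩ := (mem_sup_of_le_normalizer_left
      (b1.le.trans (le_normalizer_pResOf L))).1 hl
    refine ⟨y, fun D hD => (mem_fixingSubgroup_iff _).1 (hL0 hy) D hD, Sylow.ext ?_⟩
    rw [coe_smul_sylow, ← e, cj_mul, cj_eq_of_mem hz]
  obtain ⟨D, hD⟩ : ∃ D : Sylow 5 G, x • D ≠ D := by
    by_contra! e
    exact h0 (hf x e)
  have h2 := ncard_modEq (O := {R : Sylow 5 G | x • R = R}) P.2 fun g hg R hR => by
    rw [Set.mem_ofPred, ← mul_smul, comm21 h hf P hP hg, mul_smul, hR]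
  rw [show {R : Sylow 5 G | x • R = R} ∩ fixedPoints (P : Subgroup G) (Sylow 5 G) = {P} from
    Set.eq_singleton_iff_unique_mem.2 ⟨⟨smul_eq_of_mem hP, fun g => smul_eq_of_mem g.2⟩,
      fun R hR => eq_of_fix fun g hg => hR.2 ⟨g, hg⟩⟩, Set.ncard_singleton] at h2
  have h3 : 1 < {R : Sylow 5 G | x • R = R}.ncard := (Set.one_lt_ncard_iff (Set.toFinite _)).2
    ⟨_, _, smul_eq_of_mem hQ, smul_eq_of_mem hP, h1⟩
  have h4 := ncard_modEq (O := {R : Sylow 5 G | x • R = R}) D.2 fun r hr B hB => by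
    by_contra e
    have h5 : {R : Sylow 5 G | x • R = R} ⊆ orbit (D : Subgroup G) (r • B) := fun C hC => by
      obtain ⟨l, l1, l2⟩ := htr B C hB hC
      refine ⟨⟨l * r⁻¹ * l⁻¹, conj_mem_of_mem_normalizer
        (Sylow.smul_eq_iff_mem_normalizer.1 (l1 D hD)) (inv_mem hr)⟩, ?_⟩
      simp only [Subgroup.mk_smul, mul_smul]
      rw [inv_smul_eq_iff.2 (l1 _ e).symm, inv_smul_smul, l2]
    have h6 := Set.ncard_le_ncard h5
    rw [orb5' h fun e1 => hD (by
      rw [← smul_left_cancel r (e1.trans (smul_eq_of_mem hr).symm)]; exact hB)] at h6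
    unfold Nat.ModEq at h2
    omega
  rw [show {R : Sylow 5 G | x • R = R} ∩ fixedPoints (D : Subgroup G) (Sylow 5 G) = ∅ from
    Set.eq_empty_of_forall_notMem fun R hR =>
      hD ((eq_of_fix fun g hg => hR.2 ⟨g, hg⟩) ▸ hR.1), Set.ncard_empty] at h4
  unfold Nat.ModEq at h2 h4
  omega

theorem fix21 (h : Nat.card (Sylow 5 G) = 21) (hf : ∀ g : G, (∀ Q : Sylow 5 G, g • Q = Q) → g = 1)
    (h2 : ∀ H : Subgroup G, H.index ≠ 2) {P Q : Sylow 5 G} {x t : G} (hP : zpowers x = P)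
    (hc : t * x = x * t) (ht : orderOf t = 2) (hQ : t • Q = Q) : Q = P := by
  classical
  by_contra h1
  have := Fintype.ofFinite (Sylow 5 G)
  have hx : x ∈ P := hP.le (mem_zpowers x)
  have h3 := ncard_modEq (O := {R : Sylow 5 G | t • R = R}) P.2 fun g hg R hR => by
    obtain ⟨i, rfl⟩ := hP.ge hg
    rw [Set.mem_ofPred, ← mul_smul, (Commute.zpow_right hc i).eq, mul_smul, hR]
  have hPt : t • P = P := Sylow.ext (by rw [coe_smul_sylow, ← hP, cj_zpowers, hc]; simp)
  rw [show {R : Sylow 5 G | t • R = R} ∩ fixedPoints (P : Subgroup G) (Sylow 5 G) = {P} from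
    Set.eq_singleton_iff_unique_mem.2 ⟨⟨hPt, fun g => smul_eq_of_mem g.2⟩,
      fun R hR => eq_of_fix fun g hg => hR.2 ⟨g, hg⟩⟩, Set.ncard_singleton] at h3
  have h4 : 1 < {R : Sylow 5 G | t • R = R}.ncard := (Set.one_lt_ncard_iff (Set.toFinite _)).2
    ⟨_, _, hQ, hPt, h1⟩
  have h5 : {R : Sylow 5 G | t • R = R}.ncard < 21 := h ▸ Set.ncard_lt_card fun e => by
    rw [hf t fun R => e.ge (Set.mem_univ R)] at ht
    simp at ht
  have t2 : t ^ 2 = 1 := ht ▸ pow_orderOf_eq_one t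
  have h6 := ncard_modEq_elt (O := (Set.univ : Set (Sylow 5 G))) t2 fun _ _ => trivial
  rw [Set.univ_inter, Set.ncard_univ, h] at h6
  have h7 := Equiv.Perm.sign_of_pow_two_eq_one (σ := toPermHom G (Sylow 5 G) t)
    (by rw [← map_pow, t2, map_one])
  rw [Fintype.card_eq_nat_card, Fintype.card_eq_nat_card, h] at h7
  change _ = (-1) ^ ((21 - {R : Sylow 5 G | t • R = R}.ncard) / 2) at h7
  rw [show {R : Sylow 5 G | t • R = R}.ncard = 11 by unfold Nat.ModEq at h3 h6; omega] at h7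
  refine h2 (Equiv.Perm.sign.comp (toPermHom G (Sylow 5 G))).ker ?_
  rw [index_ker, MonoidHom.range_eq_top.2 fun u => (Int.units_eq_one_or u).elim
    (fun e => ⟨1, e ▸ map_one _⟩) fun e => ⟨t, h7.trans (by rw [e]; decide)⟩]
  simp

theorem not21_aux (h : Nat.card (Sylow 5 G) = 21)
    (hf : ∀ g : G, (∀ Q : Sylow 5 G, g • Q = Q) → g = 1) (h2 : ∀ H : Subgroup G, H.index ≠ 2) :
    False := by
  obtain ⟨P⟩ : Nonempty (Sylow 5 G) := inferInstance
  have := Finite.one_lt_card_iff_nontrivial.1 (by omega : 1 < Nat.card (Sylow 5 G))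
  obtain ⟨Q, hQ⟩ := exists_ne P
  have hP : Nat.card P = 5 := by
    have := (stabilizer (P : Subgroup G) Q).index_mul_card
    rwa [index_stabilizer, orb5' h hQ, (eq_bot_iff_forall (stabilizer (P : Subgroup G) Q)).2 fun g hg => Subtype.ext
      (ti21 h hf hQ g.2 ((isPGroup_iff_forall.1 P.2 g g.2).elim fun _ e => mem_of_smul_eq e hg)),
      card_bot, eq_comm] at this
  obtain ⟨x, hx, hxP⟩ := syl1_of_sylow P hP
  have hN : (normalizer (zpowers x : Set G)).index = 21 := hx.card_sylow.symm.trans h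
  have hst : ∀ g, g • P = P ↔ g ∈ normalizer (zpowers x : Set G) := fun g => by
    rw [hxP]; exact Sylow.smul_eq_iff_mem_normalizer
  obtain ⟨f, f1, -, f2⟩ := exists_autHom hx.ord
  have f3 : ∀ n, f n = 1 ↔ (n : G) ∈ centralizer {x} := fun n => by
    rw [← MonoidHom.mem_ker, f2, mem_subgroupOf]
  -- strong closure
  have hsc : ∀ s ∈ centralizer {x}, (∃ k, s ^ 2 ^ k = 1) → ∀ g, g * s * g⁻¹ ∈
      normalizer (zpowers x : Set G) → g * s * g⁻¹ ∈ centralizer {x} := by
    intro s hs ⟨k, hk⟩ g hg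
    by_cases h0 : s = 1
    · simp [h0]
    obtain ⟨t, ht, t2⟩ := exists_mem_orderOf_eq_prime (H := zpowers s) Nat.prime_two
      ((isPGroup_zpowers hk).card_eq_or_dvd.resolve_left fun e => h0 (by simpa using e))
    have h3 : g⁻¹ • P = P := fix21 h hf h2 hxP
      (mem_centralizer_singleton_iff.1 (zpowers_le.2 hs ht)) t2 (by
        refine zpowers_le.2 (show s ∈ stabilizer G _ from ?_) ht
        rw [mem_stabilizer_iff, eq_inv_smul_iff, ← mul_smul, ← mul_smul]
        exact (hst _).2 hg)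
    rw [← centralizer_zpowers] at hs ⊢
    exact conj_mem_of_mem_normalizer (normalizer_le_normalizer_centralizer _
      ((inv_mem_iff).1 ((hst _).1 h3))) hs
  obtain ⟨S, hS⟩ := exists_isSylowOf 2 (normalizer (zpowers x : Set G))
  obtain ⟨S, rfl⟩ := IsSylowOf.exists_sylow_top (P := S) ⟨le_top, hS.isP, by
    rw [relIndex_top_right, ← relIndex_mul_index hS.le, hN]
    exact fun e => ((Nat.prime_two.dvd_mul).1 e).elim hS.not_dvd (by norm_num)⟩
  have hS2 := isPGroup_iff_forall.1 S.2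
  have key : ∀ j : ℕ, (∀ s : (S : Subgroup G), f ⟨s, hS.le s.2⟩ ^ (2 * j) = 1) →
      ∀ s : (S : Subgroup G), f ⟨s, hS.le s.2⟩ ^ j = 1 := fun j hj s => by
    let T := (((powMonoidHom j).comp f).ker.map (Subgroup.subtype _))
    have hT : ∀ s (hs : s ∈ normalizer (zpowers x : Set G)), s ∈ T ↔ f ⟨s, hs⟩ ^ j = 1 :=
      fun s hs => mem_map_iff_mem (x := ⟨s, hs⟩) (Subgroup.subtype_injective _)
    refine (hT _ _).1 ((?_ : (S : Subgroup G) ≤ T) s.2)
    refine (le_inf ((le_inf le_rfl (le_top.trans (no_index_two_iff.1 h2).ge)).trans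
      (inf_pResidual_le_commutator S.2)) le_rfl).trans ?_
    rw [commutator_inf_eq_focalSubgroup, focalSubgroup_def, closure_le]
    rintro _ ⟨h3, a, ha, u, rfl⟩
    have hb : u * a⁻¹ * u⁻¹ ∈ (S : Subgroup G) := by
      simpa [commutatorElement_def, mul_assoc] using mul_mem (inv_mem ha) h3
    have e1 := hj ⟨a, ha⟩
    have e2 := hj ⟨_, hb⟩
    have e3 : f ⟨a, hS.le ha⟩ ^ j = 1 ↔ f ⟨_, hS.le hb⟩ ^ j = 1 := by
      rw [← map_pow, ← map_pow, f3, f3]
      simp only [SubmonoidClass.mk_pow]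
      constructor <;> intro e
      · rw [conj_pow, inv_pow]
        exact hsc _ (inv_mem e) (hS2 _ (inv_mem (pow_mem ha j))) u
          (by simpa using pow_mem (hS.le hb) j)
      · have e4 : u⁻¹ * (u * a⁻¹ * u⁻¹) ^ j * u⁻¹⁻¹ = (a ^ j)⁻¹ := by
          rw [conj_pow, inv_pow]; group
        exact inv_mem_iff.1 (e4 ▸ hsc _ e (hS2 _ (pow_mem hb j)) u⁻¹
          (e4 ▸ inv_mem (pow_mem (hS.le ha) j)))
    rw [SetLike.mem_coe, hT _ (hS.le h3), show (⟨_, hS.le h3⟩ : normalizer (zpowers x : Set G))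
      = ⟨a, hS.le ha⟩ * ⟨_, hS.le hb⟩ from Subtype.ext (by simp [commutatorElement_def, mul_assoc]),
      map_mul, mul_pow]
    rw [mul_comm, pow_mul] at e1 e2
    revert e1 e2 e3
    generalize f ⟨a, hS.le ha⟩ ^ j = y
    generalize f ⟨_, hS.le hb⟩ ^ j = z
    revert y z
    decide
  have h4 : ∀ y : (ZMod 5)ˣ, y ^ (2 * 2) = 1 := by decide
  have h5 : (S : Subgroup G) ≤ centralizer {x} := fun s hs =>
    (f3 ⟨s, hS.le hs⟩).1 (by simpa using key 1 (key 2 fun _ => h4 _) ⟨s, hs⟩)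
  have h6 : normalizer (zpowers x : Set G) ≤ centralizer {x} := by
    have e1 := card_autSub_dvd hx.ord
    rw [card_autSub, show 5 - 1 = 2 ^ 2 from rfl, Nat.dvd_prime_pow Nat.prime_two] at e1
    obtain ⟨i, -, hi⟩ := e1
    rw [← hS.sup_eq_of_relIndex hx.cent_le ⟨i, hi⟩]
    exact sup_le h5 le_rfl
  have h7 := hx.sylow.npc_of_burnside (inf_le_right.trans (h6.trans_eq (centralizer_zpowers x).symm))
  obtain ⟨R, hR, hR1⟩ := Core.exists_invariant_isSylowIn (A := zpowers x) (K := pResOf 5 ⊤)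
    le_normalizer_of_normal (coprime_card_of_isPGroup hx.isP (npc_iff_coprime.1 h7)).symm
    (Or.inl inferInstance) 7
  have h8 := card_modEq_card_inf_centralizer hx.isP hR1
  have h9 := card_stab_mul R P
  rw [show R ⊓ stabilizer G P = R ⊓ centralizer (zpowers x : Set G) by
    rw [centralizer_zpowers, le_antisymm hx.cent_le h6]
    exact congrArg _ (ext hst)] at h9
  obtain ⟨k, hk⟩ := hR.2.1.card_orbit P
  have h10 : Nat.card (orbit R P) ≤ 21 := h ▸ Set.ncard_le_card (orbit R P)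
  rw [hk] at h9 h10
  obtain _ | _ | k := k
  · have h11 : R ≤ normalizer (zpowers x : Set G) :=
      (inf_eq_left.1 (eq_of_le_of_card_ge inf_le_left (by simpa using h9.ge))).trans
        ((centralizer_zpowers x).le.trans hx.cent_le)
    have h12 : 7 ∣ R.index := by
      rw [← relIndex_mul_index h11, hN]
      exact Dvd.dvd.mul_left (by norm_num) _
    obtain ⟨j, hj⟩ := index_pResidual (p := 5) (G := G)
    rw [← relIndex_mul_index hR.1, pResOf_top, hj, fact7.1.dvd_mul] at h12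
    exact h12.elim (pResOf_top (G := G) ▸ hR.2.2) fun e => by
      have := fact7.1.dvd_of_dvd_pow e
      omega
  · obtain ⟨j, hj⟩ := IsPGroup.iff_card.1 hR.2.1
    have : 5 ∣ 7 ^ j := by
      unfold Nat.ModEq at h8
      omega
    have := fact5.1.dvd_of_dvd_pow this
    omega
  · have := pow_pos (show 0 < 7 by norm_num) k
    rw [pow_add, pow_add] at h10
    omega

theorem not21 (n : ℕ) : ∀ (G : Type u) [Group G] [Finite G], Nat.card G = n →
    Nat.card (Sylow 5 G) ≠ 21 := by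
  induction n using Nat.strong_induction_on with
  | _ n ih =>
    intro G _ _ hn h
    refine not21_aux h (fun g hg => by_contra fun e => ?_) fun H hH => ?_
    · let K := (toPermHom G (Sylow 5 G)).ker
      have h1 : g ∈ K := Equiv.ext hg
      exact ih _ (hn ▸ card_quotient_lt (N := K) fun e1 => e (mem_bot.1 (e1 ▸ h1))) _ rfl
        ((card_sylow_quot fun P k hk => Sylow.smul_eq_iff_mem_normalizer.1
          (DFunLike.congr_fun (MonoidHom.mem_ker.1 hk) P)).trans h)
    · have := normal_of_index_eq_two hH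
      refine ih _ (hn ▸ card_lt_of_ne_top (H := H) fun e => by simp [e] at hH) _ rfl
        ((card_sylow_sub fun P g hg => ?_).trans h)
      obtain ⟨k, hk⟩ := IsPGroup_orderOf P.2 hg
      exact mem_of_pow_mem_of_coprime (H.pow_index_mem g)
        (by rw [hk, hH]; exact Nat.Coprime.pow_left _ (by norm_num))

end Cfsg.Agent.H3
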