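import Cfsg.Agent.H3.Sph

/-! Principal blocks of defect one with one or two exceptional characters; congruences. -/

set_option autoImplicit false
set_option linter.unusedVariables false
set_option linter.unusedSectionVars false

namespace Cfsg.Agent.H3

open Finset Subgroup Cfsg.Agent.PLoc Cfsg.Agent.Char Cfsg.Agent.Blk Cfsg.Agent.Inv Cfsg.Agent.H9
open scoped ComplexConjugate

universe u

def parts : List ℕ → ℕ → List (List ℕ)
  | [], n => if n = 0 then [[]] else []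
  | c :: cs, n => (List.range (n / c + 1)).flatMap fun j =>
      (parts cs (n - j * c)).map (List.replicate j c ++ ·)

theorem exists_parts (C : List ℕ) : ∀ (s : Multiset ℕ), (∀ a ∈ s, a ∈ C ∧ 0 < a) →
    ∃ l ∈ parts C s.sum, (l : Multiset ℕ) = s := by
  induction C with
  | nil =>
    intro s h1
    obtain rfl : s = 0 := Multiset.eq_zero_of_forall_notMem fun a ha => by simpa using h1 a ha
    exact ⟨[], by simp [parts], rfl⟩
  | cons c cs ih =>
    intro s h1
    have e := Multiset.filter_add_not (· = c) s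
    rw [Multiset.filter_eq'] at e
    have e2 := congrArg Multiset.sum e
    simp only [Multiset.sum_add, Multiset.sum_replicate, smul_eq_mul] at e2
    obtain ⟨l, hl, hl'⟩ := ih (s.filter fun a => ¬ a = c) fun a ha => by
      have := Multiset.mem_filter.1 ha
      exact ⟨(List.mem_cons.1 (h1 a this.1).1).resolve_left this.2, (h1 a this.1).2⟩
    refine ⟨List.replicate (s.count c) c ++ l, ?_, ?_⟩
    · simp only [parts, List.mem_flatMap, List.mem_range]
      refine ⟨s.count c, Nat.lt_succ_of_le ?_, List.mem_map.2 ⟨l, by convert hl; omega, rfl⟩⟩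
      rcases Nat.eq_zero_or_pos (s.count c) with h | h
      · exact h ▸ Nat.zero_le _
      · exact (Nat.le_div_iff_mul_le (h1 c (Multiset.count_pos.1 h)).2).2 (by omega)
    · rw [← Multiset.coe_add, hl', Multiset.coe_replicate, e]

def btB (q Q : ℕ) (L : List ℤ) (f : ℤ) : Bool := L.sublists.any fun S =>
  S.all (fun a => !isPw q a) && ((1 + S.sum) % Q == 0 || !isPw q f && (1 + S.sum - f) % Q == 0)

variable {G : Type u} [Group G] [Finite G]

theorem cong (p : ℕ) [Fact p.Prime] {χ : G → ℂ} (hχ : IsCharacter G χ) {x y : G} (hc : Commute x y)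
    {k : ℕ} (hx : orderOf x = p ^ k) {a b : ℤ} (ha : χ (x * y) = a) (hb : χ y = b) :
    (p : ℤ) ∣ a - b := by
  obtain ⟨M, hM⟩ := exists_PMod p
  have := char_mul_sub_mem (M := M) hχ hc ⟨k, hx⟩
  rwa [ha, hb, ← Int.cast_sub, intCast_mem_LP] at this

theorem cong1 (p : ℕ) [Fact p.Prime] (χ : IrrCharacter G) {x : G} {k : ℕ} (hx : orderOf x = p ^ k)
    {a : ℤ} (ha : χ.1 x = a) : (p : ℤ) ∣ a - charDegree χ.1 :=
  cong p χ.2.isCharacter (Commute.one_right x) hx (by rw [mul_one, ha]) (by simp [irr_one_eq])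

theorem mod4 [IsSimpleGroup G] (hG : ¬ IsMulCommutative G) (χ : IrrCharacter G) {t : G}
    (ht : orderOf t = 2) : ∃ a : ℤ, χ.1 t = a ∧ 4 ∣ charDegree χ.1 - a := by
  obtain ⟨n, m, h1, h2⟩ := (χ.2.isCharacter.restrict (zpowers t)).exists_sum_hom_of_comm
    (fun a b => (inferInstance : IsMulCommutative (zpowers t)).is_comm.comm a b)
  have e1 := detHom_restrict χ.2.isCharacter (zpowers t) ⟨t, mem_zpowers t⟩
  rw [detHom_of_sum_hom m h2, hom_eq_one hG] at e1
  have h3 : ∀ i, ∃ a : ℤ, (a = 1 ∨ a = -1) ∧ (m i ⟨t, mem_zpowers t⟩ : ℂ) = a := fun i => by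
    have := hom_pow_orderOf (m i) ⟨t, mem_zpowers t⟩
    rw [← Subgroup.orderOf_coe, ht, sq_eq_one_iff] at this
    exact this.elim (fun e => ⟨1, .inl rfl, by simp [e]⟩) fun e => ⟨-1, .inr rfl, by simp [e]⟩
  choose a a1 a2 using h3
  have h4 : ∀ s : Finset (Fin n), 4 ∣ s.card - ∑ i ∈ s, a i - (1 - ∏ i ∈ s, a i) ∧
      (∏ i ∈ s, a i = 1 ∨ ∏ i ∈ s, a i = -1) := fun s => by
    induction s using Finset.induction_on with
    | empty => simp
    | insert i s hi ih =>
      rw [sum_insert hi, prod_insert hi, card_insert_of_notMem hi]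
      rcases a1 i with e | e <;> rw [e] <;> omega
  have e2 := congrArg Units.val e1
  simp only [Units.coe_prod, a2, Units.val_one] at e2
  refine ⟨∑ i, a i, by simpa [a2] using h2 ⟨t, mem_zpowers t⟩, ?_⟩
  simpa [charDegree_eq h1, show ∏ i, a i = 1 by exact_mod_cast e2] using (h4 univ).1

theorem int_of_uniq {χ : IrrCharacter G}
    (h : ∀ ψ : IrrCharacter G, charDegree ψ.1 = charDegree χ.1 → ψ = χ) (g : G) :
    ∃ n : ℤ, χ.1 g = n := exists_int_of_fixed (χ.2.isCharacter.isIntegral g) fun σ =>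
  congrFun (congrArg Subtype.val (h ⟨_, χ.2.map_ringHom σ⟩
    (charDegree_eq (by simp [irr_one_eq])))) g

theorem abs_lt_deg [IsSimpleGroup G] (hG : ¬ IsMulCommutative G) {χ : IrrCharacter G}
    (h : χ ≠ irrOne G) {g : G} (hg : g ≠ 1) {a : ℤ} (ha : χ.1 g = a) : |a| < charDegree χ.1 := by
  have := lt_of_le_of_ne (χ.2.isCharacter.norm_le g) (mt (eq_one_of_norm hG h) hg)
  rw [ha, irr_one_eq, Complex.norm_intCast, Complex.norm_natCast] at this
  exact_mod_cast this

theorem sq_le {l : List (IrrCharacter G)} (hl : l.Nodup) {g : G} {w : IrrCharacter G → ℤ}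
    (h : ∀ χ ∈ l, χ.1 g = w χ) :
    (l.map fun χ => w χ ^ 2).sum ≤ Nat.card (centralizer ({g} : Set G)) := by
  classical
  have h1 := sum_le_sum_of_subset_of_nonneg (f := fun χ : IrrCharacter G => ‖χ.1 g‖ ^ 2)
    (subset_univ l.toFinset) fun _ _ _ => by positivity
  rw [sum_irr_norm_sq, sum_congr rfl (g := fun χ => ((w χ ^ 2 : ℤ) : ℝ)) fun χ hχ => by
    rw [h χ (List.mem_toFinset.1 hχ)]; simp, ← Int.cast_sum, List.sum_toFinset _ hl] at h1
  exact_mod_cast h1

theorem exists_dec [Fintype G] {σ : G → ℂ} (hσ : IsCharacter G σ) {n : ℕ} (hn : σ 1 = n)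
    {C : List ℕ} (hC : ∀ χ : IrrCharacter G, classInner σ χ ≠ 0 → charDegree χ.1 ≤ n →
      charDegree χ.1 ∈ C) : ∃ l : List (IrrCharacter G), (∀ g, σ g = (l.map (·.1 g)).sum) ∧
      (∀ χ ∈ l, classInner σ χ ≠ 0) ∧ l.map (charDegree ·.1) ∈ parts C n ∧
      (l.map (charDegree ·.1)).sum = n := by
  obtain ⟨l, h1, h2⟩ : ∃ l : List (IrrCharacter G), (∀ g, σ g = (l.map (·.1 g)).sum) ∧
      ∀ χ ∈ l, classInner σ χ ≠ 0 := by
    refine hσ.induction_on (P := fun σ => ∃ l : List (IrrCharacter G),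
      (∀ g, σ g = (l.map (·.1 g)).sum) ∧ ∀ χ ∈ l, classInner σ χ ≠ 0) ⟨[], by simp⟩
      (fun ψ h => ⟨[⟨ψ, h⟩], by simp [h.classInner_self]⟩) ?_
    rintro φ ψ a1 a2 ⟨l, h1, h2⟩ ⟨l', h3, h4⟩
    refine ⟨l ++ l', by simp [h1, h3], fun χ hχ => (List.mem_append.1 hχ).elim (fun h =>
      classInner_add_ne_zero_left a1 a2 χ.2.isCharacter (h2 χ h)) fun h => ?_⟩
    rw [add_comm]
    exact classInner_add_ne_zero_left a2 a1 χ.2.isCharacter (h4 χ h)
  have h3 : (l.map (charDegree ·.1)).sum = n := by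
    apply Nat.cast_injective (R := ℂ)
    rw [← hn, h1, Nat.cast_list_sum, List.map_map]
    simp only [irr_one_eq]
    rfl
  obtain ⟨L, h4, h5⟩ := exists_parts C (l.map (charDegree ·.1)) fun a ha => by
    obtain ⟨χ, hχ, rfl⟩ := List.mem_map.1 (Multiset.mem_coe.1 ha)
    exact ⟨hC χ (h2 χ hχ) (h3 ▸ List.le_sum_of_mem (List.mem_map_of_mem hχ)), deg_pos χ⟩
  obtain ⟨l', rfl, h6⟩ := (congrFun₂ (List.eq_map_comp_perm _) L l).mpr (Multiset.coe_eq_coe.1 h5)
  exact ⟨l', fun g => (h1 g).trans (h6.map _).sum_eq.symm, fun χ h => h2 χ (h6.subset h),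
    by rwa [Multiset.sum_coe, h3] at h4, (h6.map _).sum_eq.trans h3⟩

/-- a self-centralising Sylow subgroup of prime order with two classes of generators -/
structure T2 (p : ℕ) (l : List (IrrCharacter G)) (s : IrrCharacter G → ℤ) (ε : ℤ)
    (μ ν : IrrCharacter G) : Prop where
  nodup : (irrOne G :: μ :: ν :: l).Nodup
  sgn : ∀ χ ∈ l, s χ = 1 ∨ s χ = -1
  eps : ε = 1 ∨ ε = -1
  val : ∀ χ ∈ l, ∀ g, orderOf g = p → χ.1 g = s χ
  out : ∀ χ, χ ∉ irrOne G :: μ :: ν :: l → p ∣ charDegree χ.1 ∧ ∀ g, orderOf g = p → χ.1 g = 0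
  reg : ∀ g, orderOf g ≠ p → 1 + (l.map fun χ => s χ * χ.1 g).sum = ε * μ.1 g ∧ ν.1 g = μ.1 g
  bt : ∀ (q k : ℕ), q.Prime → q ≠ p → q ^ k ∣ Nat.card G → ∃ P : IrrCharacter G → Bool,
    (∀ χ, χ ≠ irrOne G → P χ → ¬ charDegree χ.1 ∣ q ^ 13) ∧
    (∀ g, q ∣ orderOf g → 1 + ((l.filter P).map fun χ => s χ * χ.1 g).sum =
      if P μ then ε * μ.1 g else 0) ∧
    (q ^ k : ℤ) ∣ 1 + ((l.filter P).map fun χ => s χ * charDegree χ.1).sum -
      if P μ then ε * charDegree μ.1 else 0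

section
variable [IsSimpleGroup G] {p : ℕ} [hp : Fact p.Prime] {x : G}

theorem SC_all (h : SC p x) {g : G} (hg : p ∣ orderOf g) : ∃ i : ZMod p, i ≠ 0 ∧ IsConj g (pw x i) := by
  obtain ⟨i, h1, v, h2, h3⟩ := h.syl1.exists_conj hg
  rw [card_eq_one.1 (card_Vc_sc h), mem_bot] at h2
  exact ⟨i, h1, by simpa [h2] using h3⟩

theorem exists_T2 (hG : ¬ IsMulCommutative G) {n : ℕ} (hn : Nat.card G = n) {Dv : List ℕ}
    (hD : ∀ d, d ∣ n → d ∈ Dv) {Q : ℕ → Bool}
    (hQ : ∀ χ : IrrCharacter G, χ ≠ irrOne G → Q (charDegree (χ : G → ℂ)) = true)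
    (h : SC p x) (he : 2 * Nat.card (autSub h.ord) + 1 = p) : ∃ l s ε μ ν, T2 p l s ε μ ν ∧
      (1, Nat.card (autSub h.ord), (Nx x).index, l.map fun χ : IrrCharacter G => s χ * charDegree χ.1) ∈
        trees2 n p Dv Q fun v => v == 1 := by
  classical
  obtain ⟨M, hM⟩ := exists_PMod p
  obtain ⟨N, δ, ε, μ, D⟩ := h.syl1.exists_D1 (M := M)
  obtain ⟨L, h1, h2, hL⟩ := tree_mem2 hG hn hD hQ (R := fun v => v == 1) (by simp [card_Vc_sc h]) D
  obtain ⟨l, l1, l2, rfl⟩ := exists_list h1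
  have h3 : (univ.image μ).card = 2 := by
    have := e_mul_t h.ord
    have := D.two_le hG
    rw [D.card_exc]
    nlinarith
  obtain ⟨ν, h4⟩ : ∃ ν, ν ≠ μ 1 ∧ univ.image μ = {μ 1, ν} := by
    obtain ⟨a, b, h4, h5⟩ := card_eq_two.1 h3
    rcases mem_insert.1 (h5 ▸ mem_image_of_mem μ (mem_univ 1)) with e | e
    · exact ⟨b, e ▸ h4.symm, e ▸ h5⟩
    · exact ⟨a, mem_singleton.1 e ▸ h4, by rw [h5, mem_singleton.1 e, pair_comm]⟩
  obtain ⟨j, -, rfl⟩ := mem_image.1 (h4.2.ge (mem_insert_of_mem (mem_singleton_self ν)))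
  have l3 : ∀ χ, χ ∈ l ↔ χ ≠ irrOne G ∧ χ ∈ N := fun χ => by
    rw [← List.mem_toFinset, l2, mem_erase]
  have l4 : ∀ {A : Type} [CommRing A] (P : IrrCharacter G → Prop) [DecidablePred P]
      (F : IrrCharacter G → A),
      P (irrOne G) → F (irrOne G) = 1 → ∑ χ ∈ N.filter P, δ χ * F χ =
      1 + ((l.filter fun χ => decide (P χ)).map fun χ => δ χ * F χ).sum := fun P _ F h1 h2 => by
    rw [← List.sum_toFinset _ (l1.filter _), List.toFinset_filter, l2, filter_erase,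
      ← add_sum_erase _ _ (mem_filter.2 ⟨D.one_mem, h1⟩), D.δ_one, h2]
    simp
  have hr : ∀ g : G, p ∣ orderOf g → orderOf g = p := fun g hg => by
    obtain ⟨i, h1, h2⟩ := SC_all h hg
    rw [ord_conj h2, orderOf_pw h.ord h1]
  refine ⟨l, δ, ε, μ 1, μ j, ⟨?_, fun χ hχ => D.δ_val χ ((l3 χ).1 hχ).2, D.ε_val, fun χ hχ g hg => ?_,
    fun χ hχ => ?_, fun g hg => ⟨?_, exc_reg D (mt (hr g) hg) j⟩, fun q k hq qp hk => ?_⟩,
    card_Vc_sc h ▸ hL⟩
  · simp [l1, l3, (D.ne_one _).symm, h4.1.symm, D.exc_not]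
  · obtain ⟨i, h1, h2⟩ := SC_all h hg.symm.dvd
    rw [χ.2.isClassFunction.of_isConj h2, D.apply_N χ ((l3 χ).1 hχ).2 i h1]
  · have : χ ∉ PB M G := by
      rw [D.PB_eq, h4.2]
      simp only [List.mem_cons, l3, not_or, not_and] at hχ
      simp [hχ]
    refine ⟨by_contra fun e => this (PB_of_sc h e), fun g hg => ?_⟩
    obtain ⟨i, h1, h2⟩ := SC_all h hg.symm.dvd
    rw [χ.2.isClassFunction.of_isConj h2, h.not_PB this h1]
  · simpa [D.reg g (mt (hr g) hg) 1] using (l4 (fun _ => True) (fun χ => χ.1 g) trivial rfl).symm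
  · have : Fact q.Prime := ⟨hq⟩
    obtain ⟨M', hM'⟩ := exists_PMod q
    have hpq : ∀ g : G, p ∣ orderOf g → ¬ q ∣ orderOf g := fun g hg e =>
      qp ((Nat.prime_dvd_prime_iff_eq hq hp.out).1 (hr g hg ▸ e))
    refine ⟨fun χ => decide (χ ∈ PB M' G), fun χ h1 h2 e => not_PB_of_pow hG h1 e (by simpa using h2),
      fun g hg => ?_, ?_⟩
    · have := bt_D1 D (fS_mem_ZR (isPBlock_principal (M := M') (G := G))).1
        (fun j => by simpa only [mem_PB] using exc_PB (M' := M') D j) hpq hg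
      simp only [← mem_PB] at this
      rw [← l4 (· ∈ PB M' G) (fun χ => χ.1 g) (one_mem_PB q) rfl]
      simpa using this
    · have := l4 (· ∈ PB M' G) (fun χ => (charDegree χ.1 : ℤ)) (one_mem_PB q)
        (congrArg Nat.cast deg_irrOne)
      simp only [Int.cast_id] at this
      rw [← this]
      simpa using bt_PB (M' := M') D hpq hk

end

theorem sub_list [Fintype G] {l : List (IrrCharacter G)} (hl : l.Nodup) {σ : G → ℂ}
    (hσ : IsCharacter G σ) (h : ∀ χ ∈ l, classInner σ χ.1 ≠ 0) :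
    IsCharacter G (σ - (l.map (·.1)).sum) := by
  induction l generalizing σ with
  | nil => simpa using hσ
  | cons χ l ih =>
    rw [List.map_cons, List.sum_cons, ← sub_sub]
    refine ih hl.of_cons (hσ.sub_irr χ.2 (h χ (by simp))) fun ψ hψ => ?_
    rw [classInner_sub_left, irr_classInner, if_neg fun e : χ = ψ => hl.notMem (e ▸ hψ), sub_zero]
    exact h ψ (by simp [hψ])

theorem inner_list [Fintype G] {l : List (IrrCharacter G)} {χ : IrrCharacter G} (h : χ ∉ l) :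
    classInner (l.map (·.1)).sum χ.1 = 0 := by
  induction l with
  | nil => simp [classInner_def]
  | cons ψ l ih =>
    rw [List.mem_cons, not_or] at h
    rw [List.map_cons, List.sum_cons, classInner_add_left, ih h.2, irr_classInner, if_neg (Ne.symm h.1),
      add_zero]

theorem apply_list (l : List (IrrCharacter G)) (g : G) :
    (l.map (·.1)).sum g = (l.map (·.1 g)).sum := by
  induction l with
  | nil => rfl
  | cons ψ l ih => simp only [List.map_cons, List.sum_cons, Pi.add_apply, ih]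

namespace T2
variable {p : ℕ} [hp : Fact p.Prime] {l : List (IrrCharacter G)} {s : IrrCharacter G → ℤ} {ε : ℤ}
  {μ ν : IrrCharacter G} (T : T2 p l s ε μ ν)
include T

theorem deg : 1 + (l.map fun χ => s χ * charDegree χ.1).sum = ε * charDegree μ.1 ∧
    charDegree ν.1 = charDegree μ.1 := by
  have := T.reg 1 (by simpa using hp.out.ne_one.symm)
  simp only [irr_one_eq, Nat.cast_inj] at this
  refine ⟨Int.cast_injective (α := ℂ) ?_, this.2⟩
  simpa [List.map_map, Function.comp_def] using this.1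

theorem sum {g : G} (hg : orderOf g = p) (F : IrrCharacter G → ℂ) : ∑ χ, χ.1 g * F χ =
    F (irrOne G) + (μ.1 g * F μ + (ν.1 g * F ν + (l.map fun χ => s χ * F χ).sum)) := by
  classical
  rw [← sum_subset (subset_univ (irrOne G :: μ :: ν :: l).toFinset) fun χ _ h => by
    rw [(T.out χ (mt List.mem_toFinset.2 h)).2 g hg, zero_mul], List.sum_toFinset _ T.nodup]
  simp only [List.map_cons, List.sum_cons, List.map_congr_left fun χ hχ => congrArg (· * F χ)
    (T.val χ hχ g hg)]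
  exact congrArg (· + _) (one_mul _)

theorem add {g : G} (hg : orderOf g = p) : μ.1 g + ν.1 g = -ε := by
  have h1 := sum_irr_one_mul g
  have h2 := T.reg 1 (by simpa using hp.out.ne_one.symm)
  rw [if_neg fun e => hp.out.ne_one (by simp [← hg, e])] at h1
  simp only [fun χ : IrrCharacter G => mul_comm (χ.1 1) (χ.1 g), T.sum hg, h2.2] at h1
  refine mul_right_cancel₀ μ.2.one_ne_zero ?_
  have : (irrOne G).1 1 = 1 := rfl
  linear_combination h1 - h2.1 - this

theorem btB {q k : ℕ} (hq : q.Prime) (qp : q ≠ p) (hk : q ^ k ∣ Nat.card G) :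
    btB q (q ^ k) (l.map fun χ => s χ * charDegree χ.1) (ε * charDegree μ.1) = true := by
  obtain ⟨P, h1, -, h2⟩ := T.bt q k hq qp hk
  have h3 := T.nodup
  simp only [List.nodup_cons, List.mem_cons, not_or] at h3
  simp only [H3.btB, List.any_eq_true, List.mem_sublists, Bool.and_eq_true, List.all_eq_true,
    Bool.or_eq_true, beq_iff_eq, isPw, Bool.not_eq_true', decide_eq_false_iff_not,
    natAbs_sign T.eps]
  refine ⟨_, (List.filter_sublist (p := P)).map _, fun a ha => ?_, ?_⟩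
  · obtain ⟨χ, h4, rfl⟩ := List.mem_map.1 ha
    obtain ⟨h5, h6⟩ := List.mem_filter.1 h4
    rw [natAbs_sign (T.sgn χ h5)]
    exact mt Nat.dvd_of_mod_eq_zero (h1 χ (fun e => h3.1.2.2 (e ▸ h5)) h6)
  · split_ifs at h2 with e
    · exact .inr ⟨mt Nat.dvd_of_mod_eq_zero (h1 μ (Ne.symm h3.1.1) e),
        Int.emod_eq_zero_of_dvd (by exact_mod_cast h2)⟩
    · exact .inl (Int.emod_eq_zero_of_dvd (by simpa using h2))

theorem mem_degs {χ : IrrCharacter G} (h : χ ≠ irrOne G) : (charDegree χ.1 % p == 0 ||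
    charDegree χ.1 ∈ degs (l.map fun χ => s χ * charDegree χ.1)) = true := by
  simp only [Bool.or_eq_true, beq_iff_eq, decide_eq_true_eq, degs, T.deg.1, natAbs_sign T.eps,
    List.mem_cons, List.map_map, List.mem_map, Function.comp]
  by_cases e : χ ∈ irrOne G :: μ :: ν :: l
  · simp only [List.mem_cons, h, false_or] at e
    rcases e with rfl | rfl | e
    exacts [.inr (.inl rfl), .inr (.inl T.deg.2), .inr (.inr ⟨χ, e, natAbs_sign (T.sgn χ e) _⟩)]
  · exact .inl (Nat.mod_eq_zero_of_dvd (T.out χ e).1)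

theorem uniq {d : ℕ} (h1 : d ≠ 1) (h2 : ¬ p ∣ d)
    (h3 : (degs (l.map fun χ => s χ * charDegree χ.1)).count d = 1) : ∃ χ ∈ μ :: l,
      charDegree χ.1 = d ∧ (χ ∈ l → ∀ ψ : IrrCharacter G, charDegree ψ.1 = d → ψ = χ) := by
  rw [degs, T.deg.1, natAbs_sign T.eps, List.map_map, Function.comp_def, List.map_congr_left (g := fun χ =>
    charDegree χ.1) fun χ h => natAbs_sign (T.sgn χ h) _, ← List.map_cons (f := fun χ :
    IrrCharacter G => charDegree χ.1), List.count_eq_countP, List.countP_map,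
    List.countP_eq_length_filter, List.length_eq_one_iff] at h3
  obtain ⟨χ, h3⟩ := h3
  have h4 : ∀ ψ, ψ ∈ μ :: l ∧ charDegree ψ.1 = d ↔ ψ = χ := fun ψ => by
    simpa using congrArg (ψ ∈ ·) h3
  refine ⟨χ, ((h4 χ).2 rfl).1, ((h4 χ).2 rfl).2, fun h ψ e => (h4 ψ).1 ⟨by_contra fun h5 => ?_, e⟩⟩
  by_cases e' : ψ = ν
  · have := T.nodup
    rw [(h4 μ).1 ⟨by simp, by rw [← e, e', T.deg.2]⟩] at this
    simp [h] at this
  · refine h2 (e ▸ (T.out ψ fun h6 => h5 ?_).1)
    simpa [e', show ψ ≠ irrOne G by rintro rfl; exact h1 (e.symm.trans deg_irrOne)] using h6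

variable [Fintype G]

theorem inner_one : classInner (μ.1 * fun g => conj (μ.1 g)) (fun _ => 1) = 1 ∧
    classInner (μ.1 * fun g => conj (ν.1 g)) (fun _ => 1) = 0 := by
  have h3 := T.nodup
  simp only [List.nodup_cons, List.mem_cons, not_or] at h3
  simp [← classInner_eq_one_right, irr_classInner, h3.2.1.1]

theorem trick {χ : IrrCharacter G} (hχ : χ ∈ l) : classInner (μ.1 * fun g => conj (μ.1 g)) χ.1 =
    classInner (μ.1 * fun g => conj (ν.1 g)) χ.1 + s χ := by
  have h1 := congrArg₂ (· - ·) T.inner_one.1 T.inner_one.2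
  simp only [← classInner_sub_left, sub_zero] at h1
  rw [← sub_eq_iff_eq_add', ← classInner_sub_left, ← mul_one (s χ : ℂ), ← h1, classInner_def,
    classInner_def, mul_left_comm, mul_sum _ _ (s χ : ℂ)]
  refine congrArg _ (sum_congr rfl fun g _ => ?_)
  by_cases hg : orderOf g = p
  · simp [T.val χ hχ g hg, mul_comm]
  · simp [(T.reg g hg).2]

theorem theta : IsCharacter G ((μ.1 * fun g => conj (μ.1 g)) -
    ((irrOne G :: l.filter (s · = 1)).map (·.1)).sum) := by
  refine sub_list (T.nodup.sublist (((List.filter_sublist.cons _).cons _).cons_cons _))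
    (μ.2.isCharacter.mul μ.2.isCharacter.conj) fun χ hχ => ?_
  rcases List.mem_cons.1 hχ with rfl | h
  · exact T.inner_one.1.trans_ne one_ne_zero
  · obtain ⟨k, hk⟩ := (μ.2.isCharacter.mul ν.2.isCharacter.conj).classInner_nat χ.2.isCharacter
    rw [T.trick (List.mem_filter.1 h).1, hk, of_decide_eq_true (List.mem_filter.1 h).2]
    norm_cast

omit [Fintype G] in
theorem size : 1 + ((l.map fun χ => s χ * charDegree χ.1).filter (0 < ·)).sum ≤
    (ε * charDegree μ.1) ^ 2 := by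
  have := Fintype.ofFinite G
  have h1 := T.theta.re_one_nonneg
  have h2 : ((l.map fun χ => s χ * charDegree χ.1).filter (0 < ·)) =
      (l.filter (s · = 1)).map fun χ => (charDegree χ.1 : ℤ) := by
    rw [List.filter_map, List.filter_congr (q := (s · = 1)) fun χ hχ => by
      rcases T.sgn χ hχ with e | e <;> simp [e, deg_pos]]
    exact List.map_congr_left fun χ hχ => by simp [of_decide_eq_true (List.mem_filter.1 hχ).2]
  have h3 : ((μ.1 * fun g => conj (μ.1 g)) - ((irrOne G :: l.filter (s · = 1)).map (·.1)).sum) 1 =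
      (((ε * charDegree μ.1) ^ 2 - (1 + ((l.filter (s · = 1)).map
        fun χ => (charDegree χ.1 : ℤ)).sum) : ℤ) : ℂ) := by
    rw [Pi.sub_apply, apply_list, List.map_cons, List.sum_cons, show (irrOne G).1 1 = 1 from rfl]
    push_cast [List.map_map]
    rcases T.eps with rfl | rfl <;> simp [irr_one_eq, sq, Function.comp_def]
  rw [h3, Complex.intCast_re, Int.cast_nonneg_iff] at h1
  rw [h2]
  omega

end T2

theorem not_real {p : ℕ} [hp : Fact p.Prime] {x : G} (hx : orderOf x = p) (p2 : p ≠ 2)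
    (h : Odd (Nat.card (autSub hx))) : ¬ IsConj x x⁻¹ := fun e => by
  have : Fact (2 < p) := ⟨lt_of_le_of_ne hp.out.two_le p2.symm⟩
  have h1 : (-1 : (ZMod p)ˣ) ∈ autSub hx := by
    show IsConj x (pw x ((-1 : (ZMod p)ˣ) : ZMod p))
    rwa [Units.val_neg, Units.val_one, pw_neg hx, pw_one hx]
  have h2 := orderOf_dvd_card_of_mem h1
  rw [orderOf_eq_prime (p := 2) (by simp) (by simp [Units.ext_iff, ZMod.neg_one_ne_one])] at h2
  exact h.not_two_dvd_nat h2

theorem exists_act' [IsSimpleGroup G] (hG : ¬ IsMulCommutative G) {p : ℕ} [hp : Fact p.Prime]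
    {x : G} (h : Syl1 p x) : ∃ (y : G) (a : ℕ), y * x * y⁻¹ = x ^ a ∧ (a : ZMod p) ≠ 1 := by
  obtain ⟨a, a1, a2⟩ := exists_ne_one (H := autSub h.ord) fun e => by simpa [e] using h.two_le hG
  obtain ⟨y, hy⟩ := isConj_iff.1 (show IsConj x (pw x _) from a1)
  exact ⟨y, _, hy, by simpa using a2⟩

theorem fdN {p q : ℕ} [hp : Fact p.Prime] [hq : Fact q.Prime] {x : G} (h : SC p x)
    (he : Nat.card (autSub h.ord) = q) (χ : IrrCharacter G) {a b : ℤ}
    (ha : ∀ g, orderOf g = p → χ.1 g = a) (hb : ∀ g, orderOf g = q → χ.1 g = b) :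
    ∃ k m : ℕ, sph (Nx x) χ 1 = k ∧ k ≤ m ∧ (p * m : ℤ) = charDegree χ.1 + (p - 1) * a ∧
      (q * k : ℤ) = m + (q - 1) * b := by
  obtain ⟨n, ρ, -, hρ⟩ := id χ.2
  have f2 := fd_step ρ (le_normalizer (H := zpowers x)) (c := b) (fun g hg g1 => by
    have i1 := (Nat.dvd_prime hq.out).1 (he ▸ h.orderOf_dvd hg g1)
    rw [hρ, hb g (i1.resolve_left fun e => g1 (orderOf_eq_one_iff.1 e ▸ one_mem _))]) h.card_P
    (h.card_N.trans (by rw [he]))
  refine ⟨_, _, hρ ▸ sph_fd ρ _, fd_anti ρ le_normalizer, fd_cyc hρ h.ord ha,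
    mul_left_cancel₀ (a := (p : ℤ)) (by exact_mod_cast hp.out.ne_zero) ?_⟩
  rw [Nat.cast_mul] at f2
  linear_combination f2

theorem exists_sorted {l : List (IrrCharacter G)} (hl : l.Nodup) {s : IrrCharacter G → ℤ}
    (hs : ∀ χ ∈ l, s χ = 1 ∨ s χ = -1) {C : List ℤ} (hC : ∀ χ ∈ l, s χ * charDegree χ.1 ∈ C) :
    ∃ l' : List (IrrCharacter G), l'.Perm l ∧
      (l'.map fun χ => s χ * charDegree χ.1) ∈ enum C l.length (Nat.card G) := by
  classical
  obtain ⟨L, h1, h2⟩ := exists_enum C l.length (Nat.card G) (l.map fun χ => s χ * charDegree χ.1)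
    (fun a ha => by
      obtain ⟨χ, hχ, rfl⟩ := List.mem_map.1 (Multiset.mem_coe.1 ha)
      exact hC χ hχ) (by simp) (by
      rw [Multiset.map_coe, Multiset.sum_coe, List.map_map, List.map_congr_left (g := fun χ =>
        charDegree χ.1 ^ 2) fun χ hχ => by simp only [Function.comp, natAbs_sign (hs χ hχ)],
        ← List.sum_toFinset _ hl]
      exact sum_deg_sq_le _)
  obtain ⟨l', rfl, h6⟩ := (congrFun₂ (List.eq_map_comp_perm _) L l).mpr (Multiset.coe_eq_coe.1 h2)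
  exact ⟨l', h6, h1⟩

theorem eq_of_count {ι : Type*} {l : List ι} {f : ι → ℤ} {a : ℤ} (h : (l.map f).count a ≤ 1) {x y : ι}
    (hx : x ∈ l) (hy : y ∈ l) (h1 : f x = a) (h2 : f y = a) : x = y := by
  rw [List.count_eq_countP, List.countP_map, List.countP_eq_length_filter] at h
  have h3 : ∀ x ∈ l, f x = a → x ∈ l.filter ((· == a) ∘ f) := fun x hx e => by simp [hx, e]
  obtain ⟨w, e⟩ := List.length_eq_one_iff.1 (h.antisymm (List.length_pos_of_mem (h3 x hx h1)))
  rw [e] at h3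
  exact (List.mem_singleton.1 (h3 x hx h1)).trans (List.mem_singleton.1 (h3 y hy h2)).symm

open Classical in
theorem pairs_sub [Fintype G] {t y z : G} (ht : t * t = 1) (hy : Odd (orderOf y)) (hz : z ^ 2 = 1)
    (hc : Commute y z) : (univ.filter fun u => IsConj t u ∧ IsConj t (u * (y * z))).card ≤
      (univ.filter fun u => IsConj t u ∧ IsConj t (u * y)).card := by
  have h1 : ∀ u, IsConj t u → u * u = 1 := fun u hu => by
    obtain ⟨c, rfl⟩ := isConj_iff.1 hu
    rw [conj_mul, ht, mul_one, mul_inv_cancel]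
  refine card_le_card (monotone_filter_right _ fun u _ hu => ⟨hu.1, hu.1.trans ?_⟩)
  obtain ⟨k, hk⟩ := hy
  have h2 : u * (y * z) * u⁻¹ = (y * z)⁻¹ := by
    rw [inv_eq_of_mul_eq_one_right (h1 u hu.1)]
    exact eq_inv_of_mul_eq_one_left (by rw [mul_assoc (u * _), h1 _ hu.2])
  have h3 : (y * z) ^ (2 * (k + 1)) = y := by
    rw [hc.mul_pow, pow_mul z, hz, one_pow, mul_one, show 2 * (k + 1) = orderOf y + 1 by omega,
      pow_succ, pow_orderOf_eq_one, one_mul]
  have h4 : u * (y ^ k)⁻¹ * u⁻¹ = y ^ k := by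
    rw [← h3, ← pow_mul, ← inv_pow, ← conj_pow, ← conj_inv, h2, inv_inv]
  refine isConj_iff.2 ⟨(y ^ k)⁻¹⁻¹, ?_⟩
  rw [inv_inv, ← h4, inv_mul_cancel_right, h4, mul_assoc, ← mul_inv_rev, ← pow_add, mul_right_inj,
    inv_eq_iff_mul_eq_one, ← pow_succ, ← two_mul, ← hk, pow_orderOf_eq_one]

/-- the conjugate character -/
def bar (χ : IrrCharacter G) : IrrCharacter G := ⟨_, χ.2.conj⟩

theorem deg_bar (χ : IrrCharacter G) : charDegree (bar χ).1 = charDegree χ.1 :=
  charDegree_eq (χ.2.isCharacter.conj_apply_one.trans (irr_one_eq χ))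

section
variable [IsSimpleGroup G] {p : ℕ} [hp : Fact p.Prime] {x : G}

/-- The column of a rational element generating a Sylow subgroup. -/
theorem col (h : Syl1 p x) (he : Nat.card (autSub h.ord) + 1 = p) :
    ∃ (s : IrrCharacter G → ℤ) (l : List (IrrCharacter G)), (irrOne G :: l).Nodup ∧
      l.length = p - 1 ∧ (∀ χ ∈ l, (s χ = 1 ∨ s χ = -1) ∧ bar χ ∈ l ∧
        ∀ v ∈ Vc p x, χ.1 (x * v) = s χ) ∧ (∀ χ g, orderOf g = p → χ.1 g = s χ) ∧
      ∀ g, ¬ p ∣ orderOf g → 1 + (l.map fun χ => s χ * χ.1 g).sum = 0 := by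
  classical
  obtain ⟨M, hM⟩ := exists_PMod p
  obtain ⟨N, δ, ε, μ, D⟩ := h.exists_D1 (M := M)
  have ht : autSub h.ord = ⊤ := eq_top_of_card_eq _ (by
    rw [Nat.card_eq_fintype_card (α := (ZMod p)ˣ), ZMod.card_units]; omega)
  choose s hs using fun χ : IrrCharacter G => χ.2.isGen.exists_int_of_pow x fun m hm =>
    (χ.2.isClassFunction.of_isConj (conj_of_ord h he (by rw [hm.symm.orderOf_pow, h.ord]))).symm
  have s1 : ∀ (χ : IrrCharacter G) g, orderOf g = p → χ.1 g = s χ := fun χ g hg => by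
    rw [← χ.2.isClassFunction.of_isConj (conj_of_ord h he hg), hs]
  have l3 : ∀ χ, χ ∈ ((PB M G).erase (irrOne G)).toList ↔ χ ≠ irrOne G ∧ χ ∈ PB M G := fun χ => by
    rw [mem_toList, mem_erase]
  refine ⟨s, ((PB M G).erase (irrOne G)).toList, by simp [nodup_toList], ?_, fun χ hχ => ⟨h.const_val
    ((l3 χ).1 hχ).2 fun i hi => s1 χ _ (orderOf_pw h.ord hi), (l3 _).2 ⟨fun e => ((l3 χ).1 hχ).1 ?_,
    PB_gal (starRingAut : ℂ ≃+* ℂ) ((l3 χ).1 hχ).2⟩, fun v hv => by
      rw [h.PB_const ((l3 χ).1 hχ).2 (mem_zpowers x) h.ne_one hv, hs]⟩, s1, fun g hg => ?_⟩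
  · have := D.sum_PB (fun _ => 1) (c := 1) fun _ => rfl
    simp only [sum_const, smul_eq_mul, mul_one, D.card, ht, index_top] at this
    rw [length_toList, card_erase_of_mem (one_mem_PB p), this, ← ht, he]
  · exact Subtype.ext (funext fun g => by simpa [bar] using congrArg (fun χ => conj (χ.1 g)) e)
  · have := PB_reg (M := M) hg h.ord.symm.dvd
    rw [← add_sum_erase _ _ (one_mem_PB p)] at this
    simpa [hs, mul_comm, show (s (irrOne G) : ℂ) = 1 from (hs _).symm] using this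

/-- the case of a centraliser of order `2p` -/
theorem col2 (h : Syl1 p x) (he : Nat.card (autSub h.ord) + 1 = p) (hv : Nat.card (Vc p x) = 2) :
    ∃ (s : IrrCharacter G → ℤ) (l l' : List (IrrCharacter G)) (z : G), orderOf z = 2 ∧
      Commute x z ∧ (irrOne G :: (l ++ l')).Nodup ∧ l.length = p - 1 ∧
      (∀ χ ∈ l, (s χ = 1 ∨ s χ = -1) ∧ bar χ ∈ l ∧ χ.1 (x * z) = s χ) ∧
      (∀ χ ∈ l', s χ ≠ 0 ∧ χ.1 (x * z) = (-s χ : ℤ)) ∧ (l'.map (s · ^ 2)).sum = p ∧
      (∀ χ ∉ irrOne G :: (l ++ l'), s χ = 0 ∧ χ.1 (x * z) = 0) ∧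
      (∀ χ g, orderOf g = p → χ.1 g = s χ) ∧
      ∀ g, ¬ p ∣ orderOf g → 1 + (l.map fun χ => s χ * χ.1 g).sum = 0 ∧
        (l'.map fun χ => s χ * χ.1 g).sum = 0 := by
  classical
  obtain ⟨s, l, l1, l2, l3, l4, l5⟩ := col h he
  have := Nat.fact_prime_two
  obtain ⟨⟨z, hz⟩, z2⟩ := exists_prime_orderOf_dvd_card' (G := Vc p x) 2 hv.symm.dvd
  rw [← Subgroup.orderOf_coe] at z2
  have hc : Commute x z := (mem_centralizer_singleton_iff.1 (h.mem_Vc.1 hz).1).symm
  have c1 : Nat.card (centralizer ({x} : Set G)) = p * 2 := by rw [h.card_cent, hv]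
  have p2 : p.Coprime 2 := hp.out.coprime_iff_not_dvd.2 (z2 ▸ (h.mem_Vc.1 hz).2)
  have o1 : orderOf (x * z) = p * 2 := by
    rw [hc.orderOf_mul_eq_mul_orderOf_of_coprime (by rwa [h.ord, z2]), h.ord, z2]
  have c2 : Nat.card (centralizer ({x * z} : Set G)) ≤ p * 2 := c1 ▸ card_le_of_le
    (centralizer_le_of_ppart hp.out (ppart_mk hc ⟨1, by simp [h.ord]⟩ (h.mem_Vc.1 hz).2))
  let T := univ \ (irrOne G :: l).toFinset
  have hT : ∀ F : IrrCharacter G → ℂ, ∑ χ, F χ = F (irrOne G) + (l.map F).sum + ∑ χ ∈ T, F χ :=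
    fun F => by rw [← List.sum_cons, ← List.map_cons, ← List.sum_toFinset _ l1, add_comm,
      sum_sdiff (subset_univ _)]
  have hl : ∀ F : IrrCharacter G → ℂ, (∀ χ ∈ l, F χ = s χ * s χ) → F (irrOne G) = 1 →
      ∑ χ ∈ T, F χ = ∑ χ, F χ - p := fun F h1 h2 => by
    rw [hT, h2, List.map_congr_left (g := fun _ => 1) fun χ hχ => by
      rcases (l3 χ hχ).1 with e | e <;> simp [h1 χ hχ, e]]
    simp [l2, Nat.cast_pred hp.out.pos]
  have e1 := hl (fun χ => χ.1 x * conj (χ.1 x)) (fun χ hχ => by simp [l4 χ x h.ord]) (by simp)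
  have e2 := hl (fun χ => χ.1 (x * z) * conj (χ.1 (x * z))) (fun χ hχ => by
    simp [(l3 χ hχ).2.2 z hz]) (by simp)
  have e3 := hl (fun χ => χ.1 x * conj (χ.1 (x * z))) (fun χ hχ => by
    simp [l4 χ x h.ord, (l3 χ hχ).2.2 z hz]) (by simp)
  have e4 := hl (fun χ => χ.1 (x * z) * conj (χ.1 x)) (fun χ hχ => by
    simp [l4 χ x h.ord, (l3 χ hχ).2.2 z hz]) (by simp)
  have n1 : ¬ IsConj x (x * z) := fun e => by
    have := ord_conj e
    have := hp.out.pos
    rw [o1, h.ord] at *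
    omega
  rw [sum_irr_mul_conj_self] at e1 e2
  rw [sum_irr_mul_conj, if_neg n1] at e3
  rw [sum_irr_mul_conj, if_neg (mt IsConj.symm n1)] at e4
  have e5 : ∀ χ ∈ T, χ.1 (x * z) = (-s χ : ℤ) := fun χ hχ => by
    have a1 : ((∑ χ ∈ T, ‖χ.1 x + χ.1 (x * z)‖ ^ 2 : ℝ) : ℂ) =
        ((Nat.card (centralizer ({x * z} : Set G)) - p * 2 : ℝ) : ℂ) := by
      push_cast
      simp only [← Complex.mul_conj', map_add, add_mul, mul_add, sum_add_distrib, e1, e2, e3, e4, c1]
      push_cast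
      ring
    have a2 := (sum_eq_zero_iff_of_nonneg fun _ _ => by positivity).1 (le_antisymm
      ((Complex.ofReal_injective a1).trans_le (sub_nonpos.2 (by exact_mod_cast c2)))
      (sum_nonneg fun _ _ => by positivity)) χ hχ
    rw [sq_eq_zero_iff, norm_eq_zero, l4 χ x h.ord] at a2
    push_cast
    linear_combination a2
  have l6 : ∀ χ, χ ∈ (T.filter (s · ≠ 0)).toList ↔ χ ∉ irrOne G :: l ∧ s χ ≠ 0 := by simp [T]
  have l7 : ∀ {A : Type} [CommRing A] (F : IrrCharacter G → A), ∑ χ ∈ T, s χ * F χ =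
      ((T.filter (s · ≠ 0)).toList.map fun χ => s χ * F χ).sum := fun F => by
    rw [sum_map_toList, sum_filter_of_ne (p := (s · ≠ 0)) fun χ _ h1 h2 => h1 (by simp [h2])]
  refine ⟨s, l, (T.filter (s · ≠ 0)).toList, z, z2, hc, ?_, l2, fun χ hχ => ⟨(l3 χ hχ).1,
    (l3 χ hχ).2.1, (l3 χ hχ).2.2 z hz⟩, fun χ hχ => ⟨((l6 χ).1 hχ).2, e5 χ
      (mem_filter.1 (mem_toList.1 hχ)).1⟩, ?_, fun χ hχ => ?_, l4, fun g hg => ⟨l5 g hg, ?_⟩⟩
  · exact List.Nodup.append l1 (nodup_toList _) fun χ h1 h2 => ((l6 χ).1 h2).1 h1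
  · have := l7 s
    simp only [Int.cast_id, ← sq] at this
    rw [← this]
    apply Int.cast_injective (α := ℂ)
    simp only [l4 _ x h.ord, map_intCast, c1, ← sq] at e1
    push_cast at e1 ⊢
    linear_combination e1
  · rw [← List.cons_append, List.mem_append, not_or, l6] at hχ
    have h1 : s χ = 0 := by simpa [hχ.1] using hχ.2
    exact ⟨h1, by simpa [h1] using e5 χ (by simpa [T] using hχ.1)⟩
  · have h1 := sum_irr_mul_conj g x
    rw [if_neg fun e => hg (by rw [ord_conj e, h.ord]), hT] at h1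
    simp only [l4 _ x h.ord, map_intCast, mul_comm _ (s _ : ℂ), l7] at h1
    have h2 : (s (irrOne G) : ℂ) = 1 := (l4 _ x h.ord).symm
    have h3 : (irrOne G).1 g = 1 := rfl
    rw [h2, h3] at h1
    linear_combination h1 - l5 g hg

end

end Cfsg.Agent.H3
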