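import Cfsg.Agent.H9.Sm8
import Cfsg.Agent.H3.BT
import Cfsg.Agent.Core.Supersolvable

/-! Tools for recognising simple groups by their order. -/

set_option autoImplicit false
set_option linter.unusedVariables false
set_option linter.unusedSectionVars false

namespace Cfsg.Agent.H3

open Finset Subgroup Cfsg.Agent.PLoc Cfsg.Agent.Char Cfsg.Agent.Blk Cfsg.Agent.Inv Cfsg.Agent.H9
open scoped ComplexConjugate

universe u

theorem exists_list {ι α : Type*} [DecidableEq ι] {s : Finset ι} {f : ι → α} {L : List α}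
    (h : (L : Multiset α) = s.val.map f) : ∃ l : List ι, l.Nodup ∧ l.toFinset = s ∧ l.map f = L := by
  have h1 : List.Perm L (s.toList.map f) := by
    rw [← Multiset.coe_eq_coe, h, ← Multiset.map_coe, coe_toList]
  obtain ⟨l, h2, h3⟩ := (congrFun₂ (List.eq_map_comp_perm f) L s.toList).mpr h1
  exact ⟨l, h3.nodup_iff.2 s.nodup_toList, by rw [List.toFinset_eq_of_perm _ _ h3, toList_toFinset],
    h2.symm⟩

def cand2 (n : ℕ) (D : List ℕ) (Q : ℕ → Bool) : List ℤ :=
  (D.filter fun d => degOK n d && decide (d * d ≤ n) && Q d).flatMap fun d : ℕ => [(d : ℤ), -(d : ℤ)]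

def fOK2 (n p v e np : ℕ) (Q : ℕ → Bool) (L : List ℤ) (f : ℤ) : Bool :=
  degOK n f.natAbs && aOK p v e np f e && Q f.natAbs &&
    decide (1 + sqs L + (p - 1) / e * f.natAbs ^ 2 ≤ n)

def trees2 (n p : ℕ) (D : List ℕ) (Q R : ℕ → Bool) : List (ℕ × ℕ × ℕ × List ℤ) :=
  (D.filter fun np => decide (np % p = 1) && decide (np ≠ 1)).flatMap fun np =>
    ((List.range p).filter fun e => decide (2 ≤ e) && decide ((p - 1) % e = 0) &&
      decide (n % (p * e * np) = 0) && R (n / (p * e * np))).flatMap fun e =>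
      ((enum ((cand2 n D Q).filter fun a => aOK p (n / (p * e * np)) e np a 1) (e - 1) n).filter
        fun L => fOK2 n p (n / (p * e * np)) e np Q L (1 + L.sum)).map
          fun L => (n / (p * e * np), e, np, L)

variable {G : Type u} [Group G] [Finite G]

section tree
variable [IsSimpleGroup G] {p : ℕ} [hp : Fact p.Prime] {x : G} {M : Ideal AlgInt} [hM : PMod p M]
  {h : Syl1 p x} {N : Finset (IrrCharacter G)} {δ : IrrCharacter G → ℤ} {ε : ℤ}
  {μ : (ZMod p)ˣ → IrrCharacter G}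

theorem tree_mem2 (hG : ¬ IsMulCommutative G) {n : ℕ} (hn : Nat.card G = n) {Dv : List ℕ}
    (hD : ∀ d, d ∣ n → d ∈ Dv) {Q R : ℕ → Bool}
    (hQ : ∀ χ : IrrCharacter G, χ ≠ irrOne G → Q (charDegree (χ : G → ℂ)) = true)
    (hR : R (Nat.card (Vc p x)) = true) (D : D1 M h N δ ε μ) [DecidableEq (IrrCharacter G)] :
    ∃ L : List ℤ, (L : Multiset ℤ) =
      (N.erase (irrOne G)).val.map (fun χ => δ χ * charDegree (χ : G → ℂ)) ∧
      1 + L.sum = ε * charDegree (μ 1 : G → ℂ) ∧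
      (Nat.card (Vc p x), Nat.card (autSub h.ord), (Nx x).index, L) ∈ trees2 n p Dv Q R := by
  subst hn
  have p2 := hp.out.two_le
  have e2 := h.two_le hG
  have e3 := Nat.le_of_dvd (by omega) (card_autSub_dvd h.ord)
  have hc := h.card_eq
  have hv : Nat.card G / (p * Nat.card (autSub h.ord) * (Nx x).index) = Nat.card (Vc p x) :=
    Nat.div_eq_of_eq_mul_left (Nat.mul_pos (Nat.mul_pos (by omega) (by omega)) (index_pos' _))
      (by rw [hc]; ring)
  have ht : (p - 1) / Nat.card (autSub h.ord) = (autSub h.ord).index :=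
    Nat.div_eq_of_eq_mul_right (by omega) (by have := e_mul_t h.ord; omega)
  have hsq := sum_deg_sq_le (PB M G)
  rw [D.sum_PB _ (c := charDegree (μ 1 : G → ℂ) ^ 2) fun j => by rw [D.deg_exc_eq j],
    ← add_sum_erase _ _ D.one_mem, deg_irrOne, smul_eq_mul] at hsq
  have hsq' : (((N.erase (irrOne G)).val.map (fun χ => δ χ * charDegree (χ : G → ℂ))).map
      fun a => a.natAbs ^ 2).sum = ∑ χ ∈ N.erase (irrOne G), charDegree (χ : G → ℂ) ^ 2 := by
    rw [Multiset.map_map]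
    exact sum_congr rfl fun χ hχ => by
      simp only [Function.comp, natAbs_sign (D.δ_val χ (mem_of_mem_erase hχ))]
  obtain ⟨L, hL, hL'⟩ := exists_enum ((cand2 (Nat.card G) Dv Q).filter fun a =>
    aOK p (Nat.card (Vc p x)) (Nat.card (autSub h.ord)) (Nx x).index a 1)
    (Nat.card (autSub h.ord) - 1) (Nat.card G)
    ((N.erase (irrOne G)).val.map (fun χ => δ χ * charDegree (χ : G → ℂ))) (fun a ha => by
      obtain ⟨χ, hχ, rfl⟩ := Multiset.mem_map.1 ha
      obtain ⟨h1, h2⟩ := mem_erase.1 hχ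
      refine List.mem_filter.2 ⟨?_, aOK_N hG D h2 h1⟩
      have h3 := sum_deg_sq_le {χ}
      rw [sum_singleton, sq] at h3
      simp only [cand2, List.mem_flatMap, List.mem_filter, Bool.and_eq_true, decide_eq_true_eq]
      refine ⟨_, ⟨hD _ (deg_dvd χ), ⟨degOK_deg hG h1, h3⟩, hQ χ h1⟩, ?_⟩
      rcases D.δ_val χ h2 with e | e <;> simp [e])
    (by rw [Multiset.card_map, card_val, card_erase_of_mem D.one_mem, D.card])
    (by rw [hsq']; omega)
  have hf : 1 + L.sum = ε * charDegree (μ 1 : G → ℂ) := by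
    rw [← D.deg_eq 1, ← add_sum_erase _ _ D.one_mem, D.δ_one, deg_irrOne, ← Multiset.sum_coe, hL']
    rfl
  refine ⟨L, hL', hf, ?_⟩
  obtain ⟨r, hr⟩ := h.exists_r
  simp only [trees2, List.mem_flatMap, List.mem_filter, List.mem_map, List.mem_range,
    Bool.and_eq_true, decide_eq_true_eq]
  refine ⟨_, ⟨hD _ (index_dvd_card _), ?_, fun e => ?_⟩,
    Nat.card (autSub h.ord), ⟨by omega, ⟨⟨e2, Nat.mod_eq_zero_of_dvd (card_autSub_dvd h.ord)⟩,
      Nat.mod_eq_zero_of_dvd ⟨Nat.card (Vc p x), by rw [hc]; ring⟩⟩, by rw [hv, hR]⟩, L, ?_,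
      by rw [hv]⟩
  · rw [hr, Nat.add_mul_mod_self_right, Nat.mod_eq_of_lt p2]
  · exact h.r_ne_zero hG (r := 0) (by rw [e]; simp) rfl
  rw [hv, hf]
  refine ⟨hL, ?_⟩
  simp only [fOK2, Bool.and_eq_true, decide_eq_true_eq, natAbs_sign D.ε_val, ht]
  refine ⟨⟨⟨degOK_deg hG (D.ne_one 1), aOK_exc hG D⟩, hQ _ (D.ne_one 1)⟩, ?_⟩
  rw [← hL'] at hsq'
  have : sqs L = _ := hsq'
  omega

theorem PB_of_sc (hs : SC p x) {χ : IrrCharacter G} (h5 : ¬ p ∣ charDegree (χ : G → ℂ)) :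
    χ ∈ PB M G := by_contra fun e => h5 (by
  have := dvd_of_vanish χ.2.isGen (zpowers x) (n := charDegree (χ : G → ℂ)) (fun g hg g1 => by
    obtain ⟨i, rfl⟩ := exists_pw hs.ord hg
    exact hs.not_PB e fun e => g1 (e ▸ pw_zero)) (by simp [irr_one_eq])
  rw [Nat.card_zpowers, hs.ord] at this
  exact_mod_cast this)

theorem exists_tree2 (hG : ¬ IsMulCommutative G) {n : ℕ} (hn : Nat.card G = n) {Dv : List ℕ}
    (hD : ∀ d, d ∣ n → d ∈ Dv) {Q R : ℕ → Bool}
    (hQ : ∀ χ : IrrCharacter G, χ ≠ irrOne G → Q (charDegree (χ : G → ℂ)) = true)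
    (h : Syl1 p x) (hR : R (Nat.card (Vc p x)) = true) :
    ∃ L, (Nat.card (Vc p x), Nat.card (autSub h.ord), (Nx x).index, L) ∈ trees2 n p Dv Q R ∧
      (∀ d ∈ degs L, ∃ χ : IrrCharacter G, χ ≠ irrOne G ∧ charDegree (χ : G → ℂ) = d) ∧
      (SC p x → ∀ χ : IrrCharacter G, χ ≠ irrOne G → ¬ p ∣ charDegree (χ : G → ℂ) →
        charDegree (χ : G → ℂ) ∈ degs L) := by
  classical
  obtain ⟨M, hM⟩ := exists_PMod p
  obtain ⟨N, δ, ε, μ, D⟩ := h.exists_D1 (M := M)
  obtain ⟨L, h1, h2, hL⟩ := tree_mem2 hG hn hD hQ hR D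
  have h3 : ∀ a, a ∈ L ↔ ∃ χ ∈ N.erase (irrOne G), δ χ * charDegree (χ : G → ℂ) = a := fun a => by
    rw [← Multiset.mem_coe, h1, Multiset.mem_map]; rfl
  refine ⟨_, hL, fun d hd => ?_, fun hs χ h4 h5 => ?_⟩
  · simp only [degs, List.mem_cons, List.mem_map] at hd
    rcases hd with rfl | ⟨a, ha, rfl⟩
    · exact ⟨μ 1, D.ne_one 1, by rw [h2, natAbs_sign D.ε_val]⟩
    · obtain ⟨χ, h4, rfl⟩ := (h3 a).1 ha
      exact ⟨χ, ne_of_mem_erase h4, (natAbs_sign (D.δ_val χ (mem_of_mem_erase h4)) _).symm⟩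
  · simp only [degs, List.mem_cons, List.mem_map]
    rcases D.cases χ (PB_of_sc hs h5) with e | ⟨j, rfl⟩
    · exact Or.inr ⟨_, (h3 _).2 ⟨χ, mem_erase.2 ⟨h4, e⟩, rfl⟩, natAbs_sign (D.δ_val χ e) _⟩
    · exact Or.inl (by rw [h2, natAbs_sign D.ε_val, D.deg_exc_eq j])

/-- A character of degree `p` forces a self-centralising Sylow subgroup. -/
theorem sc_of_deg (hG : ¬ IsMulCommutative G) (h : Syl1 p x) {χ : IrrCharacter G}
    (hd : charDegree (χ : G → ℂ) = p) : SC p x := by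
  classical
  have p1 := hp.out.one_lt
  have h1 : χ ≠ irrOne G := by rintro rfl; rw [deg_irrOne] at hd; omega
  have h0 : ∀ g, p ∣ orderOf g → χ.1 g = 0 := fun g hg => defect_zero hp.out hd
    (by rw [← h.ord, ← Nat.card_zpowers, card_mul_index]) h.idx hg
  refine h.sc ((eq_bot_iff_forall _).2 fun v hv => eq_one_of_norm hG h1 ?_)
  obtain ⟨hv1, hv2⟩ := h.mem_Vc.1 hv
  have hc : Commute x v := (mem_centralizer_singleton_iff.1 hv1).symm
  have hco : (orderOf x).Coprime (orderOf v) := h.ord ▸ (hp.out.coprime_iff_not_dvd).2 hv2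
  obtain ⟨n, e, hn, he, hk, -⟩ := χ.2.isCharacter.exists_eigenvalues (x * v)
  have hw : ∀ y z : G, Commute y z → (orderOf y).Coprime (orderOf z) → ∃ a : ℕ, (y * z) ^ a = y :=
    fun y z h1 h2 => by
      obtain ⟨a, h3, h4⟩ := Nat.chineseRemainder h2 1 0
      exact ⟨a, by rw [h1.mul_pow, pow_eq_pow_iff_modEq.2 h3, pow_eq_pow_iff_modEq.2 h4]; simp⟩
  obtain ⟨a, ha⟩ := hw x v hc hco
  obtain ⟨b, hb⟩ := hw v x hc.symm hco.symm
  rw [← hc.eq] at hb
  have key : ∀ c : ℕ, ((x * v) ^ c = 1 ∨ (x * v) ^ c = v) → χ.1 ((x * v) ^ c) =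
      p * ∑ i ∈ univ.filter (fun i => e i ^ a = 1), e i ^ c := fun c hc' => by
    have h2 : ∑ j ∈ range p, χ.1 ((x * v) ^ (a * j + c)) = χ.1 ((x * v) ^ c) := by
      rw [sum_eq_single_of_mem 0 (mem_range.2 (by omega)) fun j hj j0 => h0 _ ?_, mul_zero, zero_add]
      have h3 : orderOf (x ^ j) = p := by
        rw [Nat.Coprime.orderOf_pow, h.ord]
        rw [h.ord]
        exact Nat.coprime_of_lt_prime j0 (mem_range.1 hj) hp.out
      rw [pow_add, pow_mul, ha]
      rcases hc' with e | e <;> rw [e]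
      · rw [mul_one, h3]
      · rw [(hc.pow_left j).orderOf_mul_eq_mul_orderOf_of_coprime (by rw [h3, ← h.ord]; exact hco), h3]
        exact dvd_mul_right _ _
    rw [← h2]
    simp only [hk]
    simp only [pow_add, pow_mul]
    rw [sum_comm, sum_filter, mul_sum]
    refine sum_congr rfl fun i _ => ?_
    rw [← sum_mul]
    split_ifs with e1
    · simp [e1]
    · have h4 : (e i ^ a) ^ p = 1 := by
        have h5 : orderOf (x * v) ∣ a * p := by
          rw [orderOf_dvd_iff_pow_eq_one, pow_mul, ha, ← h.ord, pow_orderOf_eq_one]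
        rw [← pow_mul]
        exact pow_eq_one_of_pow_orderOf h5 (he i)
      rw [geom_sum_eq e1, h4]
      simp
  have h2 := key 0 (.inl (pow_zero _))
  have h3 := key b (.inr hb)
  rw [pow_zero, irr_one_eq, hd] at h2
  simp only [pow_zero, sum_const, nsmul_eq_mul, mul_one] at h2
  obtain ⟨i, hi⟩ := card_eq_one.1 (show (univ.filter (fun i => e i ^ a = 1)).card = 1 by
    exact_mod_cast (mul_left_cancel₀ (p_ne_zero_complex p) ((mul_one _).trans h2)).symm)
  rw [hb, hi, sum_singleton] at h3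
  rw [h3, irr_one_eq, hd, norm_mul, norm_pow, norm_eq_one_of_pow_orderOf (he i), one_pow, mul_one]

theorem conj_of_ord (h : Syl1 p x) (he : Nat.card (autSub h.ord) + 1 = p) {g : G}
    (hg : orderOf g = p) : IsConj x g := by
  obtain ⟨c, -, hc⟩ := h.sylow.exists_cj_le (isPGroup_zpowers (k := 1) (x := g) (by simp [← hg])) le_top
  obtain ⟨i, hi⟩ := exists_pw h.ord (cj_le_iff'.1 hc g (mem_zpowers g))
  have i0 : i ≠ 0 := by
    rintro rfl
    rw [pw_zero, eq_comm, conj_eq_one_iff] at hi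
    have := hp.out.one_lt
    rw [hi, orderOf_one] at hg
    omega
  have ht : autSub h.ord = ⊤ := eq_top_of_card_eq _ (by
    rw [Nat.card_eq_fintype_card (α := (ZMod p)ˣ), ZMod.card_units]; omega)
  have h1 := (isConj_pw_iff h.ord (l := i) one_ne_zero).2 ⟨Units.mk0 i i0, ht ▸ mem_top _, by simp⟩
  rw [pw_one h.ord, hi] at h1
  exact h1.trans (Inv.isConj_conj c g).symm

/-- The column of a self-centralising rational element of prime order. -/
theorem sc_col (hG : ¬ IsMulCommutative G) (hs : SC p x) (he : Nat.card (autSub hs.ord) + 1 = p)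
    [DecidableEq (IrrCharacter G)] {C : List ℤ} (hC : ∀ χ : IrrCharacter G, χ ≠ irrOne G →
      ∀ s : ℤ, (s = 1 ∨ s = -1) → (p : ℤ) ∣ s * charDegree (χ : G → ℂ) - 1 →
        s * charDegree (χ : G → ℂ) ∈ C) :
    ∃ (s : IrrCharacter G → ℤ) (l : List (IrrCharacter G)), l.Nodup ∧ irrOne G ∉ l ∧
      (∀ χ ∈ l, s χ = 1 ∨ s χ = -1) ∧ (∀ χ g, orderOf g = p → χ.1 g = s χ) ∧
      (∀ F : IrrCharacter G → ℂ, ∑ χ, s χ * F χ = F (irrOne G) + (l.map fun χ => s χ * F χ).sum) ∧
      (∀ χ, χ ≠ irrOne G → χ ∉ l → p ∣ charDegree χ.1) ∧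
      (l.map fun χ => s χ * charDegree χ.1) ∈ enum C (p - 1) (Nat.card G) ∧
      1 + (l.map fun χ => s χ * charDegree χ.1).sum = 0 := by
  obtain ⟨M, hM⟩ := exists_PMod p
  obtain ⟨N, δ, ε, μ, D⟩ := hs.syl1.exists_D1 (M := M)
  have ht : autSub hs.ord = ⊤ := eq_top_of_card_eq _ (by
    rw [Nat.card_eq_fintype_card (α := (ZMod p)ˣ), ZMod.card_units]; omega)
  have h1 : ∀ χ : IrrCharacter G, ∃ s : ℤ, χ.1 x = s ∧ (χ ∈ PB M G → (s = 1 ∨ s = -1) ∧
      (p : ℤ) ∣ s * charDegree χ.1 - 1) ∧ (χ ∉ PB M G → s = 0) := fun χ => by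
    rw [← pw_one hs.ord]
    by_cases hχ : χ ∈ PB M G
    · rcases D.cases χ hχ with e | ⟨j, rfl⟩
      · obtain ⟨m, hm, -⟩ := D.deg_N χ e
        refine ⟨δ χ, D.apply_N χ e 1 one_ne_zero, fun _ => ⟨D.δ_val χ e, δ χ * (m - δ χ), ?_⟩,
          fun h => absurd hχ h⟩
        rw [hm]
        rcases D.δ_val χ e with e | e <;> rw [e] <;> ring
      · obtain ⟨m, hm, -⟩ := D.deg_exc j
        refine ⟨-ε, ?_, fun _ => ⟨by have := D.ε_val; omega, -1 - ε * m, ?_⟩, fun h => absurd hχ h⟩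
        · have := Fintype.ofFinite (autSub hs.ord)
          rw [D.apply_exc j 1 one_ne_zero, eta, finsum_eq_sum_of_fintype, one_mul,
            ← sum_subtype (univ : Finset (ZMod p)ˣ) (by simp [ht])
              fun a : (ZMod p)ˣ => ech ((j : ZMod p) * (a : ZMod p))]
          simp only [mul_comm (j : ZMod p), sum_ech_units]
          simp
        · have : (Nat.card (autSub hs.ord) : ℤ) = p - 1 := by omega
          rw [hm, this]
          rcases D.ε_val with e | e <;> rw [e] <;> ring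
    · exact ⟨0, by simpa using hs.not_PB hχ one_ne_zero, fun h => absurd h hχ, fun _ => rfl⟩
  choose s s1 s2 s3 using h1
  have s0 : s (irrOne G) = 1 := Int.cast_injective (α := ℂ) (by rw [← s1, Int.cast_one]; rfl)
  have hsq := sum_deg_sq_le ((PB M G).erase (irrOne G))
  obtain ⟨L, hL, hL'⟩ := exists_enum C (p - 1) (Nat.card G)
    (((PB M G).erase (irrOne G)).val.map (fun χ => s χ * charDegree (χ : G → ℂ))) (fun a ha => by
      obtain ⟨χ, hχ, rfl⟩ := Multiset.mem_map.1 ha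
      obtain ⟨h1, h2⟩ := mem_erase.1 hχ
      exact hC χ h1 _ (s2 χ h2).1 (s2 χ h2).2)
    (by
      have := D.sum_PB (fun _ => 1) (c := 1) fun _ => rfl
      simp only [sum_const, smul_eq_mul, mul_one, D.card, ht, index_top] at this
      rw [Multiset.card_map, card_val, card_erase_of_mem (one_mem_PB p), this, ← ht, he])
    (by
      rw [Multiset.map_map]
      exact le_of_eq_of_le (sum_congr rfl fun χ hχ => by
        simp only [Function.comp, natAbs_sign (s2 χ (mem_of_mem_erase hχ)).1]) hsq)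
  obtain ⟨l, l1, l2, rfl⟩ := exists_list hL'
  have l3 : ∀ χ, χ ∈ l ↔ χ ≠ irrOne G ∧ χ ∈ PB M G := fun χ => by
    rw [← List.mem_toFinset, l2, mem_erase]
  have l4 : ∀ F : IrrCharacter G → ℂ, ∑ χ, s χ * F χ =
      F (irrOne G) + (l.map fun χ => s χ * F χ).sum := fun F => by
    rw [← List.sum_toFinset _ l1, l2, ← sum_subset (subset_univ (PB M G)) fun χ _ h => by simp [s3 χ h],
      ← add_sum_erase _ _ (one_mem_PB p), s0]
    simp
  refine ⟨s, l, l1, fun h => ((l3 _).1 h).1 rfl, fun χ h => (s2 χ ((l3 _).1 h).2).1,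
    fun χ g hg => by rw [← χ.2.isClassFunction.of_isConj (conj_of_ord hs.syl1 he hg), s1], l4,
    fun χ h1 h2 => by_contra fun h => h2 ((l3 _).2 ⟨h1, PB_of_sc hs h⟩), hL, ?_⟩
  have h2 := sum_irr_one_mul x
  rw [if_neg hs.syl1.ne_one] at h2
  simp only [s1, mul_comm (_ : ℂ) (s _ : ℂ), l4, irr_one_eq, deg_irrOne] at h2
  apply Int.cast_injective (α := ℂ)
  push_cast [List.map_map]
  exact_mod_cast h2

end tree

open Classical in
/-- The class multiplication formula for products of two conjugates of an involution. -/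
theorem pairs [Fintype G] {t : G} (ht : t * t = 1) (y : G) :
    (Nat.card G : ℂ) * ∑ χ : IrrCharacter G, χ.1 y⁻¹ * (χ.1 t ^ 2 / χ.1 1) =
      (Nat.card (centralizer ({t} : Set G)) : ℂ) ^ 2 *
        (univ.filter fun u => IsConj t u ∧ IsConj t (u * y)).card := by
  have h1 : ∑ a, ∑ b, ∑ χ : IrrCharacter G, χ.1 1 * χ.1 (a * t * a⁻¹ * (b * t * b⁻¹ * y⁻¹)) =
      (Nat.card G : ℂ) ^ 2 * ∑ χ : IrrCharacter G, χ.1 y⁻¹ * (χ.1 t ^ 2 / χ.1 1) := by
    rw [sum_comm]
    simp only [sum_comm (t := (univ : Finset (IrrCharacter G))), ← mul_sum,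
      fun (χ : IrrCharacter G) y => χ.2.sum_conj_mul t y, ← sum_div]
    rw [mul_sum]
    refine sum_congr rfl fun χ _ => ?_
    have := χ.2.one_ne_zero
    field_simp
  simp only [sum_irr_one_mul] at h1
  rw [sum_conj_eq t fun u => ∑ b, if u * (b * t * b⁻¹ * y⁻¹) = 1 then (Nat.card G : ℂ) else 0] at h1
  simp only [fun u => sum_conj_eq t fun v => if u * (v * y⁻¹) = 1 then (Nat.card G : ℂ) else 0] at h1
  apply mul_left_cancel₀ (card_ne_zero G)
  rw [← mul_assoc, ← sq, ← h1, ← mul_sum, ← filter_filter, card_filter, Nat.cast_sum, sq, mul_assoc,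
    mul_left_comm (Nat.card G : ℂ), mul_left_comm (Nat.card G : ℂ), mul_sum (a := (Nat.card G : ℂ))]
  congr 2
  refine sum_congr rfl fun u hu => ?_
  have h2 : u * u = 1 := by
    obtain ⟨c, rfl⟩ := isConj_iff.1 (mem_filter.1 hu).2
    rw [conj_mul, ht, mul_one, mul_inv_cancel]
  have h3 : ∀ v, u * (v * y⁻¹) = 1 ↔ v = u * y := fun v => by
    rw [← mul_assoc, mul_inv_eq_one, ← eq_inv_mul_iff_mul_eq, inv_eq_of_mul_eq_one_right h2]
  simp only [h3, sum_ite_eq', mem_filter, mem_univ, true_and]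
  split_ifs <;> simp

end Cfsg.Agent.H3
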